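import Cfsg.Agent.BZ.RT.Down_m3
import Cfsg.Agent.BZ.L.K3.Defs3_m3
import Cfsg.Agent.BZ.L.TA.Dat_m3
import Cfsg.Agent.S2095
import Cfsg.Agent.BH.Min.Main
import Cfsg.Agent.KM.Si.E_m3
import Cfsg.Agent.KM.Ex.Kac_m3
import Cfsg.Agent.H596.Degree
import Cfsg.Agent.H625.PHZ
import Cfsg.Agent.OM.Lie.Defs
import Cfsg.Agent.OM.Lie.UL0_m3
import Cfsg.Agent.OM.Cu.Glue_mg_m3
import Cfsg.Agent.BZ.L.ResP
import Cfsg.Agent.HZ.L.SL.Defs_m3
import Cfsg.Agent.FastGrp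
import Cfsg.Agent.Prune
set_option linter.all false

section
prune_inst 0x7f00000000000000000000000000000000000000000000000000000000000000000000000000000000000000000000000000000000000000000000000000000000000000000000000000000000000000003ffff7ffffffffffffffffffffffbeffbdebfeffff

section
prune_inst 0x8000000000000000000000000000014010000

-- part: BZ/RT/Tg
section
set_option linter.all false
open scoped Cfsg.Agent.FastGrp

/-!
# BZ / RT (S4853) : the data of the simple groups, definitions (helper73)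

* `Gd`, `Rts`, the tags `TC` (types `B`, `C`, `D`), `TX` (`E₆`, `E₇`, `E₈`), `TY` (`G₂`, `F₄`), `TD` (triality);
* `BoxBT T l` : the target for the data with the tag `T`; `BT` : the list of the targets;
* `HasD T r S`, `RowB l r S`, `HasD.rowB`, `RowB.rowT`.
-/

set_option autoImplicit false
set_option linter.unusedSectionVars false

namespace Cfsg.Agent.BZ.RT

open Cfsg Cfsg.Lie Subgroup Matrix Cfsg.Agent.KM Cfsg.Agent.BZ.L Cfsg.Agent.DL Cfsg.Agent.KM.Tor Cfsg.Agent.KZ.DatX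
  Cfsg.Agent.Nodes.RGDChev
open Cfsg.Agent.TO.X.Cn (Pi1)

/-- properties of data -/
abbrev PD : Type 1 := ∀ {p : ℕ} [Fact p.Prime] {k : Type} [Field k] [CharP k p] {Y : Type} [Group Y] {N : Type} [Fintype N]
  [DecidableEq N] {ρ : Y →* GL N k} {F : MulAut Y} {G : Subgroup Y} [IsAlgClosed k] (_ : Datum p ρ F G), Prop

section Dat

variable {p : ℕ} [Fact p.Prime] {k : Type} [Field k] [CharP k p] {Y : Type} [Group Y] {N : Type} [Fintype N]
  [DecidableEq N] {ρ : Y →* GL N k} {F : MulAut Y} {G : Subgroup Y} [IsAlgClosed k] (X : Datum p ρ F G)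

/-- a semisimple datum over the field with `p ^ e` elements; `f` kills the fundamental group -/
structure Gd (e f : ℕ) : Prop where
  e0 : 0 < e
  cs : ∃ n c, Cs X (p ^ e) n c
  qs : X.QS
  nt : Deg.NT p ρ F
  pi : Pi1 X f
  ss : ∀ v, Pp X {a | X.Rt a} v → v = 0

/-- the roots in terms of the weights of the natural representation : `t = 0, 1, 2` for the types `D`, `B`, `C` -/
structure Rts {J : Type} (μ : J → X.R → ℤ) (t : ℕ) : Prop where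
  sub : ∀ a, X.Rt a → ∃ i j, μ i ≠ 0 ∧ μ j ≠ -μ i ∧ X.wt a = μ i + μ j ∧ (μ j = 0 → t = 1) ∧ (μ j = μ i → t = 2)
  two : ∀ i j, μ i ≠ 0 → μ j ≠ 0 → μ j ≠ μ i → μ j ≠ -μ i → ∃ a, X.Rt a ∧ X.wt a = μ i + μ j
  one : t ≠ 0 → ∀ i, μ i ≠ 0 → ∃ a, X.Rt a ∧ X.wt a = (t : ℤ) • μ i
  rk : (t = 0 ∧ 4 ≤ Fintype.card X.R) ∨ (t = 1 ∧ 3 ≤ Fintype.card X.R ∧ p ≠ 2) ∨ (t = 2 ∧ 2 ≤ Fintype.card X.R)

/-- `G ^ F` dominates the covers of `S` with a centre of order prime to `p` -/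
def Dm (F : MulAut Y) (G : Subgroup Y) (p : ℕ) (S : Type) [Group S] : Prop :=
  ∀ (K : Type) [Group K] [Finite K], IsQuasisimple K → ¬ p ∣ Nat.card (center K) → Nonempty ((K ⧸ center K) ≃* S) →
    ∃ ψ : ↥(GF F G) →* K, Function.Surjective ψ ∧ ψ.ker ≤ center _

end Dat

/-- simply connected, of type `B`, `C` or `D` -/
def TC : PD := fun {p} _ {k} _ _ {Y} _ _ _ _ _ _ _ _ X => ∃ (e t : ℕ) (J : Type) (_ : Fintype J) (_ : DecidableEq J) (θ : Y →* GL J k)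
  (μ : J → X.R → ℤ) (b : X.R → J) (σ : Equiv.Perm J), Gd X e 1 ∧ Tw.Nt2 X θ μ e ((p ^ e : ℕ) : ℤ) b σ ∧ Rts X μ t

/-- simply connected, simply laced, `F` is `± q` times an element of the Weyl group -/
def TX {C : ChevalleyDatum} {n : ℕ} {M : CoxeterMatrix (Fin n)} (hp : IsType C n M) : PD := fun {p} _ _ _ _ _ _ _ _ _ _ _ _ _ X =>
  ∃ e, Gd X e 1 ∧ RC.B.Ty X hp ∧ ∃ (ε : ℤ) (w : X.W), ε ^ 2 = 1 ∧ X.Mx = ((p ^ e : ℕ) : ℤ) • ε • X.Wm w

/-- split, the centre and the fundamental group are trivial -/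
def TY {C : ChevalleyDatum} {n : ℕ} {M : CoxeterMatrix (Fin n)} (hp : IsType C n M) : PD := fun {p} _ _ _ _ _ _ _ _ _ _ _ _ _ X =>
  ∃ e, Gd X e 1 ∧ K3.Ty2 X hp ∧ Zc X {a | X.Rt a} = ⊥ ∧ X.Mx = ((p ^ e : ℕ) : ℤ) • 1

/-- adjoint of type `D₄` with the triality -/
def TD : PD := fun {p} _ _ _ _ _ _ _ _ _ _ _ _ _ X => ∃ e, Gd X e 2 ∧ K3.Ty2 X hpD4 ∧ RC.B.Ty X hpD4 ∧ Zc X {a | X.Rt a} = ⊥ ∧
  ∃ B, X.Mx = ((p ^ e : ℕ) : ℤ) • B ∧ B ^ 3 = 1 ∧ B ≠ 1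

/-- **the target** for the data with the tag `T` -/
def BoxBT (T : PD) (l : ℕ) : Prop := AllD fun {p} _ _ _ _ _ _ _ _ _ _ {F} {G} _ X => T X → l ≠ p →
  ∀ M, IsPModular l M → BTr l M ↥(GF (F ^ 1) G) (Zl X 1 l)

/-- **the list of the targets** -/
structure BT : Prop where
  cl : ∀ l, BoxBT TC l
  g2 : ∀ l, l = 2 ∨ l = 3 → BoxBT (TY hpG2) l
  f4 : ∀ l, l = 2 ∨ l = 3 → BoxBT (TY hpF4) l
  d4 : ∀ l, l = 2 ∨ l = 3 → BoxBT TD l
  e6 : ∀ l, l = 2 ∨ l = 3 ∨ l = 5 → BoxBT (TX hpE6) l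
  e7 : ∀ l, l = 2 ∨ l = 3 ∨ l = 5 ∨ l = 7 → BoxBT (TX hpE7) l
  e8 : ∀ l, l = 2 ∨ l = 3 ∨ l = 5 ∨ l = 7 → BoxBT (TX hpE8) l

/-- a datum for `S` -/
def HasD (T : PD) (r : ℕ) [Fact r.Prime] (S : Type) [Group S] : Prop :=
  ∃ (k : Type) (_ : Field k) (_ : CharP k r) (_ : IsAlgClosed k) (Y : Type) (_ : Group Y) (N : Type) (_ : Fintype N) (_ : DecidableEq N)
    (ρ : Y →* GL N k) (F : MulAut Y) (G : Subgroup Y) (X : Datum r ρ F G), T X ∧ X.QS ∧ Dm F G r S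

/-- the strong row (`N2.RowS r S` is `RowB 2 r S`) -/
def RowB (l r : ℕ) (S : Type) [Group S] : Prop :=
  ∀ (K : Type) [Group K] [Finite K] (σ : K →* S) (M : Ideal AlgInt), IsQuasisimple K → Function.Surjective σ →
    σ.ker = center K → ¬ r ∣ Nat.card (center K) → IsPModular l M → Cl.BX XT l M K

variable {T : PD} {l r : ℕ} {S : Type} [Group S]

theorem dm_sc [Fact r.Prime] {k : Type} [Field k] [CharP k r] {Y : Type} [Group Y] {N : Type} [Fintype N] [DecidableEq N]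
    {ρ : Y →* GL N k} {F : MulAut Y} {G : Subgroup Y} [IsAlgClosed k] {X : Datum r ρ F G} (s : Sc X S) : Dm F G r S :=
  fun K _ _ h1 h2 ⟨f⟩ =>
    let ⟨ψ, h3, h4⟩ := s.cov K h1 h2 f
    ⟨ψ, h3, fun x hx => s.ker.le (by rw [MonoidHom.mem_ker, ← h4, show ψ x = 1 from hx, QuotientGroup.mk_one, map_one])⟩

theorem HasD.rowB [Fact r.Prime] (h : HasD T r S) (b : BoxBT T l) (hl : l ≠ r) : RowB l r S := fun K _ _ σ M h1 h2 h3 h4 hM => by
  obtain ⟨k, _, _, _, Y, _, N, _, _, ρ, F, G, X, k1, k2, k3⟩ := h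
  have := (X.pow one_pos).amb.finite_GF G
  let e := MulEquiv.subgroupCongr (Bz.gf_one F G)
  obtain ⟨ψ, k4, k5⟩ := k3 K h1 h4
    ⟨(QuotientGroup.quotientMulEquivOfEq h3.symm).trans (QuotientGroup.quotientKerEquivOfSurjective σ h2)⟩
  refine bt_dom hM (ψ.comp e.toMonoidHom) (k4.comp e.surjective) (fun x hx => mem_center_iff.2 fun y => e.injective ?_)
    (Bz.zl_eq k2 1 l ▸ b X k1 hl M hM)
  rw [map_mul, map_mul]
  exact mem_center_iff.1 (k5 hx) _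

theorem RowB.rowT [Fact l.Prime] (h : RowB l r S) {A : Type} [CommGroup A] (hA : HasSchurMultiplier S A)
    (hx : ∀ n, r ∣ n → n ∣ Monoid.exponent A → Cov XT n l S) : RowT l S := fun K _ _ σ M B D H => by
  by_cases e : r ∣ Nat.card (center K)
  · refine hx _ e ?_ K σ M B D H rfl
    obtain ⟨f, hf⟩ := H95.StemCover.exists_surj_ker hA H.qs.1.commutator_eq_top σ H.surj H.ker.le
    have hc : IsCyclic σ.ker := H.ker ▸ H.cyc
    rw [← H.ker, ← IsCyclic.exponent_eq_card]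
    exact MonoidHom.exponent_dvd hf
  · exact Cl.Hyp.not_of_bx (X := XT) H (h K σ M H.qs H.surj H.ker e H.hM)

/-- the simple group may be assumed to be simple -/
theorem RowB.of_simple (h : Finite S → IsSimpleGroup S → ¬ IsMulCommutative S → RowB l r S) : RowB l r S :=
  fun K _ _ σ M h1 h2 h3 =>
    let f := (QuotientGroup.quotientMulEquivOfEq h3.symm).trans (QuotientGroup.quotientKerEquivOfSurjective σ h2)
    have := h1.2
    h (Finite.of_surjective σ h2) f.symm.isSimpleGroup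
      (fun e => TO.not_comm_quot h1 ⟨⟨fun x y => f.injective (by rw [map_mul, map_mul, e.1.1])⟩⟩) K σ M h1 h2 h3

end Cfsg.Agent.BZ.RT
end

-- part: BZ/RT/RowsC
section
set_option linter.all false
open scoped Cfsg.Agent.FastGrp

/-!
# BZ / RT (S4853) : the data of the symplectic and orthogonal groups (helper73)

`has_psp`, `has_odd`, `has_plus`, `has_minus`.
-/

set_option autoImplicit false
set_option linter.unusedSectionVars false
set_option maxHeartbeats 400000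

namespace Cfsg.Agent.BZ.RT

open Cfsg Cfsg.Agent.DL Cfsg.Agent.KM Matrix Cfsg.Agent.BZ.Cl Cfsg.Agent.BZ.L Cfsg.Agent.BZ.Tw Cfsg.Agent.KM.Tor

namespace Rc

section Dat

variable {p : ℕ} [hp : Fact p.Prime] {k : Type} [Field k] [CharP k p] {Y : Type} [Group Y] {N : Type} [Fintype N]
  [DecidableEq N] {ρ : Y →* GL N k} {F : MulAut Y} {G : Subgroup Y} [IsAlgClosed k] {X : Datum p ρ F G}

theorem cs_ex {f o : ℕ} {B : Matrix X.R X.R ℤ} (hB : X.Mx = ((p ^ f : ℕ) : ℤ) • B) (ho : 0 < o) (h1 : B ^ o = 1)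
    (hex : ∀ a, X.Rt a → p ^ X.ex a = p ^ f) : ∃ n c, Cs X (p ^ f) n c := by
  obtain ⟨d, e, L⟩ := PP.exists_lvl X
  have h0 : (p : ℤ) ≠ 0 := Nat.cast_ne_zero.2 hp.out.ne_zero
  have h3 : ∀ w, (p : ℤ) ^ (f * d) • (X.Wm w * B) ^ d = (p : ℤ) ^ e • (1 : Matrix X.R X.R ℤ) := fun w => by
    have := L.pow w
    rwa [hB, mul_smul_comm, _root_.smul_pow, Nat.cast_pow, ← pow_mul] at this
  have h4 : (p : ℤ) ^ (f * d * o) • (1 : Matrix X.R X.R ℤ) = (p : ℤ) ^ (e * o) • 1 := by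
    have := congrArg (· ^ o) (h3 1)
    simpa only [X.Wm_one, one_mul, _root_.smul_pow, ← pow_mul, mul_comm d o, pow_mul B, h1, one_pow, mul_assoc] using this
  refine ⟨d * o, Nat.card X.W + {a | X.Rt a}.ncard + Fintype.card X.R, .of_mat (mul_pos L.d_pos ho) (fun w => ⟨X.Wm w * B, ?_, ?_⟩)
    hex (by omega) (by omega) (by omega)⟩
  · rw [hB, mul_smul_comm]
  · refine smul_right_injective _ (pow_ne_zero (f * d * o) h0) ?_
    have := congrArg (· ^ o) (h3 w)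
    simp only [_root_.smul_pow, ← pow_mul, one_pow] at this
    exact this.trans h4.symm

theorem hasD {T : PD} {S : Type} [Group S] (h1 : T X) (h2 : X.QS) (h3 : Dm F G p S) : HasD T p S :=
  ⟨k, _, _, _, Y, _, N, _, _, ρ, F, G, X, h1, h2, h3⟩

variable {J : Type} [Fintype J] [DecidableEq J] {θ : Y →* GL J k} {μ : J → X.R → ℤ} {f t : ℕ} {e : ℤ} {b : X.R → J} {σ : Equiv.Perm J}

theorem ss_of (h : Nt2 X θ μ f e b σ) (R : Rts X μ t) (v : X.R → ℤ) (hv : _root_.Cfsg.Agent.KM.Tor.Pp X {a | X.Rt a} v) : v = 0 := by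
  obtain ⟨V, hV⟩ := h.bas
  have h1 : ∀ i j, μ (b i) ⬝ᵥ (fun r => V r j) = if i = j then 2 else 0 := fun i j => by
    have := congrFun (congrFun hV i) j
    rw [Matrix.smul_apply, one_apply, smul_ite, smul_zero, smul_eq_mul, mul_one] at this
    exact this
  have h2 : ∀ i, μ (b i) ⬝ᵥ v = 0 := fun i => by
    obtain ⟨j, hj⟩ : ∃ j, j ≠ i := Fintype.exists_ne_of_one_lt_card (by have := R.rk; omega) i
    obtain ⟨j', hj'⟩ := h.neg (b j)
    have k1 := h1 i i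
    have k2 := h1 j i
    have k3 := h1 j j
    rw [if_pos rfl] at k1 k3
    rw [if_neg hj] at k2
    have n1 : μ (b i) ≠ 0 := fun e => by simp only [e, _root_.zero_dotProduct, _root_.OfNat.zero_ne_ofNat] at k1
    have n2 : μ (b j) ≠ 0 := fun e => by simp only [e, _root_.zero_dotProduct, _root_.OfNat.zero_ne_ofNat] at k3
    have n3 : μ (b j) ≠ μ (b i) := fun e => by rw [e, k1] at k2; omega
    have n4 : μ (b j) ≠ -μ (b i) := fun e => by rw [e, neg_dotProduct, k1] at k2; omega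
    obtain ⟨a, ha, e1⟩ := R.two _ _ n1 n2 n3 n4
    obtain ⟨a', ha', e2⟩ := R.two (b i) j' n1 (hj' ▸ neg_ne_zero.2 n2) (hj' ▸ fun e => n4 (neg_eq_iff_eq_neg.1 e))
      (hj' ▸ fun e => n3 (neg_injective e))
    have k4 := hv a ha
    have k5 := hv a' ha'
    rw [e1, add_dotProduct] at k4
    rw [e2, hj', add_dotProduct, neg_dotProduct] at k5
    omega
  have h3 := congrArg (· *ᵥ v) (mul_two_comm hV)
  simp only [← mulVec_mulVec, smul_mulVec, one_mulVec] at h3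
  rw [show (Matrix.of fun i => μ (b i)) *ᵥ v = 0 from funext h2, mulVec_zero] at h3
  exact (smul_eq_zero.1 h3.symm).resolve_left two_ne_zero

end Dat

section BD

open Cfsg.Agent.LangThm Sum Cfsg.Agent.TwoF.DC Cfsg.Agent.TwoF.DC.TC Cfsg.Agent.TwoF.DC.TBD Cfsg.Agent.TwoF.DC.TBD.Cl Cfsg.Agent.KM.BD
  Cfsg.Agent.KM.Dat Cfsg.Agent.BZ.TwR

variable {m : ℕ} {Φ : Type} [Fintype Φ] [DecidableEq Φ] (C : CD m Φ)

theorem wt_false (b : Φ) : C.X.rc.wt (false, b) = -C.X.rc.wt (true, b) := funext fun i => by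
  simp only [RC.wt, RC.toWt, RC.vec, _root_.Bool.false_eq_true, ↓ _root_.reduceIte, _root_.mul_neg, _root_.Finset.sum_neg_distrib, _root_.Pi.neg_apply]

theorem nu_zero : nu C (inl ()) = 0 := funext fun _ => dotProduct_zero _

theorem nu_ne (x : II m) : nu C (inr x) ≠ 0 := fun e => by
  have h1 : wo (inr x : JJ m) = 0 := C.X.cv_span _ fun i => congrFun e i
  have h2 := TwR.sum_wv x
  rw [show wv x = 0 from h1] at h2
  simp only [_root_.Pi.zero_apply, _root_.Finset.sum_const_zero, _root_.zero_ne_one, _root_.Int.reduceNeg, _root_.zero_eq_neg, _root_.one_ne_zero, _root_.or_self] at h2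

theorem lv_sw (x : JJ m) : _root_.Cfsg.Agent.TwoF.DC.TBD.Cl.lv (sw x) = _root_.Cfsg.Agent.TwoF.DC.TBD.Cl.lv x := by
  rcases x with _ | x
  · rfl
  · exact congrArg Fin.val (ix_swap x)

theorem sw_sw' (x : JJ m) : sw (sw x) = x := by rcases x with _ | _ | _ <;> rfl

theorem rts {p : ℕ} [Fact p.Prime] {k : Type} [Field k] [IsAlgClosed k] [CharP k p] (h2 : (∃ b, C.ib b = inl ()) → (2 : k) ≠ 0)
    (P : Tws (C.rdat k p h2)) (H : Alg P (_root_.Cfsg.Agent.KM.BD.rho C k)) {t : ℕ}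
    (ht : (t = 0 ∧ 4 ≤ m ∧ ∀ b, C.ib b ≠ inl ()) ∨ (t = 1 ∧ 3 ≤ m ∧ p ≠ 2 ∧ ∃ b, C.ib b = inl ())) : Rts H.dat (nu C) t := by
  have h1 : ∀ (i : Fin m) (y : JJ m), i.1 < _root_.Cfsg.Agent.TwoF.DC.TBD.Cl.lv y → (y = inl () → ∃ b, C.ib b = inl ()) →
      (∃ a, H.dat.Rt a ∧ H.dat.wt a = nu C (inr (inl i)) + nu C y) ∧ ∃ a, H.dat.Rt a ∧ H.dat.wt a = -(nu C (inr (inl i)) + nu C y) :=
    fun i y h3 h4 => by
      obtain ⟨b, rfl, rfl⟩ := C.ex i y h3 h4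
      exact ⟨⟨_, H.rt_iff.2 ⟨(true, b), rfl⟩, (H.dat_wt _).trans (wt_eq C b)⟩,
        _, H.rt_iff.2 ⟨(false, b), rfl⟩, (H.dat_wt _).trans ((wt_false C b).trans (congrArg _ (wt_eq C b)))⟩
  have h3 : ∀ (x : II m) (y : JJ m), (ix x).1 < _root_.Cfsg.Agent.TwoF.DC.TBD.Cl.lv y → (y = inl () → ∃ b, C.ib b = inl ()) →
      ∃ a, H.dat.Rt a ∧ H.dat.wt a = nu C (inr x) + nu C y := by
    rintro (i | i) y h3 h4
    · exact (h1 i y h3 h4).1
    · obtain ⟨a, h5, h6⟩ := (h1 i (sw y) (by rwa [lv_sw]) fun e => h4 (by rw [← sw_sw' y, e]; rfl)).2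
      exact ⟨a, h5, h6.trans (by rw [nu_sw, neg_add, neg_neg]; exact congrArg (· + _) (nu_sw C (inr (inl i))).symm)⟩
  have h4 : ∀ b, nu C (C.ib b) ≠ nu C (inr (inl (C.ia b))) ∧ nu C (C.ib b) ≠ -nu C (inr (inl (C.ia b))) := fun b => by
    have h5 := C.pos b
    refine ⟨fun e => ?_, fun e => ?_⟩
    · rw [← nu_inj C (nu_ne C _) e.symm] at h5
      exact lt_irrefl _ h5
    · rw [← nu_sw] at e
      rw [← nu_inj C (nu_ne C (inr (C.ia b))) e.symm] at h5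
      exact lt_irrefl _ h5
  have h5 : ∀ b, nu C (C.ib b) = 0 → t = 1 := fun b e => by
    rcases ht with ⟨-, -, h⟩ | h
    · rcases e' : C.ib b with _ | x
      · exact absurd e' (h b)
      · exact absurd (e' ▸ e) (nu_ne C x)
    · exact h.1
  refine ⟨fun a ha => ?_, ?_, fun h0 => ?_, ht.imp (fun h => ⟨h.1, (Fintype.card_fin m).symm ▸ h.2.1⟩) fun h =>
    .inl ⟨h.1, (Fintype.card_fin m).symm ▸ h.2.1, h.2.2.1⟩⟩
  · obtain ⟨⟨_ | _, b⟩, rfl⟩ := H.rt_iff.1 ha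
    · refine ⟨sw (inr (inl (C.ia b))), sw (C.ib b), nu_ne C _, ?_, ?_, ?_, ?_⟩
      · rw [nu_sw, nu_sw]
        exact fun e => (h4 b).2 (neg_injective e)
      · rw [nu_sw, nu_sw]
        exact (H.dat_wt _).trans ((wt_false C b).trans ((congrArg _ (wt_eq C b)).trans (neg_add _ _)))
      · rw [nu_sw]
        exact fun e => h5 b (neg_eq_zero.1 e)
      · rw [nu_sw, nu_sw]
        exact fun e => absurd (neg_injective e) (h4 b).1
    · exact ⟨_, _, nu_ne C _, (h4 b).2, (H.dat_wt _).trans (wt_eq C b), h5 b, fun e => absurd e (h4 b).1⟩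
  · rintro (_ | x) (_ | y) k1 k2 k3 k4
    · exact absurd (nu_zero C) k1
    · exact absurd (nu_zero C) k1
    · exact absurd (nu_zero C) k2
    rcases lt_trichotomy (ix x).1 (ix y).1 with h | h | h
    · exact h3 x _ h fun e => absurd e inr_ne_inl
    · rcases ix_eq (Fin.ext h : ix x = ix y) with rfl | rfl
      · exact absurd rfl k3
      · exact absurd ((nu_sw C (inr y)) ▸ (neg_neg _).symm) k4
    · obtain ⟨a, k5, k6⟩ := h3 y (inr x) h fun e => absurd e inr_ne_inl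
      exact ⟨a, k5, k6.trans (add_comm _ _)⟩
  · obtain ⟨rfl, -, -, h⟩ := ht.resolve_left fun h => h0 h.1
    rintro (_ | x) k1
    · exact absurd (nu_zero C) k1
    · obtain ⟨a, k5, k6⟩ := h3 x (inl ()) (ix x).2 fun _ => h
      exact ⟨a, k5, k6.trans ((by rw [nu_zero, add_zero] : _ = nu C (inr x)).trans (one_smul ℤ _).symm)⟩

theorem has_cd (h : ∀ w, ∃ v, C.X.dual.E v = (2 : ℤ) • w) {p : ℕ} [Fact p.Prime] {k : Type} [Field k] [IsAlgClosed k] [CharP k p]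
    (lf : ∀ a : k, ∃ m, 0 < m ∧ a ^ p ^ m = a) (h2 : (∃ b, C.ib b = inl ()) → (2 : k) ≠ 0)
    (P : Tws (C.rdat k p h2)) (hP : P.Fr = C.fr (frobenius k p)) (hF : (C.rdat k p h2).Fa)
    (hσ : ∃ σ : Equiv.Perm (JJ m), ∀ x j, nu C x (P.sι j) = nu C (σ x) j) {t : ℕ}
    (ht : (t = 0 ∧ 4 ≤ m ∧ ∀ b, C.ib b ≠ inl ()) ∨ (t = 1 ∧ 3 ≤ m ∧ p ≠ 2 ∧ ∃ b, C.ib b = inl ())) {S : Type} [Group S]
    (hS : IsSimpleGroup S) (hn : ¬ IsMulCommutative S) (hπ : PiP P S) {A : Type} [CommGroup A]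
    (hA : HasSchurMultiplier S A) {d a : ℕ} (h4 : Nat.card A ∣ d * p ^ a) (h0 : 0 < d) (hd : d ≤ Nat.card P.Zc) : HasD TC p S := by
  obtain ⟨π, k1, k2⟩ := hπ
  have H : Alg P (_root_.Cfsg.Agent.KM.BD.rho C k) := ⟨hF, lf, rho_inj C k, fun g => by rw [hP]; exact rho_fr C p g, rho_poly C p h2, 1, mu C,
    fun c => by rw [inv_one, one_mul, mul_one, rho_diag]⟩
  obtain ⟨s, -⟩ := H.sc hS hn k1 k2 hA h4 h0 hd
  obtain ⟨σ, hN⟩ := nt2 C (by omega) h h2 P H (f := P.f) (e := ((p ^ P.f : ℕ) : ℤ)) ⟨P.f_pos, Or.inl rfl,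
    fun g _ hg y _ => Subgroup.mem_center_iff.1 (thG_ker C hg) y, thG_diag C p h2, by
      obtain ⟨σ, hσ⟩ := hσ
      refine ⟨σ, fun x => funext fun j : Fin m => ?_⟩
      show ∑ i, nu C x i * (Pi.single (P.sι.symm i) ((p ^ P.f : ℕ) : ℤ) : Fin m → ℤ) j = ((p ^ P.f : ℕ) : ℤ) * nu C (σ x) j
      rw [Finset.sum_eq_single (P.sι j) (fun i _ hi => by
        rw [Pi.single_eq_of_ne (fun e => hi (by rw [e, Equiv.apply_symm_apply])), mul_zero]) (by simp only [_root_.Finset.mem_univ, _root_.not_true_eq_false, _root_.Equiv.symm_apply_apply, _root_.Nat.cast_pow, _root_.Pi.single_eq_same, _root_.mul_eq_zero, _root_.pow_eq_zero_iff', _root_.Int.natCast_eq_zero, _root_.ne_eq, _root_.IsEmpty.forall_iff]), Equiv.symm_apply_apply,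
        Pi.single_eq_same, hσ, mul_comm], nu_bas C h⟩
  have R := rts C h2 P H ht
  refine hasD (X := H.dat) ⟨P.f, t, _, _, _, _, _, _, σ, ⟨P.f_pos, ?_, H.qs, H.nt, H.pi1, ss_of hN R⟩, hN, R⟩ H.qs (dm_sc s)
  refine cs_ex (B := (permMatrixHom P.sι : Matrix (Fin m) (Fin m) ℤ)) (Matrix.ext fun (i j : Fin m) => ?_) (orderOf_pos P.sι)
    ((map_pow (permMatrixHom (R := ℤ) (n := Fin m)) _ _).symm.trans (by rw [pow_orderOf_eq_one, map_one]; rfl)) fun _ _ => rfl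
  show (Pi.single (P.sι.symm i) ((p ^ P.f : ℕ) : ℤ) : Fin m → ℤ) j = ((p ^ P.f : ℕ) : ℤ) * (P.sι.symm.toPEquiv.toMatrix i j)
  simp [PEquiv.toMatrix, Pi.single_apply, eq_comm]

variable (p : ℕ) [Fact p.Prime] (F : Type) [Field F] [Fintype F] [CharP F p]

theorem _root_.Cfsg.Agent.BZ.RT.has_odd (hp2 : p ≠ 2) (hm : 3 ≤ m) (hS : IsSimpleGroup (POmega F (quadFormOdd m F)))
    (hn : ¬ IsMulCommutative (POmega F (quadFormOdd m F))) : HasD TC p (POmega F (quadFormOdd m F)) := by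
  obtain ⟨f, hp, hq⟩ := FiniteField.card F p
  have hodd : Odd (Fintype.card F) := hq ▸ (hp.odd_of_ne_two hp2).pow
  let k := AlgebraicClosure F
  have h2 : (2 : k) ≠ 0 := fun e =>
    hp2 ((Nat.prime_dvd_prime_iff_eq hp Nat.prime_two).1 ((CharP.cast_eq_zero_iff k p 2).1 (by exact_mod_cast e)))
  let D := (cB m).rdat k p fun _ => h2
  let P := tw0 D f f.pos ((cB m).fr (frobenius k p)) ((cB m).fr_z p _ _) ((cB m).fr_y p _ _)
  have hF : D.Fa := TE.fa_of_faith (boxB p hp2 m hm k _ D rfl).faith ⟨0, by omega⟩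
  have hv : Vec D (fun b => b.1.1) ibB (cB m).th := by
    rw [show (fun b : PR m => b.1.1) = fun b => Sum.inl ((cB m).ia b) from funext fun b => (inl_ix b.lt).symm]
    exact (cB m).vec p _
  have hπ := (boxPi p m k _ F (algebraMap F k) _).1 hp2 hm D rfl hF hv P rfl hq
  obtain ⟨A, _, a, hA, h4⟩ : ∃ (A : Type) (_ : CommGroup A) (a : ℕ), HasSchurMultiplier (POmega F (quadFormOdd m F)) A ∧
      Nat.card A ∣ 2 * p ^ a := by
    by_cases h5 : m = 3 ∧ Fintype.card F = 3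
    · obtain ⟨rfl, h5⟩ := h5
      obtain rfl : p = 3 := (Nat.prime_dvd_prime_iff_eq hp Nat.prime_three).1 (h5 ▸ hq ▸ dvd_pow_self p f.pos.ne')
      exact ⟨_, _, 1, S2095.result h5, by rw [card_cyc]; decide⟩
    · exact ⟨_, _, 0, S2094.result rfl hodd m hm h5, by rw [card_cyc]; exact dvd_mul_right _ _⟩
  refine has_cd (cB m) (two_B m) (lf_closure F p) _ P rfl hF ⟨1, fun _ _ => rfl⟩ (.inr ⟨rfl, hm, hp2,
    ⟨⟨(inl ⟨0, by omega⟩, inl ⟨0, by omega⟩), by simp only [ps]; omega⟩, if_pos rfl⟩⟩) hS hn hπ hA h4 two_pos ?_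
  refine TE.le_card_Zc P (m := 2) Nat.prime_two (Pi.single ⟨m - 1, by omega⟩ 1) ⟨m - 1, by omega⟩ (by simp) (fun i => ?_)
    fun _ => ⟨fun e => hp2 ((Nat.prime_dvd_prime_iff_eq hp Nat.prime_two).1 e), fun i => ?_⟩
  · rw [Finset.sum_eq_single ⟨m - 1, by omega⟩ (fun j _ hj => by simp [hj]) (by simp only [_root_.Finset.mem_univ, _root_.not_true_eq_false, _root_.Pi.single_eq_same, _root_.Nat.cast_one, _root_.one_mul, _root_.IsEmpty.forall_iff])]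
    refine Dvd.dvd.mul_left ?_ _
    show _ ∣ _root_.Cfsg.Agent.TwoF.DC.TC.rv (zc _) ⬝ᵥ _
    rw [rv_zc_dot, dif_neg (by simp only; omega)]
    exact dvd_mul_right _ _
  · rw [show P.sι i = i from rfl]
    conv_lhs => rw [← mul_one (Pi.single (M := fun _ => ℕ) _ _ _)]
    exact Nat.ModEq.mul_left _ (Nat.odd_iff.1 (hq ▸ hodd)).symm

theorem _root_.Cfsg.Agent.BZ.RT.has_plus (hm : 4 ≤ m) (h5 : ¬ (m = 4 ∧ Fintype.card F = 2))
    (hS : IsSimpleGroup (POmega F (quadFormPlus m F))) (hn : ¬ IsMulCommutative (POmega F (quadFormPlus m F))) :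
    HasD TC p (POmega F (quadFormPlus m F)) := by
  obtain ⟨f, hp, hq⟩ := FiniteField.card F p
  have : Fact (2 ≤ m) := ⟨by omega⟩
  let k := AlgebraicClosure F
  let P := tD m k p f f.pos 1
  have hF : (dD m k p).Fa := TE.fa_of_faith (faithD (by omega) p k) (fst m)
  have hπ := ((boxPi p m k _ F (algebraMap F k) _).2 hm _ rfl hF vec_D P hq).1 rfl
  obtain ⟨A, _, hA, k1, k2, k3⟩ := mult_plus hp (hq ▸ dvd_pow_self p f.pos.ne') hm h5
  refine has_cd (cD m) (two_D m) (lf_closure F p) _ P rfl hF ⟨1, fun _ _ => rfl⟩ (.inl ⟨rfl, hm, fun _ => inr_ne_inl⟩) hS hn hπ hA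
    (a := 0) (d := Nat.card A) (by simp) (Nat.pos_of_dvd_of_pos k2 four_pos) ?_
  by_cases h2 : p = 2
  · subst h2
    exact (Nat.le_of_dvd one_pos (((Nat.prime_two.coprime_iff_not_dvd.2 k1).symm.pow_right 2).dvd_of_dvd_mul_left k2)).trans
      (@Nat.card_pos _ _ (TE.finite_Zc P))
  obtain ⟨z2, z4⟩ := Nm.card_Zc (D := dD m k p) rfl P h2 (by omega) (Or.inl rfl)
  by_cases h7 : m % 2 = 1 ∧ Fintype.card F % 4 = 3
  · exact (Nat.le_of_dvd two_pos (k3 h7)).trans z2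
  · exact (Nat.le_of_dvd four_pos k2).trans (z4 (Or.inl ⟨rfl, by rw [hq] at h7; exact h7⟩))

theorem _root_.Cfsg.Agent.BZ.RT.has_minus (hm : 4 ≤ m) {a b : F}
    (hab : ∀ z₁ z₂ : F, z₁ ^ 2 + a * z₁ * z₂ + b * z₂ ^ 2 = 0 → z₁ = 0 ∧ z₂ = 0)
    (hS : IsSimpleGroup (POmega F (quadFormMinus (m - 1) F a b))) (hn : ¬ IsMulCommutative (POmega F (quadFormMinus (m - 1) F a b))) :
    HasD TC p (POmega F (quadFormMinus (m - 1) F a b)) := by
  obtain ⟨f, hp, hq⟩ := FiniteField.card F p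
  have : Fact (2 ≤ m) := ⟨by omega⟩
  let k := AlgebraicClosure F
  let P := tD m k p f f.pos ⟨gN m, Subgroup.mem_zpowers _⟩
  have hF : (dD m k p).Fa := TE.fa_of_faith (faithD (by omega) p k) (fst m)
  have hπ := ((boxPi p m k _ F (algebraMap F k) _).2 hm _ rfl hF vec_D P hq).2 rfl a b hab
  have hA := S2099.result rfl m hm a b hab
  refine has_cd (cD m) (two_D m) (lf_closure F p) _ P rfl hF
    ⟨Equiv.sumCongr (Equiv.refl _) (Function.Involutive.toPerm gI gI_gI), fun x j => ?_⟩ (.inl ⟨rfl, hm, fun _ => inr_ne_inl⟩) hS hn hπ hA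
    (a := 0) (d := Nat.gcd 4 (Fintype.card F ^ m + 1)) (by rw [card_cyc]; simp) (Nat.gcd_pos_of_pos_left _ four_pos) ?_
  · show rd (zd (gN m j)) ⬝ᵥ _ = rd (zd j) ⬝ᵥ _
    rw [← gP_zd, rd_gP, gV_dot]
    rcases x with _ | x
    · exact congrArg _ (funext fun i => by simp [gV, wo])
    · exact congrArg _ (gV_wv x)
  by_cases h2 : p = 2
  · subst h2
    exact (Nat.le_of_dvd one_pos (((Nat.prime_two.coprime_iff_not_dvd.2 (not_dvd_add hp (hq ▸ dvd_pow_self 2 f.pos.ne') (by omega)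
      4)).symm.pow_right 2).dvd_of_dvd_mul_left (Nat.gcd_dvd_left _ _))).trans
      (@Nat.card_pos _ _ (TE.finite_Zc P))
  obtain ⟨z2, z4⟩ := Nm.card_Zc (D := dD m k p) rfl P h2 (by omega) (Or.inr rfl)
  rw [hq]
  by_cases h7 : m % 2 = 1 ∧ p ^ (f : ℕ) % 4 = 3
  · exact (Nat.le_of_dvd four_pos (Nat.gcd_dvd_left _ _)).trans (z4 (Or.inr ⟨rfl, h7⟩))
  · have h3 := Nm.pow_mod (m := m) (Nat.odd_iff.1 (hp.odd_of_ne_two h2).pow : p ^ (f : ℕ) % 2 = 1)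
    rw [if_neg h7] at h3
    exact (Nat.le_of_dvd two_pos (Nm.gcd_dvd_two (by omega))).trans z2

end BD

section C

open Cfsg.Agent.KZ.Dat Cfsg.Agent.Nodes.TypeC Cfsg.Agent.ODD.C2 Cfsg.Agent.KM.ScC

variable {n : ℕ} {k : Type} [Field k] {p : ℕ} [Fact p.Prime] [CharP k p] [IsAlgClosed k]
  (hk : ∀ a : k, ∃ j, 0 < j ∧ a ^ p ^ j = a) {e : ℕ} (he : 0 < e)

theorem wt_ne (x : Fin n × Bool) : wt x ≠ 0 := fun e => by
  have := congrFun e x.1
  rw [wt_apply, if_pos rfl] at this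
  split_ifs at this
  all_goals simp at this

theorem wt_not (x : Fin n × Bool) : wt (x.1, !x.2) = -wt x := by
  obtain ⟨i, _ | _⟩ := x <;> simp [wt, Pi.single_neg]

theorem wt_inj' {x y : Fin n × Bool} (h : wt x = wt y) : x = y := by
  obtain ⟨i, s⟩ := x
  obtain ⟨j, t⟩ := y
  have := congrFun h i
  rw [wt_apply, wt_apply] at this
  by_cases e : i = j
  · subst e
    cases s <;> cases t <;> simp at this ⊢
  · cases s <;> simp [e] at this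

theorem rtsC (hn : 2 ≤ n) : Rts (datC n hk he) wt 2 where
  sub a ha := by
    obtain ⟨x, y, h1, h2⟩ := (rtC_iff hk he).1 ha
    refine ⟨x, y, wt_ne x, fun e => ?_, h2, fun e => absurd e (wt_ne y), fun _ => rfl⟩
    obtain rfl := wt_inj' (e.trans (wt_not x).symm)
    exact h1.elim (fun h => h rfl) fun h => by simpa using congrArg Prod.snd h
  two := by
    rintro ⟨i, s⟩ ⟨j, t⟩ - - h1 h2
    refine exists_rtC hk he (Or.inl ?_)
    rintro (rfl : i = j)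
    by_cases e : t = s
    · exact h1 (by rw [e])
    · exact h2 ((congrArg (fun u => wt (i, u)) (Bool.eq_not.2 e)).trans (wt_not (i, s)))
  one _ x _ := (exists_rtC hk he (x := x) (Or.inr rfl)).imp fun _ h => ⟨h.1, h.2.trans (two_smul ℤ _).symm⟩
  rk := .inr (.inr ⟨rfl, (Fintype.card_fin n).symm ▸ hn⟩)

theorem nt2C : Nt2 (datC n hk he) (MonoidHom.id _) wt e ((p ^ e : ℕ) : ℤ) (fun i : Fin n => (i, true)) 1 := by
  have N := natC (n := n) hk he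
  have h1 : ∀ (i : Fin n) (v : Fin n → ℤ), wt (i, true) ⬝ᵥ v = v i := fun i v => by simp only [wt, ↓ _root_.reduceIte, _root_.single_dotProduct, _root_.one_mul]
  refine ⟨he, Or.inl rfl, N.ker, N.dg, fun j => ?_, ⟨(2 : ℤ) • (1 : Matrix (Fin n) (Fin n) ℤ), ?_⟩, fun ⟨i, b⟩ => Or.inr ⟨i, ?_⟩,
    fun j => ⟨_, wt_not j⟩, fun _ _ _ => wt_inj', fun c hc i j _ _ => ?_, fun w _ => ⟨w, fun i => h1 i w⟩,
    Or.inl fun w => ⟨w, fun i => h1 i w⟩, pi1C hk he⟩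
  · show wt j ᵥ* ((p : ℤ) ^ e • (1 : Matrix (Fin n) (Fin n) ℤ)) = _
    rw [vecMul_smul, vecMul_one, Nat.cast_pow]
    rfl
  · show (Matrix.of fun i : Fin n => wt (i, true)) * ((2 : ℤ) • (1 : Matrix (Fin n) (Fin n) ℤ)) = (2 : ℤ) • (1 : Matrix (Fin n) (Fin n) ℤ)
    rw [Matrix.mul_smul, Matrix.mul_one]
    exact congrArg _ (Matrix.ext fun i j => by simp [wt, one_apply, Pi.single_apply, eq_comm])
  · cases b
    · exact Or.inr (wt_not (i, true))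
    · exact Or.inl rfl
  · have h0 := Bz.Zc_of_center (datC_qs hk he) (z := (datC n hk he).τ c) ((datC n hk he).T_le_G (((datC n hk he).mem_T _).2 ⟨c, rfl⟩))
      fun g hg => hc g hg.1
    have h2 : ∀ i j : Fin n, c i * c j = 1 := fun i j => by
      obtain ⟨a, ha, h1⟩ := exists_rtC hk he (x := (i, true)) (y := (j, true)) ((em (i = j)).elim (fun e => Or.inr (by rw [e])) Or.inl)
      have h2 := h0.2 a ha
      rw [Datum.χ_τ, h1] at h2
      exact ((chr_add (wt (i, true)) (wt (j, true)) c).trans (congrArg₂ _ (chr_wtC _ _) (chr_wtC _ _))).symm.trans (Units.ext h2)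
    have h3 : ∀ x : Fin n × Bool, chr (wt x) c = c x.1 := fun x => (chr_wtC x c).trans (by
      split_ifs
      exacts [rfl, inv_eq_of_mul_eq_one_left (h2 _ _)])
    exact (h3 i).trans ((mul_right_cancel ((h2 i.1 i.1).trans (h2 j.1 i.1).symm)).trans (h3 j).symm)

theorem _root_.Cfsg.Agent.BZ.RT.has_psp (p : ℕ) [hpp : Fact p.Prime] (F : Type) [Field F] [Fintype F] [CharP F p] {m : ℕ} (hm : 2 ≤ m)
    (hm2 : m = 2 → 3 ≤ Fintype.card F) (h : ¬ (m = 3 ∧ Fintype.card F = 2)) : HasD TC p (PSp m F) := by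
  obtain ⟨k, _, _, _, hk, e', he, f, hq⟩ := hasC p F
  have := (datC m hk he).amb.finite_GF (GC m k)
  let π : GF (FC m k p e') (GC m k) →* PSp m F := (QuotientGroup.mk' _).comp (eqvC f hq).symm.toMonoidHom
  have h0 : Function.Surjective π := (QuotientGroup.mk'_surjective _).comp (eqvC f hq).symm.surjective
  have h1 : π.ker = (Subgroup.center _).map (eqvC f hq).toMonoidHom := by
    rw [← MonoidHom.comap_ker, QuotientGroup.ker_mk', Subgroup.map_equiv_eq_comap_symm']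
  have h3 : Nat.card π.ker = Nat.gcd 2 (Fintype.card F - 1) := by
    rw [h1, Subgroup.card_map_of_injective (eqvC f hq).injective, LieClassical.SympCenter.card_center (by omega)]
  have h4 : ¬ p ∣ Nat.card π.ker := by
    rw [h3, hq, ← pow_one (p ^ e')]
    exact BD.not_dvd_sub hpp.out (dvd_pow_self p he.ne') (pow_pos hpp.out.pos _) one_pos 2
  have hA := S2092.result rfl m hm hm2 h
  have h5 : π.ker ≤ Subgroup.center _ := by
    rw [h1]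
    rintro _ ⟨z, hz, rfl⟩
    refine Subgroup.mem_center_iff.2 fun g => ?_
    obtain ⟨g, rfl⟩ := (eqvC f hq).surjective g
    rw [MulEquiv.coe_toMonoidHom, ← map_mul, ← map_mul, Subgroup.mem_center_iff.1 hz]
  have h6 : commutator (GF (FC m k p e') (GC m k)) = ⊤ := by
    have h4 := S0269.result (F := F) m (by omega)
    rw [commutator_def, ← Subgroup.map_top_of_surjective (eqvC f hq).toMonoidHom (eqvC f hq).surjective, ← Subgroup.map_commutator,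
      ← commutator_def, h4]
  have h7 : Nat.card (Multiplicative (ZMod (Nat.gcd 2 (Fintype.card F - 1)))) = Nat.card π.ker := by
    rw [h3, Nat.card_congr Multiplicative.toAdd, Nat.card_zmod]
  refine hasD (X := datC m hk he) ⟨e', 2, _, _, _, _, _, _, 1, ⟨he, cs_ex (B := 1) ?_ one_pos (one_pow 1)
    fun _ _ => rfl, datC_qs hk he, ntC he, pi1C hk he, ss_of (nt2C hk he) (rtsC hk he hm)⟩, nt2C hk he, rtsC hk he hm⟩ (datC_qs hk he)
    fun K _ _ hK hp ⟨e⟩ => ?_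
  · rw [datC_Mx, Nat.cast_pow]
  have h9 : (e.toMonoidHom.comp (QuotientGroup.mk' (Subgroup.center K))).ker = Subgroup.center K := by
    ext x
    rw [MonoidHom.mem_ker, MonoidHom.comp_apply, MulEquiv.coe_toMonoidHom, map_eq_one_iff _ e.injective,
      QuotientGroup.mk'_apply, QuotientGroup.eq_one_iff]
  obtain ⟨ψ, k1, k2⟩ := cover_of_mult (l := p) (by
      rw [commutator_def, ← MonoidHom.range_eq_top.2 h0, MonoidHom.range_eq_map, ← Subgroup.map_commutator, ← commutator_def, h6]) hA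
    (H95.StemCover.isStem h6 h0 h5)
    (H95.StemCover.isStem (π := e.toMonoidHom.comp (QuotientGroup.mk' (Subgroup.center K))) hK.1.commutator_eq_top
      (e.surjective.comp (QuotientGroup.mk'_surjective _)) h9.le) h4 (h9.symm ▸ hp) (a := 0) (by rw [h7, pow_zero, mul_one])
  exact ⟨ψ, k1, (ker_le_of k2).trans h5⟩

end C

end Rc

end Cfsg.Agent.BZ.RT
end
end

-- part: BZ/RT/RegD
section
prune_inst 0x8000000000000000000000000000014010000
set_option linter.all false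
open scoped Cfsg.Agent.FastGrp

-- part: BZ/RT/RegM
section
/-!
# BZ / RT (S4853) : height zero goes down to a normal subgroup (helper17)

* `mur` : a character of a normal subgroup under a character of height zero has height zero (Murai).
-/

set_option autoImplicit false
set_option linter.style.haveILetI false
set_option linter.unusedSectionVars false

namespace Cfsg.Agent.BZ.RT.Reg

open Cfsg Cfsg.Agent Cfsg.Agent.Characters.Core Cfsg.Agent.Blocks Cfsg.Agent.TID.Red Cfsg.Agent.KM.BK Cfsg.Agent.KM.Mu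
  Cfsg.Agent.BH.TB
open Cfsg.Agent.H592.Transport (tr tr_apply trSet tr_mem_trSet isPBlock_trSet isDefectGroup_trSet)
open Cfsg.Agent.OddOrderCharacters.PF9.CliffGen (inertia mem_inertia' le_inertia)

variable {p : ℕ} [Fact p.Prime] {M : Ideal AlgInt} {G : Type} [Group G] [Finite G] {B : Set (IrrCharacter G)} {D : Subgroup G}
  {N : Subgroup G} [hN : N.Normal]

theorem df_ht (hM : IsPModular p M) (hB : IsPBlock M B) (hD : IsDefectGroup p M B D) {χ : IrrCharacter G}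
    (hχ : χ ∈ B) (h : blockHeight p B (χ : G → ℂ) = 0) : df p χ = (Nat.card D).factorization p := by
  have h1 := H592.Defect.factorization_card_defect p hM hB hD
  have h2 := df_add (p := p) χ
  have h4 : sInf ((fun ψ : IrrCharacter G => (charDegree (ψ : G → ℂ)).factorization p) '' B) ≤ nu p χ :=
    Nat.sInf_le ⟨_, hχ, rfl⟩
  unfold blockDefect at h1
  unfold blockHeight at h
  change nu p χ - _ = 0 at h
  omega

/-- the case of an invariant character -/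
theorem mur0 (hM : IsPModular p M) (hB : IsPBlock M B) (hD : IsDefectGroup p M B D) {χ : IrrCharacter G} (hχ : χ ∈ B)
    (h0 : df p χ = (Nat.card D).factorization p) {b : Set (IrrCharacter N)} (hb : IsPBlock M b) {E : Subgroup N}
    (hE : IsDefectGroup p M b E) {θ : IrrCharacter N} (hθ : θ ∈ b)
    (hinv : ∀ (g : G) (n : N), (θ : N → ℂ) ⟨g * n * g⁻¹, hN.conj_mem n n.2 g⟩ = (θ : N → ℂ) n)
    (hov : Ov N.subtype (χ : G → ℂ) (θ : N → ℂ)) : (Nat.card E).factorization p ≤ df p θ := by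
  have := Local.isPrime_of_isPModular hM
  letI := Fintype.ofFinite G
  letI := Fintype.ofFinite N
  have h1 : cov B N = b := by
    ext ψ
    constructor
    · rintro ⟨χ', hχ', h2⟩
      obtain ⟨g, θ', hθ', h3⟩ := S0964.result p M hM N B hB _ hb χ hχ θ hθ ((ov_subtype_iff N _ _).1 hov) χ' hχ' ψ
        ((ov_subtype_iff N _ _).1 h2)
      have h4 := Covering.sameBlock_conjIrr N (M := M) g (Basic.isPBlock_sameBlock hb hθ hθ')
      rw [show Covering.conjIrr N g θ = θ from Subtype.ext (funext (hinv g)),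
        show Covering.conjIrr N g θ' = ψ from Subtype.ext (funext fun n => (h3 n).symm)] at h4
      exact Basic.isPBlock_mem_of_sameBlock hb hθ h4
    · intro hψ
      obtain ⟨χ', hχ', h2⟩ := S4432.result p M hM N B hB _ hb ⟨χ, hχ, θ, hθ, (ov_subtype_iff N _ _).1 hov⟩ ψ hψ
      exact ⟨χ', hχ', (ov_subtype_iff N _ _).2 h2⟩
  have h2 := tb0 hM hB hD hinv hχ hov
  have h3 := defect_cov hM hB hD (h1 ▸ hb : IsPBlock M (cov B N))
  rw [h1] at h3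
  rw [fac_defect hM hb hE h3, card_sub inf_le_right]
  omega

/-- **height zero goes down** -/
theorem mur (hM : IsPModular p M) (hB : IsPBlock M B) {χ : IrrCharacter G} (hχ : χ ∈ B) (h0 : blockHeight p B (χ : G → ℂ) = 0)
    {b : Set (IrrCharacter N)} (hb : IsPBlock M b) {θ : IrrCharacter N} (hθ : θ ∈ b)
    (hov : Ov N.subtype (χ : G → ℂ) (θ : N → ℂ)) : blockHeight p b (θ : N → ℂ) = 0 := by
  have := Local.isPrime_of_isPModular hM
  letI := Fintype.ofFinite G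
  letI := Fintype.ofFinite N
  set T := inertia N (θ : N → ℂ) with hT
  letI := Fintype.ofFinite T
  have hNT : N ≤ T := le_inertia (isIrr_isClassFunction θ.2)
  obtain ⟨ψ, hψ, h1, h2⟩ := CharDeep.CliffordCorr.clifford_correspondence N (θ : N → ℂ) θ.2 T
    (fun g => mem_inertia') hNT χ χ.2 ((ov_subtype_iff N _ _).1 hov)
  have hc : IsPBlock M (blockOf M ψ) := ⟨⟨ψ, hψ⟩, rfl⟩
  have hi : IsInducedBlock M T (blockOf M ψ) B := by
    have h3 := S0933.result p M hM T ⟨ψ, hψ⟩ (by rw [show ((⟨ψ, hψ⟩ : IrrCharacter T) : T → ℂ) = ψ from rfl, h1]; exact χ.2)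
    change IsInducedBlock M T (blockOf M ψ) (blockOf M (indFun T ψ)) at h3
    rwa [h1, ← Basic.isPBlock_eq_blockOf hB hχ] at h3
  obtain ⟨D', hD'⟩ := H592.Defect.exists_defectGroup p hM hc
  obtain ⟨E, hE, hle⟩ := S0917.result p M hM T _ hc B hB hi D' hD'
  have hm : (⟨ψ, hψ⟩ : IrrCharacter T) ∈ blockOf M ψ := Basic.mem_blockOf_self (⟨ψ, hψ⟩ : IrrCharacter T)
  have h3 : df p (⟨ψ, hψ⟩ : IrrCharacter T) = (Nat.card D').factorization p := by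
    refine le_antisymm (df_le hM hc hD' hm) ?_
    rw [← df_ind T ⟨ψ, hψ⟩ χ h1, df_ht hM hB hE hχ h0, ← Subgroup.card_map_of_injective T.subtype_injective]
    exact (Nat.factorization_le_iff_dvd Nat.card_pos.ne' Nat.card_pos.ne').2 (Subgroup.card_dvd_of_le hle) p
  have hov' : Ov (Subgroup.inclusion hNT) ψ (θ : N → ℂ) := by
    rw [ov_iff]
    exact h2.trans_ne ((ov_subtype_iff N _ _).1 hov)
  obtain ⟨D₀, hD₀⟩ := H592.Defect.exists_defectGroup p hM hb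
  have h4 := mur0 hM hc hD' hm h3 (isPBlock_trSet (Subgroup.subgroupOfEquivOfLe hNT) hb) (isDefectGroup_trSet _ hD₀)
    (tr_mem_trSet.2 hθ) (inv_tr θ hNT) ((ov_src_iff (Subgroup.subgroupOfEquivOfLe hNT) (fun _ => rfl) _ θ).2 hov')
  rw [df_tr, ← Subgroup.card_map_of_injective (f := (Subgroup.subgroupOfEquivOfLe hNT).toMonoidHom) (MulEquiv.injective _),
    Subgroup.map_comap_eq_self_of_surjective (MulEquiv.surjective _)] at h4
  exact height_zero hM hb hD₀ h4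

end Cfsg.Agent.BZ.RT.Reg
end

-- part: BZ/L/TA/Ta2a
section
/-!
# BZ / L / TA : the regular embedding at the level `m` (helper22)

`iK X m : G^(F^m) → (DD X)^(F^m)`; `mem_iK`, `iK_normal`, `comm_le`, `emb`, **`val`** (the `r`-valuation), `frame_of`.
-/

set_option autoImplicit false
set_option linter.unusedSectionVars false

namespace Cfsg.Agent.BZ.TA.T2

open Cfsg Subgroup Cfsg.Agent.KM Cfsg.Agent.BZ.Lab Cfsg.Agent.DL Cfsg.Agent.KM.Ht Cfsg.Agent.BZ.L Cfsg.Agent.HZ.L.Reg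
  Cfsg.Agent.Nodes.Reps Matrix Cfsg.Agent.Tits.Roots Cfsg.Agent.DL.PP

section Pure

variable {K L A : Type} [Group K] [Group L] [Group A] {r : ℕ}

end Pure

variable {p : ℕ} [Fact p.Prime] {k : Type} [Field k] [CharP k p] {Y : Type} [Group Y] {N : Type} [Fintype N]
  [DecidableEq N] {ρ : Y →* GL N k} {F : MulAut Y} {G : Subgroup Y} [IsAlgClosed k] (X : Datum p ρ F G) (m : ℕ)

/-- the embedding of the finite groups -/
noncomputable def iK : ↥(GF (F ^ m) G) →* ↥(GF (FF X ^ m) ⊤) :=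
  MonoidHom.mk' (fun g => ⟨iY X g, trivial, (FF_pow_iY X m g.2.1).trans (congrArg (iY X) g.2.2)⟩) fun a b =>
    Subtype.ext (iY_mul a.2.1 b.2.1)

/-- the quotient map -/
noncomputable def nK : ↥(GF (FF X ^ m) ⊤) →* (X.I → kˣ) := (nu X).comp (GF (FF X ^ m) ⊤).subtype

variable {X m}

theorem iK_inj : Function.Injective (iK X m) := fun a b h => Subtype.ext (iY_inj a.2.1 b.2.1 (congrArg Subtype.val h))

theorem mem_iK {g : GF (FF X ^ m) ⊤} : g ∈ (iK X m).range ↔ nu X g = 1 :=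
  ⟨by rintro ⟨x, rfl⟩; exact nu_iY X _, fun h => by
    obtain ⟨x, hx, e⟩ := exists_of_nu X h
    exact ⟨⟨x, hx, iY_inj (pow_mem_G X m hx) hx ((FF_pow_iY X m hx).symm.trans (e ▸ g.2.2))⟩, Subtype.ext e⟩⟩

theorem range_iK : (iK X m).range = (nK X m).ker := Subgroup.ext fun _ => mem_iK

theorem iK_normal : (iK X m).range.Normal := range_iK (X := X) (m := m) ▸ inferInstance

/-! ### the centres -/

theorem FF_zz (s : X.R → kˣ) : FF X (zz X s) = zz X (mon X.Mx s) :=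
  (FF_ta X _).trans (congrArg (ta X) ((mon_blocks _ _ _).trans (by rw [al_mon]; rfl)))

theorem FF_pow_zz (m : ℕ) (s : X.R → kˣ) : (FF X ^ m) (zz X s) = zz X (mon (X.Mx ^ m) s) := by
  induction m with
  | zero => rw [pow_zero, pow_zero, mon_one]; rfl
  | succ m ih => rw [pow_succ', pow_succ', MulAut.mul_apply, ih, FF_zz, mon_mul]

theorem nu_pow (m : ℕ) {y : YY X} {s : X.R → kˣ} (h : nu X y = al X s) : nu X ((FF X ^ m) y) = al X (mon (X.Mx ^ m) s) := by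
  induction m with
  | zero => rw [pow_zero, pow_zero, mon_one]; exact h
  | succ m ih => rw [pow_succ', pow_succ', MulAut.mul_apply, nu_FF, ih, mon_mul, al_mon]

/-! ### tori -/

end Cfsg.Agent.BZ.TA.T2
end

-- part: BZ/RT/RegD
section
/-!
# BZ / RT (S4853) : descent along the regular embedding (helper17)

* `EqR`, `BTR`, `RK` : degrees up to divisors of `n`; `bt_down` : normal subgroups;
* `Rat` : **the output of the engine** (abelian defect group, or two members of height zero whose ratio is a power of `Q`);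
* `downR` (frame to fixed points), `regT` (from `DD X` to `X`), `BoxRat`, `BoxRat.bt`, `bt_of_rat`.
-/

set_option autoImplicit false
set_option linter.unusedSectionVars false
set_option maxHeartbeats 400000

namespace Cfsg.Agent.BZ.RT

open Cfsg Subgroup Cfsg.Agent.HZ.Gen Cfsg.Agent.KM Cfsg.Agent.BZ.Lab Cfsg.Agent.BZ.L Cfsg.Agent.BZ.L.Bz Cfsg.Agent.Characters.Core
  Cfsg.Agent.Blocks Cfsg.Agent.DL Cfsg.Agent.KM.Ht Cfsg.Agent.KM.Tor Cfsg.Agent.HZ.L.Reg Cfsg.Lie Cfsg.Agent.KZ.DatX Cfsg.Agent.Nodes.RGDChev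

/-- the degrees of the members of height zero which are trivial on `Z` are related by `R` -/
def EqR (l : ℕ) (R : ℕ → ℕ → Prop) {K : Type} [Group K] (Z : Subgroup K) (B : Set (IrrCharacter K)) : Prop :=
  ∀ χ ∈ B, ∀ ψ ∈ B, Ov Z (χ : K → ℂ) → Ov Z (ψ : K → ℂ) → blockHeight l B (χ : K → ℂ) = 0 → blockHeight l B (ψ : K → ℂ) = 0 →
    R (charDegree (χ : K → ℂ)) (charDegree (ψ : K → ℂ))

/-- such blocks have abelian defect groups -/
def BTR (l : ℕ) (R : ℕ → ℕ → Prop) (M : Ideal AlgInt) (H : Type) [Group H] (Z : Subgroup H) : Prop :=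
  ∀ (B : Set (IrrCharacter H)) (D : Subgroup H), IsPBlock M B → IsDefectGroup l M B D → EqR l R Z B → BK.Ab D

/-- equal up to divisors of `n` -/
def RK (n a b : ℕ) : Prop := ∃ k k', k ∣ n ∧ k' ∣ n ∧ k * a = k' * b

/-- **the output of the engine** -/
def Rat (l Q c : ℕ) (M : Ideal AlgInt) {K : Type} [Group K] (α : MulAut K) (Z : Subgroup K) : Prop :=
  ∀ B : Set (IrrCharacter K), IsPBlock M B → StB α B → (∃ D, IsDefectGroup l M B D ∧ BK.Ab D) ∨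
    ∃ χ ∈ B, ∃ ψ ∈ B, Ov Z (χ : K → ℂ) ∧ Ov Z (ψ : K → ℂ) ∧ blockHeight l B (χ : K → ℂ) = 0 ∧ blockHeight l B (ψ : K → ℂ) = 0 ∧
      ∃ j, 0 < j ∧ j ≤ c ∧ charDegree (ψ : K → ℂ) = Q ^ j * charDegree (χ : K → ℂ)

section grp

variable {l m n N Q c : ℕ} {M : Ideal AlgInt} {K H : Type} [Group K] [Group H] {α : MulAut K}

theorem Rat.mono {Z Z' : Subgroup K} (h : Rat l Q c M α Z') (hZ : Z ≤ Z') {c' : ℕ} (hc : c ≤ c') : Rat l Q c' M α Z :=
  fun B h1 h2 => (h B h1 h2).imp_right fun ⟨χ, a1, ψ, a2, a3, a4, a5, a6, j, a7, a8, a9⟩ =>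
    ⟨χ, a1, ψ, a2, fun z hz => a3 z (hZ hz), fun z hz => a4 z (hZ hz), a5, a6, j, a7, a8.trans hc, a9⟩

/-- every member of a covering block lies over a member -/
theorem under [Finite K] {Y : Subgroup K} [Y.Normal] (hM : IsPModular l M) {B : Set (IrrCharacter K)} {b : Set (IrrCharacter Y)}
    (hB : IsPBlock M B) (hb : IsPBlock M b) {χ₀ χ : IrrCharacter K} {θ₀ : IrrCharacter Y} (h1 : χ₀ ∈ B) (h2 : θ₀ ∈ b)
    (h3 : TID.Red.Ov Y.subtype (χ₀ : K → ℂ) (θ₀ : Y → ℂ)) (h4 : χ ∈ B) :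
    ∃ θ ∈ b, TID.Red.Ov Y.subtype (χ : K → ℂ) (θ : Y → ℂ) := by
  have : Fact l.Prime := ⟨hM.1⟩
  have := Fintype.ofFinite K
  have := Fintype.ofFinite Y
  obtain ⟨η, h5⟩ := TID.Red.exists_ov Y.subtype χ.2
  obtain ⟨g, θ, h6, h7⟩ := S0964.result l M hM Y B hB b hb χ₀ h1 θ₀ h2 ((TID.Red.ov_subtype_iff _ _ _).1 h3) χ h4 η
    ((TID.Red.ov_subtype_iff _ _ _).1 h5)
  refine ⟨θ, h6, (TID.Red.ov_src_iff (MulAut.conjNormal g) (ι' := Y.subtype.comp (MulAut.conjNormal g).toMonoidHom)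
    (fun _ => rfl) _ θ).1 ?_⟩
  have h8 : H592.Transport.tr (MulAut.conjNormal g) θ = η := Subtype.ext (funext fun n => (h7 n).symm)
  rw [h8]
  exact TID.Red.Ov.congr (ι := Y.subtype) (χ := (χ : K → ℂ)) (fun a => isIrr_isClassFunction χ.2 a g) h5

/-- **normal subgroups** -/
theorem bt_down [Finite K] (hM : IsPModular l M) (ι : H →* K) (hι : Function.Injective ι) (hn : ι.range.Normal) {Z : Subgroup K}
    {Z' : Subgroup H} (hc : Z ≤ center K) (hZ : Z'.map ι ≤ Z) (h : BTR l (RK ι.range.index) M K Z) : BTr l M H Z' := by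
  intro B D hB hD hE
  have : Fact l.Prime := ⟨hM.1⟩
  have := hM.2.1.isPrime
  have := Fintype.ofFinite K
  have := Fintype.ofFinite ι.range
  let e := MonoidHom.ofInjective hι
  have hb := H649.isPBlock_blkMap (e := e) hB
  obtain ⟨B', P, hB', hP, h5, h6⟩ := KM.up_norm hM ι.range hb (H649.isDefectGroup_blkMap hD)
  obtain ⟨θ₀, h7⟩ := Basic.isPBlock_nonempty hb
  obtain ⟨χ₀, h8, h9⟩ := h6 θ₀ h7
  have key : ∀ χ ∈ B', Ov Z (χ : K → ℂ) → blockHeight l B' (χ : K → ℂ) = 0 → ∃ ψ ∈ B, Ov Z' (ψ : H → ℂ) ∧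
      blockHeight l B (ψ : H → ℂ) = 0 ∧ ∃ k, k ∣ ι.range.index ∧ charDegree (χ : K → ℂ) = charDegree (ψ : H → ℂ) * k :=
    fun χ k1 k2 k3 => by
    obtain ⟨_, ⟨ψ, a1, rfl⟩, a2⟩ := under hM hB' hb h8 h7 h9 k1
    have a5 := Reg.mur hM hB' k1 k3 hb ⟨ψ, a1, rfl⟩ a2
    rw [H649.blockHeight_blkMap] at a5
    obtain ⟨⟨k, a3⟩, a4⟩ := H596.charDegree_dvd_of_over ι.range χ.2 (H649.irrMap e ψ).2 ((TID.Red.ov_subtype_iff _ _ _).1 a2)
    rw [a3, Nat.mul_div_cancel_left _ (Basic.charDegree_pos (H649.irrMap e ψ).2)] at a4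
    rw [H649.charDegree_irrMap] at a3
    refine ⟨ψ, a1, fun z hz' => ?_, a5, k, a4, a3⟩
    have b1 := hZ (mem_map_of_mem ι hz')
    have b3 := H625.PHZ.central_eq ι.range χ.2 (H649.irrMap e ψ).2 ((TID.Red.ov_subtype_iff _ _ _).1 a2) (hc b1) ⟨z, rfl⟩
    rw [k2 _ b1, mul_right_inj' (isIrr_apply_one_ne_zero χ.2), H649.irrMap_one] at b3
    exact (H649.irrMap_apply' e ψ z).symm.trans b3.symm
  have hA := h B' P hB' hP fun χ h1 χ' h2 o1 o2 e1 e2 => by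
    obtain ⟨ψ, a1, a2, a3, k, a4, a5⟩ := key χ h1 o1 e1
    obtain ⟨ψ', b1, b2, b3, k', b4, b5⟩ := key χ' h2 o2 e2
    exact ⟨k', k, b4, a4, by rw [a5, b5, hE ψ a1 ψ' b1 a2 b2 a3 b3]; ring⟩
  have a1 : ∀ a ∈ D, ι a ∈ P := fun a ha => (h5.ge ⟨e a, ⟨a, ha, rfl⟩, rfl⟩).1
  exact fun x hx y hy => hι (by rw [map_mul, map_mul, hA _ (a1 x hx) _ (a1 y hy)])

/-- a ratio which is a power of `q ^ m` is visible modulo `m` -/
theorem not_rk {p q m c j a b a' b' : ℕ} (hp : p.Prime) (hq : p ∣ q) (hq0 : 0 < q) (hn : ¬ p ∣ n) (hm : m.Prime) (hj : 0 < j)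
    (hc : j ≤ c) (hb : n ^ 2 * q ^ (2 * c) < m) (ha : ¬ m ∣ a) (h : b = (q ^ m) ^ j * a) (e1 : a ^ 2 ≡ a' ^ 2 [MOD m])
    (e2 : b ^ 2 ≡ b' ^ 2 [MOD m]) : ¬ RK n a' b' := fun ⟨k, k', h1, h2, h3⟩ => by
  have := Fact.mk hm
  have h0 : 0 < n := Nat.pos_of_ne_zero fun e => hn (e ▸ dvd_zero p)
  have h4 : k ^ 2 * a ^ 2 ≡ k' ^ 2 * b ^ 2 [MOD m] :=
    (e1.mul_left _).trans (by rw [← mul_pow, h3, mul_pow]; exact (e2.mul_left _).symm)
  rw [← ZMod.natCast_eq_natCast_iff, h] at h4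
  push_cast at h4
  rw [ZMod.pow_card, mul_pow, ← mul_assoc, mul_left_inj' (pow_ne_zero 2 (mt (ZMod.natCast_eq_zero_iff a m).1 ha)), ← pow_mul] at h4
  have h5 : k ^ 2 ≡ k' ^ 2 * q ^ (j * 2) [MOD m] := by
    rw [← ZMod.natCast_eq_natCast_iff]
    push_cast
    exact h4
  have h6 : k ^ 2 = k' ^ 2 * q ^ (j * 2) := h5.eq_of_lt_of_lt
    (lt_of_le_of_lt ((Nat.pow_le_pow_left (Nat.le_of_dvd h0 h1) 2).trans (Nat.le_mul_of_pos_right _ (Nat.pow_pos hq0))) hb)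
    (lt_of_le_of_lt (Nat.mul_le_mul (Nat.pow_le_pow_left (Nat.le_of_dvd h0 h2) 2) (Nat.pow_le_pow_right hq0 (by omega))) hb)
  exact hn ((hp.dvd_of_dvd_pow (h6 ▸ (hq.trans (dvd_pow_self q (by omega))).mul_left _ : p ∣ k ^ 2)).trans h1)

/-- **the group of fixed points** -/
theorem btR_fix [Fintype K] [Fintype H] (h : Gl l m N K α) (hM : IsPModular l M) (j : H →* K) (hj : Function.Injective j)
    (hf : ∀ g, α g = g ↔ g ∈ j.range) {Z : Subgroup H} (hZ : Z.map j ≤ center K) {p q : ℕ} (hp : p.Prime) (hq : p ∣ q) (hq0 : 0 < q)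
    (hn : ¬ p ∣ n) (hb : n ^ 2 * q ^ (2 * c) < m) (hK : Rat l (q ^ m) c M α (Z.map j)) : BTR l (RK n) M H Z :=
  fun B D hB hD hz => by
  have : Fact l.Prime := ⟨hM.1⟩
  obtain ⟨e, -, k1, k2, k3, k4⟩ := boxW_of boxSt j h hM hj hf B D hB hD
  have k5 : ∀ ξ ∈ B, W.Gc m α j (e ξ) ξ := fun ξ hξ => ⟨k2 _ ⟨ξ, hξ, rfl⟩, (k4 ξ hξ).2⟩
  have k6 : ∀ ξ ∈ B, Ov (Z.map j) (e ξ : K → ℂ) → Ov Z (ξ : H → ℂ) := fun ξ hξ => ov_gc hj hZ (by
    obtain ⟨k, k6, k7⟩ := (k4 ξ hξ).2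
    rw [k7]
    exact Nat.cast_ne_zero.2 fun e0 => k6 (e0 ▸ dvd_zero m))
  rcases hK _ k1 k2 with ⟨E, h1, h2⟩ | ⟨_, ⟨χ, hχ, rfl⟩, _, ⟨ψ, hψ, rfl⟩, o1, o2, e1, e2, i, h1, h2, h3⟩
  · exact BK.Ab.of_map hj (BK.ab_of_defect hM k1 h1 h2 k3)
  · exact absurd (hz χ hχ ψ hψ (k6 χ hχ o1) (k6 ψ hψ o2) ((k4 χ hχ).1 ▸ e1) ((k4 ψ hψ).1 ▸ e2))
      (not_rk hp hq hq0 hn h.mp h1 h2 hb (fun h4 => h.cop (h4.trans (H596.charDegree_dvd_card (e χ).2))) h3
        (deg_gc ⟨h, hj, hf⟩ (k5 χ hχ)) (deg_gc ⟨h, hj, hf⟩ (k5 ψ hψ)))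

end grp

variable {p : ℕ} [Fact p.Prime] {k : Type} [Field k] [CharP k p] {Y : Type} [Group Y] {I : Type} [Fintype I]
  [DecidableEq I] {ρ : Y →* GL I k} {F : MulAut Y} {G : Subgroup Y} [IsAlgClosed k] (X : Datum p ρ F G)

/-- **Glauberman - Watanabe descent** -/
theorem downR {q d l n c : ℕ} {M : Ideal AlgInt} {Z : Subgroup Y} (hq : Nq p q d l) (hM : IsPModular l M)
    (hZ : Z ≤ Zc X {a | X.Rt a}) (hn : ¬ p ∣ n)
    (h : Lg fun m => ∀ r, Nr q d r m → ∀ [Fintype ↥(GF (F ^ m) G)] (n' N' : ℕ) (α : MulAut ↥(GF (F ^ m) G)), Fm F G l m n' N' α →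
      m.Prime → Rat l (q ^ m) c M α (Pt F G m l Z)) : BTR l (RK n) M ↥(GF (F ^ 1) G) (Pt F G 1 l Z) := by
  obtain ⟨N', hN⟩ := boxGeo X l hM.1 hq.ne
  obtain ⟨m, ⟨hm, hb⟩, ⟨α, k1, k2⟩, ⟨r, k3⟩, k4⟩ :=
    ((Lg.prime.and (Lg.gt (n ^ 2 * q ^ (2 * c)))).and (hN.and ((exists_nr Fact.out hq).and h))).ex
  have := (X.pow one_pos).amb.finite_GF G
  have := (X.pow hm.pos).amb.finite_GF G
  have := Fintype.ofFinite (GF (F ^ 1) G)
  have := Fintype.ofFinite (GF (F ^ m) G)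
  have k5 : GF (F ^ 1) G ≤ GF (F ^ m) G := (gf_one F G).le.trans (gf_le F G m)
  have k6 := (k2 r k3.rp k3.mr).toGl
  have k7 : ∀ g, α g = g ↔ g ∈ (inclusion k5).range := fun g =>
    ⟨fun e => ⟨⟨g, (gf_one F G).ge ⟨g.2.1, (k1 g).symm.trans (congrArg Subtype.val e)⟩⟩, rfl⟩, by
      rintro ⟨x, rfl⟩
      exact Subtype.ext ((k1 _).trans ((gf_one F G).le x.2).2)⟩
  have k8 : (Pt F G 1 l Z).map (inclusion k5) ≤ Pt F G m l Z := by
    rintro _ ⟨z, hz, rfl⟩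
    obtain ⟨h1, -, i, h2⟩ := (pt_eq hZ 1 l).le hz
    exact subset_closure ⟨h1, i, by rw [← map_pow, h2, map_one]⟩
  obtain ⟨f, hf, rfl⟩ := hq.pq
  exact btR_fix k6 hM _ (inclusion_injective k5) k7 (k8.trans (pt_cen hZ m l)) Fact.out (dvd_pow_self p hf.ne')
    (Nat.pow_pos (Fact.out : p.Prime).pos) hn hb ((k4 r k3 _ N' α ⟨k1, k2⟩ hm).mono k8 le_rfl)

/-- the centre of `G` inside the larger group -/
noncomputable def ZD : Subgroup (YY X) := up X (Zc X {a | X.Rt a})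

theorem zd_le : ZD X ≤ Zc (DD X) {a | (DD X).Rt a} := fun z hz => by
  obtain ⟨g, -, h, rfl⟩ := mem_up.1 hz
  obtain ⟨t, rfl⟩ := (X.mem_T g).1 h.1
  rw [← ta_elim]
  refine ⟨⟨_, rfl⟩, fun a ha => ((DD X).χ_τ a _).trans ?_⟩
  rw [show chr ((DD X).wt a) _ = _ from chr_wt' X (s := 1) (map_one _) a, inv_one, mul_one, ← h.2 a ha, X.χ_τ]
  rfl

theorem idx_p (m : ℕ) [Finite ↥(GF (FF X ^ m) ⊤)] : ¬ p ∣ (TA.T2.iK X m).range.index := fun h => by
  rw [TA.T2.range_iK, index_ker] at h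
  have : Finite (TA.T2.nK X m).range := Finite.of_surjective _ (TA.T2.nK X m).rangeRestrict_surjective
  obtain ⟨x, hx⟩ := exists_prime_orderOf_dvd_card' p h
  have h1 : x = 1 := Subtype.ext (funext fun i => Units.ext ((frobenius k p).injective (by
    rw [frobenius_def, ← Units.val_pow_eq_pow_val, ← Pi.pow_apply, ← coe_pow, orderOf_dvd_iff_pow_eq_one.1 hx.dvd, OneMemClass.coe_one,
      Pi.one_apply, Units.val_one, map_one])))
  rw [h1, orderOf_one] at hx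
  exact (Fact.out : p.Prime).one_lt.ne hx

/-- **from the regular embedding to `X`** -/
theorem regT {q d l c : ℕ} {M : Ideal AlgInt} (hq : Nq p q d l) (hM : IsPModular l M)
    (h : Lg fun m => ∀ r, Nr q d r m → ∀ [Fintype ↥(GF (FF X ^ m) ⊤)] (n' N' : ℕ) (α : MulAut ↥(GF (FF X ^ m) ⊤)),
      Fm (FF X) ⊤ l m n' N' α → m.Prime → Rat l (q ^ m) c M α (Pt (FF X) ⊤ m l (ZD X))) :
    BTr l M ↥(GF (F ^ 1) G) (Zl X 1 l) := by
  have : Finite ↥(GF (FF X ^ 1) ⊤) := ((amb X).pow one_pos).finite_GF ⊤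
  refine bt_down hM (TA.T2.iK X 1) TA.T2.iK_inj TA.T2.iK_normal (pt_cen (zd_le X) 1 l) ?_
    (downR (DD X) hq hM (zd_le X) (idx_p X 1) h)
  rintro _ ⟨z, hz, rfl⟩
  obtain ⟨h1, -, i, h2⟩ := (pt_eq (X := X) le_rfl 1 l).le hz
  exact subset_closure ⟨(iY_mem_up z.2.1).2 h1, i, by simp only [← map_pow, h2, map_one]⟩

/-- **the target in the frame** of the regular embedding -/
def BoxRat (T : PD) (l : ℕ) : Prop := AllD fun {p} _ _ _ _ _ _ _ _ _ _ _ _ _ X => T X → ∀ (e f d : ℕ) (M : Ideal AlgInt), Gd X e f →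
  Nq p (p ^ e) d l → IsPModular l M → ∃ c, Lg fun m => ∀ r, Nr (p ^ e) d r m → ∀ [Fintype ↥(GF (FF X ^ m) ⊤)] (n' N' : ℕ)
    (α : MulAut ↥(GF (FF X ^ m) ⊤)), Fm (FF X) ⊤ l m n' N' α → m.Prime → Rat l ((p ^ e) ^ m) c M α (Pt (FF X) ⊤ m l (ZD X))

theorem BoxRat.bt {T : PD} {l : ℕ} (h : BoxRat T l) (hT : AllD fun X => T X → ∃ e f, Gd X e f) : BoxBT T l :=
  fun X h1 h2 M hM =>
    let ⟨e, f, h3⟩ := hT X h1
    have hq : Nq _ _ _ l := ⟨hM.1, h2, ⟨e, h3.e0, rfl⟩, rfl⟩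
    let ⟨_, h4⟩ := h X h1 e f _ M h3 hq hM
    regT X hq hM h4

end Cfsg.Agent.BZ.RT
end

private theorem dce_c69e0c2054ec : _root_.True := by
  try have : _root_.True := by simp only [_root_.Cfsg.Agent.HZ.L.Reg.Qm.congr_simp]
  exact _root_.True.intro
end

section
prune_inst 0xbcbdfc6facc1dfffff7e37fed3ddfc10830fffa4def9437fe1619f2b9f23a109c5f38509f010fe9ff6c29410287843f97eeeffe86bdc7ffffd5fb41ffb6e0fa5ee35085194883406282ff783f05f0a6f000000000000000000000000000041004000000000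

-- part: BZ/RT/Defs
section
prune_inst 0x8000000000000000000000000000014010000
set_option linter.all false
open scoped Cfsg.Agent.FastGrp

/-!
# BZ / RT (S4853) : the engine for connected centre, definitions and boxes (helper56)

Paper proofs: `notes/BZ/rowT.md`.  `Sit` : a block with non abelian defect groups and its top pair; `Sy` : a Sylow subgroup of the
stabiliser of the top block; `Cb` : the combinatorial data of a label; `Gw` : after a twist there are no mixed roots.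
-/

set_option autoImplicit false
set_option linter.unusedSectionVars false

namespace Cfsg.Agent.BZ.RT

open Cfsg Subgroup Matrix Cfsg.Agent.DL Cfsg.Agent.DL.PP Cfsg.Agent.KZ.Lie Cfsg.Agent.HZ.Gen Cfsg.Agent.HZ.L Cfsg.Agent.OM
open Cfsg.Agent.HZ.L.X (Zc Cen Fw b0)

section Grp

variable {K L : Type} [Group K] [Group L]

/-- two members of height zero over the trivial character of `Z` whose degrees differ by a power of `Q` -/
def Two4 (l Q : ℕ) (Z : Subgroup K) (B : Set (IrrCharacter K)) : Prop :=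
  ∃ χ ∈ B, ∃ ψ ∈ B, Lab.Ov Z (χ : K → ℂ) ∧ Lab.Ov Z (ψ : K → ℂ) ∧ blockHeight l B (χ : K → ℂ) = 0 ∧ blockHeight l B (ψ : K → ℂ) = 0 ∧
    ∃ J, 0 < J ∧ Q ^ J ≤ Nat.card K ^ 2 ∧ charDegree (ψ : K → ℂ) ^ 4 = Q ^ J * charDegree (χ : K → ℂ) ^ 4

/-- `S` fixes `ψ` -/
def Fs (ι : L →* K) (S : Subgroup K) (ψ : IrrCharacter L) : Prop := ∀ g ∈ S, Lab.Cj ι g (ψ : L → ℂ) (ψ : L → ℂ)

/-- `S / C(P)` is a non trivial Sylow subgroup of the stabiliser of `b` -/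
structure Sy (l : ℕ) (ι : L →* K) (P : Subgroup K) (b : Set (IrrCharacter L)) (S : Subgroup K) : Prop where
  cs : centralizer (P : Set K) ≤ S
  sn : S ≤ normalizer (P : Set K)
  pg : ∀ g ∈ S, ∃ i : ℕ, g ^ l ^ i ∈ centralizer (P : Set K)
  ne : ¬ S ≤ centralizer (P : Set K)
  orb : ∀ ψ ∈ b, Fs ι S ψ → ¬ l ∣ (Lab.Orb ι P (ψ : L → ℂ) ∩ b).ncard

end Grp

/-- (pure block theory) **a fixed member of height zero** -/
def BoxHz0 : Prop :=
  ∀ {l r m n N : ℕ} {K L : Type} [Group K] [Fintype K] [Group L] [Fintype L] {α : MulAut K} {β : MulAut L} {ι : L →* K}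
    {M : Ideal AlgInt} {B : Set (IrrCharacter K)} {P : Subgroup K} {b : Set (IrrCharacter L)} {Q : Subgroup L} {Z : Subgroup K},
    Lab.Fr l r m n N K α → IsPModular l M → BZ.L.Top r M α B P ι β b → IsDefectGroup l M b Q → BZ.L.Fx l β Q →
    normalizer (P : Set K) ⊓ centralizer (Q.map ι : Set K) ≤ centralizer (P : Set K) →
    (∀ E, IsDefectGroup l M B E → ¬ KM.BK.Ab E) → Z ≤ center K → IsPGroup l Z →
      ∃ S, Sy l ι P b S ∧ ∃ ψ ∈ b, Fs ι S ψ ∧ blockHeight l b (ψ : L → ℂ) = 0 ∧ Lab.Ov (Z.comap ι) (ψ : L → ℂ)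

section Comb

variable {R : Type} [Fintype R] [DecidableEq R]

/-- no mixed roots: a root of the label lies in `ΨL` or is orthogonal to the roots of the label in `ΨL` -/
def NoMix (Ψ ΨL : RS R) (c : Lb R) : Prop := ∀ a ∈ Zc Ψ c, a ∉ ΨL → ∀ b ∈ Zc ΨL c, b.1 ⬝ᵥ a.2 = 0

/-- `Cu.Hy` without twists -/
structure Hy0 (Ψ : RS R) (B : Mat R) (d : ℕ) (f : Mat R → ℂ) : Prop where
  cj : ∀ u ∈ WW Ψ, ∀ A, Cu.Co Ψ B A → f (u * A) = f (A * u)
  bad : ∀ A, Cu.Co Ψ B A → Cu.Bad Ψ d A → f A = 0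
  rel : ∀ A, Cu.Co Ψ B A → Cu.Bad Ψ d A → ∑ᶠ ρ ∈ rfm '' Ψ, f (ρ * A) = 0

/-- **the combinatorial data**: `A` is the type of the torus, `ΨL` the Levi subsystem, `V / W(ΨL)` the Sylow subgroup, `c` the label
and `s` its part of order prime to `l` -/
structure Cb (Ψ : RS R) (q : ℤ) (l d : ℕ) (A : Mat R) (ΨL : RS R) (V : Submonoid (Mat R)) (c s : Lb R) : Prop where
  pq : ∃ e, Cu.Pq q l d e
  q1 : 1 < q
  fin : ∃ n, 0 < n ∧ A ^ n = 1
  nm : Nm A Ψ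
  nmL : Nm A ΨL
  lev : ∃ lam, ΨL = lev Ψ lam
  ell : ¬ Cu.Bad ΨL d A
  out : ∀ μ : ℂ, IsPrimitiveRoot μ d → ∀ a ∈ Ψ, a ∉ ΨL → ∃ y, IsE A μ y ∧ (∀ b ∈ ΨL, ev b.1 y = 0) ∧ ev a.1 y ≠ 0
  vw : V ≤ WW Ψ
  wv : WW ΨL ≤ V
  vn : ∀ v ∈ V, Nm v ΨL ∧ ∃ h ∈ WW ΨL, v * A = h * A * v
  vl : ∀ v ∈ V, ∃ i : ℕ, v ^ l ^ i ∈ WW ΨL
  ne : ∃ v ∈ V, v ∉ WW ΨL
  vc : ∀ v ∈ V, ∃ h ∈ WW ΨL, Tl (h * v) c c
  fx : Tl (q • A) c c
  fs : Tl (q • A) s s
  od : ∃ n, ¬ l ∣ n ∧ s ^ n = 1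
  cs : ∃ (t : Lb R) (i : ℕ), t ^ l ^ i = 1 ∧ c = s * t
  stab : ∀ (t : Lb R) (i : ℕ), t ^ l ^ i = 1 → ∀ w ∈ WW Ψ, Tl w (s * t) (s * t) → w ∈ WW (Zc Ψ (s * t))
  k1 : ∃ f, Hy0 (Zc ΨL c) A d f ∧ f A ≠ 0
  k2 : ∃ f, Cu.Hy (Zc ΨL s) A q l d f ∧ f A ≠ 0

/-- admissible twists -/
structure Twi (q : ℤ) (l : ℕ) (A : Mat R) (ΨL : RS R) (V : Submonoid (Mat R)) (t : Lb R) : Prop where
  pw : ∃ i : ℕ, t ^ l ^ i = 1
  fx : Tl (q • A) t t
  cen : Cen ΨL t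
  vt : ∀ v ∈ V, Tl v t t

end Comb

variable {p : ℕ} [Fact p.Prime] {k : Type} [Field k] [CharP k p] [IsAlgClosed k] {Y : Type} [Group Y] {N : Type}
  [Fintype N] [DecidableEq N] {ρ : Y →* GL N k} {F : MulAut Y} {G : Subgroup Y} {D : Datum p ρ F G}

/-- `v` is the image of `g` in the Weyl group, modulo the Weyl group of the subgroup -/
def Dv (s : Sb D) (g : ↥(GF F G)) (v : D.W) : Prop := ∃ x ∈ s.K, D.Rp v (s.y⁻¹ * (x * g) * s.y)

/-- the matrices of the elements of `S` -/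
def VS (s : Sb D) (S : Subgroup ↥(GF F G)) : Submonoid (Mat D.R) := Submonoid.closure {A | ∃ g ∈ S, ∃ v, Dv s g v ∧ A = D.Wm v}

/-- conjugation by `g` is `v` on the labels -/
structure Dc (f : Fr D) (s : Sb D) (g : ↥(GF F G)) (v : D.W) : Prop where
  nm : Nm (D.Wm v) (rts s.E)
  ty : ∀ u, ∃ u', Tc D v (s.sw u * s.w) (s.sw u' * s.w)
  rw : ∀ u u' c c', Tc D v (s.sw u * s.w) (s.sw u' * s.w) → Rel D v c c' → ∀ y y' : ↥(GF F s.K), s.ι y' = g * s.ι y * g⁻¹ →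
    RW (s.fr f) u' c' y' = RW (s.fr f) u c y

variable [Fintype ↥(GF F G)]

/-- **the situation** -/
structure Sit (j : ℕ) (B : Mat D.R) (l r m n n' : ℕ) (M : Ideal AlgInt) (α : MulAut ↥(GF F G)) (𝔅 : Set (IrrCharacter ↥(GF F G)))
    (P : Subgroup ↥(GF F G)) (s : Sb D) [Fintype ↥(GF F s.K)] (β : MulAut ↥(GF F s.K)) (lam : Vec D.R)
    (b : Set (IrrCharacter ↥(GF F s.K))) : Prop where
  cq : Lie.Cq D j B l
  tp : Lie.Tp j B l (Lie.Sd (Lie.dl l (p ^ j))) M 𝔅 r P s lam b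
  fr : Lab.Fr l r m n n' ↥(GF F G) α
  hM : IsPModular l M
  top : L.Top r M α 𝔅 P s.ι β b
  dq : ∃ Q, IsDefectGroup l M b Q ∧ L.Fx l β Q ∧
    normalizer (P : Set ↥(GF F G)) ⊓ centralizer (Q.map s.ι : Set ↥(GF F G)) ≤ centralizer (P : Set ↥(GF F G))
  nab : ∀ E, IsDefectGroup l M 𝔅 E → ¬ KM.BK.Ab E
  ne : lev (rts D) lam ≠ rts D
  on : On.On1 s.E
  cls : ∀ f : Fr D, At.Cls f r {ξ | Lab.St α (ξ : GF F G → ℂ)}

variable (D)

omit [Fintype ↥(GF F G)] in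
/-- **[Sit]** the situation exists -/
def BoxSit : Prop := ∀ j B l M, Lie.Cq D j B l → IsPModular l M → Lg fun m => ∀ r, L.Nr (p ^ j) (Lie.dl l (p ^ j)) r m →
  ∀ (hm : 0 < m) [Fintype ↥(GF (F ^ m) G)] (n n' : ℕ) (α : MulAut ↥(GF (F ^ m) G)) (𝔅 : Set (IrrCharacter ↥(GF (F ^ m) G))),
    L.Fm F G l m n n' α → IsPBlock M 𝔅 → Lab.StB α 𝔅 → (∀ E, IsDefectGroup l M 𝔅 E → ¬ KM.BK.Ab E) →
    ∃ (P : Subgroup ↥(GF (F ^ m) G)) (s : Sb (D.pow hm)) (_ : Fintype ↥(GF (F ^ m) s.K)) (β : MulAut ↥(GF (F ^ m) s.K)) (lam : Vec D.R)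
      (b : Set (IrrCharacter ↥(GF (F ^ m) s.K))), Sit (D := D.pow hm) (j * m) B l r m n n' M α 𝔅 P s β lam b

/-- **[Dict]** the normaliser of `P` and the Weyl group -/
def BoxDict : Prop := D.QS → ∀ (r : ℕ) (P : Subgroup ↥(GF F G)) (s : Sb D), s.For r P →
  (∀ g ∈ normalizer (P : Set ↥(GF F G)), ∃ v, Dv s g v) ∧
  (∀ g ∈ normalizer (P : Set ↥(GF F G)), ∀ v, Dv s g v → (∀ f, Dc f s g v) ∧ (g ∈ centralizer (P : Set ↥(GF F G)) ↔ v ∈ s.sw.range)) ∧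
  (∀ g ∈ normalizer (P : Set ↥(GF F G)), ∀ g' v v', Dv s g v → Dv s g' v' → Dv s (g * g') (v * v')) ∧ (∀ u, Dv s 1 (s.sw u)) ∧
  ∀ S ≤ normalizer (P : Set ↥(GF F G)), ∀ A ∈ VS s S, ∃ g ∈ S, ∃ v, Dv s g v ∧ A = D.Wm v

/-- **[Lin]** central labels come from linear characters -/
def BoxLin : Prop := D.QS → ∀ l : ℕ, l.Prime → Lie.SC l (rts D) → ∀ (f : Fr D) (t : Lbl D) (i : ℕ) (w₀ : D.W), t ^ l ^ i = 1 →
  Cen (rts D) t → Fx D w₀ t → ∃ χ : ↥(GF F G) →* ℂˣ, χ ^ l ^ i = 1 ∧ (∀ g, (χ g : ℂ) = avg f ⊤ (fun _ => 1) 1 t g) ∧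
    ∀ w c g, RW f w (c * t) g = χ g * RW f w c g

/-- **[Twi]** the twisted character -/
def BoxTwi : Prop := ∀ j B l r m n n' M α 𝔅 P (s : Sb D) [Fintype ↥(GF F s.K)] β lam b, Sit j B l r m n n' M α 𝔅 P s β lam b →
  ∀ S ≤ normalizer (P : Set ↥(GF F G)), ∀ ψ ∈ b, Fs s.ι S ψ → ∀ (f : Fr D) u c t, Has (s.fr f) (ψ : GF F s.K → ℂ) u c →
    Twi ((p : ℤ) ^ j) l (D.Wm (s.sw u * s.w) * B) (rts s.E) (VS s S) t →
    ∃ ψ' ∈ b, Fs s.ι S ψ' ∧ charDegree (ψ' : GF F s.K → ℂ) = charDegree (ψ : GF F s.K → ℂ) ∧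
      (t = 1 → ψ' = ψ) ∧ Has (s.fr f) (ψ' : GF F s.K → ℂ) u (c * t)

/-- **[Cb]** the combinatorial data of a fixed member -/
def BoxCb : Prop := ∀ j B l r m n n' M α 𝔅 P (s : Sb D) [Fintype ↥(GF F s.K)] β lam b, Sit j B l r m n n' M α 𝔅 P s β lam b →
  ∀ S, Sy l s.ι P b S → ∀ ψ ∈ b, Fs s.ι S ψ → ∀ f : Fr D, ∃ u c c₀, Has (s.fr f) (ψ : GF F s.K → ℂ) u c ∧
    Cb (rts D) ((p : ℤ) ^ j) l (Lie.dl l (p ^ j)) (D.Wm (s.sw u * s.w) * B) (rts s.E) (VS s S) c c₀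

variable {D} in
/-- two members over `ψ` with multiplicities prime to `l` whose degrees differ by a power of `Q` -/
def Pair (l Q r : ℕ) (𝔅 : Set (IrrCharacter ↥(GF F G))) (P : Subgroup ↥(GF F G)) (s : Sb D) [Fintype ↥(GF F s.K)]
    (ψ : IrrCharacter ↥(GF F s.K)) : Prop :=
  ∃ ξ ∈ 𝔅, ∃ ξ' ∈ 𝔅, ∃ (a a' : ℤ) (J : ℕ), ¬ (l : ℤ) ∣ a ∧ ¬ (l : ℤ) ∣ a' ∧ classInner (s.rs r P ξ) ψ = a ∧
    classInner (s.rs r P ξ') ψ = a' ∧ 0 < J ∧ Q ^ J ≤ Nat.card ↥(GF F G) ^ 2 ∧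
    (ξ' : GF F G → ℂ) 1 ^ 4 = (Q : ℂ) ^ J * (ξ : GF F G → ℂ) 1 ^ 4

/-- **[At1]** `BoxAtom` in the situation -/
def BoxAt1 : Prop := ∀ j B l r m n n' M α 𝔅 P (s : Sb D) [Fintype ↥(GF F s.K)] β lam b, Sit j B l r m n n' M α 𝔅 P s β lam b →
  ∀ ψ ∈ b, ∀ (f : Fr D) u c, Has (s.fr f) (ψ : GF F s.K → ℂ) u c → At.Cfg s c → Pair l (p ^ j) r 𝔅 P s ψ

variable (p) in
/-- the general boxes -/
structure Bx : Prop where
  hz0 : BoxHz0
  sit : AllD p fun D => BoxSit D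
  twi : AllD p fun D => BoxTwi D
  cb : AllD p fun D => BoxCb D
  at1 : AllD p fun D => BoxAt1 D

/-- **the aim for one datum**, `Z₀` is central -/
def Aim (p : ℕ) {Y : Type} [Group Y] (F : MulAut Y) (G : Subgroup Y) (j l : ℕ) (Z₀ : Subgroup Y) : Prop :=
  ∀ M, IsPModular l M → Lg fun m => ∀ r, L.Nr (p ^ j) (Lie.dl l (p ^ j)) r m →
  ∀ [Fintype ↥(GF (F ^ m) G)] (n₁ n₂ : ℕ) (α : MulAut ↥(GF (F ^ m) G)), L.Fm F G l m n₁ n₂ α →
    ∀ 𝔅 : Set (IrrCharacter ↥(GF (F ^ m) G)), IsPBlock M 𝔅 → Lab.StB α 𝔅 →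
      (∃ E, IsDefectGroup l M 𝔅 E ∧ KM.BK.Ab E) ∨ Two4 l ((p ^ j) ^ m) (L.Pt F G m l Z₀) 𝔅

omit [Fintype ↥(GF F G)] in
/-- **the terminal cases** `T A ΨL c` -/
def Tm (j : ℕ) (B : Mat D.R) (l : ℕ) (T : Mat D.R → RS D.R → Lb D.R → Prop) : Prop :=
  ∀ M, IsPModular l M → Lg fun m => ∀ r, L.Nr (p ^ j) (Lie.dl l (p ^ j)) r m → ∀ (hm : 0 < m) [Fintype ↥(GF (F ^ m) G)] (n₁ n₂ : ℕ)
    (α : MulAut ↥(GF (F ^ m) G)) 𝔅 P (s : Sb (D.pow hm)) [Fintype ↥(GF (F ^ m) s.K)] β lam b, L.Fm F G l m n₁ n₂ α →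
    Sit (D := D.pow hm) (j * m) B l r m n₁ n₂ M α 𝔅 P s β lam b → ∀ ψ ∈ b,
    ∀ (f : Fr (D.pow hm)) u c, Has (s.fr f) (ψ : GF (F ^ m) s.K → ℂ) u c →
      T ((D.pow hm).Wm (s.sw u * s.w) * B) (rts s.E) c → Pair l (p ^ (j * m)) r 𝔅 P s ψ

omit [Fintype ↥(GF F G)] in
/-- **what a type has to prove**: after a twist there are no mixed roots, or the label is terminal -/
def Cmb (B : Mat D.R) (l : ℕ) (z : Prop) (T : Mat D.R → RS D.R → Lb D.R → Prop) : Prop :=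
  ∀ (q : ℤ) (d : ℕ) (w : D.W) (ΨL : RS D.R) (V : Submonoid (Mat D.R)) (c s : Lb D.R), Cb (rts D) q l d (D.Wm w * B) ΨL V c s →
    ∃ t, Twi q l (D.Wm w * B) ΨL V t ∧ (z → t = 1) ∧ (NoMix (rts D) ΨL (c * t) ∨ T (D.Wm w * B) ΨL (c * t))

omit [Fintype ↥(GF F G)] in
/-- **[Fin]** the glue -/
def BoxFin : Prop := ∀ j B l Z₀ z T, Lie.Cq D j B l → (∀ x ∈ Z₀, ∀ y ∈ G, y * x = x * y) →
  (z ∨ ∀ x ∈ Z₀, ∀ i : ℕ, x ^ l ^ i = 1 → x = 1) → Cmb D B l z T → Tm D j B l T → Aim p F G j l Z₀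

omit [Fintype ↥(GF F G)] in
/-- the classical types -/
def ClT (B : Mat D.R) : Prop := ∃ (κ : Kd) (n : ℕ) (Φ : Fw D κ (b0 n) 2) (τ : LV.Cl.SG n), 2 ≤ n ∧ X.Tw Φ B τ

omit [Fintype ↥(GF F G)] in
/-- **[ClO]** classical groups, `l` odd -/
def BoxClO : Prop := ∀ j B l, Lie.Cq D j B l → ClT D B → l ≠ 2 → Cmb D B l False fun _ _ _ => False

omit [Fintype ↥(GF F G)] in
/-- **[Cl2]** classical groups, `l = 2` -/
def BoxCl2 : Prop := ∀ j B, Lie.Cq D j B 2 → ClT D B → Cmb D B 2 True fun _ _ _ => False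

end Cfsg.Agent.BZ.RT
end

-- part: BZ/RT/Ck/K1
section
prune_inst 0x8000000000000000000000000000010000000
set_option linter.all false
open scoped Cfsg.Agent.FastGrp

/-!
# BZ / RT / Ck : cuspidal functions without twists, isolated roots (helper13)
-/

set_option autoImplicit false
set_option linter.unusedSectionVars false

namespace Cfsg.Agent.BZ.RT.Ck

open Cfsg Matrix Cfsg.Agent.DL Cfsg.Agent.HZ.L Cfsg.Agent.OM.Cu

variable {R I : Type} [Fintype R] [DecidableEq R] [Fintype I] [DecidableEq I] {L : RS R} {A X : Mat R} {d : ℕ} {f : Mat R → ℂ}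
  {a b : Vec R × Vec R}

theorem zt_one (L : RS R) (τ : Vec R) : Zt L 1 τ = L := Set.ext fun _ => ⟨fun h => h.1, fun h => ⟨h, one_dvd _⟩⟩

/-- `Hy0` is `Hy` for `l = 1` -/
theorem hy0_iff : Hy0 L A d f ↔ Hy L A 0 1 d f :=
  ⟨fun h => ⟨h.cj, h.bad, fun X hX hb τ _ => (zt_one L τ).symm ▸ h.rel X hX hb⟩,
    fun h => ⟨h.cj, h.bad, fun X hX hb => zt_one L 0 ▸ h.rel X hX hb 0 fun _ _ => one_dvd _⟩⟩

/-- transport to the standard system -/
theorem hy0_up {P : Matrix R I ℤ} {C B : Mat I} {D : I → ℤ} (T : Tr P (Rc C) L) (H : Rs C D) (h : A * P = P * B) (hA : Nm A L)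
    (Y : Hy0 L A d f) : Hy0 (Rc C) B d fun X => f (TrL.up P L A X) := by
  refine ⟨fun u hu X hX => ?_, fun X hX hb => ?_, fun X hX hb => ?_⟩
  all_goals obtain ⟨X', h3, h4⟩ := T.co_up h hX
  · obtain ⟨u', h5, h6⟩ := T.ww_up hu
    rw [T.up_eq H h hA (TrL.co_left h5 h3) (Tr.mul h6 h4), T.up_eq H h hA (TrL.co_right hA h5 h3) (Tr.mul h4 h6), Y.cj u' h5 X' h3]
  · rw [T.up_eq H h hA h3 h4]
    exact Y.bad X' h3 (hb.imp fun _ hb => ⟨hb.1, T.eig_up h4 hb.2⟩)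
  · have h5 : (0 : Vec R) ᵥ* P = 0 + ((1 : ℕ) : ℤ) • 0 := by rw [smul_zero, add_zero, zero_vecMul]
    have h6 := T.sum_eq H h5 (F' := fun ρ => f (ρ * X')) (F := fun ρ => f (TrL.up P L A (ρ * X))) fun ρ _ ρ' h6 e => by
      rw [T.up_eq H h hA (TrL.co_left h6 h3) (Tr.mul e h4)]
    rw [zt_one, zt_one] at h6
    exact h6 ▸ Y.rel X' h3 (hb.imp fun _ hb => ⟨hb.1, T.eig_up h4 hb.2⟩)

theorem isE_smul (ε : ℤˣ) {μ : ℂ} {y : R → ℂ} (h : IsE X μ y) : IsE ((ε : ℤ) • X) (((ε : ℤ) : ℂ) * μ) y := by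
  unfold IsE at h ⊢
  rw [mul_smul, ← h, ← smul_mulVec]
  congr 1
  ext i j
  simp only [map_apply, Matrix.smul_apply, smul_eq_mul, Int.cast_mul]

theorem prim_eq {ε : ℤˣ} {μ : ℂ} (hε : IsPrimitiveRoot ((ε : ℤ) : ℂ) d) (h : IsPrimitiveRoot μ d) : μ = ((ε : ℤ) : ℂ) := by
  rcases Int.units_eq_one_or ε with rfl | rfl
  · obtain rfl : d = 1 := hε.unique (by simp)
    simpa using IsPrimitiveRoot.one_right_iff.1 h
  · obtain rfl : d = 2 := hε.unique (by simpa using IsPrimitiveRoot.neg_one 0 (by decide))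
    simpa using h.eq_neg_one_of_two_right

theorem ee (ε : ℤˣ) (X : Mat R) : (ε : ℤ) • (ε : ℤ) • X = X := by rw [smul_smul, Int.units_coe_mul_self, one_smul]

theorem bad_neg {ε : ℤˣ} (hε : IsPrimitiveRoot ((ε : ℤ) : ℂ) d) : OM.Cu.Bad L 1 X ↔ OM.Cu.Bad L d ((ε : ℤ) • X) := by
  constructor
  · rintro ⟨μ, h1, y, h2, h3⟩
    obtain rfl := IsPrimitiveRoot.one_right_iff.1 h1
    exact ⟨_, hε, y, mul_one ((ε : ℤ) : ℂ) ▸ isE_smul ε h2, h3⟩
  · rintro ⟨μ, h1, y, h2, h3⟩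
    obtain rfl := prim_eq hε h1
    have := isE_smul ε h2
    rw [ee, ← Int.cast_mul, Int.units_coe_mul_self, Int.cast_one] at this
    exact ⟨1, .one, y, this, h3⟩

/-- **Ennola** -/
theorem hy0_neg {ε : ℤˣ} (hε : IsPrimitiveRoot ((ε : ℤ) : ℂ) d) (h : Hy0 L A d f) :
    Hy0 L ((ε : ℤ) • A) 1 fun X => f ((ε : ℤ) • X) := by
  have k : ∀ X, Co L ((ε : ℤ) • A) X → Co L A ((ε : ℤ) • X) := by
    rintro _ ⟨w, hw, rfl⟩
    exact ⟨w, hw, by rw [← mul_smul_comm, ee]⟩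
  refine ⟨fun u hu X hX => ?_, fun X hX hb => h.bad _ (k X hX) ((bad_neg hε).1 hb), fun X hX hb => ?_⟩
  · rw [← mul_smul_comm, ← smul_mul_assoc, h.cj u hu _ (k X hX)]
  · simpa only [mul_smul_comm] using h.rel _ (k X hX) ((bad_neg hε).1 hb)

/-- **one relation**: the reflections which move the eigenvector `y` give the same value -/
theorem kill1 (hf : L.Finite) (h : Hy0 L A d f) (hX : Co L A X) {μ : ℂ} (hμ : IsPrimitiveRoot μ d) {y : R → ℂ} (hy : IsE X μ y)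
    (hb : b ∈ L) (h0 : ev b.1 y ≠ 0) (h1 : ∀ a ∈ L, ev a.1 y ≠ 0 → f (rfm a * X) = f (rfm b * X)) : f (rfm b * X) = 0 := by
  refine (hy0_iff.1 h).kill hf hX ⟨μ, hμ, y, hy, b, hb, h0⟩ (τ := 0) (fun _ _ => one_dvd _) (fun a ha _ => ?_) hb (one_dvd _) rfl
  by_cases k : ev a.1 y = 0
  · exact .inl (h.bad _ (hX.rf ha) ⟨μ, hμ, y, isE_rf hy k, b, hb, h0⟩)
  · exact .inr (h1 a ha k)

theorem isE_int {v : Vec R} (h : X *ᵥ v = v) : IsE X 1 fun i => (v i : ℂ) := by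
  unfold IsE
  rw [one_smul]
  exact funext fun i => ((RingHom.map_mulVec (Int.castRingHom ℂ) X v i).symm).trans (congrArg (fun w : Vec R => (w i : ℂ)) h)

theorem ev_int (x v : Vec R) : ev x (fun i => (v i : ℂ)) = ((x ⬝ᵥ v : ℤ) : ℂ) := by simp [ev, dotProduct]

/-- `M` maps the pair `a` to the pair `b` -/
def Mp (M : Mat R) (a b : Vec R × Vec R) : Prop := M *ᵥ a.2 = b.2 ∧ b.1 ᵥ* M = a.1

/-- `b` is an isolated root -/
def Isl (L : RS R) (b : Vec R × Vec R) : Prop := ∀ a ∈ L, a = b ∨ a = -b ∨ a.1 ⬝ᵥ b.2 = 0 ∧ b.1 ⬝ᵥ a.2 = 0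

theorem Mp.uniq {n : ℕ} (hn : 0 < n) (h1 : A ^ n = 1) {b' : Vec R × Vec R} (h : Mp A a b) (h' : Mp A a b') : b = b' := by
  obtain ⟨m, rfl⟩ := Nat.exists_eq_succ_of_ne_zero hn.ne'
  refine Prod.ext ?_ (h.1.symm.trans h'.1)
  rw [← vecMul_one b.1, ← vecMul_one b'.1, ← h1, pow_succ', ← vecMul_vecMul, ← vecMul_vecMul, h.2, h'.2]

theorem Mp.neg (h : Mp A a b) : Mp A (-a) (-b) :=
  ⟨by rw [Prod.snd_neg, Prod.snd_neg, mulVec_neg, h.1], by rw [Prod.fst_neg, Prod.fst_neg, neg_vecMul, h.2]⟩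

theorem Mp.dot {a' b' : Vec R × Vec R} (h : Mp A a b) (h' : Mp A a' b') : b.1 ⬝ᵥ b'.2 = a.1 ⬝ᵥ a'.2 := by
  rw [← h'.1, dotProduct_mulVec, h.2]

theorem Mp.surj {n : ℕ} (hn : 0 < n) (h1 : A ^ n = 1) (hA : Nm A L) (hb : b ∈ L) : ∃ a ∈ L, Mp A a b := by
  obtain ⟨m, rfl⟩ := Nat.exists_eq_succ_of_ne_zero hn.ne'
  obtain ⟨a, ha, a1, a2⟩ := OM.Cu.Nm.pow hA m b hb
  exact ⟨a, ha, by rw [← a1, mulVec_mulVec, ← pow_succ', h1, one_mulVec], by rw [← a2, vecMul_vecMul, ← pow_succ, h1, vecMul_one]⟩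

theorem Isl.map {n : ℕ} (hn : 0 < n) (h1 : A ^ n = 1) (hA : Nm A L) {b' : Vec R × Vec R} (h : Isl L b) (e : Mp A b b') : Isl L b' :=
  fun a ha => by
    obtain ⟨c, hc, k⟩ := Mp.surj hn h1 hA ha
    rcases h c hc with rfl | rfl | k1
    exacts [.inl (k.uniq hn h1 e), .inr (.inl (k.uniq hn h1 e.neg)), .inr (.inr ⟨(k.dot e).trans k1.1, (e.dot k).trans k1.2⟩)]

theorem k1' {n : ℕ} (hn : 0 < n) (h1 : A ^ n = 1) (hA : Nm A L) (hf : L.Finite) (h2 : ∀ a ∈ L, a.1 ⬝ᵥ a.2 = 2) (h : Hy0 L A 1 f)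
    (hb : b ∈ L) (hi : Isl L b) : f A = 0 := by
  classical
  choose g g1 g2 using hA
  let β : ℕ → L := fun i => (fun x : L => (⟨g x x.2, g1 x x.2⟩ : L))^[i] ⟨b, hb⟩
  have b1 : ∀ i, Mp A (β i) (β (i + 1)) := fun i => by
    simp only [β, Function.iterate_succ_apply']
    exact g2 _ _
  have hA : Nm A L := fun a ha => ⟨_, g1 a ha, g2 a ha⟩
  have b2 : ∀ i, Isl L (β i) := fun i => by
    induction i with
    | zero => exact hi
    | succ i ih => exact ih.map hn h1 hA (b1 i)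
  have b3 : ∀ i, Mp (A ^ i) b (β i) := fun i => by
    induction i with
    | zero => exact ⟨by rw [pow_zero, one_mulVec]; rfl, by rw [pow_zero, vecMul_one]; rfl⟩
    | succ i ih => exact ⟨by rw [pow_succ', ← mulVec_mulVec, ih.1, (b1 i).1], by rw [pow_succ', ← vecMul_vecMul, (b1 i).2, ih.2]⟩
  have b4 : ∃ r, (β (r + 1)).1 = b ∨ (β (r + 1)).1 = -b := by
    obtain ⟨m, rfl⟩ := Nat.exists_eq_succ_of_ne_zero hn.ne'
    have := b3 (m + 1)
    rw [h1] at this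
    exact ⟨m, .inl (Prod.ext (by rw [← this.2, vecMul_one]) (by rw [← this.1, one_mulVec]))⟩
  have b5 : ∀ i < Nat.find b4, (β (i + 1)).1.1 ⬝ᵥ b.2 = 0 ∧ b.1 ⬝ᵥ (β (i + 1)).1.2 = 0 := fun i k =>
    ((hi _ (β (i + 1)).2).resolve_left fun e => Nat.find_min b4 k (.inl e)).resolve_left fun e => Nat.find_min b4 k (.inr e)
  have b6 := Nat.find_spec b4
  generalize Nat.find b4 = r at b5 b6
  set y : Vec R := ∑ i ∈ Finset.range (r + 1), (β i).1.2 with hy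
  have y1 : b.1 ⬝ᵥ y = 2 := by
    rw [hy, Finset.sum_range_succ', dotProduct_add, dotProduct_sum, Finset.sum_eq_zero fun i k => (b5 i (Finset.mem_range.1 k)).2,
      zero_add]
    exact h2 b hb
  have y2 : A *ᵥ y = y - b.2 + (β (r + 1)).1.2 := by
    rw [hy, mulVec_sum, Finset.sum_congr rfl fun i _ => (b1 i).1, Finset.sum_range_succ, Finset.sum_range_succ',
      show (β 0).1.2 = b.2 from rfl, add_sub_cancel_right]
  have y3 : ev b.1 (fun i => (y i : ℂ)) ≠ 0 := by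
    rw [ev_int, y1]
    norm_num
  rcases b6 with e | e
  · exact h.bad A (Co.refl _ _) ⟨1, .one, _, isE_int (by rw [y2, e, sub_add_cancel]), b, hb, y3⟩
  have y4 : (rfm b * A) *ᵥ y = y := by
    rw [← mulVec_mulVec, y2, e, rfm_mulVec, Prod.snd_neg, dotProduct_add, dotProduct_sub, dotProduct_neg, y1, h2 b hb]
    module
  have c1 : Co L A (rfm b * A) := (Co.refl _ _).rf hb
  have y5 : ∀ i ≤ r, f (rfm (β i) * (rfm b * A)) = f (rfm b * (rfm b * A)) := fun i k => by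
    induction i with
    | zero => rfl
    | succ i ih =>
      rw [← ih (Nat.le_of_succ_le k)]
      refine (hy0_iff.1 h).rf_orb c1 (β i).2 ?_ ?_
      · rw [← mulVec_mulVec, (b1 i).1, rfm_mulVec, (b5 i k).2, zero_smul, sub_zero]
      · rw [← vecMul_vecMul, vecMul_rfm, (b5 i k).1, zero_smul, sub_zero, (b1 i).2]
  have := kill1 hf h c1 .one (isE_int y4) hb y3 fun a ha k => by
    rw [ev_int, hy, dotProduct_sum, Int.cast_ne_zero] at k
    obtain ⟨i, i1, i2⟩ := Finset.exists_ne_zero_of_sum_ne_zero k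
    rw [← y5 i (Nat.lt_succ_iff.1 (Finset.mem_range.1 i1))]
    rcases b2 i a ha with e | e | e
    exacts [e ▸ rfl, by rw [e, rfm_neg], (i2 e.1).elim]
  rwa [← mul_assoc, rfm_sq (h2 b hb), one_mul] at this

/-- **no isolated root** -/
theorem k1 {n : ℕ} {ε : ℤˣ} (hε : IsPrimitiveRoot ((ε : ℤ) : ℂ) d) (hn : 0 < n) (h1 : A ^ n = 1) (hA : Nm A L) (hf : L.Finite)
    (h2 : ∀ a ∈ L, a.1 ⬝ᵥ a.2 = 2) (ng : ∀ a ∈ L, -a ∈ L) (h : Hy0 L A d f) (h0 : f A ≠ 0) (hb : b ∈ L) : ¬ Isl L b := fun hi => by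
  have k : ((ε : ℤ) • A) ^ (2 * n) = 1 := by
    rw [smul_pow, pow_mul, pow_mul', h1, one_pow, sq, Int.units_coe_mul_self, one_pow, one_smul]
  have k' : Nm ((ε : ℤ) • A) L := by
    rcases Int.units_eq_one_or ε with rfl | rfl
    · simpa using hA
    · simpa using OM.Cu.Nm.neg ng hA
  have := k1' (by omega) k k' hf h2 (hy0_neg hε h) hb hi
  exact h0 (by rwa [ee] at this)

end Cfsg.Agent.BZ.RT.Ck
end

-- part: BZ/RT/Z2D
section
set_option linter.all false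

/-!
# BZ / RT : the prime two for root systems of rank at most eight, statements (helper73)

Pure root system statements.  Conventions of `OM.Cu` : pair `a` = (root functional `a.1`, coroot vector `a.2`), `Rc C` the system of a
Cartan matrix on the coroot lattice, `Tr P (Rc C) Ψ` a base.
-/

set_option autoImplicit false
set_option linter.unusedSectionVars false

namespace Cfsg.Agent.BZ.RT.Z2

open Cfsg Matrix Cfsg.Agent.DL Cfsg.Agent.HZ.L Cfsg.Agent.BZ.TA Cfsg.Agent.BZ.TA.Cl Cfsg.Agent.OM.Cu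
open Cfsg.Agent.HZ.L.X (Zc Cen)

section Comb

variable {R I : Type} [Fintype R] [DecidableEq R] [Fintype I] [DecidableEq I]

/-- a base with at most `n` elements -/
def Bs (n : ℕ) (Ψ : RS R) : Prop :=
  ∃ (m : ℕ) (C : Mat (Fin m)) (d : Fin m → ℤ) (P : Matrix R (Fin m) ℤ), m ≤ n ∧ Car C d ∧ Tr P (Rc C) Ψ

/-- the path `0 - 1 - 2 - 3 - 4 - 5`, the node `6` is attached to the node `2` -/
def E7 : Mat (Fin 7) := cm 7 (cT 2 7)

/-- the path `0 - 1 - 2 - 3 - 4 - 5 - 6`, the node `7` is attached to the node `2` -/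
def E8 : Mat (Fin 8) := cm 8 (cT 2 8)

/-- `Ψc` is `E₇` or `E₇ A₁`, and `Ψ₀` is the standard `E₆` -/
def F7 (Ψc Ψ₀ ΨL : RS R) : Prop := ∃ (P : Matrix R (Fin 7) ℤ) (Ψ₁ : RS R), Tr P (Rc E7) Ψ₁ ∧
  (∀ b, b ∈ Ψ₀ ↔ b ∈ Ψ₁ ∧ ∃ a ∈ Rc E7, a.2 5 = 0 ∧ P *ᵥ a.2 = b.2) ∧
  (Ψc = Ψ₁ ∨ ∃ β, β ∉ ΨL ∧ -β ∉ ΨL ∧ Ψc = Ψ₁ ∪ {β, -β} ∧ ∀ b ∈ Ψ₁, b.1 ⬝ᵥ β.2 = 0 ∧ β.1 ⬝ᵥ b.2 = 0)

/-- `Ψ` is `E₈` and `ΨL` is the standard `E₆` -/
def F8 (Ψ ΨL : RS R) : Prop := ∃ P : Matrix R (Fin 8) ℤ, Tr P (Rc E8) Ψ ∧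
  ∀ a ∈ Rc E8, ∀ b ∈ Ψ, P *ᵥ a.2 = b.2 → (b ∈ ΨL ↔ a.2 5 = 0 ∧ a.2 6 = 0)

/-- **the terminal labels for the prime two** -/
def T7 (Ψ : RS R) (A : Mat R) (ΨL : RS R) (c : Lb R) : Prop :=
  F7 (Zc Ψ c) (Zc ΨL c) ΨL ∧ An (Zc ΨL c) 2 1 A ∧ ∃ (ε : ℤˣ) (lam : Vec R), ΨL = lev Ψ lam ∧ A *ᵥ lam = (ε : ℤ) • lam

/-- dominant -/
def Dom (C : Mat I) (lam : Vec I) : Prop := ∀ i, 0 ≤ (sp C i).1 ⬝ᵥ lam

/-- the nodes which vanish -/
abbrev Jz (C : Mat I) (lam : Vec I) (i : I) : Prop := (sp C i).1 ⬝ᵥ lam = 0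

/-- the inclusion -/
def inc (J : I → Prop) : Matrix I {i // J i} ℤ := (1 : Mat I).submatrix id Subtype.val

/-- the submatrix -/
def res (C : Mat I) (J : I → Prop) : Mat {i // J i} := C.submatrix Subtype.val Subtype.val

/-- `e` is a union of components of `J` with the matrix `c` -/
structure Emb (C : Mat I) (J : I → Prop) (n : ℕ) (c : ℕ → ℕ → ℤ) (e : Fin n → I) : Prop where
  inj : Function.Injective e
  car : ∀ x y, C (e x) (e y) = c x y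
  mem : ∀ x, J (e x)
  cl : ∀ x k, J k → C (e x) k ≠ 0 → k ∈ Set.range e

/-- the component of `j` in `J` has a type which survives -/
def SvE (C : Mat I) (J : I → Prop) (j : I) : Prop :=
  (∃ e, Emb C J 4 (cT 1 4) e ∧ j ∈ Set.range e) ∨ (∃ e, Emb C J 6 (cT 2 6) e ∧ j ∈ Set.range e) ∨
    (∃ e, Emb C J 8 (cT 2 8) e ∧ j ∈ Set.range e) ∨ (∃ e, Emb C J 4 (cF (-1) (-2)) e ∧ j ∈ Set.range e) ∨
    ∃ e, Emb C J 2 (c2 (-1) (-3)) e ∧ j ∈ Set.range e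

end Comb

/-- [Lam] an integral eigenvector which defines the Levi subsystem -/
def BoxLam : Prop := ∀ {R : Type} [Fintype R] [DecidableEq R] (Ψ ΨL : RS R) (A : Mat R) (ε : ℤˣ) (n : ℕ), Ψ.Finite → ΨL ⊆ Ψ → 0 < n →
  A ^ n = 1 → ¬ Eig ΨL A ((ε : ℤ) : ℂ) → (∀ a ∈ Ψ, a ∉ ΨL → ∃ y, IsE A ((ε : ℤ) : ℂ) y ∧ ev a.1 y ≠ 0) →
  ∃ lam, ΨL = lev Ψ lam ∧ A *ᵥ lam = (ε : ℤ) • lam

/-- [Ad] an adapted base -/
def BoxAd : Prop := ∀ {R I : Type} [Fintype R] [DecidableEq R] [Fintype I] [DecidableEq I] (C : Mat I) (d : I → ℤ) (P : Matrix R I ℤ)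
  (Ψ : RS R) (A : Mat R) (ε : ℤ) (lam : Vec R), Car C d → Tr P (Rc C) Ψ → Nm A Ψ → A *ᵥ lam = ε • lam →
  ∃ (P' : Matrix R I ℤ) (X : Mat I) (μ : Vec I), Tr P' (Rc C) Ψ ∧ A * P' = P' * X ∧ X *ᵥ μ = ε • μ ∧ Dom C μ ∧
    ∀ a ∈ Rc C, ∀ b ∈ Ψ, P' *ᵥ a.2 = b.2 → (b.1 ⬝ᵥ lam = 0 ↔ a.1 ⬝ᵥ μ = 0)

/-- [Par] standard parabolic subsystems, the stabiliser of a dominant vector -/
def BoxPar : Prop := ∀ {I : Type} [Fintype I] [DecidableEq I] (C : Mat I) (d : I → ℤ) (μ : Vec I), Car C d → Dom C μ →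
  (∀ a ∈ Rc C, a.1 ⬝ᵥ μ = 0 ↔ ∀ i, ¬ Jz C μ i → a.2 i = 0) ∧ Car (res C (Jz C μ)) (fun i => d i) ∧
    Tr (inc (Jz C μ)) (Rc (res C (Jz C μ))) (lev (Rc C) μ) ∧ ∀ w ∈ Wc C, w *ᵥ μ = μ → w ∈ WW (lev (Rc C) μ)

/-- [Dg] proper subdiagrams of connected diagrams -/
def BoxDg : Prop := ∀ {I : Type} [Fintype I] [DecidableEq I] (C : Mat I) (d : I → ℤ) (J : I → Prop), Car C d → (∀ i j, Cp C i j) →
  (∀ j, J j → SvE C J j) → (∃ j, J j) → (∃ i, ¬ J i) →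
  (∃ σ : Fin 7 ≃ I, (∀ x y, C (σ x) (σ y) = E7 x y) ∧ ∀ x, J (σ x) ↔ x ≠ 5) ∨
  (∃ σ : Fin 8 ≃ I, (∀ x y, C (σ x) (σ y) = E8 x y) ∧ ∀ x, J (σ x) ↔ x ≠ 5 ∧ x ≠ 6) ∨
  ((∃ e, Emb C J 4 (cT 1 4) e) ∧ ∀ π : Equiv.Perm I, (∀ i j, C (π i) (π j) = C i j) → π * π = 1)

/-- [D4] no component `D₄` without triality -/
def BoxD4 : Prop := ∀ {I : Type} [Fintype I] [DecidableEq I] (C : Mat I) (d : I → ℤ) (X : Mat I) (ε : ℤˣ) (μ : Vec I) (e : Fin 4 → I),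
  Car C d → Nm X (Rc C) → X *ᵥ μ = (ε : ℤ) • μ → Dom C μ → Emb C (Jz C μ) 4 (cT 1 4) e →
  (∀ π : Equiv.Perm I, (∀ i j, C (π i) (π j) = C i j) → π * π = 1) → ¬ An (lev (Rc C) μ) 2 1 X

/-- [Cen] fixed labels of order a power of two are central -/
def BoxCn : Prop := ∀ {R I : Type} [Fintype R] [DecidableEq R] [Fintype I] [DecidableEq I] (C : Mat I) (d : I → ℤ) (P : Matrix R I ℤ)
  (Ψ : RS R) (A : Mat R) (q : ℤ) (t : Lb R) (i : ℕ), Car C d → Tr P (Rc C) Ψ → Nm A Ψ → An Ψ 2 1 A → Odd q → t ^ 2 ^ i = 1 →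
  Tl (q • A) t t → Cen Ψ t

/-- [E7] the labels over `(E₇, E₆)` -/
def BoxE7 : Prop := ∀ {R : Type} [Fintype R] [DecidableEq R] (Ψ ΨL : RS R) (c s : Lb R), ΨL ⊆ Ψ → Zc Ψ c ⊆ Zc Ψ s → Zc ΨL c = Zc ΨL s →
  F7 (Zc Ψ s) (Zc ΨL s) ΨL → NoMix Ψ ΨL c ∨ F7 (Zc Ψ c) (Zc ΨL c) ΨL

/-- [E8] the labels over `(E₈, E₆)` -/
def BoxE8 : Prop := ∀ {R : Type} [Fintype R] [DecidableEq R] (Ψ : RS R) (A : Mat R) (q : ℤ) (ε : ℤˣ) (lam : Vec R) (V : Submonoid (Mat R))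
  (c : Lb R), F8 Ψ (lev Ψ lam) → Nm A Ψ → A *ᵥ lam = (ε : ℤ) • lam → Odd q → V ≤ WW Ψ → (∀ v ∈ V, Nm v (lev Ψ lam)) →
  (∀ v ∈ V, ∃ i : ℕ, v ^ 2 ^ i ∈ WW (lev Ψ lam)) → Cen (lev Ψ lam) c →
  ∃ t, Twi q 2 A (lev Ψ lam) V t ∧ (NoMix Ψ (lev Ψ lam) (c * t) ∨ F7 (Zc Ψ (c * t)) (lev Ψ lam) (lev Ψ lam))

/-- [Rk] ranks -/
structure BoxRk : Prop where
  le : ∀ {R I : Type} [Fintype R] [DecidableEq R] [Fintype I] [DecidableEq I] (n : ℕ) (Ψ Ψ₁ : RS R) (C : Mat I) (d : I → ℤ)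
    (P : Matrix R I ℤ), Bs n Ψ → Ψ₁ ⊆ Ψ → Car C d → Tr P (Rc C) Ψ₁ → Fintype.card I ≤ n
  e8 : ∀ {R : Type} [Fintype R] [DecidableEq R] (Ψ Ψ₁ : RS R) (P : Matrix R (Fin 8) ℤ), Bs 8 Ψ → Ψ₁ ⊆ Ψ → Tr P (Rc E8) Ψ₁ →
    ∀ b ∈ Ψ, ∃ x, P *ᵥ x = b.2
  iso : ∀ {R R' : Type} [Fintype R] [DecidableEq R] [Fintype R'] [DecidableEq R'] (n : ℕ) (Ψ : RS R) (Ψ' : RS R'), Bs n Ψ → Iso Ψ Ψ' →
    Bs (Fintype.card R') Ψ
  c7 : Car E7 fun _ => 1
  c8 : Car E8 fun _ => 1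

end Cfsg.Agent.BZ.RT.Z2
end

-- part: BZ/RT/Z2Rk
section
set_option linter.all false
open scoped Cfsg.Agent.FastGrp

/-!
# BZ / RT : the prime two, no component `D₄` without triality; ranks (helper47)
-/

set_option autoImplicit false
set_option linter.unusedSectionVars false

namespace Cfsg.Agent.BZ.RT.Z2

open Cfsg Matrix Cfsg.Agent.DL Cfsg.Agent.HZ.L Cfsg.Agent.BZ.TA Cfsg.Agent.BZ.TA.Cl Cfsg.Agent.OM.Cu

namespace Rk47

variable {R I J : Type} [Fintype R] [DecidableEq R] [Fintype I] [DecidableEq I] [Fintype J] [DecidableEq J]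

/-- square roots of eigenvalues -/
theorem an_sq {Ψ : RS R} {X : Mat R} (h : An Ψ 2 1 X) : An Ψ 2 1 (X * X) := by
  rintro μ ⟨j, hj⟩ ⟨y, hy, a, ha, h0⟩
  obtain ⟨ν, hν⟩ := IsAlgClosed.exists_pow_nat_eq μ two_pos
  have h1 : ∀ η : ℂ, η ^ 2 = μ → Lv 2 1 η := fun η e => ⟨j + 1, by rwa [pow_succ', pow_mul, e]⟩
  have h2 : ν ≠ 0 := fun e => by
    have h3 := hj.pow_eq_one
    rw [← hν, e, pow_one, zero_pow two_ne_zero, zero_pow (pow_ne_zero j two_ne_zero)] at h3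
    exact zero_ne_one h3
  have h3 : ∀ η : ℂ, η ^ 2 = μ → η * ev a.1 y + ev a.1 (X.map (Int.cast : ℤ → ℂ) *ᵥ y) = 0 := fun η e => by
    by_contra k
    refine h η (h1 η e) ⟨η • y + X.map (Int.cast : ℤ → ℂ) *ᵥ y, ?_, a, ha, ?_⟩
    · rw [IsE, TrL.map_mul', ← mulVec_mulVec] at hy
      rw [IsE, mulVec_add, mulVec_smul, hy, smul_add, smul_smul, ← sq, e, add_comm]
    · rwa [ev, dotProduct_add, dotProduct_smul, smul_eq_mul]
  have h4 := h3 ν hν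
  have h5 := h3 (-ν) (by rw [neg_sq, hν])
  exact mul_ne_zero (mul_ne_zero two_ne_zero h2) h0 (by linear_combination h4 - h5)

theorem card_le (M : Matrix R I ℤ) (h : ∀ v, M *ᵥ v = 0 → v = 0) : Fintype.card I ≤ Fintype.card R := by
  have h1 := LinearMap.finrank_le_finrank_of_injective (f := M.mulVecLin) ((injective_iff_map_eq_zero _).2 h)
  rwa [Module.finrank_fintype_fun_eq_card, Module.finrank_fintype_fun_eq_card] at h1

theorem fac {Ψ Ψ₁ : RS R} {Φ : RS J} {Q : Matrix R J ℤ} {C : Mat I} {P : Matrix R I ℤ} (T₀ : Tr Q Φ Ψ) (e : Ψ₁ ⊆ Ψ)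
    (T : Tr P (Rc C) Ψ₁) : ∃ M : Matrix J I ℤ, P = Q * M ∧ ∀ v, M *ᵥ v = 0 → v = 0 := by
  have h1 : ∀ i, ∃ x, Q *ᵥ x = P *ᵥ Pi.single i 1 := fun i => by
    obtain ⟨b, hb, h2, -⟩ := T.up _ (RsP.mem i)
    obtain ⟨a, -, h3, -⟩ := T₀.dn b (e hb)
    exact ⟨a.2, h3.trans h2.symm⟩
  choose x hx using h1
  have h2 : P = Q * (of x)ᵀ := ext_of_mulVec_single fun i => by
    rw [← mulVec_mulVec, ← hx, mulVec_single_one]
    rfl
  exact ⟨_, h2, fun v hv => T.inj v (by rw [h2, ← mulVec_mulVec, hv, mulVec_zero])⟩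

/-- the inverse of the matrix `E8` -/
def iE8 : Mat (Fin 8) := !![4, 7, 10, 8, 6, 4, 2, 5; 7, 14, 20, 16, 12, 8, 4, 10; 10, 20, 30, 24, 18, 12, 6, 15;
  8, 16, 24, 20, 15, 10, 5, 12; 6, 12, 18, 15, 12, 8, 4, 9; 4, 8, 12, 10, 8, 6, 3, 6; 2, 4, 6, 5, 4, 3, 2, 3;
  5, 10, 15, 12, 9, 6, 3, 8]

theorem mul_iE8 : E8 * iE8 = 1 := by decide +kernel

theorem c7 : Car E7 fun _ => 1 := by
  rw [show (fun _ => 1 : Fin 7 → ℤ) = ![1, 1, 1, 1, 1, 1, 1] by decide +kernel]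
  exact Eng.carE7

theorem c8 : Car E8 fun _ => 1 := by
  rw [show (fun _ => 1 : Fin 8 → ℤ) = ![1, 1, 1, 1, 1, 1, 1, 1] by decide +kernel]
  exact Eng.carE8

theorem even4 : ∀ x : Fin 4, (2 : ℤ) ∣ cT 1 4 (0 : Fin 4) x + cT 1 4 (2 : Fin 4) x := by decide +kernel

end Rk47

open Rk47

theorem boxD4 (hP : BoxPar) : BoxD4 := by
  intro I _ _ C d X ε μ e hC hX hμ hd E hπ k
  have H := boxRs C d hC
  obtain ⟨w, hw, π, h1, h2⟩ := boxCh boxRs C d X hC hX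
  obtain ⟨v, hv, h3⟩ := Nm.ww hX (H.ww.ge hw)
  obtain ⟨-, hC', T, h4⟩ := hP C d μ hC hd
  have h5 : X * X = v * w := by
    calc X * X = X * w * pm π := by rw [mul_assoc, ← h2]
      _ = v * (w * pm π) * pm π := by rw [h3, ← h2]
      _ = _ := by rw [mul_assoc, mul_assoc, ← OM.Cu.pm_mul, hπ π h1, OM.Cu.pm_one, mul_one]
  have h6 : X * X ∈ WW (lev (Rc C) μ) := by
    refine h4 _ (h5 ▸ mul_mem (H.ww.le hv) hw) ?_
    rw [← mulVec_mulVec, hμ, mulVec_smul, hμ, smul_smul, ← Units.val_mul, Int.units_mul_self, Units.val_one, one_smul]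
  obtain ⟨w', h7, h8⟩ := T.ww_dn h6
  have H' := boxRs _ _ hC'
  obtain ⟨u, hu⟩ := fix_two (C := res C (Jz C μ)) (v := Pi.single ⟨e 0, E.mem 0⟩ 1 + Pi.single ⟨e 2, E.mem 2⟩ 1) (fun i => by
    rw [dotProduct_add, dotProduct_single_one, dotProduct_single_one]
    show 2 ∣ C (e 0) i.1 + C (e 2) i.1
    by_cases hi : i.1 ∈ Set.range e
    · obtain ⟨x, hx⟩ := hi
      rw [← hx, E.car, E.car]
      exact even4 x
    · rw [of_not_not fun h => hi (E.cl 0 _ i.2 h), of_not_not fun h => hi (E.cl 2 _ i.2 h)]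
      exact dvd_zero _) (H'.ww.le h7)
  refine not_an H' (H'.nm w' (H'.ww.le h7)) (i := ⟨e 0, E.mem 0⟩) ?_ hu fun ν hν h9 => an_sq k ν hν (T.eig_up h8 h9)
  rw [Pi.add_apply, Pi.single_eq_same, Pi.single_eq_of_ne fun h => absurd (E.inj (Subtype.ext_iff.1 h)) (by decide), add_zero]
  exact odd_one

theorem boxRk : BoxRk where
  le := by
    rintro R I _ _ _ _ n Ψ Ψ₁ C d P ⟨m, C₀, d₀, Q, hm, -, T₀⟩ e - T
    obtain ⟨M, -, h⟩ := fac T₀ e T
    exact (card_le M h).trans (by rwa [Fintype.card_fin])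
  e8 := by
    rintro R _ _ Ψ Ψ₁ P ⟨m, C₀, d₀, Q, hm, -, T₀⟩ e T b hb
    obtain ⟨M, h1, h2⟩ := fac T₀ e T
    have h3 := card_le M h2
    rw [Fintype.card_fin, Fintype.card_fin] at h3
    obtain rfl : m = 8 := le_antisymm hm h3
    have h4 : M.det ≠ 0 := fun h0 => by
      obtain ⟨v, hv, h5⟩ := Matrix.exists_mulVec_eq_zero_iff.2 h0
      exact hv (h2 v h5)
    obtain ⟨a, -, h5, -⟩ := T₀.dn b hb
    have h6 : P *ᵥ (adjugate M *ᵥ a.2) = M.det • b.2 := by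
      rw [h1, ← mulVec_mulVec, mulVec_mulVec a.2, mul_adjugate, smul_mulVec, one_mulVec, mulVec_smul, h5]
    have h7 : ∀ i, ∃ z, ((adjugate M *ᵥ a.2) ᵥ* E8) i = M.det * z := fun i => by
      obtain ⟨c, -, -, h8⟩ := T.up _ (RsP.mem i)
      exact ⟨c.1 ⬝ᵥ b.2, by rw [← RsP.sp_dot, ← h8, ← dotProduct_mulVec, h6, dotProduct_smul, smul_eq_mul]⟩
    choose z hz using h7
    have h8 : adjugate M *ᵥ a.2 = M.det • (z ᵥ* iE8) := by
      rw [← smul_vecMul, ← show (adjugate M *ᵥ a.2) ᵥ* E8 = M.det • z from funext hz, vecMul_vecMul, mul_iE8, vecMul_one]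
    rw [h8, mulVec_smul] at h6
    exact ⟨_, smul_right_injective _ h4 h6⟩
  iso := by
    rintro R R' _ _ _ _ n Ψ Ψ' ⟨m, C, d, P, -, hC, T⟩ ⟨φ, hφ⟩
    refine ⟨m, C, d, P, ?_, hC, T⟩
    choose b hb h1 h2 using fun i => T.up _ (RsP.mem (C := C) i)
    have h3 := card_le (of fun j => (φ ⟨b j, hb j⟩).1.2)ᵀ fun v hv => RsP.top₀ hC (funext fun i => by
      have h4 := congrArg ((φ ⟨b i, hb i⟩).1.1 ⬝ᵥ ·) hv
      simp only [dotProduct_zero] at h4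
      rw [dotProduct_mulVec, dotProduct_comm, vecMul_transpose] at h4
      refine Eq.trans (congrArg (v ⬝ᵥ ·) (funext fun j => ?_)) h4
      have h5 := hφ ⟨b i, hb i⟩ ⟨b j, hb j⟩
      simp only [← h1, dotProduct_mulVec, h2] at h5
      rw [dotProduct_comm] at h5
      have h6 : (sp C i).1 ⬝ᵥ (sp C j).2 = C j i := dotProduct_single_one (sp C i).1 j
      exact h6.symm.trans h5.symm)
    rwa [Fintype.card_fin] at h3
  c7 := c7
  c8 := c8

end Cfsg.Agent.BZ.RT.Z2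
end

-- part: BZ/RT/Z2E7
section
prune_inst 0x8000000000000000000000000000014010000
set_option linter.all false
open scoped Cfsg.Agent.FastGrp

/-!
# BZ / RT : the labels over `(E₇, E₆)` (helper48)
-/

set_option autoImplicit false
set_option linter.unusedSectionVars false

namespace Cfsg.Agent.BZ.RT.Z2

open Cfsg Matrix Cfsg.Agent.DL Cfsg.Agent.HZ.L Cfsg.Agent.BZ.TA Cfsg.Agent.BZ.TA.Cl Cfsg.Agent.OM.Cu
open Cfsg.Agent.HZ.L.X (Zc Cen)

namespace E7P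

variable {R I : Type} [Fintype R] [DecidableEq R] [Fintype I] [DecidableEq I]

/-- all the roots of a simply laced system have the norm two -/
theorem fm_two {C : Mat I} (h : Car C fun _ => 1) {a : Vec I × Vec I} (ha : a ∈ Rc C) : fm C (fun _ => 1) a.2 a.2 = 2 := by
  obtain ⟨w, hw, i, h1, -⟩ := ha
  rw [← h1, RsP.iso h hw, RsP.fm_sp, RsP.sp_two h, one_mul]

theorem fm_nonneg {C : Mat I} {d : I → ℤ} (h : Car C d) (v : Vec I) : 0 ≤ fm C d v v := by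
  by_contra h0
  have h1 := RsP.fm_zero h (not_le.1 h0).le
  rw [h1] at h0
  exact h0 (by simp [fm])

/-- twice the fundamental weight of the node `5` -/
def u5 : Vec (Fin 7) := ![2, 4, 6, 5, 4, 3, 3]

theorem u5_mul : u5 ᵥ* E7 = Pi.single 5 2 := by decide +kernel

theorem fm_u5 (v : Vec (Fin 7)) : fm E7 (fun _ => 1) v u5 = 2 * v 5 := by
  rw [fm, u5_mul, Finset.sum_eq_single 5]
  · rw [Pi.single_eq_same]; ring
  · intro j _ hj
    rw [Pi.single_eq_of_ne hj, mul_zero]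
  · exact fun hi => (hi (Finset.mem_univ _)).elim

/-- the node `5` is minuscule -/
theorem five (h : Car E7 fun _ => 1) {a : Vec (Fin 7) × Vec (Fin 7)} (ha : a ∈ Rc E7) : a.2 5 = 0 ∨ a.2 5 = 1 ∨ a.2 5 = -1 := by
  have h1 := fm_nonneg h ((3 : ℤ) • a.2 - a.2 5 • u5)
  rw [RsP.fm_sub, RsP.fm_sub', RsP.fm_sub', RsP.fm_smul, RsP.fm_smul, RsP.fm_smul, RsP.fm_smul, RsP.fm_smul', RsP.fm_smul',
    RsP.fm_smul', RsP.fm_smul', RsP.fm_comm h u5 a.2, fm_two h ha, fm_u5, fm_u5, show u5 5 = 3 from rfl] at h1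
  have h2 : a.2 5 ≤ 1 := by nlinarith
  have h3 : -1 ≤ a.2 5 := by nlinarith
  omega

/-- a label which is trivial on all but one of the basis vectors -/
theorem chr_one (P : Matrix R I ℤ) (c : Lb R) (i : I) (h : ∀ j, j ≠ i → chr (P *ᵥ Pi.single j 1) c = 1) (v : Vec I) :
    chr (P *ᵥ v) c = chr (P *ᵥ Pi.single i 1) c ^ v i := by
  have e : v = ∑ j, v j • (Pi.single j 1 : Vec I) := by
    funext x
    simp [Finset.sum_apply, Pi.single_apply]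
  conv_lhs => rw [e, mulVec_sum, chr_sum]
  rw [Finset.prod_eq_single i]
  · rw [mulVec_smul, chr_zsmul]
  · intro j _ hj
    rw [mulVec_smul, chr_zsmul, h j hj, _root_.one_zpow]
  · exact fun hi => (hi (Finset.mem_univ _)).elim

end E7P

/-- **[E7]** -/
theorem boxE7 (h : Car E7 fun _ => 1) : BoxE7 := by
  intro R _ _ Ψ ΨL c s _ h2 h3 ⟨P, Ψ₁, T, h0, hc⟩
  have s1 : Ψ₁ ⊆ Zc Ψ s := by
    rcases hc with e | ⟨β, -, -, e, -⟩
    · exact e.ge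
    · exact e ▸ Set.subset_union_left
  have k : ∀ v, chr (P *ᵥ v) c = chr (P *ᵥ Pi.single 5 1) c ^ v 5 := E7P.chr_one P c 5 fun j hj => by
    obtain ⟨b, b1, b2, -⟩ := T.up _ (RsP.mem (C := E7) j)
    have b3 : b ∈ Zc ΨL c := h3 ▸ (h0 b).2 ⟨b1, _, RsP.mem j, Pi.single_eq_of_ne hj.symm _, b2⟩
    exact (congrArg (fun v => chr v c) b2).trans b3.2
  by_cases x1 : chr (P *ᵥ Pi.single 5 1) c = 1
  · have s2 : Ψ₁ ⊆ Zc Ψ c := fun b hb => by
      obtain ⟨a, -, a2, -⟩ := T.dn b hb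
      exact ⟨(s1 hb).1, by rw [← a2, k, x1, _root_.one_zpow]⟩
    refine .inr ⟨P, Ψ₁, T, fun b => h3 ▸ h0 b, ?_⟩
    rcases hc with e | ⟨β, b1, b2, e, b3⟩
    · exact .inl (Set.Subset.antisymm (e ▸ h2) s2)
    · have n : chr (-β).2 c = 1 ↔ chr β.2 c = 1 := by rw [Prod.snd_neg, chr_neg, inv_eq_one]
      by_cases y1 : chr β.2 c = 1
      · refine .inr ⟨β, b1, b2, Set.Subset.antisymm (e ▸ h2) (Set.union_subset s2 ?_), b3⟩
        rintro b (rfl | rfl)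
        · exact ⟨(e.ge (.inr (.inl rfl))).1, y1⟩
        · exact ⟨(e.ge (.inr (.inr rfl))).1, n.2 y1⟩
      · refine .inl (Set.Subset.antisymm (fun b hb => ?_) s2)
        rcases e.le (h2 hb) with m | rfl | rfl
        · exact m
        · exact (y1 hb.2).elim
        · exact (y1 (n.1 hb.2)).elim
  · refine .inl fun a ha na b hb => ?_
    have n1 : a ∉ Ψ₁ := fun m => by
      obtain ⟨a', a1, a2, -⟩ := T.dn a m
      have a3 := ha.2
      rw [← a2, k] at a3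
      rcases E7P.five h a1 with e | e | e
      · exact na ((h0 a).2 ⟨m, a', a1, e, a2⟩).1
      · exact x1 (by rwa [e, zpow_one] at a3)
      · exact x1 (by rwa [e, _root_.zpow_neg, zpow_one, inv_eq_one] at a3)
    have m1 : b ∈ Ψ₁ := ((h0 b).1 (h3 ▸ hb)).1
    rcases hc with e | ⟨β, -, -, e, b3⟩
    · exact (n1 (e.le (h2 ha))).elim
    · rcases e.le (h2 ha) with m | rfl | rfl
      · exact (n1 m).elim
      · exact (b3 b m1).1
      · rw [Prod.snd_neg, dotProduct_neg, (b3 b m1).1, neg_zero]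

end Cfsg.Agent.BZ.RT.Z2
end

-- part: BZ/RT/C5D
section
set_option linter.all false

/-!
# BZ / RT : the exceptional types at the primes for which the Levi subsystem has type `A`, statements (helper2)
-/

set_option autoImplicit false
set_option linter.unusedSectionVars false

namespace Cfsg.Agent.BZ.RT.C5

open Cfsg Matrix Polynomial Cfsg.Agent.DL Cfsg.Agent.DL.PP Cfsg.Agent.KZ.Lie Cfsg.Agent.HZ.L Cfsg.Agent.BZ.TA Cfsg.Agent.BZ.TA.Cl
  Cfsg.Agent.OM.Cu Cfsg.Agent.OM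

/-- [A] no cuspidal function inside an inner system of type `A` -/
def BoxA : Prop := ∀ {R I : Type} [Fintype R] [DecidableEq R] [Fintype I] [DecidableEq I] (C : Mat I) (D : I → ℤ) (P : Matrix R I ℤ)
  (Θ Φ : RS R) (A : Mat R) (w : Mat I) (ε : ℤˣ) (e : I → ℕ) (d : ℕ) (f : Mat R → ℂ), Car C D → Tr P (Rc C) Θ → Function.Injective e →
  (∀ i j, C i j = cA (e i) (e j)) → w ∈ Wc C → A * P = P * ((ε : ℤ) • w) → Nm A Θ → Φ ⊆ Θ → Nm A Φ → (∀ b ∈ Φ, Nm (rfm b) Φ) →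
  IsPrimitiveRoot ((ε : ℤ) : ℂ) d → Hy0 Φ A d f → f A ≠ 0 → Φ = ∅

/-- [Ld] an integral vector in the kernel of `Φ_d(A)` which defines the Levi subsystem -/
def BoxLd : Prop := ∀ {R : Type} [Fintype R] [DecidableEq R] (Ψ ΨL : RS R) (A : Mat R) (d n : ℕ), Ψ.Finite → ΨL ⊆ Ψ → 0 < d → 0 < n →
  A ^ n = 1 → ¬ Cu.Bad ΨL d A → (∀ a ∈ Ψ, a ∉ ΨL → ∃ μ y, IsPrimitiveRoot μ d ∧ IsE A μ y ∧ ev a.1 y ≠ 0) →
  ∃ lam, ΨL = lev Ψ lam ∧ aeval A (cyclotomic d ℤ) *ᵥ lam = 0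

/-- [Rk] the rank of the moved lattice -/
def BoxRk : Prop := ∀ {I J : Type} [Fintype I] [DecidableEq I] [Fintype J] [DecidableEq J] (L : RS I) (X v : Mat I) (l d : ℕ) (μ : Vec I)
  (u : Matrix I J ℤ), l.Prime → ¬ l ∣ d → v ^ l = 1 →
  (∀ y, Perp L y → Perp L (X *ᵥ y) ∧ Perp L (v *ᵥ y) ∧ X *ᵥ (v *ᵥ y) = v *ᵥ (X *ᵥ y)) → Perp L μ →
  aeval X (cyclotomic d ℤ) *ᵥ μ = 0 → v *ᵥ μ ≠ μ → (∀ β, u *ᵥ β = 0 → β = 0) → v * u = u →
  d.totient * (l - 1) + Fintype.card J ≤ Fintype.card I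

/-- the finite facts on a type -/
structure Ok {n : ℕ} (C : Mat (Fin n)) (l : ℕ) : Prop where
  car : ∃ D, Car C D
  two : l ≠ 2
  rk : n ≤ 2 * (l - 1)
  cyc : ∃ (col : Fin n → Bool) (m : ℕ) (mt : Fin n → Fin m), m < l ∧ (∀ x y, x ≠ y → C x y ≠ 0 → col x ≠ col y) ∧
    ∀ x y, mt x = mt y → x ≠ y → C x y ≠ 0 ∨ ∀ i, 2 ∣ C x i + C y i
  fin : ∀ J : Finset (Fin n), J.card + (l - 1) ≤ n →
    (J.card + (l - 1) = n ∧ ∃ (x : Fin n) (t : Finset (Fin n)), t ⊆ J ∧ (∀ i ∈ J, 2 ∣ ∑ j ∈ t, C i j) ∧ ¬ 2 ∣ ∑ j ∈ t, C x j) ∨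
    ((∃ e : Fin n → ℕ, ∀ i ∈ J, ∀ j ∈ J, C i j = cA (e i) (e j) ∧ (e i = e j → i = j)) ∧
      ∀ π : Equiv.Perm (Fin n), (∀ i j, C (π i) (π j) = C i j) → (∀ j ∈ J, π j ∈ J) → ∀ j ∈ J, π j = j)

/-- [Ty] the tables -/
structure BoxOk : Prop where
  e6 : ∀ l, l = 5 ∨ l = 7 → Ok (cm 6 (cT 2 6)) l
  e7 : ∀ l, l = 5 ∨ l = 7 → Ok (cm 7 (cT 2 7)) l
  e8 : ∀ l, l = 5 ∨ l = 7 → Ok (cm 8 (cT 2 8)) l
  g2 : Ok (cm 2 (c2 (-1) (-3))) 3
  f4 : Ok (cm 4 (cF (-1) (-2))) 3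
  d4 : Ok (cm 4 (cT 1 4)) 3

variable {p : ℕ} [Fact p.Prime] {k : Type} [Field k] [CharP k p] [IsAlgClosed k] {Y : Type} [Group Y] {N : Type}
  [Fintype N] [DecidableEq N] {ρ : Y →* GL N k} {F : MulAut Y} {G : Subgroup Y} (D : Datum p ρ F G)

/-- a base with a standard matrix -/
def Sb (n : ℕ) (c : ℕ → ℕ → ℤ) : Prop := ∃ P : Matrix D.R (Fin n) ℤ, Tr P (Rc (cm n c)) (rts D)

/-- [Fr] the standard bases -/
structure BoxFr : Prop where
  e6 : Iso (rts D) U.PE6 → Sb D 6 (cT 2 6)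
  e7 : Iso (rts D) (U.Ph Lie.chevE7 7 (ChevalleyStructure.CoxeterGeomTypes.cartanOf Lie.chevE7 7)) → Sb D 7 (cT 2 7)
  e8 : Iso (rts D) U.PE8 → Sb D 8 (cT 2 8)
  g2 : Iso (rts D) U.PG2 → Sb D 2 (c2 (-1) (-3))
  f4 : Iso (rts D) U.PF4 → Sb D 4 (cF (-1) (-2))
  d4 : Iso (rts D) U.PD4 → Sb D 4 (cT 1 4)

/-- the types and primes -/
def Ty5 (l : ℕ) : Prop :=
  ((l = 5 ∨ l = 7) ∧ (Iso (rts D) U.PE6 ∨
    Iso (rts D) (U.Ph Lie.chevE7 7 (ChevalleyStructure.CoxeterGeomTypes.cartanOf Lie.chevE7 7)) ∨ Iso (rts D) U.PE8)) ∨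
  (l = 3 ∧ (Iso (rts D) U.PG2 ∨ Iso (rts D) U.PF4 ∨ Iso (rts D) U.PD4))

/-- **the aim** -/
def BoxC5 : Prop := ∀ (B : Mat D.R) (l : ℕ) (z : Prop) (T : Mat D.R → RS D.R → Lb D.R → Prop), Ty5 D l → Cmb D B l z T

end Cfsg.Agent.BZ.RT.C5
end

-- part: BZ/RT/Cx/Defs
section
prune_inst 0x8000000000000000000000000000014010000
set_option linter.all false

/-!
# BZ / RT : the types `E₆`, `E₇`, `E₈` at the prime three, statements (helper28)

Everything happens in the standard system `Rc (En n)`; `μ` is dominant, `lev (Rc C) μ` is the Levi subsystem, `X` is `± A`.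
Paper proofs: `notes/BZ/cx.md`.
-/

set_option autoImplicit false
set_option linter.unusedSectionVars false

namespace Cfsg.Agent.BZ.RT.Cx

open Cfsg Matrix Cfsg.Agent.DL Cfsg.Agent.DL.PP Cfsg.Agent.KZ.Lie Cfsg.Agent.HZ.L Cfsg.Agent.BZ.TA Cfsg.Agent.BZ.TA.Cl
  Cfsg.Agent.OM.Cu Cfsg.Agent.OM Cfsg.Agent.BZ.RT.Z2
open Cfsg.Agent.HZ.L.X (Zc Cen)

/-- the path `0 - 1 - ⋯ - (n - 2)`, the node `n - 1` is attached to the node `2` -/
abbrev En (n : ℕ) : Mat (Fin n) := cm n (cT 2 n)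

/-- the nodes of `D₄` -/
def Dn (n : ℕ) (i : Fin n) : Prop := (i : ℕ) = 1 ∨ (i : ℕ) = 2 ∨ (i : ℕ) = 3 ∨ (i : ℕ) + 1 = n

/-- the standard `D₄` -/
def D4 (n : ℕ) : RS (Fin n) := {a | a ∈ Rc (En n) ∧ ∀ i, ¬ Dn n i → a.2 i = 0}

/-- the three ranks -/
def R3 (n : ℕ) : Prop := n = 6 ∨ n = 7 ∨ n = 8

section Comb

variable {R I : Type} [Fintype R] [DecidableEq R] [Fintype I] [DecidableEq I]

/-- `Ψc` is `E₆` plus an orthogonal system which is fixed by `X`, `Ψ₀` is the standard `D₄`, `X` acts on `E₆` through `W(D₄)` -/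
def F6 (Ψc Ψ₀ ΨL : RS R) (X : Mat R) : Prop := ∃ (P : Matrix R (Fin 6) ℤ) (Ψ₁ : RS R) (h : Mat (Fin 6)), Tr P (Rc (En 6)) Ψ₁ ∧ Ψ₁ ⊆ Ψc ∧
  (∀ b, b ∈ Ψ₀ ↔ b ∈ Ψ₁ ∧ ∃ a ∈ D4 6, P *ᵥ a.2 = b.2) ∧ h ∈ WW (D4 6) ∧ X * P = P * h ∧
  ∀ β ∈ Ψc, β ∉ Ψ₁ → β ∉ ΨL ∧ X *ᵥ β.2 = β.2 ∧ β.1 ᵥ* X = β.1 ∧ ∀ b ∈ Ψ₁, b.1 ⬝ᵥ β.2 = 0 ∧ β.1 ⬝ᵥ b.2 = 0

/-- **the terminal labels for the prime three** -/
def T6 (Ψ : RS R) (A : Mat R) (ΨL : RS R) (c : Lb R) : Prop :=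
  ∃ (ε : ℤˣ) (lam : Vec R), ΨL = lev Ψ lam ∧ A *ᵥ lam = (ε : ℤ) • lam ∧ F6 (Zc Ψ c) (Zc ΨL c) ΨL ((ε : ℤ) • A)

/-- the number of the nodes which do not vanish -/
noncomputable def co (C : Mat I) (μ : Vec I) : ℕ := {i | ¬ Jz C μ i}.ncard

/-- the group data -/
structure Mg (C : Mat I) (μ : Vec I) (X : Mat I) (G : Submonoid (Mat I)) : Prop where
  dom : Dom C μ
  nm : Nm X (Rc C)
  fx : X *ᵥ μ = μ
  ell : ¬ Eig (lev (Rc C) μ) X 1
  gw : G ≤ Wc C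
  wg : WW (lev (Rc C) μ) ≤ G
  gn : ∀ g ∈ G, Nm g (lev (Rc C) μ) ∧ ∃ h ∈ WW (lev (Rc C) μ), g * X = h * X * g
  gl : ∀ g ∈ G, ∃ i : ℕ, g ^ 3 ^ i ∈ WW (lev (Rc C) μ)
  ne : ∃ g ∈ G, g ∉ WW (lev (Rc C) μ)

/-- a subsystem -/
structure Ms (C : Mat I) (μ : Vec I) (X : Mat I) (G : Submonoid (Mat I)) (Φ : RS I) : Prop extends Mg C μ X G where
  sub : Φ ⊆ Rc C
  ng : ∀ a ∈ Φ, -a ∈ Φ
  cl : ∀ a ∈ Φ, Nm (rfm a) Φ
  nx : Nm X Φ
  vc : ∀ g ∈ G, ∃ h ∈ WW (lev (Rc C) μ), h * g ∈ WW Φ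
  hy : ∃ f, Hy0 (lev Φ μ) X 1 f ∧ f X ≠ 0
  an : An (lev Φ μ) 3 1 X

/-- the labels -/
structure Md (C : Mat I) (μ : Vec I) (X : Mat I) (G : Submonoid (Mat I)) (q : ℤ) (c s t : Lb I) : Prop extends Mg C μ X G where
  q3 : 3 ∣ q - 1
  cs : c = s * t
  tp : ∃ i : ℕ, t ^ 3 ^ i = 1
  od : ∃ n, ¬ 3 ∣ n ∧ s ^ n = 1
  fc : Tl (q • X) c c
  fs : Tl (q • X) s s
  vc : ∀ g ∈ G, ∃ h ∈ WW (lev (Rc C) μ), h * g ∈ WW (Zc (Rc C) c)
  hy : ∃ f, Hy0 (lev (Zc (Rc C) c) μ) X 1 f ∧ f X ≠ 0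
  an : An (lev (Zc (Rc C) s) μ) 3 1 X

/-- mixed roots -/
def Mx (Φ : RS I) (μ : Vec I) (a : Vec I × Vec I) : Prop := a ∈ Φ ∧ a.1 ⬝ᵥ μ ≠ 0 ∧ ∃ b ∈ lev Φ μ, b.1 ⬝ᵥ a.2 ≠ 0

/-- no mixed roots -/
def NM (Φ : RS I) (μ : Vec I) : Prop := ∀ a, ¬ Mx Φ μ a

/-- `y a` is twice the projection of the mixed root `a` to the fixed space; the vectors are orthogonal up to signs -/
def Ot (C : Mat I) (μ : Vec I) (X : Mat I) (Φ : RS I) : Prop := ∃ y : Vec I × Vec I → Vec I, ∀ a, Mx Φ μ a →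
  X *ᵥ y a = y a ∧ (∀ v, X *ᵥ v = v → fm C (fun _ => 1) v (y a) = 2 * (a.1 ⬝ᵥ v)) ∧ ¬ (3 : ℤ) ∣ a.1 ⬝ᵥ y a ∧
    ∀ b, Mx Φ μ b → y b = y a ∨ y b = -y a ∨ b.1 ⬝ᵥ y a = 0

/-- fixed modulo three -/
def Ad (X : Mat I) (G : Submonoid (Mat I)) (x : Vec I) : Prop :=
  (∀ i, (3 : ℤ) ∣ (X *ᵥ x - x) i) ∧ ∀ g ∈ G, ∀ i, (3 : ℤ) ∣ (g *ᵥ x - x) i

/-- the roots which vanish modulo three -/
def Zx (Φ : RS I) (x : Vec I) : RS I := {a | a ∈ Φ ∧ (3 : ℤ) ∣ a.1 ⬝ᵥ x}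

/-- good subsystems -/
def Gd (C : Mat I) (μ : Vec I) (X : Mat I) (Φ : RS I) : Prop := NM Φ μ ∨ F6 Φ (lev Φ μ) (lev (Rc C) μ) X

/-- the result in the standard system -/
def Out (z : Prop) (C : Mat I) (μ : Vec I) (X : Mat I) (G : Submonoid (Mat I)) (c s t : Lb I) : Prop :=
  Gd C μ X (Zc (Rc C) c) ∨ (¬ z ∧ Cen (lev (Rc C) μ) t ∧ ∃ x, Ad X G x ∧ Gd C μ X (Zx (Zc (Rc C) s) x))

/-- the link with the standard system -/
structure Lk (Ψ ΨL : RS R) (A : Mat R) (V : Submonoid (Mat R)) (ε : ℤˣ) (lam : Vec R) (P : Matrix R I ℤ) (C : Mat I) (μ : Vec I)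
    (X : Mat I) (G : Submonoid (Mat I)) : Prop where
  tr : Tr P (Rc C) Ψ
  lv : ΨL = lev Ψ lam
  al : A *ᵥ lam = (ε : ℤ) • lam
  px : ((ε : ℤ) • A) * P = P * X
  jz : ∀ a ∈ Rc C, ∀ b ∈ Ψ, P *ᵥ a.2 = b.2 → (b ∈ ΨL ↔ a.1 ⬝ᵥ μ = 0)
  gv : ∀ v ∈ V, ∃ g ∈ G, v * P = P * g

end Comb

/-- all nodes of `D₄` vanish -/
def JD (n : ℕ) (μ : Vec (Fin n)) : Prop := ∀ i, Dn n i → Jz (En n) μ i

/-- the Levi subsystem is `D₄`, `D₄ A₁` or `D₄ A₂` -/
def J4 (n : ℕ) (μ : Vec (Fin n)) : Prop := JD n μ ∧ ∀ i, Jz (En n) μ i → Dn n i ∨ (n = 8 ∧ 5 ≤ (i : ℕ))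

/-- [Dn] down to the standard system -/
def BoxDn : Prop := ∀ {R I : Type} [Fintype R] [DecidableEq R] [Fintype I] [DecidableEq I] (C : Mat I) (P₀ : Matrix R I ℤ) (Ψ ΨL : RS R)
  (q : ℤ) (d : ℕ) (A : Mat R) (V : Submonoid (Mat R)) (c s : Lb R), Car C (fun _ => 1) → Tr P₀ (Rc C) Ψ → Sc 3 Ψ →
  Cb Ψ q 3 d A ΨL V c s → ∃ (ε : ℤˣ) (lam : Vec R) (P : Matrix R I ℤ) (μ : Vec I) (X : Mat I) (G : Submonoid (Mat I)) (t : Lb R) (i : ℕ),
    c = s * t ∧ t ^ 3 ^ i = 1 ∧ Lk Ψ ΨL A V ε lam P C μ X G ∧ Md C μ X G (q * ε) (pl P c) (pl P s) (pl P t)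

/-- [Up] back -/
def BoxUp : Prop := ∀ {R I : Type} [Fintype R] [DecidableEq R] [Fintype I] [DecidableEq I] (C : Mat I) (Ψ ΨL : RS R)
  (q : ℤ) (d : ℕ) (A : Mat R) (V : Submonoid (Mat R)) (c s t : Lb R) (i : ℕ) (ε : ℤˣ) (lam : Vec R) (P : Matrix R I ℤ) (μ : Vec I)
  (X : Mat I) (G : Submonoid (Mat I)) (z : Prop), Car C (fun _ => 1) → Cb Ψ q 3 d A ΨL V c s → c = s * t → t ^ 3 ^ i = 1 →
  Lk Ψ ΨL A V ε lam P C μ X G → Md C μ X G (q * ε) (pl P c) (pl P s) (pl P t) → Out z C μ X G (pl P c) (pl P s) (pl P t) →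
    ∃ t', Twi q 3 A ΨL V t' ∧ (z → t' = 1) ∧ (NoMix Ψ ΨL (c * t') ∨ T6 Ψ A ΨL (c * t'))

/-- [AnI] `q X - 1` is invertible at three on the lattice of the coroots -/
def BoxAnI : Prop := ∀ {I : Type} [Fintype I] [DecidableEq I] (C : Mat I) (d : I → ℤ) (L : RS I) (X : Mat I) (q : ℤ), Car C d →
  L ⊆ Rc C → Nm X (Rc C) → Nm X L → An L 3 1 X → 3 ∣ q - 1 → ∀ v ∈ Submodule.span ℤ (Prod.snd '' L),
    ∃ (k : ℤ) (u : Vec I), ¬ 3 ∣ k ∧ u ∈ Submodule.span ℤ (Prod.snd '' L) ∧ (q • X - 1) *ᵥ u = k • v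

/-- [Rk] the group needs two dimensions -/
def BoxRk3 : Prop := ∀ {I : Type} [Fintype I] [DecidableEq I] (C : Mat I) (d : I → ℤ) (μ : Vec I) (X : Mat I) (G : Submonoid (Mat I)),
  Car C d → Mg C μ X G → 2 ≤ co C μ ∧ ∀ y, y ≠ 0 → Perp (lev (Rc C) μ) y → (∀ g ∈ G, g *ᵥ y = y) → 3 ≤ co C μ

/-- [TW] the twist for an orthogonal system; no twist in dimension two -/
def BoxTW : Prop := ∀ {I : Type} [Fintype I] [DecidableEq I] (C : Mat I) (μ : Vec I) (X : Mat I) (G : Submonoid (Mat I)) (Φ : RS I),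
  Car C (fun _ => 1) → Ms C μ X G Φ → Ot C μ X Φ → (∃ x, Ad X G x ∧ NM (Zx Φ x) μ) ∧ (co C μ ≤ 2 → NM Φ μ)

/-- [Tab] the Levi subsystems which contain `D₄` -/
structure BoxTab : Prop where
  e6 : ∀ μ X G, Mg (En 6) μ X G → JD 6 μ → J4 6 μ
  e7 : ∀ μ X G, Mg (En 7) μ X G → JD 7 μ → J4 7 μ
  e8 : ∀ μ X G, Mg (En 8) μ X G → JD 8 μ → J4 8 μ ∨ (¬ Jz (En 8) μ 5 ∧ ¬ Jz (En 8) μ 6)

/-- [TA] type `A` -/
def BoxTA : Prop := ∀ n, R3 n → ∀ μ X G Φ, Ms (En n) μ X G Φ → X ∈ Wc (En n) → ¬ JD n μ → lev Φ μ = ∅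

/-- [Tw] the twisted `E₆` -/
def BoxTw6 : Prop := ∀ μ X G Φ, Ms (En 6) μ X G Φ → X ∉ Wc (En 6) → lev Φ μ = ∅

/-- [AnJ] `D₄`, `D₄ A₁`, `D₅` -/
def BoxAnJ : Prop := ∀ n, R3 n → ∀ μ X G, Mg (En n) μ X G → X ∈ Wc (En n) → JD n μ → n ≤ co (En n) μ + 5 →
  An (lev (Rc (En n)) μ) 3 1 X

/-- [Sh] the shapes over `D₄`, `D₄ A₁`, `D₄ A₂` -/
def BoxSh : Prop := ∀ n, R3 n → ∀ μ X G Φ, Ms (En n) μ X G Φ → X ∈ Wc (En n) → J4 n μ → lev Φ μ = D4 n ∨ Ot (En n) μ X Φ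

/-- [Om] the systems over `D₄` -/
def BoxOm : Prop := ∀ n, R3 n → ∀ μ X G Φ, Ms (En n) μ X G Φ → X ∈ Wc (En n) → J4 n μ → lev Φ μ = D4 n →
  Ot (En n) μ X Φ ∨ ∃ x, Ad X G x ∧ F6 (Zx Φ x) (D4 n) (lev (Rc (En n)) μ) X ∧ (co (En n) μ ≤ 2 → x = 0)

/-- [S5] the shapes over `D₅` -/
def BoxS5 : Prop := ∀ μ X G Φ, Ms (En 8) μ X G Φ → X ∈ Wc (En 8) → JD 8 μ → ¬ Jz (En 8) μ 5 → ¬ Jz (En 8) μ 6 →
  (Jz (En 8) μ 0 ↔ ¬ Jz (En 8) μ 4) → Ot (En 8) μ X Φ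

/-- [S6] the shapes over `E₆` -/
def BoxS6 : Prop := ∀ μ X G Φ, Ms (En 8) μ X G Φ → X ∈ Wc (En 8) → JD 8 μ → ¬ Jz (En 8) μ 5 → ¬ Jz (En 8) μ 6 →
  Jz (En 8) μ 0 → Jz (En 8) μ 4 → NM Φ μ

/-- the boxes -/
structure Bc : Prop where
  dn : BoxDn
  up : BoxUp
  ani : BoxAnI
  tw : BoxTW
  tab : BoxTab
  ta : BoxTA
  tw6 : BoxTw6
  anj : BoxAnJ
  sh : BoxSh
  om : BoxOm
  s5 : BoxS5
  s6 : BoxS6

variable {p : ℕ} [Fact p.Prime] {k : Type} [Field k] [CharP k p] [IsAlgClosed k] {Y : Type} [Group Y] {N : Type}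
  [Fintype N] [DecidableEq N] {ρ : Y →* GL N k} {F : MulAut Y} {G : Subgroup Y} (D : Datum p ρ F G)

/-- **the aim** -/
def BoxC3 : Prop := ∀ n, R3 n → C5.Sb D n (cT 2 n) → Lie.SC 3 (rts D) → ∀ B : Mat D.R, Cmb D B 3 (n = 6) (T6 (rts D))

end Cfsg.Agent.BZ.RT.Cx
end

-- part: BZ/RT/C5T
section
prune_inst 0x8000000000000000000000000000014010000
set_option linter.all false
open scoped Cfsg.Agent.FastGrp

/-!
# BZ / RT : the finite tables of the exceptional types, `BoxOk` (helper53)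
-/

set_option autoImplicit false
set_option synthInstance.maxSize 4000
set_option synthInstance.maxHeartbeats 400000

namespace Cfsg.Agent.BZ.RT.C5

open Cfsg Matrix Cfsg.Agent.HZ.L Cfsg.Agent.BZ.TA Cfsg.Agent.BZ.TA.Cl Cfsg.Agent.OM.Cu Cfsg.Agent.OM

namespace OkT

/-- the check on one list of nodes -/
def ck {n : ℕ} (c : ℕ → ℕ → ℤ) (r : ℕ) (W : List (Fin n × List (Fin n))) (E : List (List ℕ)) (S : List (List ℕ))
    (L : List (Fin n)) : Bool :=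
  decide (n < L.length + r) ||
  (decide (L.length + r = n) && W.any fun w => decide w.2.Nodup && (w.2.all fun j => L.contains j) &&
    (L.all fun i => (w.2.map fun j : Fin n => c i.1 j.1).sum % 2 == 0) && (w.2.map fun j : Fin n => c w.1.1 j.1).sum % 2 != 0) ||
  ((E.any fun e => L.all fun i => L.all fun j => c i j == cA (e.getD i 0) (e.getD j 0) && (e.getD i 0 != e.getD j 0 || i == j)) &&
    S.all fun s => (L.any fun j => L.all fun i => s.getD j 0 != i.1) || L.all fun j => s.getD j 0 == j.1)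

/-- the decidable form of the field `fin` -/
theorem fin_of {n : ℕ} (c : ℕ → ℕ → ℤ) (r : ℕ) (W : List (Fin n × List (Fin n))) (E : List (List ℕ)) (S : List (List ℕ))
    (hS : ∀ π : Equiv.Perm (Fin n), (∀ i j, c (π i) (π j) = c i j) → ∃ s ∈ S, ∀ j : Fin n, s.getD j 0 = π j)
    (h : (List.finRange n).sublists.all (ck c r W E S) = true) (J : Finset (Fin n)) (hJ : J.card + r ≤ n) :
    (J.card + r = n ∧ ∃ (x : Fin n) (t : Finset (Fin n)), t ⊆ J ∧ (∀ i ∈ J, 2 ∣ ∑ j ∈ t, cm n c i j) ∧ ¬ 2 ∣ ∑ j ∈ t, cm n c x j) ∨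
    ((∃ e : Fin n → ℕ, ∀ i ∈ J, ∀ j ∈ J, cm n c i j = cA (e i) (e j) ∧ (e i = e j → i = j)) ∧
      ∀ π : Equiv.Perm (Fin n), (∀ i j, cm n c (π i) (π j) = cm n c i j) → (∀ j ∈ J, π j ∈ J) → ∀ j ∈ J, π j = j) := by
  obtain ⟨L, hL, hm, hc⟩ : ∃ L ∈ (List.finRange n).sublists, (∀ j, j ∈ L ↔ j ∈ J) ∧ L.length = J.card := by
    refine ⟨(List.finRange n).filter fun j => decide (j ∈ J), List.mem_sublists.2 List.filter_sublist, fun j => by simp, ?_⟩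
    rw [← List.toFinset_card_of_nodup ((List.nodup_finRange n).filter _)]
    congr 1
    ext j
    simp
  have h := List.all_eq_true.1 h L hL
  simp only [ck, Bool.or_eq_true, Bool.and_eq_true, decide_eq_true_eq, List.any_eq_true, List.all_eq_true, List.contains_iff_mem,
    beq_iff_eq, bne_iff_ne, hm, hc] at h
  rcases h with (h | ⟨h1, w, -, ⟨⟨h0, h2⟩, h3⟩, h4⟩) | ⟨⟨e, -, h1⟩, h2⟩
  · omega
  · refine Or.inl ⟨h1, w.1, w.2.toFinset, fun j hj => h2 j (List.mem_toFinset.1 hj), fun i hi => ?_, fun hd => h4 ?_⟩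
    · rw [List.sum_toFinset _ h0]
      exact Int.dvd_of_emod_eq_zero (h3 i hi)
    · rw [List.sum_toFinset _ h0] at hd
      exact Int.emod_eq_zero_of_dvd hd
  · refine Or.inr ⟨⟨fun i => e.getD i 0, fun i hi j hj => ⟨(h1 i hi j hj).1, fun q => (h1 i hi j hj).2.resolve_left fun u => u q⟩⟩,
      fun π hπ hj j jj => ?_⟩
    obtain ⟨s, hs, e⟩ := hS π hπ
    rcases h2 s hs with ⟨i, hi, q⟩ | q
    · exact absurd (e i) (q _ (hj i hi))
    · exact Fin.ext ((e j).symm.trans (q j jj))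

theorem one_of {n : ℕ} {P : Equiv.Perm (Fin n) → Prop} (h : ∀ π, P π → π = 1) (π : Equiv.Perm (Fin n)) (hπ : P π) :
    ∃ s ∈ [List.range n], ∀ j : Fin n, s.getD j 0 = π j :=
  ⟨_, List.mem_cons_self, fun j => by rw [h π hπ]; simp⟩

/-- the decidable form of the field `cyc` -/
theorem cyc_of {n : ℕ} (c : ℕ → ℕ → ℤ) (l : ℕ) (col : Fin n → Bool) (m : ℕ) (mt : Fin n → Fin m) (hm : m < l)
    (h1 : ∀ x y : Fin n, x ≠ y → c x y ≠ 0 → col x ≠ col y)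
    (h2 : ∀ x y : Fin n, mt x = mt y → x ≠ y → c x y ≠ 0 ∨ ∀ i : Fin n, (c x i + c y i) % 2 = 0) :
    ∃ (col : Fin n → Bool) (m : ℕ) (mt : Fin n → Fin m), m < l ∧ (∀ x y, x ≠ y → cm n c x y ≠ 0 → col x ≠ col y) ∧
      ∀ x y, mt x = mt y → x ≠ y → cm n c x y ≠ 0 ∨ ∀ i, 2 ∣ cm n c x i + cm n c y i :=
  ⟨col, m, mt, hm, h1, fun x y a b => (h2 x y a b).imp id fun h i => Int.dvd_of_emod_eq_zero (h i)⟩

theorem s4 : ∀ π : Equiv.Perm (Fin 4), (∀ i j : Fin 4, cT 1 4 (π i) (π j) = cT 1 4 i j) →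
    ∃ s ∈ [[0, 1, 2, 3], [2, 1, 0, 3], [3, 1, 2, 0], [0, 1, 3, 2], [2, 1, 3, 0], [3, 1, 0, 2]], ∀ j : Fin 4, s.getD j 0 = (π j).1 := by
  decide +kernel

theorem s6 (π : Equiv.Perm (Fin 6)) (h : ∀ i j : Fin 6, cT 2 6 (π i) (π j) = cT 2 6 i j) :
    ∃ s ∈ [[0, 1, 2, 3, 4, 5], [4, 3, 2, 1, 0, 5]], ∀ j : Fin 6, s.getD j 0 = (π j).1 := by
  rcases Eng.autE6 π h with rfl | rfl <;> decide +kernel

end OkT

open OkT

theorem boxOk : BoxOk where
  e6 l hl := by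
    have hc := fun l hl => cyc_of (cT 2 6) l ![true, false, true, false, true, false] 3 ![0, 0, 1, 2, 2, 1] hl
      (by decide +kernel) (by decide +kernel)
    rcases hl with rfl | rfl
    · exact ⟨⟨_, Eng.carE6⟩, by decide, by decide, hc 5 (by decide),
        fin_of (cT 2 6) 4 [(1, [0]), (0, [1])] [[0, 1, 2, 3, 4, 9], [0, 1, 2, 5, 6, 3]] _ s6 (by decide +kernel)⟩
    · exact ⟨⟨_, Eng.carE6⟩, by decide, by decide, hc 7 (by decide),
        fin_of (cT 2 6) 6 [] [[0, 1, 2, 3, 4, 9]] _ s6 (by decide +kernel)⟩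
  e7 l hl := by
    have hc := fun l hl => cyc_of (cT 2 7) l ![true, false, true, false, true, false, false] 4 ![0, 0, 1, 2, 2, 3, 1] hl
      (by decide +kernel) (by decide +kernel)
    rcases hl with rfl | rfl
    · exact ⟨⟨_, Eng.carE7⟩, by decide, by decide, hc 5 (by decide),
        fin_of (cT 2 7) 4 [] [[0, 1, 2, 3, 4, 5, 9], [0, 1, 2, 9, 5, 6, 3], [0, 9, 3, 4, 5, 6, 2]] _ (one_of Eng.autE7)
          (by decide +kernel)⟩
    · exact ⟨⟨_, Eng.carE7⟩, by decide, by decide, hc 7 (by decide),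
        fin_of (cT 2 7) 6 [] [[0, 1, 2, 3, 4, 5, 9]] _ (one_of Eng.autE7) (by decide +kernel)⟩
  e8 l hl := by
    have hc := fun l hl => cyc_of (cT 2 8) l ![true, false, true, false, true, false, true, false] 4 ![0, 0, 1, 2, 2, 3, 3, 1] hl
      (by decide +kernel) (by decide +kernel)
    rcases hl with rfl | rfl
    · exact ⟨⟨_, Eng.carE8⟩, by decide, by decide, hc 5 (by decide),
        fin_of (cT 2 8) 4 [(0, [1, 3])] [[0, 1, 2, 3, 4, 5, 6, 9], [0, 1, 2, 9, 5, 6, 7, 3], [0, 9, 3, 4, 5, 6, 7, 2]] _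
          (one_of Eng.autE8) (by decide +kernel)⟩
    · exact ⟨⟨_, Eng.carE8⟩, by decide, by decide, hc 7 (by decide),
        fin_of (cT 2 8) 6 [] [[0, 1, 2, 3, 4, 5, 6, 9], [0, 1, 2, 9, 5, 6, 7, 3]] _ (one_of Eng.autE8) (by decide +kernel)⟩
  g2 := ⟨⟨_, Eng.carG2⟩, by decide, by decide,
    cyc_of (c2 (-1) (-3)) 3 ![true, false] 1 ![0, 0] (by decide) (by decide +kernel) (by decide +kernel),
    fin_of (c2 (-1) (-3)) 2 [] [[0, 1]] _ (one_of Eng.autG2) (by decide +kernel)⟩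
  f4 := ⟨⟨_, Eng.carF4⟩, by decide, by decide,
    cyc_of (cF (-1) (-2)) 3 ![true, false, true, false] 2 ![0, 0, 1, 1] (by decide) (by decide +kernel) (by decide +kernel),
    fin_of (cF (-1) (-2)) 2 [(0, [1])] [[0, 1, 2, 3]] _ (one_of Eng.autF4) (by decide +kernel)⟩
  d4 := ⟨⟨_, Eng.carD4⟩, by decide, by decide,
    cyc_of (cT 1 4) 3 ![true, false, true, true] 1 ![0, 0, 0, 0] (by decide) (by decide +kernel) (by decide +kernel),
    fin_of (cT 1 4) 2 [(1, [0]), (1, [2])] [[0, 1, 2, 9], [9, 1, 7, 2]] _ s4 (by decide +kernel)⟩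

end Cfsg.Agent.BZ.RT.C5

private theorem dce_9a062aeec241 : _root_.True := by
  try have : _root_.True := by simp only [_root_.Cfsg.Agent.BZ.RT.C5.OkT.ck.eq_1]
  exact _root_.True.intro
end

-- part: BZ/RT/Z2S
section
set_option linter.all false
open scoped Cfsg.Agent.FastGrp

/-!
# BZ / RT : the prime two, the structure of the pair (roots of the label, Levi subsystem) (helper73)
-/

set_option autoImplicit false
set_option linter.unusedSectionVars false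

namespace Cfsg.Agent.BZ.RT.Z2

open Cfsg Matrix Cfsg.Agent.DL Cfsg.Agent.HZ.L Cfsg.Agent.BZ.TA Cfsg.Agent.BZ.TA.Cl Cfsg.Agent.OM.Cu Cfsg.Agent.OM.Cu.Orb

variable {R I K : Type} [Fintype R] [DecidableEq R] [Fintype I] [DecidableEq I] [Fintype K] [DecidableEq K]
  {P : Matrix R I ℤ} {Φ Φ' : RS I} {Ψ : RS R} {C X : Mat I} {D : I → ℤ} {μ : Vec I}

/-- the pairs above a subsystem -/
def Im (P : Matrix R I ℤ) (Ψ : RS R) (Φ' : RS I) : RS R := {b | b ∈ Ψ ∧ ∃ a ∈ Φ', P *ᵥ a.2 = b.2}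

theorem tr_row (T : Tr P Φ Ψ) {a : Vec I × Vec I} {b : Vec R × Vec R} (ha : a ∈ Φ) (hb : b ∈ Ψ) (e : P *ᵥ a.2 = b.2) : b.1 ᵥ* P = a.1 := by
  obtain ⟨b', h1, h2, h3⟩ := T.up a ha
  rwa [T.ext b hb b' h1 (e.symm.trans h2)]

theorem tr_dot (T : Tr P Φ Ψ) {a a' : Vec I × Vec I} {b b' : Vec R × Vec R} (ha : a ∈ Φ) (hb : b ∈ Ψ) (e : P *ᵥ a.2 = b.2)
    (e' : P *ᵥ a'.2 = b'.2) : b.1 ⬝ᵥ b'.2 = a.1 ⬝ᵥ a'.2 := by
  rw [← e', dotProduct_mulVec, tr_row T ha hb e]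

theorem tr_res (T : Tr P Φ Ψ) (h : Φ' ⊆ Φ) (nm : ∀ a ∈ Φ', Nm (rfm a) Φ') : Tr P Φ' (Im P Ψ Φ') where
  inj := T.inj
  up a ha :=
    let ⟨b, hb, b1, b2⟩ := T.up a (h ha)
    ⟨b, ⟨hb, a, ha, b1⟩, b1, b2⟩
  dn _ hb :=
    let ⟨h1, a, ha, e⟩ := hb
    ⟨a, ha, e, tr_row T (h ha) h1 e⟩
  ext b hb b' hb' := T.ext b hb.1 b' hb'.1
  nm b hb b' hb' := by
    obtain ⟨h1, a, ha, e⟩ := hb
    obtain ⟨h2, a', ha', e'⟩ := hb'
    obtain ⟨c, hc, c1, c2⟩ := T.nm b h1 b' h2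
    obtain ⟨x, hx, x1, -⟩ := nm a ha a' ha'
    refine ⟨c, ⟨hc, x, hx, ?_⟩, c1, c2⟩
    rw [← c1, ← e', ← x1, mulVec_mulVec, mulVec_mulVec, TrL.rfm_mul e (tr_row T (h ha) h1 e)]

theorem tr_fin (T : Tr P Φ Ψ) (h : Φ.Finite) : Ψ.Finite :=
  .of_finite_image (f := Prod.snd) ((h.image fun a => P *ᵥ a.2).subset fun _ ⟨b, hb, e⟩ =>
    let ⟨a, ha, a1, _⟩ := T.dn b hb
    ⟨a, ha, a1.trans e⟩) fun b hb b' hb' => T.ext b hb b' hb'

theorem nm_lev (h : ∀ b ∈ Ψ, Nm (rfm b) Ψ) (lam : Vec R) : ∀ b ∈ lev Ψ lam, Nm (rfm b) (lev Ψ lam) := fun b hb a ha => by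
  obtain ⟨c, hc, c1, c2⟩ := h b hb.1 a ha.1
  refine ⟨c, ⟨hc, ?_⟩, c1, c2⟩
  have := ha.2
  rwa [← c2, ← dotProduct_mulVec, rfm_mulVec, hb.2, zero_smul, sub_zero] at this

/-- the component -/
theorem tr_comp {Q : Matrix K I ℤ} {S : Matrix I K ℤ} {Θ : RS K} (F : Fm S Q Φ Θ) (nm : ∀ c ∈ Θ, Nm (rfm c) Θ) :
    Tr S Θ (ex S Q '' Θ) where
  inj v h := by rw [← one_mulVec v, ← F.qp, ← mulVec_mulVec, h, mulVec_zero]
  up c hc := ⟨_, ⟨c, hc, rfl⟩, rfl, ex_P F.qp c⟩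
  dn := by
    rintro _ ⟨c, hc, rfl⟩
    exact ⟨c, hc, rfl, ex_P F.qp c⟩
  ext := by
    rintro _ ⟨c, hc, rfl⟩ _ ⟨c', hc', rfl⟩
    exact F.ext _ (F.up c hc) _ (F.up c' hc')
  nm := by
    rintro _ ⟨c, hc, rfl⟩ _ ⟨c', hc', rfl⟩
    obtain ⟨x, hx, x1, x2⟩ := nm c hc c' hc'
    refine ⟨_, ⟨x, hx, rfl⟩, ?_, ?_⟩
    · rw [← io_rfm, ex, ex, mulVec_mulVec, io_P F.qp, ← mulVec_mulVec, x1]
    · rw [← io_rfm, ex, ex, vecMul_vecMul, Q_io F.qp, ← vecMul_vecMul, x2]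

theorem nm_rc (H : Rs C D) : ∀ b ∈ Rc C, Nm (rfm b) (Rc C) := fun _ hb => H.nm _ (H.ww ▸ rfm_mem hb)

theorem cp_res {J : I → Prop} {k k' : {i // J i}} (h : Cp (res C J) k k') : Cp C k k' := by
  induction h with
  | refl => exact .refl
  | tail _ e ih => exact ih.tail e

/-- the surviving components inside one component -/
theorem sve {J : I → Prop} {i : I} [Fintype (Cm C i)] (k : Cm C i) (hk : J k)
    (h : Sv ((res C J).submatrix (Subtype.val : Cm (res C J) ⟨k, hk⟩ → _) Subtype.val)) : SvE (Ci C i) (fun x => J x) k := by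
  have key : ∀ (n : ℕ) (c : ℕ → ℕ → ℤ), Ty ((res C J).submatrix (Subtype.val : Cm (res C J) ⟨k, hk⟩ → _) Subtype.val) n c →
      ∃ e, Emb (Ci C i) (fun x => J x) n c e ∧ k ∈ Set.range e := by
    rintro n c ⟨e, he⟩
    refine ⟨fun x => ⟨(e x).1.1, k.2.trans (cp_res (e x).2)⟩, ⟨fun x y h => e.injective (Subtype.ext (Subtype.ext (congrArg (fun z : Cm C i => z.1) h))),
      he, fun x => (e x).1.2, fun x y hy h => ⟨e.symm ⟨⟨y, hy⟩, (e x).2.tail h⟩, ?_⟩⟩, e.symm ⟨⟨k, hk⟩, .refl⟩, ?_⟩ <;>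
    simp only [Equiv.apply_symm_apply]
  exact h.imp (key _ _) (.imp (key _ _) (.imp (key _ _) (.imp (key _ _) (key _ _))))

theorem sv_two {J : I → Prop} (k : {i // J i}) (h : Sv ((res C J).submatrix (Subtype.val : Cm (res C J) k → _) Subtype.val)) :
    ∃ x y : I, x ≠ y ∧ Cp C k x ∧ Cp C k y := by
  have key : ∀ (n : ℕ) (c : ℕ → ℕ → ℤ), Ty ((res C J).submatrix (Subtype.val : Cm (res C J) k → _) Subtype.val) (n + 2) c →
      ∃ x y : I, x ≠ y ∧ Cp C k x ∧ Cp C k y := by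
    rintro n c ⟨e, -⟩
    exact ⟨_, _, fun h => Fin.zero_ne_one (e.injective (Subtype.ext (Subtype.ext h))), cp_res (e 0).2, cp_res (e 1).2⟩
  rcases h with h | h | h | h | h
  exacts [key 2 _ h, key 4 _ h, key 6 _ h, key 2 _ h, key 0 _ h]

theorem lv_root {ν : ℂ} (h : Lv 2 1 ν) {a : ℕ} (ha : 0 < a) : ∃ η : ℂ, Lv 2 1 η ∧ η ≠ 0 ∧ η ^ a = ν := by
  obtain ⟨j, h⟩ := h
  rw [IsPrimitiveRoot.one_right_iff] at h
  obtain ⟨s, m, h1, rfl⟩ := Nat.exists_eq_two_pow_mul_odd ha.ne'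
  obtain ⟨m', -, h2⟩ := Nat.exists_mul_mod_eq_one_of_coprime (k := 2 ^ (j + 1)) ((Nat.coprime_two_right.2 h1).pow_right _)
    (Nat.one_lt_two_pow j.succ_ne_zero)
  obtain ⟨η, h3⟩ := IsAlgClosed.exists_pow_nat_eq (ν ^ m') (Nat.two_pow_pos s)
  have h4 : η ^ 2 ^ (s + j) = 1 := by rw [pow_add, pow_mul, h3, ← pow_mul, mul_comm, pow_mul, h, one_pow]
  refine ⟨η, ⟨s + j, IsPrimitiveRoot.one_right_iff.2 h4⟩, fun e => ?_, ?_⟩
  · rw [e, zero_pow (Nat.two_pow_pos _).ne'] at h4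
    exact zero_ne_one h4
  · rw [pow_mul, h3, ← pow_mul, mul_comm, ← Nat.div_add_mod (m * m') (2 ^ (j + 1)), h2, pow_add, pow_mul, pow_succ 2, pow_mul, h]
    simp

section Comp

variable {i : I} [Fintype (Cm C i)]

theorem dot_Qi (h : Car C D) (k : Cm C i) : (sp (Ci C i) k).1 ⬝ᵥ Qi C i *ᵥ μ = (sp C k).1 ⬝ᵥ μ := by
  rw [← ex_sp h k, ex, dotProduct_mulVec]

theorem pi_vec (v : Vec (Cm C i)) (k : Cm C i) : (Pi' C i *ᵥ v) k = v k := by
  rw [← Qi_vec (Pi' C i *ᵥ v), mulVec_mulVec, qp, one_mulVec]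

theorem pi_out (v : Vec (Cm C i)) {k : I} (hk : ¬ Cp C i k) : (Pi' C i *ᵥ v) k = 0 :=
  Finset.sum_eq_zero fun x _ => mul_eq_zero_of_left (one_apply_ne fun e => hk ((show k = x from e) ▸ x.2)) _

/-- a root which meets the component lies in the component -/
theorem mem_comp (h : Car C D) {a : Vec I × Vec I} (ha : a ∈ Rc C) {k : I} (hk : Cp C i k) (h0 : a.2 k ≠ 0) :
    a ∈ ex (Pi' C i) (Qi C i) '' Rc (Ci C i) := by
  rcases (fm_Ci h (boxRs _ _ h) (boxRs _ _ (car_Ci (i := i) h))).dich a ha with ⟨c, hc, rfl⟩ | e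
  · exact ⟨c, hc, rfl⟩
  · exact absurd ((Qi_vec a.2 ⟨k, hk⟩).symm.trans (congrFun e.1 _)) h0

theorem ort_comp (h : Car C D) {a b : Vec I × Vec I} (ha : a ∈ ex (Pi' C i) (Qi C i) '' Rc (Ci C i)) (hb : b ∈ Rc C)
    (hb' : b ∉ ex (Pi' C i) (Qi C i) '' Rc (Ci C i)) : b.1 ⬝ᵥ a.2 = 0 ∧ a.1 ⬝ᵥ b.2 = 0 := by
  obtain ⟨c, -, rfl⟩ := ha
  rcases (fm_Ci h (boxRs _ _ h) (boxRs _ _ (car_Ci (i := i) h))).dich b hb with ⟨c, hc, rfl⟩ | e
  · exact absurd ⟨c, hc, rfl⟩ hb'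
  · exact ⟨by rw [ex, dotProduct_mulVec, e.2, zero_dotProduct], by rw [ex, ← dotProduct_mulVec, e.1, dotProduct_zero]⟩

/-- the frame of a component -/
theorem frame (h : Car C D) {E : Mat K} (σ : K ≃ Cm C i) (hσ : ∀ x y, Ci C i (σ x) (σ y) = E x y) :
    ∃ S : Matrix I K ℤ, Tr S (Rc E) (ex (Pi' C i) (Qi C i) '' Rc (Ci C i)) ∧ (∀ v x, (S *ᵥ v) (σ x) = v x) ∧
      ∀ v k, ¬ Cp C i k → (S *ᵥ v) k = 0 := by
  have h1 : E.submatrix σ.symm σ.symm = Ci C i := Matrix.ext fun x y => by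
    rw [submatrix_apply, ← hσ, σ.apply_symm_apply, σ.apply_symm_apply]
  have H := boxRs _ _ (car_Ci (i := i) h)
  have T := Ch.tr_sub (C := E) σ.symm (h1 ▸ H)
  rw [h1] at T
  refine ⟨_, T.comp (tr_comp (fm_Ci h (boxRs _ _ h) H) (nm_rc H)), fun v x => ?_, fun v k hk => ?_⟩
  · rw [← mulVec_mulVec, pi_vec, submatrix_mulVec_equiv, one_mulVec]
    simp
  · rw [← mulVec_mulVec, pi_out _ hk]

end Comp

/-- **the structure** -/
theorem str (hP : BoxPar) (hD : BoxDg) (h4 : BoxD4) (h : Car C D) (h8 : Fintype.card I ≤ 8) (hX : Nm X (Rc C)) {ε : ℤˣ}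
    (he : X *ᵥ μ = (ε : ℤ) • μ) (hd : Dom C μ) (ha : An (lev (Rc C) μ) 2 1 X)
    (hs : ∀ k, Sv ((res C (Jz C μ)).submatrix (Subtype.val : Cm (res C (Jz C μ)) k → _) Subtype.val)) :
    (∀ a ∈ Rc C, a ∉ lev (Rc C) μ → ∀ b ∈ lev (Rc C) μ, b.1 ⬝ᵥ a.2 = 0) ∨
      F7 (Rc C) (lev (Rc C) μ) (lev (Rc C) μ) ∨ F8 (Rc C) (lev (Rc C) μ) := by
  classical
  have H := boxRs _ _ h
  have p1 := (hP C D μ h hd).1
  by_cases hm : ∃ i j, ¬ Jz C μ i ∧ Jz C μ j ∧ Cp C i j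
  swap
  · refine .inl fun a ha1 ha2 b hb => ?_
    obtain ⟨i, i1, i2⟩ : ∃ i, ¬ Jz C μ i ∧ a.2 i ≠ 0 := by
      by_contra k
      exact ha2 ⟨ha1, (p1 a ha1).2 fun i hi => by_contra fun k' => k ⟨i, hi, k'⟩⟩
    refine (ort_comp h (mem_comp h ha1 .refl i2) hb.1 ?_).1
    rintro ⟨c, -, rfl⟩
    obtain ⟨j, hj⟩ := Function.ne_iff.1 (BaseA.ne_zero H hb.1)
    exact hm ⟨i, j, i1, by_contra fun k => hj ((p1 _ hb.1).1 hb.2 j k), by_contra fun k => hj (pi_out _ k)⟩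
  obtain ⟨i, j, hi, hj, hij⟩ := hm
  obtain ⟨w, hw, π, hπ, e⟩ := boxCh boxRs C D X h hX
  obtain ⟨w', -, -, e'⟩ := H.inv w hw
  obtain ⟨a, Y⟩ := cy_Ci (i := i) (π := π) h (e ▸ (IsUnit.of_mul_eq_one w' e').mul
    (IsUnit.of_mul_eq_one (pm π⁻¹) (by rw [← OM.Cu.pm_mul, mul_inv_cancel, OM.Cu.pm_one]))) fun k => by
      rw [e, mul_assoc, ed_pm hπ, ← mul_assoc, ed_w h hw, mul_assoc]
  have hC' := car_Ci (i := i) h
  have F := fm_Ci h H (boxRs _ _ hC')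
  have hJ : Jz (Ci C i) (Qi C i *ᵥ μ) = fun k => Jz C μ k.1 := funext fun k => by rw [Jz, dot_Qi h]
  have h0 : ∀ a ∈ Rc C, ∃ k, a.2 k ≠ 0 := fun a ha => Function.ne_iff.1 (BaseA.ne_zero H ha)
  rcases hD _ _ (fun k => Jz C μ k.1) hC' (conn_Ci h) (fun k hk => sve k hk (hs _)) ⟨⟨j, hij⟩, hj⟩ ⟨⟨i, .refl⟩, hi⟩ with
    ⟨σ, s1, s2⟩ | ⟨σ, s1, s2⟩ | ⟨⟨e, s1⟩, s2⟩
  · obtain ⟨S, T, t1, t2⟩ := frame h σ s1
    have c1 : ∀ x y, ¬ Cp C i x → ¬ Cp C i y → x = y := fun x y hx hy => by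
      have k1 := Fintype.card_subtype_compl (Cp C i)
      rw [← Fintype.card_congr σ, Fintype.card_fin] at k1
      exact congrArg Subtype.val (Fintype.card_le_one_iff.1 (show Fintype.card {x // ¬ Cp C i x} ≤ 1 by omega) ⟨x, hx⟩ ⟨y, hy⟩)
    have c2 : ∀ k, Jz C μ k → Cp C i k := fun k hk => by_contra fun k1 => by
      obtain ⟨x, y, k2, k3, k4⟩ := sv_two ⟨k, hk⟩ (hs _)
      exact k2 (c1 x y (fun k => k1 (k.trans (cp_symm h k3))) fun k => k1 (k.trans (cp_symm h k4)))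
    refine .inr (.inl ⟨S, _, T, fun b => ⟨fun hb => ?_, ?_⟩, ?_⟩)
    · obtain ⟨k, hk⟩ := h0 b hb.1
      have k1 := mem_comp h hb.1 (c2 k (by_contra fun k => hk ((p1 b hb.1).1 hb.2 _ k))) hk
      obtain ⟨a, a1, a2, -⟩ := T.dn b k1
      exact ⟨k1, a, a1, by rw [← t1 a.2, a2]; exact (p1 b hb.1).1 hb.2 _ fun k => (s2 5).1 k rfl, a2⟩
    · rintro ⟨⟨c, hc, rfl⟩, a, -, a1, a2⟩
      refine ⟨F.up c hc, (p1 _ (F.up c hc)).2 fun k hk => ?_⟩
      rw [← a2]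
      by_cases k1 : Cp C i k
      · obtain ⟨x, hx⟩ := σ.surjective ⟨k, k1⟩
        obtain rfl : (σ x).1 = k := congrArg Subtype.val hx
        rw [t1, not_not.1 (mt (s2 x).2 hk), a1]
      · exact t2 _ _ k1
    · by_cases hk : ∃ k, ¬ Cp C i k
      swap
      · refine .inl (Set.Subset.antisymm (fun b hb => ?_) ?_)
        · obtain ⟨k, k1⟩ := h0 b hb
          exact mem_comp h hb (by_contra fun k2 => hk ⟨k, k2⟩) k1
        · rintro _ ⟨c, hc, rfl⟩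
          exact F.up c hc
      obtain ⟨k, hk⟩ := hk
      have k1 : sp C k ∉ ex (Pi' C i) (Qi C i) '' Rc (Ci C i) := fun ⟨c, _, k⟩ => by
        have := pi_out c.2 hk
        rw [show Pi' C i *ᵥ c.2 = _ from congrArg Prod.snd k] at this
        simp [sp] at this
      refine .inr ⟨sp C k, fun k2 => hk (c2 k k2.2), fun k2 => hk (c2 k ?_), Set.Subset.antisymm (fun b hb => ?_) ?_,
        fun b hb => (ort_comp h hb (H.mem k) k1).symm⟩
      · have := k2.2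
        rwa [Prod.fst_neg, neg_dotProduct, neg_eq_zero] at this
      · refine or_iff_not_imp_left.2 fun k2 => H.red _ (H.mem k) b hb (b.2 k) 1 (fun k3 => ?_) (funext fun x => ?_)
        · obtain ⟨x, hx⟩ := h0 b hb
          exact hx (c1 k x hk (fun k => k2 (mem_comp h hb k hx)) ▸ k3)
        · by_cases k3 : x = k
          · simp [sp, k3]
          · rw [one_smul, show b.2 x = 0 from by_contra fun k4 => k3 (c1 x k (fun k => k2 (mem_comp h hb k k4)) hk)]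
            simp [sp, k3]
      · rintro b (⟨c, hc, rfl⟩ | rfl | rfl)
        exacts [F.up c hc, H.mem k, H.neg _ (H.mem k)]
  · obtain ⟨S, T, t1, -⟩ := frame h σ s1
    have c1 : ∀ x, Cp C i x := fun x => by_contra fun hx => by
      have k1 := Fintype.card_subtype_compl (Cp C i)
      rw [← Fintype.card_congr σ, Fintype.card_fin] at k1
      exact (Fintype.card_eq_zero_iff.1 (show Fintype.card {x // ¬ Cp C i x} = 0 by omega)).elim ⟨x, hx⟩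
    have c2 : ex (Pi' C i) (Qi C i) '' Rc (Ci C i) = Rc C := Set.Subset.antisymm (by
      rintro _ ⟨c, hc, rfl⟩
      exact F.up c hc) fun b hb => let ⟨k, k1⟩ := h0 b hb; mem_comp h hb (c1 k) k1
    refine .inr (.inr ⟨S, c2 ▸ T, fun a _ b hb e => ⟨fun k => ?_, fun k => ⟨hb, (p1 b hb).2 fun x hx => ?_⟩⟩⟩)
    · rw [← t1 a.2 5, ← t1 a.2 6, e]
      exact ⟨(p1 b hb).1 k.2 _ fun k => ((s2 5).1 k).1 rfl, (p1 b hb).1 k.2 _ fun k => ((s2 6).1 k).2 rfl⟩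
    · obtain ⟨y, hy⟩ := σ.surjective ⟨x, c1 x⟩
      obtain rfl : (σ y).1 = x := congrArg Subtype.val hy
      rw [← e, t1]
      obtain rfl | rfl : y = 5 ∨ y = 6 := by
        by_contra k'
        exact hx ((s2 y).2 (not_or.1 k'))
      exacts [k.1, k.2]
  · refine (h4 _ _ _ (ε ^ a) (Qi C i *ᵥ μ) e hC' (Y.nm F hX) ?_ (fun k => (hd k).trans_eq (dot_Qi h k).symm) (hJ ▸ s1) s2
      fun ν hν ⟨z, z1, c, hc, z2⟩ => ?_).elim
    · have k : ∀ n : ℕ, X ^ n *ᵥ μ = (ε : ℤ) ^ n • μ := fun n => by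
        induction n with
        | zero => simp
        | succ n ih => rw [pow_succ, ← mulVec_mulVec, he, mulVec_smul, ih, smul_smul, pow_succ']
      rw [mulVec_mulVec, ← Y.lf, ← mulVec_mulVec, k, mulVec_smul, Units.val_pow_eq_pow_val]
    · obtain ⟨η, k1, k2, rfl⟩ := lv_root hν Y.pos
      obtain ⟨y, y1, y2, -⟩ := Y.eig F.qp k2 z1
      exact ha η k1 ⟨y, y1, _, ⟨F.up c hc.1, by rw [ex, ← dotProduct_mulVec]; exact hc.2⟩, by rwa [ex, ← ev_ac, y2]⟩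

end Cfsg.Agent.BZ.RT.Z2

private theorem dce_0445a5bce151 : _root_.True := by
  try have : _root_.True := by simp only [_root_.Cfsg.Agent.BZ.RT.Z2.Jz.eq_1]
  exact _root_.True.intro
end

-- part: BZ/RT/Z2G_mg
section
prune_inst 0x8000000000000000000000000000014010000
set_option linter.all false
open scoped Cfsg.Agent.FastGrp

-- part: BZ/RT/Z2G
section
/-!
# BZ / RT : the prime two for root systems of rank at most eight, the glue (helper73)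
-/

set_option autoImplicit false
set_option linter.unusedSectionVars false

namespace Cfsg.Agent.BZ.RT.Z2

open Cfsg Matrix Cfsg.Agent.DL Cfsg.Agent.DL.PP Cfsg.Agent.KZ.Lie Cfsg.Agent.HZ.L Cfsg.Agent.BZ.TA Cfsg.Agent.BZ.TA.Cl Cfsg.Agent.OM.Cu
  Cfsg.Agent.OM
open Cfsg.Agent.HZ.L.X (Zc Cen)

/-- the boxes -/
structure Bz : Prop where
  cu : CuAll
  lam : BoxLam
  ad : BoxAd
  par : BoxPar
  dg : BoxDg
  d4 : BoxD4
  cn : BoxCn
  e7 : BoxE7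
  e8 : BoxE8
  rk : BoxRk

section Comb

variable {R I : Type} [Fintype R] [DecidableEq R] [Fintype I] [DecidableEq I] {P : Matrix R I ℤ} {Φ L : RS I} {Ψ ΨL Ψ₀ : RS R}
  {A : Mat R} {q : ℤ} {c s t : Lb R} {d : ℕ} {V : Submonoid (Mat R)}

/-- the roots of a fixed label are permuted -/
theorem nm_zc {n : ℕ} (hn : 0 < n) (h1 : A ^ n = 1) (h : Nm A Ψ) (hs : Tl (q • A) s s) : Nm A (Zc Ψ s) := fun a ha => by
  obtain ⟨b, hb, b1, b2⟩ := h a ha.1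
  refine ⟨b, ⟨hb, ?_⟩, b1, b2⟩
  have k1 : ∀ (k : ℕ) (v : Vec R), chr ((q • A) ^ k *ᵥ v) s = chr v s := fun k => by
    induction k with
    | zero => exact fun v => by rw [pow_zero, one_mulVec]
    | succ k ih => exact fun v => by rw [pow_succ, ← mulVec_mulVec, ih, hs]
  have k2 := hs a.2
  rw [smul_mulVec, b1, chr_zsmul, ha.2] at k2
  have k3 := k1 n b.2
  obtain ⟨m, rfl⟩ := Nat.exists_eq_succ_of_ne_zero hn.ne'
  rwa [smul_pow, h1, smul_mulVec, one_mulVec, chr_zsmul, pow_succ', _root_.zpow_mul, k2, _root_.one_zpow, eq_comm] at k3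

/-- a base of the roots of a label -/
theorem base_zc {n l m : ℕ} (hB : Bs n Ψ) (hl : l.Prime) (hs : Sc l Ψ) (hm : ¬ l ∣ m) (hc : s ^ m = 1) :
    Sc l (Zc Ψ s) ∧ ∃ (m : ℕ) (C : Mat (Fin m)) (d : Fin m → ℤ) (P : Matrix R (Fin m) ℤ), Car C d ∧ Tr P (Rc C) (Zc Ψ s) := by
  obtain ⟨_, C, d0, P, -, hC, hP⟩ := hB
  obtain ⟨τ, hτ⟩ := Gl.exists_tau (fun e : m = 0 => hm (e ▸ dvd_zero l)) hc P
  obtain ⟨m', C', d', P', hC', hP'⟩ := boxBase boxRs C d0 m τ hC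
  have t1 := Gl.tr_sub hP hτ
  exact ⟨Gl.sc_sub hP t1 (fun _ h => h.1) hs (boxSat boxRs C d0 m l τ hC hl hm), m', C', d', _, hC', Gl.comp t1 hP'⟩

theorem im_eq (T : Tr P Φ Ψ) (hL : L ⊆ Φ) (h : ∀ a ∈ Φ, ∀ b ∈ Ψ, P *ᵥ a.2 = b.2 → (b ∈ ΨL ↔ a ∈ L)) :
    Im P Ψ L = {b | b ∈ Ψ ∧ b ∈ ΨL} :=
  Set.ext fun b => and_congr_right fun hb => ⟨fun ⟨a, ha, e⟩ => (h a (hL ha) b hb e).2 ha, fun k =>
    let ⟨a, ha, e, _⟩ := T.dn b hb
    ⟨a, (h a ha b hb e).1 k, e⟩⟩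

theorem f7_up (T : Tr P Φ Ψ) (ng : ∀ b ∈ Ψ, -b ∈ Ψ) (hL : L ⊆ Φ) (h : ∀ a ∈ Φ, ∀ b ∈ Ψ, P *ᵥ a.2 = b.2 → (b ∈ ΨL ↔ a ∈ L))
    (h7 : F7 Φ L L) : F7 Ψ {b | b ∈ Ψ ∧ b ∈ ΨL} ΨL := by
  obtain ⟨S, Φ₁, T₁, h1, h2⟩ := h7
  have h3 : Φ₁ ⊆ Φ := h2.elim (fun e => e.ge) fun ⟨_, _, _, e, _⟩ => e ▸ Set.subset_union_left
  refine ⟨_, _, T₁.comp (tr_res T h3 T₁.nm), fun b => ?_, h2.imp (fun e => ?_) fun ⟨β, k1, k2, e, k3⟩ => ?_⟩
  · rw [← im_eq T hL h]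
    constructor
    · rintro ⟨hb, a, ha, e⟩
      obtain ⟨k1, x, x1, x2, x3⟩ := (h1 a).1 ha
      exact ⟨⟨hb, a, k1, e⟩, x, x1, x2, by rw [← mulVec_mulVec, x3, e]⟩
    · rintro ⟨⟨hb, a, ha, e⟩, x, x1, x2, x3⟩
      exact ⟨hb, a, (h1 a).2 ⟨ha, x, x1, x2, T.inj' (by rw [mulVec_mulVec, x3, e])⟩, e⟩
  · refine Set.Subset.antisymm (fun b hb => ?_) fun b hb => hb.1
    obtain ⟨a, ha, a1, -⟩ := T.dn b hb
    exact ⟨hb, a, e ▸ ha, a1⟩
  · have b0 : β ∈ Φ := e ▸ .inr (.inl rfl)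
    have b1 : -β ∈ Φ := e ▸ .inr (.inr rfl)
    obtain ⟨γ, g1, g2, -⟩ := T.up β b0
    have g3 : P *ᵥ (-β).2 = (-γ).2 := by rw [Prod.snd_neg, Prod.snd_neg, mulVec_neg, g2]
    refine ⟨γ, fun k => k1 ((h β b0 γ g1 g2).1 k), fun k => k2 ((h _ b1 _ (ng γ g1) g3).1 k),
      Set.Subset.antisymm (fun b hb => ?_) ?_, ?_⟩
    · obtain ⟨a, ha, a1, -⟩ := T.dn b hb
      rcases (e ▸ ha : a ∈ Φ₁ ∪ {β, -β}) with k | rfl | rfl
      exacts [.inl ⟨hb, a, k, a1⟩, .inr (.inl (T.ext b hb γ g1 (a1.symm.trans g2))),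
        .inr (.inr (T.ext b hb _ (ng γ g1) (a1.symm.trans g3)))]
    · rintro b (k | rfl | rfl)
      exacts [k.1, g1, ng γ g1]
    · rintro b ⟨hb, a, ha, a1⟩
      rw [tr_dot T (h3 ha) hb a1 g2, tr_dot T b0 g1 g2 a1]
      exact k3 a ha

theorem f8_up (T : Tr P Φ Ψ) (h : ∀ a ∈ Φ, ∀ b ∈ Ψ, P *ᵥ a.2 = b.2 → (b ∈ ΨL ↔ a ∈ L)) (h8 : F8 Φ L) : F8 Ψ ΨL := by
  obtain ⟨S, T₁, h1⟩ := h8
  refine ⟨_, T₁.comp T, fun x hx b hb e => ?_⟩
  obtain ⟨a, ha, a1, -⟩ := T₁.up x hx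
  exact (h a ha b hb (by rw [← a1, mulVec_mulVec, e])).trans (h1 x hx a ha a1)

theorem tr_neg {C : Mat I} {D : I → ℤ} (H : Rs C D) (T : Tr P (Rc C) Ψ) : ∀ b ∈ Ψ, -b ∈ Ψ := fun b hb => by
  obtain ⟨a, ha, a1, a2⟩ := T.dn b hb
  obtain ⟨c, hc, c1, c2⟩ := T.nm b hb b hb
  have h2 : b.1 ⬝ᵥ b.2 = 2 := by rw [← a1, dotProduct_mulVec, a2, H.two a ha]
  have h3 := congrArg (· ᵥ* rfm b) c2
  simp only [vecMul_vecMul, rfm_sq h2, vecMul_one] at h3
  convert hc using 1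
  refine Prod.ext ?_ ?_
  · rw [h3, vecMul_rfm, h2, Prod.fst_neg]
    module
  · rw [← c1, rfm_mulVec, h2, Prod.snd_neg]
    module

theorem sat_inc {J : I → Prop} [DecidablePred J] {l : ℕ} (h : Sat l P) : Sat l (P * inc J) := fun β hβ j => by
  have := h (inc J *ᵥ β) (fun i => by rw [mulVec_mulVec]; exact hβ i) j
  rwa [show (inc J *ᵥ β) j = β j by simp [inc, mulVec, dotProduct, one_apply, Subtype.ext_iff.symm]] at this

theorem twi_one (ΨL : RS R) : Twi q 2 A ΨL V 1 :=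
  ⟨⟨0, one_pow _⟩, fun _ => by rw [map_one, map_one], fun _ _ => map_one _, fun _ _ _ => by rw [map_one, map_one]⟩

/-- **the pure statement** -/
theorem pure (H : Bz) (hB : Bs 8 Ψ) (hs : Sc 2 Ψ) (h : Cb Ψ q 2 d A ΨL V c s) :
    NoMix Ψ ΨL c ∨ (¬ Bs 6 Ψ ∧ T7 Ψ A ΨL c) ∨
      (¬ Bs 7 Ψ ∧ ∃ t, Twi q 2 A ΨL V t ∧ (NoMix Ψ ΨL (c * t) ∨ T7 Ψ A ΨL (c * t))) := by
  classical
  obtain ⟨e, hq⟩ := h.pq
  obtain ⟨n, n1, n2⟩ := h.fin
  obtain ⟨m, m1, m2⟩ := h.od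
  obtain ⟨t, i, t1, rfl⟩ := h.cs
  obtain ⟨f, f1, f2⟩ := h.k2
  have ho : Odd q := Int.not_even_iff_odd.1 fun k => hq.nd (even_iff_two_dvd.1 k)
  obtain ⟨ε, hε⟩ : ∃ ε : ℤˣ, IsPrimitiveRoot ((ε : ℤ) : ℂ) d := by
    rcases hq.two.2 with ⟨rfl, -⟩ | ⟨rfl, -⟩
    exacts [⟨1, by simp⟩, ⟨-1, by simpa using IsPrimitiveRoot.neg_one 0 (by decide)⟩]
  have hL : ΨL ⊆ Ψ := by
    obtain ⟨_, rfl⟩ := h.lev
    exact fun _ k => k.1
  obtain ⟨lam, rfl, l1⟩ := H.lam Ψ ΨL A ε n (let ⟨_, C, d, _, _, k, T⟩ := hB; tr_fin T (boxRs C d k).fin) hL n1 n2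
    (fun k => h.ell ⟨_, hε, k⟩) fun a ha k => let ⟨y, y1, _, y2⟩ := h.out _ hε a ha k; ⟨y, y1, y2⟩
  obtain ⟨s1, r, C, D, P₀, hC, T₀⟩ := base_zc hB Nat.prime_two hs m1 m2
  have hR := boxRs C D hC
  have a1 := nm_zc n1 n2 h.nm h.fs
  have a2 := nm_zc n1 n2 h.nmL h.fs
  obtain ⟨P, X, μ, T, x1, x2, x3, x4⟩ := H.ad C D P₀ _ A ε lam hC T₀ a1 l1
  obtain ⟨-, p2, p3, -⟩ := H.par C D μ hC x3
  have x5 : ∀ a ∈ Rc C, ∀ b ∈ Zc Ψ s, P *ᵥ a.2 = b.2 → (b ∈ lev Ψ lam ↔ a ∈ lev (Rc C) μ) := fun a ha b hb k =>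
    (and_iff_right hb.1).trans ((x4 a ha b hb k).trans (and_iff_right ha).symm)
  have z0 : {b | b ∈ Zc Ψ s ∧ b ∈ lev Ψ lam} = Zc (lev Ψ lam) s :=
    Set.ext fun b => ⟨fun k => ⟨k.2, k.1.2⟩, fun k => ⟨⟨k.1.1, k.2⟩, k.1⟩⟩
  have T1 := tr_res T (fun _ k => k.1 : lev (Rc C) μ ⊆ _) (nm_lev (nm_rc hR) μ)
  rw [im_eq T (fun _ k => k.1) x5, z0] at T1
  have T2 := p3.comp T1
  have hR' := boxRs _ _ p2
  obtain ⟨X', x6⟩ := Gl.exists_B hR' T2 a2
  have s2 := sat_inc (J := Jz C μ) (Gl.sat hR T s1)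
  have an : An (Zc (lev Ψ lam) s) 2 1 A :=
    hq.two.1 ▸ T2.cu_up hR' x6 a2 s2 (H.cu _ _ X' 2 p2 (T2.nm_dn x6 a2)) q d e f hq f1 A (Co.refl _ _) f2
  have sv := sv_of H.cu p2 (T2.nm_dn x6 a2) hq (hy_up T2 hR' x6 a2 Nat.prime_two s2 f1) (Co.refl _ _)
    (by rwa [T2.up_eq hR' x6 a2 (Co.refl _ _) x6])
  have cn := H.cn _ _ _ _ A q t i p2 T2 a2 an ho t1 fun v => by
    have := h.fx v
    rwa [map_mul, map_mul, h.fs v, mul_right_inj] at this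
  have z1 : Zc Ψ (s * t) ⊆ Zc Ψ s := fun a ha => ⟨ha.1, ((Gl.chr_mul_iff Nat.prime_two m1 m2 t1 _).1 ha.2).1⟩
  have z2 : Zc (lev Ψ lam) (s * t) = Zc (lev Ψ lam) s := Set.Subset.antisymm
    (fun a ha => ⟨ha.1, ((Gl.chr_mul_iff Nat.prime_two m1 m2 t1 _).1 ha.2).1⟩) fun a ha =>
      ⟨ha.1, by rw [map_mul, ha.2, cn a ha, one_mul]⟩
  have rk : r ≤ 8 := (Fintype.card_fin r).ge.trans (H.rk.le 8 Ψ _ C D P hB (fun _ k => k.1) hC T)
  rcases str H.par H.dg H.d4 hC ((Fintype.card_fin r).trans_le rk) (T.nm_dn x1 a1) x2 x3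
    (fun ν hν k => an ν hν (T1.eig_up x1 k)) sv with k | k | k
  · refine .inl fun a ha ha' b hb => ?_
    obtain ⟨a', k1, k2, -⟩ := T.dn a (z1 ha)
    obtain ⟨b', k3, k4, k5⟩ := T1.dn b (z2 ▸ hb)
    rw [← k2, dotProduct_mulVec, k5]
    exact k a' k1 (fun k => ha' ((x5 a' k1 a (z1 ha) k2).2 k)) b' k3
  · have k1 := f7_up T (tr_neg hR T) (fun _ k => k.1) x5 k
    rw [z0] at k1
    refine (H.e7 Ψ _ _ s hL z1 z2 k1).imp_right fun k2 => .inl ⟨fun k3 => ?_, k2, z2.symm ▸ an, ε, lam, rfl, l1⟩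
    obtain ⟨S, Ψ₁, k4, -, k5⟩ := k1
    have k6 : Ψ₁ ⊆ Zc Ψ s := k5.elim (fun e => e.ge) fun ⟨_, _, _, e, _⟩ => e ▸ Set.subset_union_left
    exact absurd (H.rk.le 6 Ψ Ψ₁ _ _ S k3 (fun _ k => (k6 k).1) H.rk.c7 k4) (by decide)
  · have k1 := f8_up T x5 k
    obtain ⟨S, k2, -⟩ := id k1
    have k3 : Zc Ψ s = Ψ := Set.Subset.antisymm (fun _ k => k.1) fun b hb => ⟨hb, by
      obtain ⟨x, hx⟩ := H.rk.e8 Ψ _ S hB (fun _ k => k.1) k2 b hb
      rw [← hx, pi_eq_sum_univ' x, mulVec_sum, chr_sum]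
      refine Finset.prod_eq_one fun j _ => ?_
      obtain ⟨a, a3, a4, -⟩ := k2.up _ ((boxRs _ _ H.rk.c8).mem j)
      rw [mulVec_smul, chr_zsmul, show S *ᵥ _ = a.2 from (congrArg _ (funext fun y => by simp [sp, Pi.single_apply])).trans a4, a3.2,
        _root_.one_zpow]⟩
    have k4 : Zc (lev Ψ lam) s = lev Ψ lam := Set.Subset.antisymm (fun _ k => k.1) fun b hb => ⟨hb, (k3.ge hb.1).2⟩
    rw [k3] at k1
    rw [k4] at z2 an
    obtain ⟨u, u1, u2⟩ := H.e8 Ψ A q ε lam V (s * t) k1 h.nm l1 ho h.vw (fun v hv => (h.vn v hv).1) h.vl fun a ha => (z2.ge ha).2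
    have k5 : Zc (lev Ψ lam) (s * t * u) = lev Ψ lam := Set.Subset.antisymm (fun _ k => k.1) fun b hb =>
      ⟨hb, by rw [map_mul, (z2.ge hb).2, u1.cen b hb, one_mul]⟩
    exact .inr (.inr ⟨fun k6 => absurd (H.rk.le 7 Ψ _ _ _ S k6 (fun _ k => k.1) H.rk.c8 k2) (by decide), u, u1,
      u2.imp_right fun k6 => ⟨k5.symm ▸ k6, k5.symm ▸ an, ε, lam, rfl, l1⟩⟩)

theorem Bs.mono {n n' : ℕ} (h : Bs n Ψ) (e : n ≤ n') : Bs n' Ψ :=
  let ⟨m, C, d, P, h1, h2⟩ := h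
  ⟨m, C, d, P, h1.trans e, h2⟩

end Comb

variable {p : ℕ} [Fact p.Prime] {k : Type} [Field k] [CharP k p] [IsAlgClosed k] {Y : Type} [Group Y] {N : Type}
  [Fintype N] [DecidableEq N] {ρ : Y →* GL N k} {F : MulAut Y} {G : Subgroup Y} {D : Datum p ρ F G}

/-- the rank of a datum -/
theorem bs_of_iso (H : Bz) [Fintype ↥(GF F G)] {R' : Type} [Fintype R'] [DecidableEq R'] {Ψ' : RS R'} (h : Iso (rts D) Ψ') {n : ℕ}
    (hn : Fintype.card R' ≤ n) : Bs n (rts D) :=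
  let ⟨m, C, d, P, h1, h2⟩ := boxDt p D
  (H.rk.iso m _ _ ⟨m, C, d, P, le_rfl, h1, h2⟩ h).mono hn

/-- **rank at most six** -/
theorem cmb6 (H : Bz) (hB : Bs 6 (rts D)) (hs : Lie.SC 2 (rts D)) (B : Mat D.R) (z : Prop) (T : Mat D.R → RS D.R → Lb D.R → Prop) :
    Cmb D B 2 z T := fun _ _ _ _ _ c _ h => by
  rcases pure H (hB.mono (by decide)) hs h with k | k | k
  exacts [⟨1, twi_one _, fun _ => rfl, .inl ((mul_one c).symm ▸ k)⟩, (k.1 hB).elim, (k.1 (hB.mono (by decide))).elim]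

/-- **rank at most seven** -/
theorem cmb7 (H : Bz) (hB : Bs 7 (rts D)) (hs : Lie.SC 2 (rts D)) (B : Mat D.R) (z : Prop) : Cmb D B 2 z (T7 (rts D)) :=
  fun _ _ _ _ _ c _ h => by
    rcases pure H (hB.mono (by decide)) hs h with k | k | k
    exacts [⟨1, twi_one _, fun _ => rfl, .inl ((mul_one c).symm ▸ k)⟩, ⟨1, twi_one _, fun _ => rfl, .inr ((mul_one c).symm ▸ k.2)⟩,
      (k.1 hB).elim]

/-- **rank at most eight** -/
theorem cmb8 (H : Bz) (hB : Bs 8 (rts D)) (hs : Lie.SC 2 (rts D)) (B : Mat D.R) : Cmb D B 2 False (T7 (rts D)) :=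
  fun _ _ _ _ _ c _ h => by
    rcases pure H hB hs h with k | k | ⟨-, t, k1, k2⟩
    exacts [⟨1, twi_one _, fun _ => rfl, .inl ((mul_one c).symm ▸ k)⟩, ⟨1, twi_one _, fun _ => rfl, .inr ((mul_one c).symm ▸ k.2)⟩,
      ⟨t, k1, False.elim, k2⟩]

end Cfsg.Agent.BZ.RT.Z2
end

-- part: BZ/RT/Z2Ad
section
/-!
# BZ / RT : an adapted base (helper57)

* `Ad.fin_Wc` : the Weyl group of a Cartan matrix is finite; `Ad.exists_dom` : dominant vectors;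
* `Ad.exists_dn` : the projection of a vector to the coroot lattice, up to the determinant; `boxAd`.
-/

set_option autoImplicit false
set_option linter.unusedSectionVars false

namespace Cfsg.Agent.BZ.RT.Z2

open Cfsg Matrix Cfsg.Agent.HZ.L Cfsg.Agent.BZ.TA Cfsg.Agent.OM.Cu

namespace Ad

variable {R I : Type} [Fintype R] [DecidableEq R] [Fintype I] [DecidableEq I] {C : Mat I} {d : I → ℤ} {P : Matrix R I ℤ} {Ψ : RS R}

theorem fin_Wc (H : Rs C d) : (Wc C : Set (Mat I)).Finite := by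
  refine Set.Finite.of_finite_image (f := fun w i => w *ᵥ (sp C i).2) ((Set.Finite.pi' fun _ : I => H.fin.image Prod.snd).subset ?_)
    fun w _ w' _ e => ext_of_mulVec_single fun i => congrFun e i
  rintro _ ⟨w, hw, rfl⟩ i
  obtain ⟨b, hb, e, -⟩ := H.nm w hw _ (H.mem i)
  exact ⟨b, hb, e.symm⟩

theorem exists_dom (H : Rs C d) (v : Vec I) : ∃ u ∈ Wc C, Dom C (u *ᵥ v) := by
  obtain ⟨u, hu, h⟩ := Set.exists_max_image _ (fun u : Mat I => ∑ j, (u *ᵥ v) j) (fin_Wc H) ⟨1, one_mem _⟩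
  refine ⟨u, hu, fun i => ?_⟩
  have h1 := h _ (mul_mem (RsP.s_mem i) hu)
  have h2 : ∑ j, (sp C i).2 j = 1 := by simp [sp]
  simp only [← mulVec_mulVec, rfm_mulVec, Pi.sub_apply, Pi.smul_apply, smul_eq_mul, Finset.sum_sub_distrib, ← Finset.mul_sum, h2] at h1
  omega

theorem tr_w (H : Rs C d) {u : Mat I} (hu : u ∈ Wc C) : Tr u (Rc C) (Rc C) :=
  ⟨fun _ h => Ch.inj H (H.nm u hu) (h.trans (mulVec_zero _).symm), H.nm u hu, TrL.nm_surj H (H.nm u hu), H.ext,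
    fun _ hb => H.nm _ (H.ww ▸ rfm_mem hb)⟩

theorem fix {z : Vec R} (hz : ∀ b ∈ Ψ, b.1 ⬝ᵥ z = 0) {w : Mat R} (hw : w ∈ WW Ψ) : w *ᵥ z = z := by
  induction hw using Submonoid.closure_induction with
  | mem _ hx =>
    obtain ⟨a, ha, rfl⟩ := hx
    rw [rfm_mulVec, hz a ha, zero_smul, sub_zero]
  | one => exact one_mulVec _
  | mul _ _ _ _ hx hy => rw [← mulVec_mulVec, hy, hx]

theorem exists_dn (h : Car C d) (T : Tr P (Rc C) Ψ) (lam : Vec R) :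
    ∃ v : Vec I, ∀ a ∈ Rc C, ∀ b ∈ Ψ, P *ᵥ a.2 = b.2 → a.1 ⬝ᵥ v = C.det * (b.1 ⬝ᵥ lam) := by
  have H := boxRs C d h
  choose b b1 b2 b3 using fun i => T.up _ (H.mem i)
  have key : ∀ z, (∀ i, (b i).1 ⬝ᵥ z = 0) → ∀ c ∈ Ψ, c.1 ⬝ᵥ z = 0 := fun z hz c hc => by
    obtain ⟨a, ⟨w, h1, i, h2, -⟩, h3, -⟩ := T.dn c hc
    obtain ⟨w', h4, h5⟩ := TrL.ww_up (Ψ := Set.range b) (P := P) (by
      rintro _ ⟨j, rfl⟩
      exact ⟨_, ⟨j, rfl⟩, b2 j, b3 j⟩) h1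
    obtain ⟨c', h6, h7, h8⟩ := T.nm_ww (WW_mono (Set.range_subset_iff.2 b1) h4) _ (b1 i)
    obtain rfl := T.ext c hc c' h6 (by rw [← h7, ← b2, mulVec_mulVec, h5, ← mulVec_mulVec, h2, h3])
    rw [← fix (Set.forall_mem_range.2 hz) h4, dotProduct_mulVec, h8, hz]
  refine ⟨(fun i => (b i).1 ⬝ᵥ lam) ᵥ* adjugate C, fun a ha c hc e => ?_⟩
  obtain ⟨c', h1, h2, h3⟩ := T.up a ha
  obtain rfl := T.ext c hc c' h1 (e.symm.trans h2)
  have h4 := key (C.det • lam - P *ᵥ ((fun i => (b i).1 ⬝ᵥ lam) ᵥ* adjugate C)) (fun i => by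
    rw [dotProduct_sub, dotProduct_smul, dotProduct_mulVec, b3, RsP.sp_dot, vecMul_vecMul, adjugate_mul, vecMul_smul, vecMul_one,
      Pi.smul_apply, sub_self]) c hc
  rw [dotProduct_sub, dotProduct_smul, dotProduct_mulVec, h3, sub_eq_zero] at h4
  exact h4.symm

end Ad

/-- **[Ad]** -/
theorem boxAd : BoxAd := by
  intro R I _ _ _ _ C d P Ψ A ε lam h T hA he
  have H := boxRs C d h
  obtain ⟨v, hv⟩ := Ad.exists_dn h T lam
  obtain ⟨B, hB⟩ := Gl.exists_B H T hA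
  have h1 : B *ᵥ v = ε • v := sub_eq_zero.1 (H.top _ fun a ha => by
    obtain ⟨a', a1, a2, a3⟩ := TrL.nm_surj H (T.nm_dn hB hA) a ha
    obtain ⟨b', b1, b2, -⟩ := T.up a' a1
    obtain ⟨b, c1, c2, c3⟩ := hA b' b1
    rw [dotProduct_sub, dotProduct_mulVec, a3, dotProduct_smul, hv a' a1 b' b1 b2,
      hv a ha b c1 (by rw [← a2, mulVec_mulVec, ← hB, ← mulVec_mulVec, b2, c2]), ← c3, ← dotProduct_mulVec, he, dotProduct_smul,
      smul_eq_mul, smul_eq_mul]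
    ring)
  obtain ⟨u, hu, h2⟩ := Ad.exists_dom H v
  obtain ⟨u', hu', h3, -⟩ := H.inv u hu
  have h4 : u' *ᵥ (u *ᵥ v) = v := by rw [mulVec_mulVec, h3, one_mulVec]
  refine ⟨P * u', u * B * u', u *ᵥ v, (Ad.tr_w H hu').comp T, ?_, ?_, h2, fun a ha b hb e => ?_⟩
  · rw [← Matrix.mul_assoc, hB, Matrix.mul_assoc, Matrix.mul_assoc, ← mul_assoc, ← mul_assoc, h3, one_mul]
  · rw [← mulVec_mulVec, h4, ← mulVec_mulVec, h1, mulVec_smul]
  · obtain ⟨a', a1, a2, a3⟩ := H.nm u' hu' a ha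
    rw [← a3, ← dotProduct_mulVec, h4, hv a' a1 b hb (by rw [← a2, mulVec_mulVec, e]), mul_eq_zero, or_iff_right (RsP.det_ne h)]

end Cfsg.Agent.BZ.RT.Z2
end

private theorem dce_5ba9bc46c38f : _root_.True := by
  try have : _root_.True := by simp only [_root_.Cfsg.Agent.BZ.RT.Z2.inc.eq_1]
  exact _root_.True.intro
end

-- part: BZ/RT/Z2Lam
section
set_option linter.all false
open scoped Cfsg.Agent.FastGrp

/-!
# BZ / RT : `boxLam`, `boxCn` (helper22)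
-/

set_option autoImplicit false
set_option linter.unusedSectionVars false

namespace Cfsg.Agent.BZ.RT.Z2

open Cfsg Matrix Cfsg.Agent.DL Cfsg.Agent.HZ.L Cfsg.Agent.BZ.TA Cfsg.Agent.BZ.TA.Cl Cfsg.Agent.OM.Cu
open Cfsg.Agent.HZ.L.X (Zc Cen)

namespace LamA

variable {R : Type} [Fintype R] [DecidableEq R]

/-- finitely many non zero functionals have a common non zero point -/
theorem exists_pt {ι : Type} (s : Finset ι) (f : ι → Vec R) (h : ∀ a ∈ s, f a ≠ 0) : ∃ x : Vec R, ∀ a ∈ s, f a ⬝ᵥ x ≠ 0 := by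
  classical
  induction s using Finset.induction_on with
  | empty => exact ⟨0, fun _ h => absurd h (Finset.notMem_empty _)⟩
  | insert a s _ ih =>
    obtain ⟨x, hx⟩ := ih fun b hb => h b (Finset.mem_insert_of_mem hb)
    by_cases k : f a ⬝ᵥ x = 0
    · obtain ⟨i, hi⟩ := Function.ne_iff.1 (h a (Finset.mem_insert_self a s))
      refine ⟨(1 + ∑ b ∈ s, |f b i|) • x + Pi.single i 1, fun b hb => ?_⟩
      rw [dotProduct_add, dotProduct_smul, dotProduct_single, mul_one, smul_eq_mul]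
      rcases Finset.mem_insert.1 hb with rfl | hb
      · rwa [k, mul_zero, zero_add]
      · intro e
        have h1 : |f b i| ≤ ∑ b ∈ s, |f b i| := Finset.single_le_sum (f := fun b => |f b i|) (fun _ _ => abs_nonneg _) hb
        have h2 : 1 ≤ |f b ⬝ᵥ x| := Int.one_le_abs (hx b hb)
        have h3 : 0 ≤ ∑ b ∈ s, |f b i| := (abs_nonneg _).trans h1
        have h4 : |f b i| = (1 + ∑ b ∈ s, |f b i|) * |f b ⬝ᵥ x| := by
          rw [eq_neg_of_add_eq_zero_right e, abs_neg, abs_mul, abs_of_nonneg (by omega)]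
        nlinarith
    · exact ⟨x, fun b hb => (Finset.mem_insert.1 hb).elim (fun e => e ▸ k) (hx b)⟩

theorem cast_vec (A : Mat R) (v : Vec R) : A.map (Int.cast : ℤ → ℂ) *ᵥ (fun i => (v i : ℂ)) = fun i => ((A *ᵥ v) i : ℂ) :=
  funext fun i => (RingHom.map_mulVec (Int.castRingHom ℂ) A v i).symm

theorem ev_cast (a v : Vec R) : ev a (fun i => (v i : ℂ)) = ((a ⬝ᵥ v : ℤ) : ℂ) := by
  simp [ev, dotProduct]

theorem sum_fix {B : Mat R} {y : R → ℂ} (h : B.map (Int.cast : ℤ → ℂ) *ᵥ y = y) (m : ℕ) :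
    (∑ k ∈ Finset.range m, B ^ k).map (Int.cast : ℤ → ℂ) *ᵥ y = (m : ℂ) • y := by
  have h1 : ∀ k : ℕ, (B ^ k).map (Int.cast : ℤ → ℂ) *ᵥ y = y := fun k => by
    induction k with
    | zero => rw [pow_zero, Matrix.map_one _ Int.cast_zero Int.cast_one, one_mulVec]
    | succ k ih => rw [pow_succ, TrL.map_mul', ← mulVec_mulVec, h, ih]
  induction m with
  | zero => simp
  | succ m ih =>
    rw [Finset.sum_range_succ, Matrix.map_add _ Int.cast_add, add_mulVec, ih, h1, Nat.cast_succ, add_smul, one_smul]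

end LamA

open LamA in
theorem boxLam : BoxLam := by
  intro R _ _ Ψ ΨL A ε n hf hs hn hA hE hy
  classical
  have e1 : (ε : ℤ) * ε = 1 := Int.units_coe_mul_self ε
  set S : Mat R := ∑ k ∈ Finset.range (2 * n), ((ε : ℤ) • A) ^ k with hS
  have h1 : ((ε : ℤ) • A) * S = S := by
    have := mul_geom_sum ((ε : ℤ) • A) (2 * n)
    rw [smul_pow, mul_comm 2 n, pow_mul A, hA, one_pow, mul_comm n 2, pow_mul, sq, e1, one_pow, one_smul, sub_self, sub_mul, one_mul,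
      sub_eq_zero] at this
    exact this
  have h2 : A * S = (ε : ℤ) • S := by
    rw [← congrArg ((ε : ℤ) • ·) h1]
    simp only [Matrix.smul_mul, smul_smul, e1, one_smul]
  obtain ⟨x, hx⟩ := exists_pt ((hf.subset (Set.sdiff_subset (t := ΨL))).toFinset) (fun a => a.1 ᵥ* S) fun a ha e => by
    rw [Set.Finite.mem_toFinset] at ha
    obtain ⟨y, y1, y2⟩ := hy a ha.1 ha.2
    have h3 : ((ε : ℤ) • A).map (Int.cast : ℤ → ℂ) *ᵥ y = y := by
      have : ((ε : ℤ) • A).map (Int.cast : ℤ → ℂ) = ((ε : ℤ) : ℂ) • A.map (Int.cast : ℤ → ℂ) := by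
        ext i j
        simp only [Matrix.map_apply, Matrix.smul_apply, smul_eq_mul, Int.cast_mul]
      rw [this, smul_mulVec, show A.map (Int.cast : ℤ → ℂ) *ᵥ y = _ from y1, smul_smul, ← Int.cast_mul, e1, Int.cast_one, one_smul]
    have h4 := TrL.ev_rect a.1 S y
    rw [hS, sum_fix h3, TrL.ev_smul, ← hS, show a.1 ᵥ* S = 0 from e] at h4
    refine mul_ne_zero (Nat.cast_ne_zero.2 (by omega)) y2 (h4.trans ?_)
    simp [ev]
  have h5 : A *ᵥ (S *ᵥ x) = (ε : ℤ) • (S *ᵥ x) := by rw [mulVec_mulVec, h2, smul_mulVec]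
  refine ⟨S *ᵥ x, Set.ext fun a => ⟨fun ha => ⟨hs ha, ?_⟩, fun ha => ?_⟩, h5⟩
  · by_contra k
    refine hE ⟨fun i => ((S *ᵥ x) i : ℂ), ?_, a, ha, ?_⟩
    · refine (cast_vec A _).trans ?_
      rw [h5]
      funext i
      simp
    · rw [ev_cast]
      exact Int.cast_ne_zero.2 k
  · by_contra k
    refine hx a ((Set.Finite.mem_toFinset _).2 ⟨ha.1, k⟩) ?_
    rw [← dotProduct_mulVec]
    exact ha.2

theorem boxCn : BoxCn := by
  intro R I _ _ _ _ C d P Ψ A q t i hC T hA hn hq ht hT b hb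
  have H := boxRs C d hC
  obtain ⟨X, hX⟩ := Gl.exists_B H T hA
  obtain ⟨n, h1, h2⟩ := fin_ord H (T.nm_dn hX hA)
  have h3 : ¬ ((2 : ℕ) : ℤ) ∣ (q • X - 1).det := fun k => by
    have h4 : (q : ZMod 2) = 1 := by
      obtain ⟨m, rfl⟩ := hq
      push_cast
      rw [show (2 : ZMod 2) = 0 from rfl, zero_mul, zero_add]
    obtain ⟨μ, y, y1, y2, y3⟩ := eig_two X q 2 _ 1 n
      ⟨Nat.prime_two, fun k => Int.not_even_iff_odd.2 hq (even_iff_two_dvd.2 k), rfl, by rw [h4, orderOf_one]⟩ h1 h2 k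
    refine hn μ y1 (T.eig_up hX ⟨y, y3, ?_⟩)
    by_contra k'
    exact y2 (H.topC y fun a ha => by_contra fun k'' => k' ⟨a, ha, k''⟩)
  have h5 : ∀ v, chr (P *ᵥ ((q • X - 1) *ᵥ v)) t = 1 := fun v => by
    have := hT (P *ᵥ v)
    rw [sub_mulVec, one_mulVec, mulVec_sub, chr_sub, ← this, mulVec_mulVec, mulVec_mulVec, Matrix.smul_mul, Matrix.mul_smul, hX,
      mul_inv_cancel]
  obtain ⟨a, -, a1, -⟩ := T.dn b hb
  have h6 := h5 (adjugate (q • X - 1) *ᵥ a.2)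
  rw [mulVec_mulVec a.2, mul_adjugate, smul_mulVec, one_mulVec, mulVec_smul, a1, chr_zsmul] at h6
  have h7 : chr b.2 t ^ 2 ^ i = 1 := by rw [← map_pow, ht, map_one]
  have h8 : IsCoprime ((2 ^ i : ℕ) : ℤ) (q • X - 1).det := by
    rw [Nat.cast_pow]
    exact IsCoprime.pow_left ((Prime.coprime_iff_not_dvd Int.prime_two).2 h3)
  obtain ⟨u, w, e⟩ := h8
  rw [← _root_.zpow_one (chr b.2 t), ← e, _root_.zpow_add, mul_comm u, mul_comm w, _root_.zpow_mul, _root_.zpow_mul, h6,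
    _root_.zpow_natCast, h7, _root_.one_zpow, _root_.one_zpow, mul_one]

end Cfsg.Agent.BZ.RT.Z2
end

-- part: BZ/RT/C5L
section
prune_inst 0x8000000000000000000000000000010000000
set_option linter.all false
open scoped Cfsg.Agent.FastGrp

/-!
# BZ / RT : `boxLd` (helper81)
-/

set_option autoImplicit false
set_option linter.unusedSectionVars false

namespace Cfsg.Agent.BZ.RT.C5

open Cfsg Matrix Polynomial Cfsg.Agent.DL Cfsg.Agent.HZ.L Cfsg.Agent.BZ.TA Cfsg.Agent.BZ.TA.Cl Cfsg.Agent.OM.Cu Cfsg.Agent.OM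

namespace LdA

variable {R : Type} [Fintype R] [DecidableEq R]

theorem aeval_eig {M : Matrix R R ℂ} {μ : ℂ} {y : R → ℂ} (h : M *ᵥ y = μ • y) (g : ℂ[X]) : aeval M g *ᵥ y = g.eval μ • y := by
  induction g using Polynomial.induction_on with
  | C a => rw [aeval_C, eval_C, Algebra.algebraMap_eq_smul_one, smul_mulVec, one_mulVec]
  | add f g hf hg => rw [map_add, add_mulVec, hf, hg, eval_add, add_smul]
  | monomial n a ih =>
    rw [pow_succ, ← mul_assoc, map_mul, aeval_X, ← mulVec_mulVec, h, mulVec_smul, ih, eval_mul (q := X), eval_X, smul_smul, mul_comm]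

/-- a functional which is not zero on the kernel of a separable polynomial is not zero on an eigenvector -/
theorem exists_eig (M : Matrix R R ℂ) (a : Vec R) (s : Finset ℂ) (z : R → ℂ) (h : aeval M (∏ ν ∈ s, (X - C ν)) *ᵥ z = 0)
    (hz : ev a z ≠ 0) : ∃ ν ∈ s, ∃ y, M *ᵥ y = ν • y ∧ ev a y ≠ 0 := by
  classical
  induction s using Finset.induction_on generalizing z with
  | empty =>
    rw [Finset.prod_empty, map_one, one_mulVec] at h
    exact absurd (by simp [h, ev]) hz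
  | insert b s hb ih =>
    set y := aeval M (∏ ν ∈ s, (X - C ν)) *ᵥ z with hy
    have h1 : M *ᵥ y = b • y := by
      rw [Finset.prod_insert hb, map_mul, ← mulVec_mulVec, ← hy, map_sub, aeval_X, aeval_C, Algebra.algebraMap_eq_smul_one, sub_mulVec,
        smul_mulVec, one_mulVec, sub_eq_zero] at h
      exact h
    by_cases k : ev a y = 0
    · have hc : (∏ ν ∈ s, (X - C ν) : ℂ[X]).eval b ≠ 0 := by
        rw [eval_prod]
        exact Finset.prod_ne_zero_iff.2 fun ν hν => by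
          rw [eval_sub, eval_X, eval_C]
          exact sub_ne_zero.2 fun e => hb (e ▸ hν)
      obtain ⟨ν, hν, r⟩ := ih (z - ((∏ ν ∈ s, (X - C ν) : ℂ[X]).eval b)⁻¹ • y)
        (by rw [mulVec_sub, mulVec_smul, aeval_eig h1, smul_smul, inv_mul_cancel₀ hc, one_smul, ← hy, sub_self])
        (by rwa [ev, dotProduct_sub, dotProduct_smul, show _ ⬝ᵥ y = 0 from k, smul_zero, sub_zero])
      exact ⟨ν, Finset.mem_insert_of_mem hν, r⟩
    · exact ⟨b, Finset.mem_insert_self _ _, y, h1, k⟩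

theorem map_aeval (A : Mat R) (g : ℤ[X]) :
    (aeval A g).map (Int.cast : ℤ → ℂ) = aeval (A.map (Int.cast : ℤ → ℂ)) (g.map (Int.castRingHom ℂ)) := by
  have h := Polynomial.aeval_algHom_apply ((Int.castRingHom ℂ).mapMatrix (m := R)).toIntAlgHom A g
  rw [show Int.castRingHom ℂ = algebraMap ℤ ℂ from rfl, aeval_map_algebraMap]
  exact h.symm

end LdA

open LdA Z2.LamA in
theorem boxLd : BoxLd := by
  intro R _ _ Ψ ΨL A d n hf hs hd hn hA hE hy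
  classical
  obtain ⟨g, hg⟩ : cyclotomic d ℤ ∣ X ^ (d * n) - 1 :=
    (cyclotomic.dvd_X_pow_sub_one d ℤ).trans (by rw [pow_mul]; exact sub_one_dvd_pow_sub_one _ _)
  have h1 : aeval A (cyclotomic d ℤ) * aeval A g = 0 := by
    rw [← map_mul, ← hg, map_sub, map_pow, aeval_X, map_one, mul_comm d, pow_mul, hA, one_pow, sub_self]
  obtain ⟨x, hx⟩ := exists_pt ((hf.subset (Set.sdiff_subset (t := ΨL))).toFinset) (fun a => a.1 ᵥ* aeval A g) fun a ha e => by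
    rw [Set.Finite.mem_toFinset] at ha
    obtain ⟨μ, y, hμ, y1, y2⟩ := hy a ha.1 ha.2
    have h4 := TrL.ev_rect a.1 (aeval A g) y
    rw [map_aeval, aeval_eig y1, TrL.ev_smul, show a.1 ᵥ* aeval A g = 0 from e] at h4
    refine mul_ne_zero (fun k => ?_) y2 (h4.trans (by simp [ev]))
    have h5 := congrArg (fun f : ℤ[X] => (derivative (f.map (Int.castRingHom ℂ))).eval μ) hg
    have h6 : (cyclotomic d ℂ).eval μ = 0 := hμ.isRoot_cyclotomic hd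
    simp only [Polynomial.map_mul, map_cyclotomic, derivative_mul, eval_add, eval_mul, k, h6, mul_zero, zero_mul, add_zero,
      Polynomial.map_sub, Polynomial.map_pow, map_X, Polynomial.map_one, derivative_sub, derivative_one, sub_zero, derivative_X_pow,
      eval_pow, eval_X, eval_C] at h5
    exact mul_ne_zero (Nat.cast_ne_zero.2 (Nat.mul_pos hd hn).ne') (pow_ne_zero _ (hμ.ne_zero hd.ne')) h5
  have h5 : aeval A (cyclotomic d ℤ) *ᵥ (aeval A g *ᵥ x) = 0 := by rw [mulVec_mulVec, h1, zero_mulVec]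
  refine ⟨aeval A g *ᵥ x, Set.ext fun a => ⟨fun ha => ⟨hs ha, ?_⟩, fun ha => ?_⟩, h5⟩
  · by_contra k
    obtain ⟨ζ, hζ⟩ : ∃ ζ : ℂ, IsPrimitiveRoot ζ d := ⟨_, Complex.isPrimitiveRoot_exp d hd.ne'⟩
    obtain ⟨ν, hν, y, y1, y2⟩ := exists_eig (A.map (Int.cast : ℤ → ℂ)) a.1 (primitiveRoots d ℂ) (fun i => ((aeval A g *ᵥ x) i : ℂ))
      (by
        rw [← cyclotomic_eq_prod_X_sub_primitiveRoots hζ, ← map_cyclotomic d (Int.castRingHom ℂ), ← map_aeval, cast_vec, h5]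
        funext i
        simp)
      (by rw [ev_cast]; exact Int.cast_ne_zero.2 k)
    exact hE ⟨ν, (mem_primitiveRoots hd).1 hν, y, y1, a, ha, y2⟩
  · by_contra k
    refine hx a ((Set.Finite.mem_toFinset _).2 ⟨ha.1, k⟩) ?_
    rw [← dotProduct_mulVec]
    exact ha.2

end Cfsg.Agent.BZ.RT.C5
end

-- part: BZ/RT/Z2Dg
section
set_option linter.all false
open scoped Cfsg.Agent.FastGrp

/-!
# BZ / RT : proper subdiagrams of connected diagrams (helper44)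
-/

set_option autoImplicit false
set_option linter.unusedSectionVars false

namespace Cfsg.Agent.BZ.RT.Z2

open Cfsg Matrix Cfsg.Agent.DL Cfsg.Agent.HZ.L Cfsg.Agent.BZ.TA Cfsg.Agent.BZ.TA.Cl Cfsg.Agent.OM.Cu

namespace Dg

/-- a branch node -/
structure Br (c : ℕ → ℕ → ℤ) (x a b d : ℕ) : Prop where
  xa : c x a = -1
  xb : c x b = -1
  xd : c x d = -1
  ab : c a b = 0
  ad : c a d = 0
  bd : c b d = 0

/-- the non zero entries are those of a path -/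
structure Pl (c : ℕ → ℕ → ℤ) : Prop where
  dg : ∀ i, c i i = 2
  ne : ∀ i j, c i j ≠ 0 → i = j ∨ i + 1 = j ∨ j + 1 = i

theorem plA : Pl cA := ⟨fun i => if_pos rfl, fun i j h => by unfold cA at h; split_ifs at h <;> omega⟩

theorem plB (n : ℕ) : Pl (cB n) :=
  ⟨fun i => by unfold cB cA; split_ifs <;> omega, fun i j h => by unfold cB cA at h; split_ifs at h <;> omega⟩

theorem plC (n : ℕ) : Pl (cC n) := ⟨fun i => (plB n).dg i, fun i j h => by have := (plB n).ne j i h; omega⟩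

theorem ne_of {c : ℕ → ℕ → ℤ} (h : ∀ i, c i i = 2) {i j : ℕ} {v : ℤ} (e : c i j = v) (hv : v ≠ 2) : i ≠ j := by
  rintro rfl
  exact hv (e.symm.trans (h i))

theorem Pl.nb {c : ℕ → ℕ → ℤ} (h : Pl c) {i j : ℕ} {v : ℤ} (e : c i j = v) (hv : v < 0) : i + 1 = j ∨ j + 1 = i :=
  (h.ne i j (by omega)).resolve_left (ne_of h.dg e (by omega))

theorem Pl.not_br {c : ℕ → ℕ → ℤ} (h : Pl c) {x a b d : ℕ} (k : Br c x a b d) : False := by
  have h1 := h.nb k.xa (by decide)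
  have h2 := h.nb k.xb (by decide)
  have h3 := h.nb k.xd (by decide)
  have h4 := ne_of h.dg k.ab (by decide)
  have h5 := ne_of h.dg k.ad (by decide)
  have h6 := ne_of h.dg k.bd (by decide)
  omega

theorem cT_dg (a n i : ℕ) : cT a n i i = 2 := if_pos rfl

theorem cT_ge (a n i j : ℕ) : -1 ≤ cT a n i j := by
  unfold cT
  split_ifs <;> omega

theorem cT_nb {a n i j : ℕ} (e : cT a n i j = -1) : i ≠ j ∧ ((i + 1 = j ∧ j + 1 < n) ∨ (j + 1 = i ∧ i + 1 < n) ∨ (i = a ∧ j + 1 = n) ∨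
    (j = a ∧ i + 1 = n)) :=
  have h := ne_of (cT_dg a n) e (by decide)
  ⟨h, ((BD.cT_ne a n i j).1 (by omega)).resolve_left h⟩

/-- the branch node of `cT` -/
theorem brT {a n x u v w : ℕ} (k : Br (cT a n) x u v w) : x = a ∧ a + 2 < n ∧
    (u + 1 = a ∨ u = a + 1 ∨ u + 1 = n) ∧ (v + 1 = a ∨ v = a + 1 ∨ v + 1 = n) ∧ (w + 1 = a ∨ w = a + 1 ∨ w + 1 = n) ∧
    u ≠ v ∧ u ≠ w ∧ v ≠ w := by
  have h1 := cT_nb k.xa
  have h2 := cT_nb k.xb
  have h3 := cT_nb k.xd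
  have h4 := ne_of (cT_dg a n) k.ab (by decide)
  have h5 := ne_of (cT_dg a n) k.ad (by decide)
  have h6 := ne_of (cT_dg a n) k.bd (by decide)
  obtain rfl : x = a := by omega
  refine ⟨rfl, by omega, ?_, ?_, ?_, h4, h5, h6⟩
  · clear h2 h3
    omega
  · clear h1 h3
    omega
  · clear h1 h2
    omega

theorem arm {a n u y : ℕ} (h : cT a n u y = -1) (k : cT a n a y = 0) (hn : a + 2 < n) :
    (u + 1 = a → y + 2 = a) ∧ (u = a + 1 → y = a + 2 ∧ a + 3 < n) ∧ u + 1 ≠ n := by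
  have h2 := cT_nb h
  have h5 := ne_of (cT_dg a n) k (by decide)
  refine ⟨fun _ => ?_, fun _ => ?_, fun _ => ?_⟩ <;> omega

/-- the pattern `E₆` -/
theorem patE {a n x0 x1 x2 x3 x4 x5 : ℕ} (k : Br (cT a n) x2 x1 x3 x5) (h0 : cT a n x1 x0 = -1) (h4 : cT a n x3 x4 = -1)
    (k0 : cT a n x2 x0 = 0) (k4 : cT a n x2 x4 = 0) : a + 3 < n ∧ x2 = a ∧ x5 + 1 = n ∧
      ((x0 + 2 = a ∧ x1 + 1 = a ∧ x3 = a + 1 ∧ x4 = a + 2) ∨ (x4 + 2 = a ∧ x3 + 1 = a ∧ x1 = a + 1 ∧ x0 = a + 2)) := by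
  obtain ⟨rfl, h1, h2, h3, h5, h6, h7, h8⟩ := brT k
  obtain ⟨a1, a2, a3⟩ := arm h0 k0 h1
  obtain ⟨b1, b2, b3⟩ := arm h4 k4 h1
  rcases h2 with h2 | h2 | h2
  · have h9 : x3 = x2 + 1 := by omega
    exact ⟨(b2 h9).2, rfl, by omega, .inl ⟨a1 h2, h2, h9, (b2 h9).1⟩⟩
  · have h9 : x3 + 1 = x2 := by omega
    exact ⟨(a2 h2).2, rfl, by omega, .inr ⟨b1 h9, h9, h2, (a2 h2).1⟩⟩
  · exact absurd h2 a3

variable {I : Type} [Fintype I] [DecidableEq I] {C : Mat I} {J : I → Prop} {N n : ℕ} {c c' : ℕ → ℕ → ℤ} {σ : Fin N ≃ I} {e : Fin n → I}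

theorem ent (hσ : ∀ i j, C (σ i) (σ j) = c i j) (h : Emb C J n c' e) (x y : Fin n) : c (σ.symm (e x)) (σ.symm (e y)) = c' x y := by
  rw [← hσ, σ.apply_symm_apply, σ.apply_symm_apply, h.car]

theorem le_of (σ : Fin N ≃ I) (h : Emb C J n c' e) : n ≤ N := by
  simpa using Fintype.card_le_of_injective _ (σ.symm.injective.comp h.inj)

theorem full {σ : Fin n ≃ I} (h : Emb C J n c' e) (i : I) : J i := by
  obtain ⟨x, hx⟩ := Finite.injective_iff_surjective.1 (σ.symm.injective.comp h.inj) (σ.symm i)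
  exact σ.symm.injective hx ▸ h.mem x

theorem mem (h : Emb C J n c' e) {x : Fin N} (y : Fin n) (k : (σ.symm (e y) : ℕ) = x) : J (σ x) := by
  rw [← Fin.ext k, σ.apply_symm_apply]
  exact h.mem y

theorem nb0 {j : I} (H : ∀ x : Fin n, ∃ y : Fin n, y ≠ x ∧ c' x y ≠ 0) : (∃ e, Emb C J n c' e ∧ j ∈ Set.range e) →
    ∃ k, J k ∧ k ≠ j ∧ C j k ≠ 0 := by
  rintro ⟨e, h, x, rfl⟩
  obtain ⟨y, h1, h2⟩ := H x
  exact ⟨e y, h.mem y, h.inj.ne h1, h.car x y ▸ h2⟩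

theorem nb {j : I} (h : SvE C J j) : ∃ k, J k ∧ k ≠ j ∧ C j k ≠ 0 := by
  rcases h with h | h | h | h | h <;> exact nb0 (by decide) h

theorem aut (hσ : ∀ i j, C (σ i) (σ j) = c i j) (h : ∀ π : Equiv.Perm (Fin N), (∀ i j, c (π i) (π j) = c i j) → π * π = 1)
    (π : Equiv.Perm I) (hπ : ∀ i j, C (π i) (π j) = C i j) : π * π = 1 := by
  have h1 := h ((σ.trans π).trans σ.symm) fun i j => by
    rw [← hσ, ← hσ]
    simp only [Equiv.trans_apply, Equiv.apply_symm_apply, hπ]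
  refine Equiv.ext fun i => σ.symm.injective ?_
  simpa using congrArg (· (σ.symm i)) h1

theorem b4 {e : Fin 4 → I} (hσ : ∀ i j, C (σ i) (σ j) = c i j) (h : Emb C J 4 (cT 1 4) e) :
    Br c (σ.symm (e 1)) (σ.symm (e 0)) (σ.symm (e 2)) (σ.symm (e 3)) :=
  ⟨ent hσ h 1 0, ent hσ h 1 2, ent hσ h 1 3, ent hσ h 0 2, ent hσ h 0 3, ent hσ h 2 3⟩

theorem b6 {e : Fin 6 → I} (hσ : ∀ i j, C (σ i) (σ j) = c i j) (h : Emb C J 6 (cT 2 6) e) :
    Br c (σ.symm (e 2)) (σ.symm (e 1)) (σ.symm (e 3)) (σ.symm (e 5)) :=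
  ⟨ent hσ h 2 1, ent hσ h 2 3, ent hσ h 2 5, ent hσ h 1 3, ent hσ h 1 5, ent hσ h 3 5⟩

theorem b8 {e : Fin 8 → I} (hσ : ∀ i j, C (σ i) (σ j) = c i j) (h : Emb C J 8 (cT 2 8) e) :
    Br c (σ.symm (e 2)) (σ.symm (e 1)) (σ.symm (e 3)) (σ.symm (e 7)) :=
  ⟨ent hσ h 2 1, ent hσ h 2 3, ent hσ h 2 7, ent hσ h 1 3, ent hσ h 1 7, ent hσ h 3 7⟩

theorem p6 {a : ℕ} {e : Fin 6 → I} (hσ : ∀ i j, C (σ i) (σ j) = cT a N i j) (h : Emb C J 6 (cT 2 6) e) :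
    a + 3 < N ∧ (σ.symm (e 2) : ℕ) = a ∧ (σ.symm (e 5) : ℕ) + 1 = N ∧
      (((σ.symm (e 0) : ℕ) + 2 = a ∧ (σ.symm (e 1) : ℕ) + 1 = a ∧ (σ.symm (e 3) : ℕ) = a + 1 ∧ (σ.symm (e 4) : ℕ) = a + 2) ∨
        ((σ.symm (e 4) : ℕ) + 2 = a ∧ (σ.symm (e 3) : ℕ) + 1 = a ∧ (σ.symm (e 1) : ℕ) = a + 1 ∧ (σ.symm (e 0) : ℕ) = a + 2)) :=
  patE (b6 hσ h) (ent hσ h 1 0) (ent hσ h 3 4) (ent hσ h 2 0) (ent hσ h 2 4)

/-- the nodes of `E₆` -/
theorem in6 {e : Fin 6 → I} (hσ : ∀ i j, C (σ i) (σ j) = cT 2 N i j) (h : Emb C J 6 (cT 2 6) e) (x : Fin N) :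
    (∃ y, (σ.symm (e y) : ℕ) = x) ↔ (x : ℕ) ≤ 4 ∨ (x : ℕ) + 1 = N := by
  have := p6 hσ h
  simp only [Fin.exists_fin_succ, Fin.succ_zero_eq_one, Fin.succ_one_eq_two, Fin.reduceSucc, IsEmpty.exists_iff, or_false]
  omega

/-- the entries are at least `-1` -/
theorem sl {j : I} (hσ : ∀ i j, C (σ i) (σ j) = c i j) (hc : ∀ i j, -1 ≤ c i j) :
    ¬ (∃ e, Emb C J 4 (cF (-1) (-2)) e ∧ j ∈ Set.range e) ∧ ¬ ∃ e, Emb C J 2 (c2 (-1) (-3)) e ∧ j ∈ Set.range e :=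
  ⟨fun ⟨_, h, _⟩ => absurd (ent hσ h 2 1 ▸ hc _ _) (by decide), fun ⟨_, h, _⟩ => absurd (ent hσ h 1 0 ▸ hc _ _) (by decide)⟩

/-- the types `A`, `B`, `C` -/
theorem path {j : I} (hσ : ∀ i j, C (σ i) (σ j) = c i j) (hc : Pl c) (h2 : ∀ i j, -2 ≤ c i j)
    (h3 : ∀ i j, c i j = -2 → i + 1 = N ∨ j + 1 = N) : ¬ SvE C J j := by
  rintro (⟨e, h, -⟩ | ⟨e, h, -⟩ | ⟨e, h, -⟩ | ⟨e, h, -⟩ | ⟨e, h, -⟩)
  rotate_right
  iterate 4 first | exact absurd (ent hσ h 1 0 ▸ h2 _ _ : -2 ≤ c2 (-1) (-3) (1 : Fin 2) (0 : Fin 2)) (by decide) | exact hc.not_br (b4 hσ h) |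
    exact hc.not_br (b6 hσ h) | exact hc.not_br (b8 hσ h)
  have k1 := h3 _ _ (ent hσ h 2 1)
  have k2 := hc.nb (ent hσ h 2 1) (by decide)
  have k3 := hc.nb (ent hσ h 1 0) (by decide)
  have k4 := hc.nb (ent hσ h 2 3) (by decide)
  have k5 := ne_of hc.dg (ent hσ h 2 0) (by decide)
  have k6 := ne_of hc.dg (ent hσ h 1 3) (by decide)
  have k7 := (σ.symm (e 0)).isLt
  have k8 := (σ.symm (e 1)).isLt
  have k9 := (σ.symm (e 2)).isLt
  have k10 := (σ.symm (e 3)).isLt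
  omega

theorem cA_ge (i j : ℕ) : -1 ≤ cA i j := by
  unfold cA
  split_ifs <;> omega

theorem cB_ge (n i j : ℕ) : -2 ≤ cB n i j ∧ (cB n i j = -2 → i + 1 = n) := by
  have := cA_ge i j
  unfold cB
  by_cases h : j + 1 = i ∧ i + 1 = n
  · exact ⟨(if_pos h).ge, fun _ => h.2⟩
  · rw [if_neg h]
    omega

theorem aut6 (π : Equiv.Perm (Fin 6)) (h : ∀ i j, cT 2 6 (π i) (π j) = cT 2 6 i j) : π * π = 1 := by
  have := patE (⟨h 2 1, h 2 3, h 2 5, h 1 3, h 1 5, h 3 5⟩ : Br (cT 2 6) (π 2) (π 1) (π 3) (π 5)) (h 1 0) (h 3 4) (h 2 0) (h 2 4)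
  have a2 : π 2 = 2 := Fin.ext (by omega)
  have a5 : π 5 = 5 := Fin.ext (by omega)
  have a : (π 0 = 0 ∧ π 1 = 1 ∧ π 3 = 3 ∧ π 4 = 4) ∨ (π 0 = 4 ∧ π 1 = 3 ∧ π 3 = 1 ∧ π 4 = 0) := by
    simp only [Fin.ext_iff]
    omega
  refine Equiv.ext fun i => ?_
  rcases a with ⟨a0, a1, a3, a4⟩ | ⟨a0, a1, a3, a4⟩ <;> fin_cases i <;> simp [*]

theorem aut8 (π : Equiv.Perm (Fin 8)) (h : ∀ i j, cT 2 8 (π i) (π j) = cT 2 8 i j) : π = 1 := by
  have k := patE (⟨h 2 1, h 2 3, h 2 7, h 1 3, h 1 7, h 3 7⟩ : Br (cT 2 8) (π 2) (π 1) (π 3) (π 7)) (h 1 0) (h 3 4) (h 2 0) (h 2 4)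
  have k1 := cT_nb (h 4 5)
  have k2 := cT_nb (h 5 6)
  have k3 := ne_of (cT_dg 2 8) (h 3 5) (by decide)
  have k4 := ne_of (cT_dg 2 8) (h 4 6) (by decide)
  refine Equiv.ext fun i => Fin.ext ?_
  fin_cases i <;> simp only [Fin.reduceFinMk, Fin.zero_eta, Fin.mk_one, Equiv.Perm.coe_one, id] <;> omega

end Dg

open Dg in
/-- **[Dg]** -/
theorem boxDg : BoxDg := by
  rintro I _ _ C d J hC hc hS ⟨j, hj⟩ ⟨i, hi⟩
  have : Nonempty I := ⟨i⟩
  have S := hS j hj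
  rcases boxCl2 C d hC hc with ⟨n, σ, hσ⟩ | ⟨n, -, σ, hσ⟩ | ⟨n, -, σ, hσ⟩ | ⟨n, k, σ, hσ⟩ | ⟨σ, hσ⟩ | ⟨σ, hσ⟩ | ⟨σ, hσ⟩ | ⟨σ, hσ⟩ | ⟨σ, hσ⟩
  · exact absurd S (path hσ plA (fun i j => by have := cA_ge i j; omega) fun i j e => by have := cA_ge i j; omega)
  · exact absurd S (path hσ (plB n) (fun i j => (cB_ge n i j).1) fun i j e => .inl ((cB_ge n i j).2 e))
  · exact absurd S (path hσ (plC n) (fun i j => (cB_ge n j i).1) fun i j e => .inr ((cB_ge n j i).2 e))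
  · rcases S with ⟨e, h, -⟩ | ⟨e, h, -⟩ | ⟨e, h, -⟩ | h | h
    · obtain rfl | k := k.eq_or_lt
      · exact absurd (full (σ := σ) h i) hi
      · obtain ⟨m, rfl⟩ := Nat.exists_eq_add_of_le' (show 5 ≤ n from k)
        refine .inr (.inr ⟨⟨e, h⟩, aut hσ fun π hπ => ?_⟩)
        rcases BD.autD hπ with rfl | rfl
        exacts [mul_one _, Equiv.swap_mul_self _ _]
    · have := (p6 hσ h).1
      omega
    · have := (patE (b8 hσ h) (ent hσ h 1 0) (ent hσ h 3 4) (ent hσ h 2 0) (ent hσ h 2 4)).1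
      omega
    exacts [absurd h (sl hσ (cT_ge _ _)).1, absurd h (sl hσ (cT_ge _ _)).2]
  · rcases S with ⟨e, h, -⟩ | ⟨e, h, -⟩ | ⟨e, h, -⟩ | h | h
    exacts [.inr (.inr ⟨⟨e, h⟩, aut hσ aut6⟩), absurd (full (σ := σ) h i) hi, absurd (le_of σ h) (by decide),
      absurd h (sl hσ (cT_ge _ _)).1, absurd h (sl hσ (cT_ge _ _)).2]
  · rcases S with ⟨e, h, -⟩ | ⟨e, h, -⟩ | ⟨e, h, -⟩ | h | h
    · exact .inr (.inr ⟨⟨e, h⟩, aut hσ fun π hπ => by rw [autE7 π hπ, mul_one]⟩)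
    rotate_left
    · exact absurd (le_of σ h) (by decide)
    · exact absurd h (sl hσ (cT_ge _ _)).1
    · exact absurd h (sl hσ (cT_ge _ _)).2
    have h1 : ∀ x, x ≠ 5 → J (σ x) := fun x hx =>
      let ⟨y, hy⟩ := (in6 hσ h x).2 (by omega)
      mem h y hy
    refine .inl ⟨σ, hσ, fun x => ⟨?_, h1 x⟩⟩
    rintro h2 rfl
    refine hi (σ.apply_symm_apply i ▸ ?_)
    by_cases h3 : σ.symm i = 5
    exacts [h3 ▸ h2, h1 _ h3]
  · rcases S with ⟨e, h, -⟩ | ⟨e, h, -⟩ | ⟨e, h, -⟩ | h | h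
    · exact .inr (.inr ⟨⟨e, h⟩, aut hσ fun π hπ => by rw [aut8 π hπ, mul_one]⟩)
    rotate_left
    · exact absurd (full (σ := σ) h i) hi
    · exact absurd h (sl hσ (cT_ge _ _)).1
    · exact absurd h (sl hσ (cT_ge _ _)).2
    have h5 : ¬ J (σ 5) := fun h2 => by
      obtain ⟨y, hy⟩ := (in6 hσ h 4).2 (by decide)
      obtain ⟨z, hz⟩ := h.cl y _ h2 (by rw [← σ.apply_symm_apply (e y), Fin.ext hy, hσ]; decide)
      exact absurd ((in6 hσ h 5).1 ⟨z, by rw [hz, σ.symm_apply_apply]⟩) (by decide)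
    have h6 : ¬ J (σ 6) := fun h2 => by
      obtain ⟨k, k1, k2, k3⟩ := nb (hS _ h2)
      obtain ⟨z, rfl⟩ := σ.surjective k
      rw [hσ] at k3
      have k4 := σ.injective.ne_iff.1 k2
      exact h5 ((show ∀ z : Fin 8, z ≠ 6 → cT 2 8 (6 : Fin 8) z ≠ 0 → z = 5 by decide) z k4 k3 ▸ k1)
    refine .inr (.inl ⟨σ, hσ, fun x => ⟨fun h2 => ⟨?_, ?_⟩, fun hx => ?_⟩⟩)
    · rintro rfl
      exact h5 h2
    · rintro rfl
      exact h6 h2
    · obtain ⟨y, hy⟩ := (in6 hσ h x).2 (by omega)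
      exact mem h y hy
  · rcases S with ⟨e, h, -⟩ | ⟨e, h, -⟩ | ⟨e, h, -⟩ | ⟨e, h, -⟩ | ⟨e, h, -⟩
    exacts [absurd (full (σ := σ) h i) hi, absurd (le_of σ h) (by decide), absurd (le_of σ h) (by decide),
      absurd (full (σ := σ) h i) hi,
      (show ∀ x y : Fin 4, cF (-1) (-2) x y ≠ -3 by decide) _ _ (ent hσ h 1 0) |>.elim]
  · rcases S with ⟨e, h, -⟩ | ⟨e, h, -⟩ | ⟨e, h, -⟩ | ⟨e, h, -⟩ | ⟨e, h, -⟩
    exacts [absurd (le_of σ h) (by decide), absurd (le_of σ h) (by decide), absurd (le_of σ h) (by decide),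
      absurd (le_of σ h) (by decide), absurd (full (σ := σ) h i) hi]

end Cfsg.Agent.BZ.RT.Z2
end

-- part: BZ/RT/Z2Par
section
prune_inst 0x8000000000000000000000000000014010000
set_option linter.all false
open scoped Cfsg.Agent.FastGrp

/-!
# BZ / RT : standard parabolic subsystems, the stabiliser of a dominant vector (helper11)

`boxPar : BoxPar`.
-/

set_option autoImplicit false
set_option linter.unusedSectionVars false
set_option maxHeartbeats 400000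

namespace Cfsg.Agent.BZ.RT.Z2

open Cfsg Matrix Cfsg.Agent.HZ.L Cfsg.Agent.BZ.TA Cfsg.Agent.BZ.TA.Cl Cfsg.Agent.OM.Cu Cfsg.Agent.ChevalleyStructure.CoxeterGeom

namespace ParT

variable {I : Type} [Fintype I] [DecidableEq I] {C w : Mat I} {d : I → ℤ} {μ : Vec I} {a b : Vec I × Vec I} {Ψ : RS I}

theorem key (h : Car C d) (ha : a ∈ Rc C) :
    ∃ m : ℤ, 0 < m ∧ ∀ v, m * (a.1 ⬝ᵥ v) = ∑ i, a.2 i * d i * ((sp C i).1 ⬝ᵥ v) := by
  obtain ⟨m, hm, e⟩ := RsP.len h ha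
  exact ⟨m, hm, fun v => (e v).symm.trans (Finset.sum_congr rfl fun i _ => by rw [RsP.sp_dot])⟩

/-- positive roots are non negative on a dominant vector -/
theorem nonneg (h : Car C d) (hd : Dom C μ) (ha : a ∈ Rc C) (h0 : 0 ≤ a.2) : 0 ≤ a.1 ⬝ᵥ μ := by
  obtain ⟨m, hm, e⟩ := key h ha
  refine nonneg_of_mul_nonneg_right ?_ hm
  rw [e]
  exact Finset.sum_nonneg fun i _ => mul_nonneg (mul_nonneg (h0 i) (h.dpos i).le) (hd i)

theorem zero_pos (h : Car C d) (hd : Dom C μ) (ha : a ∈ Rc C) (h0 : 0 ≤ a.2) : a.1 ⬝ᵥ μ = 0 ↔ ∀ i, ¬ Jz C μ i → a.2 i = 0 := by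
  obtain ⟨m, hm, e⟩ := key h ha
  rw [← mul_eq_zero_iff_left hm.ne', e,
    Finset.sum_eq_zero_iff_of_nonneg fun i _ => mul_nonneg (mul_nonneg (h0 i) (h.dpos i).le) (hd i)]
  refine ⟨fun k i hi => ?_, fun k i _ => ?_⟩
  · exact (mul_eq_zero.1 ((mul_eq_zero.1 (k i (Finset.mem_univ i))).resolve_right hi)).resolve_right (h.dpos i).ne'
  · by_cases hi : Jz C μ i
    · rw [hi, mul_zero]
    · rw [k i hi, zero_mul, zero_mul]

theorem zero_iff (h : Car C d) (hd : Dom C μ) (ha : a ∈ Rc C) : a.1 ⬝ᵥ μ = 0 ↔ ∀ i, ¬ Jz C μ i → a.2 i = 0 := by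
  rcases (boxRs C d h).pn a ha with h0 | h0
  · exact zero_pos h hd ha h0
  · simpa only [Prod.fst_neg, Prod.snd_neg, neg_dotProduct, Pi.neg_apply, neg_eq_zero] using
      zero_pos h hd (RsP.neg h ha) (neg_nonneg.2 h0)

theorem nm_lev (hw : Nm w Ψ) (hμ : w *ᵥ μ = μ) : Nm w (lev Ψ μ) := fun a ha =>
  let ⟨c, c1, c2, c3⟩ := hw a ha.1
  ⟨c, ⟨c1, by rw [← hμ, dotProduct_mulVec, c3]; exact ha.2⟩, c2, c3⟩

theorem rfm_fix (hb : b.1 ⬝ᵥ μ = 0) : rfm b *ᵥ μ = μ := by rw [RsP.rfm_mulVec, hb, zero_smul, sub_zero]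

section Sub

variable (C) (J : I → Prop) [DecidablePred J]

/-- the simple pairs of `J` -/
def sJ (j : {i // J i}) : Vec I × Vec I := sp C j

theorem Cf_sJ : BaseA.Cf (sJ C J) = res C J := Matrix.ext fun _ _ => dotProduct_single_one _ _

theorem Pf_sJ : BaseA.Pf (sJ C J) = inc J := Matrix.ext fun i j => by
  simp [BaseA.Pf, sJ, sp, inc, one_apply, Pi.single_apply]

theorem inc_vec (β : Vec {i // J i}) (j : {i // J i}) : (inc J *ᵥ β) j = β j := by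
  simp [inc, mulVec, dotProduct, one_apply, Subtype.val_inj]

variable {C}

/-- principal submatrices -/
theorem car_res (h : Car C d) : Car (res C J) fun i => d i := by
  refine ⟨fun j => h.diag j, fun j k e => h.off _ _ fun e' => e (Subtype.ext e'), fun j => h.dpos j, fun j k => h.sym j k,
    fun β hβ => ?_⟩
  refine (h.pos (BaseA.Pf (sJ C J) *ᵥ β) fun e => hβ (funext fun j => ?_)).trans_eq
    ((BaseA.fm_P (C := C) (d := d) β _).trans (Finset.sum_congr rfl fun j _ => ?_))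
  · rw [← inc_vec J β j, ← Pf_sJ C, e]
    rfl
  · rw [← Cf_sJ, BaseA.vecMul_Cf, mul_assoc]
    exact congrArg _ (RsP.fm_sp _ _)

end Sub

theorem dn_pos (h : Car C d) (hd : Dom C μ) (k : ℕ) : ∀ b ∈ lev (Rc C) μ, 0 ≤ b.2 → ∑ i, b.2 i ≤ k →
    BaseA.Dn (sJ C (Jz C μ)) b := by
  have H := boxRs C d h
  induction k with
  | zero => exact fun b hb h0 h1 => absurd (BaseA.ht_pos H hb.1 h0) (not_lt.2 h1)
  | succ k ih =>
    intro b hb h0 h1
    obtain ⟨i, -, h3⟩ := Finset.exists_lt_of_sum_lt (f := fun _ => (0 : ℤ))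
      (Finset.sum_const_zero.trans_lt (h.pos _ (BaseA.ne_zero H hb.1)))
    have h4 : 0 < (sp C i).1 ⬝ᵥ b.2 := RsP.sp_dot i b.2 ▸ pos_of_mul_pos_right h3 (mul_nonneg (h0 i) (h.dpos i).le)
    have h5 : Jz C μ i := by_contra fun h5 => by
      rw [(zero_iff h hd hb.1).1 hb.2 i h5, zero_mul, zero_mul] at h3
      exact lt_irrefl _ h3
    by_cases e : b = sp C i
    · exact e ▸ BaseA.dn_s (sJ C (Jz C μ)) ⟨i, h5⟩
    obtain ⟨b', b1, b2, b3⟩ := nm_lev (H.nm _ (RsP.s_mem i)) (rfm_fix h5) b hb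
    have k2 := RsP.rfm_sq (RsP.sp_two h i)
    refine (ih b' b1 (b2 ▸ H.smp i b hb.1 h0 e) ?_).step ⟨i, h5⟩
      (show rfm (sp C i) *ᵥ _ = _ by rw [← b2, mulVec_mulVec, k2, one_mulVec])
      (show _ ᵥ* rfm (sp C i) = _ by rw [← b3, vecMul_vecMul, k2, vecMul_one])
    have h6 := mul_pos h4 (BaseA.ht_pos H (H.mem i) (Pi.single_nonneg.2 zero_le_one))
    simp only [← b2, RsP.rfm_mulVec, Pi.sub_apply, Pi.smul_apply, smul_eq_mul, Finset.sum_sub_distrib, ← Finset.mul_sum]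
    omega

/-- the simple pairs which vanish are a base of the Levi subsystem -/
theorem tr_lev (h : Car C d) (hd : Dom C μ) : Tr (inc (Jz C μ)) (Rc (res C (Jz C μ))) (lev (Rc C) μ) := by
  have H := boxRs C d h
  have car : Car (BaseA.Cf (sJ C (Jz C μ))) fun i => d i := Cf_sJ C (Jz C μ) ▸ car_res _ h
  rw [← Cf_sJ, ← Pf_sJ C]
  refine BaseA.tr_of car (fun j => ⟨H.mem _, j.2⟩) (fun b hb b' hb' => H.ext b hb.1 b' hb'.1)
    (fun b hb => nm_lev (H.nm _ (RsP.r_mem h hb.1)) (rfm_fix hb.2)) fun b hb => ?_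
  rcases H.pn b hb.1 with h0 | h0
  · exact dn_pos h hd _ b hb h0 (Int.self_le_toNat _)
  · obtain ⟨a, a1, a2, a3⟩ := dn_pos h hd _ (-b) ⟨H.neg b hb.1, by rw [Prod.fst_neg, neg_dotProduct, hb.2, neg_zero]⟩
      (neg_nonneg.2 h0) (Int.self_le_toNat _)
    exact ⟨-a, RsP.neg car a1, by rw [Prod.snd_neg, mulVec_neg, a2, Prod.snd_neg, neg_neg],
      by rw [Prod.fst_neg, ← a3, Prod.fst_neg, neg_vecMul, neg_neg]⟩

/-- the stabiliser of a dominant vector is generated by reflections -/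
theorem stab (h : Car C d) (hd : Dom C μ) (hw : w ∈ Wc C) (hμ : w *ᵥ μ = μ) : w ∈ WW (lev (Rc C) μ) := by
  obtain ⟨g, hg⟩ := RsP.rep_w h hw
  induction hn : (cox C).toCoxeterSystem.length g using Nat.strong_induction_on generalizing g w with
  | _ n ih =>
  by_cases e : g = 1
  · have : w = 1 := Matrix.ext_iff_mulVec.2 fun v => by rw [← hg, e, map_one, one_mulVec, Module.End.one_apply]
    exact this ▸ one_mem _
  obtain ⟨i, hi⟩ := (cox C).toCoxeterSystem.exists_rightDescent_of_ne_one e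
  have h1 := nonpos_of_lt _ (RsP.cartan h) g i hi
  obtain ⟨b, b1, b2, b3⟩ := RsP.nm h hw _ (RsP.mem i)
  have h2 := nonneg h hd (RsP.neg h b1) (neg_nonneg.2 (by rw [← b2, ← hg]; exact h1))
  rw [Prod.fst_neg, neg_dotProduct, neg_nonneg, ← hμ, dotProduct_mulVec, b3] at h2
  have h3 := le_antisymm h2 (hd i)
  have h4 := ih _ (lt_of_lt_of_eq hi hn) (mul_mem hw (RsP.s_mem i)) (by rw [← mulVec_mulVec, rfm_fix h3, hμ]) (g * (cox C).toCoxeterSystem.simple i)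
    (fun x => by rw [rep_mul_apply, RsP.rep_s h, hg, mulVec_mulVec]) rfl
  have h5 := mul_mem h4 (rfm_mem (Ψ := lev (Rc C) μ) ⟨RsP.mem i, h3⟩)
  rwa [mul_assoc, RsP.rfm_sq (RsP.sp_two h i), mul_one] at h5

end ParT

/-- **[Par]** -/
theorem boxPar : BoxPar := fun _ _ _ h hd =>
  ⟨fun _ ha => ParT.zero_iff h hd ha, ParT.car_res _ h, ParT.tr_lev h hd, fun _ => ParT.stab h hd⟩

end Cfsg.Agent.BZ.RT.Z2

private theorem dce_3cc4e3becc61 : _root_.True := by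
  try have : _root_.True := by simp only [_root_.Cfsg.Agent.BZ.RT.Z2.inc.eq_1]
  try have : _root_.True := by simp only [_root_.Cfsg.Agent.BZ.RT.Z2.Jz.congr_simp]
  try have : _root_.True := by simp only [_root_.Cfsg.Agent.BZ.RT.Z2.ParT.sJ.eq_1]
  exact _root_.True.intro
end

-- part: BZ/RT/Z2E
section
prune_inst 0x43000390432e2000000188000422002300c0004b210008000000208440144802020c4284042200000120208092801002811100000420000000a04000008020000002800008148009d440081003209100000008000000000000000000000000000010000000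
set_option linter.all false
open scoped Cfsg.Agent.FastGrp

/-!
# BZ / RT : the labels over `(E₈, E₆)` (helper64)
-/

set_option autoImplicit false
set_option linter.unusedSectionVars false

namespace Cfsg.Agent.BZ.RT.Z2

open Cfsg Matrix Cfsg.Agent.DL Cfsg.Agent.HZ.L Cfsg.Agent.BZ.TA Cfsg.Agent.BZ.TA.Cl Cfsg.Agent.OM.Cu
open Cfsg.Agent.HZ.L.X (Zc Cen)

namespace E8q

section Gen

variable {R I : Type} [Fintype R] [DecidableEq R] [Fintype I] [DecidableEq I] {C : Mat I} {P : Matrix R I ℤ} {Ψ : RS R} {Φ : RS I}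
  {a a' : Vec I × Vec I} {b : Vec R × Vec R} {d : I → ℤ}

theorem fm1 (u v : Vec I) : fm C (fun _ => 1) u v = u ⬝ᵥ (v ᵥ* C) := Finset.sum_congr rfl fun i _ => by rw [mul_one]

theorem dot (h : Car C fun _ => 1) (ha : a ∈ Rc C) (v : Vec I) : a.1 ⬝ᵥ v = v ⬝ᵥ (a.2 ᵥ* C) := by
  obtain ⟨m, -, e⟩ := RsP.len h ha
  have h1 := e a.2
  rw [E7P.fm_two h ha, RsP.two h ha] at h1
  rw [← fm1, RsP.fm_comm h, e, show m = 1 by omega, one_mul]

theorem dot' (h : Car C fun _ => 1) (ha : a ∈ Rc C) (v : Vec I) : a.1 ⬝ᵥ v = a.2 ⬝ᵥ (v ᵥ* C) := by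
  rw [dot h ha, ← fm1, RsP.fm_comm h, fm1]

theorem le_one (h : Car C fun _ => 1) (ha : a ∈ Rc C) (hb : a' ∈ Rc C) :
    (a.2 = a'.2 ∨ a.2 = -a'.2) ∨ (-1 ≤ a.1 ⬝ᵥ a'.2 ∧ a.1 ⬝ᵥ a'.2 ≤ 1) := by
  by_cases h1 : a' = a
  · exact .inl (.inl (h1 ▸ rfl))
  by_cases h2 : a' = -a
  · exact .inl (.inr (by rw [h2, Prod.snd_neg, neg_neg]))
  have h3 := (RsP.cauchy h ha hb h1 h2).1
  rw [dot h hb, ← dot' h ha] at h3
  exact .inr ⟨by nlinarith, by nlinarith only [h3]⟩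

/-- root vectors -/
def Rv (C : Mat I) (v : Vec I) : Prop := ∃ a ∈ Rc C, a.2 = v

theorem Rv.add (h : Car C d) {u : Vec I} {j : I} (hu : Rv C u) (e : (u ᵥ* C) j = -1) : Rv C (u + Pi.single j 1) := by
  obtain ⟨a, ha, rfl⟩ := hu
  obtain ⟨b, hb, h1, -⟩ := RsP.nm h (RsP.s_mem j) a ha
  refine ⟨b, hb, ?_⟩
  rw [← h1, RsP.rfm_mulVec, RsP.sp_dot, e, neg_smul, one_smul, sub_neg_eq_add]
  rfl

theorem chain (h : Car C d) (f : ℕ → Vec I) : ∀ (L : List ℕ) (n : ℕ), Rv C (f n) →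
    List.IsChain (fun n m => ∃ j, (f n ᵥ* C) j = -1 ∧ f m = f n + Pi.single j 1) (n :: L) → ∀ m ∈ L, Rv C (f m)
  | [], _, _, _, _, hm => absurd hm List.not_mem_nil
  | k :: L, n, h1, h2, m, hm => by
    obtain ⟨⟨j, h3, h4⟩, h5⟩ := List.isChain_cons_cons.1 h2
    have h6 : Rv C (f k) := h4 ▸ h1.add h h3
    rcases List.mem_cons.1 hm with rfl | hm
    exacts [h6, chain h f L k h6 h5 m hm]

theorem row (T : Tr P Φ Ψ) (ha : a ∈ Φ) (hb : b ∈ Ψ) (e : P *ᵥ a.2 = b.2) : b.1 ᵥ* P = a.1 := by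
  obtain ⟨b', h1, h2, h3⟩ := T.up a ha
  rw [T.ext b hb b' h1 (e.symm.trans h2), h3]

theorem pair (T : Tr P Φ Ψ) (ha : a ∈ Φ) (hb : b ∈ Ψ) (e : P *ᵥ a.2 = b.2) (v : Vec I) : b.1 ⬝ᵥ (P *ᵥ v) = a.1 ⬝ᵥ v := by
  rw [dotProduct_mulVec, row T ha hb e]

theorem neg_mem (T : Tr P (Rc C) Ψ) (h : Car C d) (hb : b ∈ Ψ) : -b ∈ Ψ := by
  obtain ⟨a, ha, e, -⟩ := T.dn b hb
  have h2 : b.1 ⬝ᵥ b.2 = 2 := by rw [← RsP.two h ha, ← pair T ha hb e, e]
  obtain ⟨b', h3, h4, h5⟩ := T.nm b hb b hb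
  refine (show b' = -b from Prod.ext ?_ (by rw [← h4, Ch.rfm_self h2]; rfl)) ▸ h3
  rw [← vecMul_one b'.1, ← OM.Cu.rfm_sq h2, ← vecMul_vecMul, h5, OM.Cu.vecMul_rfm, h2, Prod.fst_neg]
  module

theorem surj (T : Tr P (Rc C) Ψ) (h : Car C d) {X : Mat R} (hX : Nm X Ψ) (hb : b ∈ Ψ) :
    ∃ b' ∈ Ψ, X *ᵥ b'.2 = b.2 ∧ b.1 ᵥ* X = b'.1 := by
  obtain ⟨X₀, e⟩ := Gl.exists_B (boxRs C d h) T hX
  obtain ⟨a, ha, h1, -⟩ := T.dn b hb
  obtain ⟨a', ha', h2, -⟩ := Ch.surj (boxRs C d h) (T.nm_dn e hX) ha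
  obtain ⟨b', hb', h3, -⟩ := T.up a' ha'
  obtain ⟨b'', h4, h5, h6⟩ := hX b' hb'
  have h7 : X *ᵥ b'.2 = b.2 := by rw [← h3, mulVec_mulVec, e, ← mulVec_mulVec, h2, h1]
  exact ⟨b', hb', h7, T.ext b hb b'' h4 (h7.symm.trans h5) ▸ h6⟩

/-- the values at a vector are linear -/
theorem lin (T : Tr P (Rc C) Ψ) (h : Car C fun _ => 1) (lam : Vec R) :
    ∃ L : I → ℂ, ∀ a ∈ Rc C, ∀ b ∈ Ψ, P *ᵥ a.2 = b.2 → ((b.1 ⬝ᵥ lam : ℤ) : ℂ) = ∑ i, (a.2 i : ℂ) * L i := by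
  obtain ⟨y, hy⟩ := T.dec (boxRs C _ h) fun i => (lam i : ℂ)
  refine ⟨fun i => ∑ j, (C j i : ℂ) * y j, fun a ha b hb e => ?_⟩
  have h1 := hy b hb
  rw [TrL.ev_sub, TrL.ev_rect, row T ha hb e, ev_int, sub_eq_zero] at h1
  have h2 : ∀ j, a.1 j = ∑ i, a.2 i * C j i := fun j => by
    rw [← mul_one (a.1 j), ← dotProduct_single, dot' h ha, single_one_vecMul]
    rfl
  rw [h1]
  show ∑ j, (a.1 j : ℂ) * y j = _
  simp only [h2, Finset.mul_sum, Finset.sum_mul, Int.cast_sum, Int.cast_mul, mul_assoc]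
  exact Finset.sum_comm

theorem chr_prod (P : Matrix R I ℤ) (c : Lb R) (v : Vec I) : chr (P *ᵥ v) c = ∏ j, chr (P *ᵥ Pi.single j 1) c ^ v j := by
  rw [← chr_pl, chr_apply]
  exact Finset.prod_congr rfl fun j _ => by rw [← chr_pl, chr_single]

theorem tr_w (h : Car C d) {w : Mat I} (hw : w ∈ Wc C) : Tr w (Rc C) (Rc C) :=
  have H := boxRs C d h
  ⟨fun _ e => Ch.inj H (H.nm w hw) (e.trans (mulVec_zero w).symm), H.nm w hw, fun _ hb => Ch.surj H (H.nm w hw) hb, H.ext,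
    fun _ hb => H.nm _ (RsP.r_mem h hb)⟩

theorem sg {m n : ℤ} (h : 2 ∣ m - n) : (-1 : ℂˣ) ^ m = (-1) ^ n := by
  obtain ⟨k, e⟩ := h
  rw [show m = n + 2 * k by omega, _root_.zpow_add, _root_.zpow_mul, zpow_two, neg_mul_neg, one_mul, _root_.one_zpow, mul_one]

theorem tl_sg {X : Mat R} {q : ℤ} (hq : Odd q) {f : Vec R} (h : f ᵥ* X = f ∨ f ᵥ* X = -f) :
    _root_.Cfsg.Agent.HZ.L.Tl (q • X) (coch f (-1 : ℂˣ)) (coch f (-1)) := fun v => by
  rw [chr_coch, chr_coch]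
  refine sg ?_
  show 2 ∣ ((q • X) *ᵥ v) ⬝ᵥ f - v ⬝ᵥ f
  obtain ⟨k, rfl⟩ := hq
  rw [smul_mulVec, smul_dotProduct, dotProduct_comm, dotProduct_mulVec, dotProduct_comm v, smul_eq_mul]
  rcases h with h | h <;> rw [h]
  · exact ⟨k * (f ⬝ᵥ v), by ring⟩
  · exact ⟨-(k + 1) * (f ⬝ᵥ v), by rw [neg_dotProduct]; ring⟩

set_option synthInstance.maxSize 2000 in
theorem fix3 : (∀ g : Fin 3 → Fin 3, (∀ i, g (g (g (g i))) = i) → ∀ i, g (g i) = i) ∧
    (∀ g : Fin 3 → Fin 3, (∀ i, g (g i) = i) → ∃ k, g k = k ∧ ((g 0 ≠ 0) → ∀ g' : Fin 3 → Fin 3, (∀ i, g' (g' i) = i) →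
      (∀ i, g' (g (g' (g i))) = i) → g' k = k)) := by decide +kernel

/-- a monoid of two-elements fixes one of three lines -/
theorem fix_line {V : Submonoid (Mat R)} {f : Fin 3 → Vec R} (hf : ∀ i j, f i = f j ∨ f i = -f j → i = j)
    (h1 : ∀ v ∈ V, ∀ i, ∃ j, f i ᵥ* v = f j ∨ f i ᵥ* v = -f j) (h2 : ∀ v ∈ V, ∃ n : ℕ, ∀ i, f i ᵥ* v ^ 2 ^ n = f i) :
    ∃ i, ∀ v ∈ V, f i ᵥ* v = f i ∨ f i ᵥ* v = -f i := by
  choose! g hg using h1
  have un : ∀ v ∈ V, ∀ i j, f i ᵥ* v = f j ∨ f i ᵥ* v = -f j → g v i = j := fun v hv i j e => hf _ _ (by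
    rcases hg v hv i with k | k <;> rcases e with e | e <;> rw [k] at e
    exacts [.inl e, .inr e, .inr (neg_eq_iff_eq_neg.1 e), .inl (neg_injective e)])
  have mu : ∀ v ∈ V, ∀ w ∈ V, ∀ i, g (v * w) i = g w (g v i) := fun v hv w hw i => un _ (mul_mem hv hw) _ _ (by
    rw [← vecMul_vecMul]
    rcases hg v hv i with k | k <;> rcases hg w hw (g v i) with e | e <;> simp only [k, e, neg_vecMul, neg_neg, true_or, or_true])
  have iv : ∀ (n : ℕ), ∀ v ∈ V, (∀ i, f i ᵥ* v ^ 2 ^ n = f i) → ∀ i, g v (g v i) = i := fun n => by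
    induction n with
    | zero =>
      intro v hv e i
      have k : ∀ i, g v i = i := fun i => un v hv _ _ (.inl (by simpa using e i))
      rw [k, k]
    | succ n ih =>
      intro v hv e
      have k := ih (v * v) (mul_mem hv hv) fun i => by rw [← pow_two, ← pow_mul, ← pow_succ']; exact e i
      exact fix3.1 _ fun i => by rw [← mu v hv v hv, ← mu v hv v hv]; exact k i
  have iv' : ∀ v ∈ V, ∀ i, g v (g v i) = i := fun v hv => (h2 v hv).elim fun n => iv n v hv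
  by_cases k : ∀ v ∈ V, g v 0 = 0
  · exact ⟨0, fun v hv => by simpa only [k v hv] using hg v hv 0⟩
  push Not at k
  obtain ⟨v, hv, k⟩ := k
  obtain ⟨i, -, hi⟩ := fix3.2 _ (iv' v hv)
  refine ⟨i, fun w hw => ?_⟩
  simpa only [hi k _ (iv' w hw) fun j => by rw [← mu v hv w hw, ← mu v hv w hw]; exact iv' _ (mul_mem hv hw) j] using hg w hw i

end Gen

/-- the positive roots which are orthogonal to `E₆` -/
def bb : Fin 3 → Vec (Fin 8) := ![![0, 0, 0, 0, 0, 0, 1, 0], ![2, 4, 6, 5, 4, 3, 1, 3], ![2, 4, 6, 5, 4, 3, 2, 3]]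

/-- the pairings -/
def pp (i : Fin 3) (m n : ℤ) : ℤ := ![2 * n - m, m - n, n] i

theorem bb_mul : ∀ i, bb i ᵥ* E8 = Pi.single 5 (pp i 1 0) + Pi.single 6 (pp i 0 1) := by decide +kernel

theorem bb_dot (i : Fin 3) (v : Vec (Fin 8)) : v ⬝ᵥ (bb i ᵥ* E8) = pp i (v 5) (v 6) := by
  rw [bb_mul, dotProduct_add, dotProduct_single, dotProduct_single]
  (revert i; simp only [pp, _root_.Fin.forall_fin_succ, Fin.isValue, _root_.Nat.succ_eq_add_one, Nat.reduceAdd, _root_.MulZeroClass.mul_zero, _root_.zero_sub, Int.reduceNeg, _root_.sub_zero, _root_.mul_one, _root_.Matrix.cons_val_zero, _root_.mul_neg, _root_.Matrix.cons_val_succ, _root_.Matrix.cons_val_fin_one, _root_.zero_add, _root_.implies_true, _root_.and_true]) <;> (repeat' with_reducible apply And.intro) <;> ring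

/-- decimal digits -/
def dv (n : ℕ) : Vec (Fin 8) := fun j => (n / 10 ^ (j : ℕ) % 10 : ℕ)

theorem rv_dv (h : Car E8 fun _ => 1) : ∀ m ∈ [10000100, 10000110, 10000111, 10001111, 10001211, 10001221, 10011221, 10012221, 10012321,
    20012321, 20112321, 20122321, 20123321, 20123421, 20123431, 21123431, 21223431, 21233431, 21234431, 21234531, 31234531, 31234532,
    31234542, 31234642, 31235642, 31245642, 31345642, 32345642], Rv E8 (dv m) :=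
  chain h dv _ 10000000 ⟨_, RsP.mem 7, by decide +kernel⟩ (by decide +kernel)

theorem rv_bb (h : Car E8 fun _ => 1) (i : Fin 3) : Rv E8 (bb i) := by
  fin_cases i
  · exact ⟨_, RsP.mem 6, by decide +kernel⟩
  · exact (show dv 31345642 = bb 1 by decide +kernel) ▸ rv_dv h _ (by decide)
  · exact (show dv 32345642 = bb 2 by decide +kernel) ▸ rv_dv h _ (by decide)

theorem deg (h : Car E8 fun _ => 1) : ∀ x ∈ [((0 : ℤ), (1 : ℤ)), (3, 1), (1, 1), (2, 1)], ∃ a ∈ Rc E8, a.2 5 = x.1 ∧ a.2 6 = x.2 := by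
  have k : ∀ {v : Vec (Fin 8)}, Rv E8 v → ∃ a ∈ Rc E8, a.2 5 = v 5 ∧ a.2 6 = v 6 := fun ⟨a, ha, e⟩ => ⟨a, ha, e ▸ rfl, e ▸ rfl⟩
  intro x hx
  simp only [List.mem_cons, List.not_mem_nil, or_false] at hx
  rcases hx with rfl | rfl | rfl | rfl
  exacts [k (rv_bb h 0), k (rv_bb h 1), k (Rv.add h (rv_bb h 0) (j := 5) (by decide +kernel)), k (rv_dv h 31245642 (by decide))]

variable {a : Vec (Fin 8) × Vec (Fin 8)}

theorem tri (h : Car E8 fun _ => 1) (ha : a ∈ Rc E8) : (∃ i, a.2 = bb i ∨ a.2 = -bb i) ∨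
    ∀ i, -1 ≤ pp i (a.2 5) (a.2 6) ∧ pp i (a.2 5) (a.2 6) ≤ 1 := by
  refine or_iff_not_imp_left.2 fun k i => ?_
  obtain ⟨b, hb, e⟩ := rv_bb h i
  have := (le_one h ha hb).resolve_left fun k' => k ⟨i, e ▸ k'⟩
  rwa [dot' h ha, e, bb_dot] at this

theorem orth (h : Car E8 fun _ => 1) (ha : a ∈ Rc E8) (h0 : ∀ j, j ≠ 5 → j ≠ 6 → a.1 j = 0) : ∃ i, a.2 = bb i ∨ a.2 = -bb i := by
  refine (tri h ha).resolve_right fun k => ?_
  have k1 : ∀ v, a.1 ⬝ᵥ v = a.1 5 * v 5 + a.1 6 * v 6 := fun v =>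
    Finset.sum_eq_add 5 6 (by decide) (fun j _ hj => by rw [h0 j hj.1 hj.2, zero_mul]) (by simp) (by simp)
  have k2 := k1 (bb 1)
  have k3 := k1 (bb 2)
  have k4 := k1 a.2
  rw [dot' h ha, bb_dot] at k2 k3
  rw [RsP.two h ha] at k4
  have k5 : a.2 5 - a.2 6 = a.1 5 * 3 + a.1 6 * 1 := k2
  have k6 : a.2 6 = a.1 5 * 3 + a.1 6 * 2 := k3
  have k7 : -1 ≤ 2 * a.2 6 - a.2 5 ∧ 2 * a.2 6 - a.2 5 ≤ 1 := k 0
  have k8 : -1 ≤ a.2 5 - a.2 6 ∧ a.2 5 - a.2 6 ≤ 1 := k 1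
  have k9 : -1 ≤ a.2 6 ∧ a.2 6 ≤ 1 := k 2
  rw [show a.2 5 = 0 by (clear * - k5 k6 k8 k9; omega), show a.2 6 = 0 by omega] at k4
  omega

/-- the standard `E₇` -/
theorem tr7 (h : Car E8 fun _ => 1) : ∃ S : Matrix (Fin 8) (Fin 7) ℤ, Tr S (Rc E7) (_root_.Cfsg.Agent.HZ.L.lev (Rc E8) (bb 2)) ∧ ∀ v, (S *ᵥ v) 5 = v 5 := by
  have h1 : ∀ j : Fin 7, Jz E8 (bb 2) (![0, 1, 2, 3, 4, 5, 7] j) := by decide +kernel
  have h2 : ∀ i, Jz E8 (bb 2) i → ∃ j : Fin 7, ![0, 1, 2, 3, 4, 5, 7] j = i := by decide +kernel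
  have h3 : ∀ x y : Fin 7, cT 2 7 x y = cT 2 8 ((![0, 1, 2, 3, 4, 5, 7] : Fin 7 → Fin 8) x)
      ((![0, 1, 2, 3, 4, 5, 7] : Fin 7 → Fin 8) y) := by decide +kernel
  have h4 : Function.Injective (![0, 1, 2, 3, 4, 5, 7] : Fin 7 → Fin 8) := by decide
  let σ : Fin 7 ≃ {i // Jz E8 (bb 2) i} := Equiv.ofBijective (fun j => ⟨_, h1 j⟩)
    ⟨fun _ _ e => h4 (congrArg Subtype.val e), fun i => (h2 i i.2).imp fun _ e => Subtype.ext e⟩
  have h5 : E7.submatrix σ.symm σ.symm = res E8 (Jz E8 (bb 2)) := Matrix.ext fun i j => by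
    obtain ⟨x, rfl⟩ := σ.surjective i
    obtain ⟨y, rfl⟩ := σ.surjective j
    rw [submatrix_apply, σ.symm_apply_apply, σ.symm_apply_apply]
    exact h3 x y
  have h6 := Ch.tr_sub (C := E7) σ.symm (h5 ▸ boxRs _ _ (ParT.car_res (Jz E8 (bb 2)) h))
  rw [h5] at h6
  refine ⟨_, h6.comp (ParT.tr_lev h (by unfold Dom; decide +kernel)), fun v => ?_⟩
  rw [← mulVec_mulVec]
  exact (ParT.inc_vec _ _ (σ 5)).trans ((congrFun (one_mulVec v) (σ.symm (σ 5))).trans (by rw [σ.symm_apply_apply]))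

variable {R : Type} [Fintype R] [DecidableEq R] {P : Matrix R (Fin 8) ℤ} {Ψ ΨL : RS R} {c : Lb R} {b : Vec R × Vec R}

/-- frames -/
structure Fa (P : Matrix R (Fin 8) ℤ) (Ψ ΨL : RS R) : Prop where
  car : Car E8 fun _ => 1
  tr : Tr P (Rc E8) Ψ
  lv : ∀ a ∈ Rc E8, ∀ b ∈ Ψ, P *ᵥ a.2 = b.2 → (b ∈ ΨL ↔ a.2 5 = 0 ∧ a.2 6 = 0)
  sub : ΨL ⊆ Ψ

namespace Fa

variable (F : Fa P Ψ ΨL)
include F

theorem smp {j : Fin 8} (h5 : j ≠ 5) (h6 : j ≠ 6) : ∃ b ∈ ΨL, P *ᵥ Pi.single j 1 = b.2 := by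
  obtain ⟨b, hb, e, -⟩ := F.tr.up _ (RsP.mem (C := E8) j)
  exact ⟨b, (F.lv _ (RsP.mem j) b hb e).2 ⟨Pi.single_eq_of_ne h5.symm _, Pi.single_eq_of_ne h6.symm _⟩, e⟩

theorem chr_eq (hc : Cen ΨL c) (v : Vec (Fin 8)) :
    chr (P *ᵥ v) c = chr (P *ᵥ Pi.single 5 1) c ^ v 5 * chr (P *ᵥ Pi.single 6 1) c ^ v 6 := by
  rw [chr_prod]
  refine Finset.prod_eq_mul 5 6 (by decide) (fun j _ hj => ?_) (by simp) (by simp)
  obtain ⟨b, hb, e⟩ := F.smp hj.1 hj.2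
  rw [e, hc b hb, _root_.one_zpow]

/-- the reflected frame -/
theorem refl (i : Fin 3) : ∃ P', Fa P' Ψ ΨL ∧ ∀ v, P' *ᵥ v = P *ᵥ (v - pp i (v 5) (v 6) • bb i) := by
  obtain ⟨a, ha, e⟩ := rv_bb F.car i
  have h1 : ∀ v, rfm a *ᵥ v = v - pp i (v 5) (v 6) • bb i := fun v => by rw [RsP.rfm_mulVec, dot F.car ha, e, bb_dot]
  refine ⟨P * rfm a, ⟨F.car, (tr_w F.car (RsP.r_mem F.car ha)).comp F.tr, fun x hx b hb k => ?_, F.sub⟩,
    fun v => by rw [← mulVec_mulVec, h1]⟩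
  obtain ⟨y, hy, k1, -⟩ := RsP.nm F.car (RsP.r_mem F.car ha) x hx
  rw [F.lv y hy b hb (by rw [← k1, mulVec_mulVec, k]), ← k1, h1]
  fin_cases i <;> simp [pp, bb] <;> omega

theorem perp (hb : b ∈ ΨL) (i : Fin 3) : b.1 ⬝ᵥ (P *ᵥ bb i) = 0 := by
  obtain ⟨a, ha, e, -⟩ := F.tr.dn b (F.sub hb)
  obtain ⟨h1, h2⟩ := (F.lv a ha b (F.sub hb) e).1 hb
  rw [pair F.tr ha (F.sub hb) e, dot' F.car ha, bb_dot, h1, h2]
  fin_cases i <;> rfl

theorem noMix (hc : Cen ΨL c) (h1 : chr (P *ᵥ Pi.single 5 1) c ≠ 1)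
    (h2 : chr (P *ᵥ Pi.single 5 1) c * chr (P *ᵥ Pi.single 6 1) c ≠ 1)
    (h3 : chr (P *ᵥ Pi.single 5 1) c ^ 2 * chr (P *ᵥ Pi.single 6 1) c ≠ 1) : NoMix Ψ ΨL c := fun b hb hn b' hb' => by
  obtain ⟨a, ha, e, -⟩ := F.tr.dn b hb.1
  rcases tri F.car ha with ⟨i, k | k⟩ | k
  · rw [← e, k, F.perp hb'.1]
  · rw [← e, k, mulVec_neg, dotProduct_neg, F.perp hb'.1, neg_zero]
  have k1 := hb.2
  rw [← e, F.chr_eq hc] at k1
  have k2 := mt (F.lv a ha b hb.1 e).2 hn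
  have k7 : -1 ≤ 2 * a.2 6 - a.2 5 ∧ 2 * a.2 6 - a.2 5 ≤ 1 := k 0
  have k8 : -1 ≤ a.2 5 - a.2 6 ∧ a.2 5 - a.2 6 ≤ 1 := k 1
  have k9 : -1 ≤ a.2 6 ∧ a.2 6 ≤ 1 := k 2
  have k3 : ∀ m n : ℤ, a.2 5 = m ∧ a.2 6 = n ∨ a.2 5 = -m ∧ a.2 6 = -n →
      chr (P *ᵥ Pi.single 5 1) c ^ m * chr (P *ᵥ Pi.single 6 1) c ^ n = 1 := by
    rintro m n (⟨rfl, rfl⟩ | ⟨e1, e2⟩)
    · exact k1
    · rwa [e1, e2, _root_.zpow_neg, _root_.zpow_neg, ← mul_inv, inv_eq_one] at k1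
  have k4 := mt (k3 1 0) (by simpa using h1)
  have k5 := mt (k3 1 1) (by simpa only [_root_.Fin.isValue, _root_.Matrix.mulVec_single, _root_.MulOpposite.op_one, _root_.one_smul, _root_.zpow_ofNat, _root_.pow_one, _root_.ne_eq] using h2)
  have k6 := mt (k3 2 1) (by rwa [zpow_one, zpow_two, ← pow_two])
  omega

theorem dual (hb : b ∈ Ψ) {i : Fin 3} (e : P *ᵥ bb i = b.2) (v : Vec (Fin 8)) : b.1 ⬝ᵥ (P *ᵥ v) = pp i (v 5) (v 6) := by
  obtain ⟨a, ha, e'⟩ := rv_bb F.car i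
  rw [pair F.tr ha hb (e' ▸ e), dot F.car ha, e', bb_dot]

theorem perp' (hb : b ∈ Ψ) {i : Fin 3} (e : P *ᵥ bb i = b.2) {b' : Vec R × Vec R} (hb' : b' ∈ ΨL) : b.1 ⬝ᵥ b'.2 = 0 := by
  obtain ⟨a, ha, e', -⟩ := F.tr.dn b' (F.sub hb')
  obtain ⟨h1, h2⟩ := (F.lv a ha b' (F.sub hb') e').1 hb'
  rw [← e', F.dual hb e, h1, h2]
  fin_cases i <;> rfl

theorem f7 (hc : Cen ΨL c) (hx : chr (P *ᵥ Pi.single 5 1) c = 1) (hy : chr (P *ᵥ Pi.single 6 1) c ≠ 1) : F7 (Zc Ψ c) ΨL ΨL := by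
  obtain ⟨S, T, hS⟩ := tr7 F.car
  obtain ⟨θ, hθ, eθ⟩ := rv_bb F.car 2
  obtain ⟨β, hβ, eβ, -⟩ := F.tr.up θ hθ
  rw [eθ] at eβ
  have h1 : ∀ a ∈ Rc E8, ∀ b ∈ Ψ, P *ᵥ a.2 = b.2 → a.1 ⬝ᵥ bb 2 = a.2 6 ∧ b.1 ⬝ᵥ β.2 = a.2 6 ∧ β.1 ⬝ᵥ b.2 = a.2 6 ∧
      chr b.2 c = chr (P *ᵥ Pi.single 6 1) c ^ a.2 6 := fun a ha b hb e => by
    have k : a.1 ⬝ᵥ bb 2 = a.2 6 := (dot' F.car ha _).trans (bb_dot 2 _)
    exact ⟨k, by rw [← eβ, pair F.tr ha hb e, k], e ▸ F.dual hβ eβ _, by rw [← e, F.chr_eq hc, hx, _root_.one_zpow, one_mul]⟩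
  have T' : Tr P (_root_.Cfsg.Agent.HZ.L.lev (Rc E8) (bb 2)) (_root_.Cfsg.Agent.HZ.L.lev Ψ β.2) := ⟨F.tr.inj, fun a ha => by
      obtain ⟨b, hb, e⟩ := F.tr.up a ha.1
      obtain ⟨k1, k2, -⟩ := h1 a ha.1 b hb e.1
      exact ⟨b, ⟨hb, k2.trans (k1.symm.trans ha.2)⟩, e⟩, fun b hb => by
      obtain ⟨a, ha, e⟩ := F.tr.dn b hb.1
      obtain ⟨k1, k2, -⟩ := h1 a ha b hb.1 e.1
      exact ⟨a, ⟨ha, k1.trans (k2.symm.trans hb.2)⟩, e⟩, fun b hb b' hb' => F.tr.ext b hb.1 b' hb'.1,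
    fun b hb => ParT.nm_lev (F.tr.nm b hb.1) (ParT.rfm_fix hb.2)⟩
  have h2 : lev Ψ β.2 ⊆ Zc Ψ c := fun b hb => by
    obtain ⟨a, ha, e, -⟩ := F.tr.dn b hb.1
    obtain ⟨-, k2, -, k4⟩ := h1 a ha b hb.1 e
    exact ⟨hb.1, by rw [k4, ← k2, hb.2, zpow_zero]⟩
  have h3 : Zc Ψ c ⊆ lev Ψ β.2 ∪ {β, -β} := fun b hb => by
    obtain ⟨a, ha, e, -⟩ := F.tr.dn b hb.1
    obtain ⟨k1, k2, -, k4⟩ := h1 a ha b hb.1 e
    rcases le_one F.car ha hθ with (k | k) | k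
    · exact .inr (.inl (F.tr.ext _ hb.1 _ hβ (by rw [← e, k, eθ, eβ])))
    · exact .inr (.inr (F.tr.ext _ hb.1 _ (neg_mem F.tr F.car hβ) (by rw [← e, k, eθ, mulVec_neg, eβ]; rfl)))
    rw [eθ, k1] at k
    rw [hb.2] at k4
    refine .inl ⟨hb.1, k2.trans (by_contra fun k' => hy ?_)⟩
    obtain k5 | k5 : a.2 6 = 1 ∨ a.2 6 = -1 := by omega
    · rw [k5, zpow_one] at k4
      exact k4.symm
    · rw [k5, _root_.zpow_neg_one] at k4
      exact inv_eq_one.1 k4.symm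
  refine ⟨P * S, _root_.Cfsg.Agent.HZ.L.lev Ψ β.2, T.comp T', fun b => ⟨fun hb => ?_, fun ⟨hb, a, ha, k1, k2⟩ => ?_⟩, ?_⟩
  · obtain ⟨a, ha, e, -⟩ := F.tr.dn b (F.sub hb)
    obtain ⟨k1, k2⟩ := (F.lv a ha b (F.sub hb) e).1 hb
    obtain ⟨k3, k4, -⟩ := h1 a ha b (F.sub hb) e
    obtain ⟨x, hx, k5, -⟩ := T.dn a ⟨ha, k3.trans k2⟩
    exact ⟨⟨F.sub hb, k4.trans k2⟩, x, hx, by rw [← hS x.2, k5, k1], by rw [← mulVec_mulVec, k5, e]⟩
  · obtain ⟨x, hx, k3, -⟩ := T.up a ha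
    have e : P *ᵥ x.2 = b.2 := by rw [← k3, mulVec_mulVec, k2]
    exact (F.lv x hx.1 b hb.1 e).2 ⟨by rw [← k3, hS, k1], (h1 x hx.1 b hb.1 e).1.symm.trans hx.2⟩
  have h4 : β.1 ⬝ᵥ β.2 = 2 := eβ ▸ F.dual hβ eβ _
  have n : chr (-β).2 c = 1 ↔ chr β.2 c = 1 := by rw [Prod.snd_neg, chr_neg, inv_eq_one]
  by_cases y1 : chr β.2 c = 1
  · refine .inr ⟨β, fun k => ?_, fun k => ?_, h3.antisymm (Set.union_subset h2 ?_), fun b hb => ⟨hb.2, ?_⟩⟩
    · exact absurd (h4.symm.trans (F.perp' hβ eβ k)) (by decide)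
    · have := F.perp' hβ eβ k
      rw [Prod.snd_neg, dotProduct_neg, h4] at this
      exact absurd this (by decide)
    · rintro b (rfl | rfl)
      exacts [⟨hβ, y1⟩, ⟨neg_mem F.tr F.car hβ, n.2 y1⟩]
    · obtain ⟨a, ha, e, -⟩ := F.tr.dn b hb.1
      obtain ⟨-, k2, k3, -⟩ := h1 a ha b hb.1 e
      exact k3.trans (k2.symm.trans hb.2)
  · refine .inl (Set.Subset.antisymm (fun b hb => ?_) h2)
    rcases h3 hb with m | rfl | rfl
    exacts [m, (y1 hb.2).elim, (y1 (n.1 hb.2)).elim]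

/-- the lines are permuted -/
theorem line {X : Mat R} (h1 : Nm X Ψ) (h2 : Nm X ΨL) (hb : b ∈ Ψ) {i : Fin 3} (e : P *ᵥ bb i = b.2) :
    ∃ j, ∃ b' ∈ Ψ, P *ᵥ bb j = b'.2 ∧ (b.1 ᵥ* X = b'.1 ∨ b.1 ᵥ* X = -b'.1) := by
  obtain ⟨x, hx, -, k⟩ := surj F.tr F.car h1 hb
  obtain ⟨a, ha, k1, k2⟩ := F.tr.dn x hx
  obtain ⟨j, k3 | k3⟩ := orth F.car ha fun j h5 h6 => by
    obtain ⟨y, hy, k4⟩ := F.smp h5 h6
    obtain ⟨z, hz, k5, -⟩ := h2 y hy
    rw [← mul_one (a.1 j), ← dotProduct_single, ← pair F.tr ha hx k1, k4, ← k, ← dotProduct_mulVec, k5, F.perp' hb e hz]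
  · exact ⟨j, x, hx, k3 ▸ k1, .inl k⟩
  · exact ⟨j, -x, neg_mem F.tr F.car hx, by rw [Prod.snd_neg, ← k1, k3, mulVec_neg, neg_neg], .inr (by rw [Prod.fst_neg, neg_neg, k])⟩

theorem exists_fix {V : Submonoid (Mat R)} (hV : V ≤ WW Ψ) (hn : ∀ v ∈ V, Nm v ΨL) (hp : ∀ v ∈ V, ∃ i : ℕ, v ^ 2 ^ i ∈ WW ΨL) :
    ∃ P', Fa P' Ψ ΨL ∧ ∃ b ∈ Ψ, P' *ᵥ bb 2 = b.2 ∧ ∀ v ∈ V, b.1 ᵥ* v = b.1 ∨ b.1 ᵥ* v = -b.1 := by
  have h1 : ∀ i, ∃ b ∈ Ψ, P *ᵥ bb i = b.2 := fun i => by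
    obtain ⟨a, ha, e⟩ := rv_bb F.car i
    obtain ⟨b, hb, e', -⟩ := F.tr.up a ha
    exact ⟨b, hb, e ▸ e'⟩
  choose β hβ eβ using h1
  obtain ⟨i, hi⟩ := fix_line (V := V) (f := fun i => (β i).1) (fun i j k => by
      have k1 := F.dual (hβ i) (eβ i)
      have k2 := F.dual (hβ j) (eβ j)
      have k3 : ∀ i j : Fin 3, (pp i 1 0 = pp j 1 0 ∧ pp i 0 1 = pp j 0 1) ∨ (pp i 1 0 = -pp j 1 0 ∧ pp i 0 1 = -pp j 0 1) → i = j := by
        decide
      refine k3 i j (k.imp (fun k => ?_) fun k => ?_)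
      · rw [k] at k1
        exact ⟨(k1 (Pi.single 5 1)).symm.trans (k2 _), (k1 (Pi.single 6 1)).symm.trans (k2 _)⟩
      · simp only [k, neg_dotProduct, k2] at k1
        exact ⟨(k1 (Pi.single 5 1)).symm, (k1 (Pi.single 6 1)).symm⟩)
    (fun v hv i => by
      obtain ⟨j, b', k1, k2, k3⟩ := F.line (F.tr.nm_ww (hV hv)) (hn v hv) (hβ i) (eβ i)
      exact ⟨j, F.tr.ext _ k1 _ (hβ j) (k2.symm.trans (eβ j)) ▸ k3⟩)
    fun v hv => (hp v hv).imp fun n hw i => by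
      generalize v ^ 2 ^ n = w at hw
      induction hw using Submonoid.closure_induction with
      | mem x hx =>
        obtain ⟨y, hy, rfl⟩ := hx
        rw [OM.Cu.vecMul_rfm, F.perp' (hβ i) (eβ i) hy, zero_smul, sub_zero]
      | one => exact vecMul_one _
      | mul x y _ _ hx hy => rw [← vecMul_vecMul, hx, hy]
  fin_cases i
  · obtain ⟨P', F', e⟩ := F.refl 1
    exact ⟨P', F', _, hβ 0, by rw [e, ← eβ]; exact congrArg _ (by decide +kernel), hi⟩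
  · obtain ⟨P', F', e⟩ := F.refl 0
    exact ⟨P', F', _, hβ 1, by rw [e, ← eβ]; exact congrArg _ (by decide +kernel), hi⟩
  · exact ⟨P, F, _, hβ 2, eβ 2, hi⟩

omit F in
theorem fixA {lam : Vec R} (F : Fa P Ψ (_root_.Cfsg.Agent.HZ.L.lev Ψ lam)) {A : Mat R} {ε : ℤˣ} (hA : Nm A Ψ) (hl : A *ᵥ lam = (ε : ℤ) • lam) (hb : b ∈ Ψ)
    (e : P *ᵥ bb 2 = b.2) : b.1 ᵥ* A = b.1 ∨ b.1 ᵥ* A = -b.1 := by
  have h0 : ∀ f : Vec R, (f ᵥ* A) ⬝ᵥ lam = ε * (f ⬝ᵥ lam) := fun f => by rw [← dotProduct_mulVec, hl, dotProduct_smul, smul_eq_mul]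
  obtain ⟨j, b', k1, k2, k3⟩ := F.line hA (fun x hx => by
    obtain ⟨y, hy, k1, k2⟩ := hA x hx.1
    exact ⟨y, ⟨hy, (Units.mul_right_eq_zero ε).1 (by rw [← h0, k2]; exact hx.2)⟩, k1, k2⟩) hb e
  obtain ⟨L, hL⟩ := lin F.tr F.car lam
  have h1 : ∀ a ∈ Rc E8, ∀ b ∈ Ψ, P *ᵥ a.2 = b.2 → ((b.1 ⬝ᵥ lam : ℤ) : ℂ) = (a.2 5 : ℂ) * L 5 + (a.2 6 : ℂ) * L 6 := fun a ha b hb e => by
    rw [hL a ha b hb e]
    refine Finset.sum_eq_add 5 6 (by decide) (fun j _ hj => ?_) (by simp) (by simp)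
    obtain ⟨y, hy, k4⟩ := F.smp hj.1 hj.2
    have := hL _ (RsP.mem j) y hy.1 k4
    rw [hy.2, Finset.sum_eq_single j (fun i _ hi => by rw [show (sp E8 j).2 i = 0 from Pi.single_eq_of_ne hi _]; simp) (by simp),
      show (sp E8 j).2 j = 1 from Pi.single_eq_same _ _] at this
    rw [show L j = 0 by simpa using this.symm, mul_zero]
  have h2 : ∀ x ∈ [((0 : ℤ), (1 : ℤ)), (3, 1), (1, 1), (2, 1)], (x.1 : ℂ) * L 5 + (x.2 : ℂ) * L 6 ≠ 0 := fun x hx k => by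
    obtain ⟨a, ha, e1, e2⟩ := deg F.car x hx
    obtain ⟨y, hy, e3, -⟩ := F.tr.up a ha
    have := ((F.lv a ha y hy e3).1 ⟨hy, by have := h1 a ha y hy e3; rw [e1, e2, k] at this; exact_mod_cast this⟩).2
    simp only [List.mem_cons, List.not_mem_nil, or_false] at hx
    rcases hx with rfl | rfl | rfl | rfl <;> exact absurd (e2.symm.trans this) one_ne_zero
  have h3 : ∀ i, ∀ y ∈ Ψ, P *ᵥ bb i = y.2 → ((y.1 ⬝ᵥ lam : ℤ) : ℂ) = (bb i 5 : ℂ) * L 5 + (bb i 6 : ℂ) * L 6 := fun i y hy k => by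
    obtain ⟨a, ha, e'⟩ := rv_bb F.car i
    exact e' ▸ h1 a ha y hy (e' ▸ k)
  have h4 : b'.1 ⬝ᵥ lam = b.1 ⬝ᵥ lam ∨ b'.1 ⬝ᵥ lam = -(b.1 ⬝ᵥ lam) := by
    have := h0 b.1
    rcases k3 with k | k <;> rw [k] at this <;> rcases Int.units_eq_one_or ε with rfl | rfl <;> simp only [_root_.Units.val_one, _root_.one_mul, _root_.Units.val_neg, _root_.Int.reduceNeg, _root_.neg_mul, _root_.neg_dotProduct, _root_.neg_inj] at this <;> omega
  have h5 := h3 2 b hb e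
  have h6 := h3 j b' k1 k2
  have a1 := h2 (0, 1) (by simp)
  have a2 := h2 (3, 1) (by simp)
  have a3 := h2 (1, 1) (by simp)
  have a4 := h2 (2, 1) (by simp)
  fin_cases j
  · rcases h4 with k | k <;> rw [k] at h6 <;> simp only [bb, _root_.Fin.isValue, _root_.Matrix.cons_val', _root_.Matrix.cons_val, _root_.Matrix.cons_val_fin_one, _root_.Matrix.cons_val_one, _root_.Int.cast_ofNat, _root_.Fin.zero_eta, _root_.Matrix.cons_val_zero, _root_.Int.cast_zero, _root_.MulZeroClass.zero_mul, _root_.Int.cast_one, _root_.one_mul, _root_.zero_add, _root_.ne_eq, _root_.Int.cast_neg] at h5 h6 a2 a3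
    · exact absurd (by linear_combination h6 - h5) a2
    · exact absurd (by linear_combination (-h6 - h5) / 3) a3
  · rcases h4 with k | k <;> rw [k] at h6 <;> simp only [bb, _root_.Fin.isValue, _root_.Matrix.cons_val', _root_.Matrix.cons_val, _root_.Matrix.cons_val_fin_one, _root_.Matrix.cons_val_one, _root_.Int.cast_ofNat, _root_.Fin.mk_one, _root_.Matrix.cons_val_zero, _root_.Int.cast_one, _root_.one_mul, _root_.Int.cast_zero, _root_.MulZeroClass.zero_mul, _root_.zero_add, _root_.ne_eq, _root_.Int.cast_neg] at h5 h6 a1 a4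
    · exact absurd (by linear_combination h6 - h5) a1
    · exact absurd (by linear_combination (-h6 - h5) / 3) a4
  · exact F.tr.ext _ k1 _ hb (k2.symm.trans e) ▸ k3

end Fa

end E8q

open E8q in
/-- **[E8]** -/
theorem boxE8 (h8 : Car E8 fun _ => 1) : BoxE8 := by
  intro R _ _ Ψ A q ε lam V c ⟨P, T, hL⟩ hA hl hq hV hn hp hc
  have F : Fa P Ψ (_root_.Cfsg.Agent.HZ.L.lev Ψ lam) := ⟨h8, T, hL, lev_sub _ _⟩
  by_cases h1 : chr (P *ᵥ Pi.single 5 1) c = 1 ∧ chr (P *ᵥ Pi.single 6 1) c = 1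
  · obtain ⟨P', F', b, hb, e, hx⟩ := F.exists_fix hV hn hp
    have k1 : ∀ v, chr (P' *ᵥ v) (coch b.1 (-1 : ℂˣ)) = (-1) ^ v 6 := fun v => by
      rw [chr_coch]
      exact congrArg _ ((dotProduct_comm _ _).trans (F'.dual hb e v))
    have k2 : Cen (_root_.Cfsg.Agent.HZ.L.lev Ψ lam) (coch b.1 (-1 : ℂˣ)) := fun x hx => by
      rw [chr_coch]
      exact (congrArg _ ((dotProduct_comm _ _).trans (F'.perp' hb e hx))).trans (zpow_zero _)
    have k3 : ∀ j, chr (P' *ᵥ Pi.single j 1) c = 1 := fun j => by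
      obtain ⟨y, hy, e1, -⟩ := F'.tr.up _ (RsP.mem (C := E8) j)
      obtain ⟨a, -, e2, -⟩ := T.dn y hy
      rw [show P' *ᵥ Pi.single j 1 = P *ᵥ a.2 from e1.trans e2.symm, F.chr_eq hc, h1.1, h1.2, _root_.one_zpow, _root_.one_zpow, one_mul]
    refine ⟨coch b.1 (-1), ⟨⟨1, by rw [← map_pow]; simp only [_root_.pow_one, _root_.even_two, _root_.Even.neg_pow, _root_.one_pow, _root_.map_one]⟩, tl_sg hq (F'.fixA hA hl hb e), k2,
      fun v hv => by simpa only [one_smul] using tl_sg odd_one (hx v hv)⟩,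
      .inr (F'.f7 (fun x hx => by rw [map_mul, hc x hx, k2 x hx, one_mul]) ?_ ?_)⟩
    · rw [map_mul, k3, k1, one_mul]
      exact zpow_zero _
    · rw [map_mul, k3, k1, one_mul, Pi.single_eq_same, zpow_one]
      exact fun k => absurd (show (-1 : ℂ) = 1 from congrArg Units.val k) (by norm_num)
  refine ⟨1, ⟨⟨0, one_pow _⟩, fun v => by rw [map_one, map_one], fun x _ => map_one _, fun _ _ v => by rw [map_one, map_one]⟩, ?_⟩
  rw [mul_one]
  by_cases h2 : chr (P *ᵥ Pi.single 5 1) c = 1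
  · exact .inr (F.f7 hc h2 fun k => h1 ⟨h2, k⟩)
  by_cases h3 : chr (P *ᵥ Pi.single 5 1) c * chr (P *ᵥ Pi.single 6 1) c = 1
  · obtain ⟨P', F', e⟩ := F.refl 0
    refine .inr (F'.f7 hc ?_ fun k => h2 ?_)
    · rw [e, F.chr_eq hc]
      exact (congrArg₂ _ (zpow_one _) (zpow_one _)).trans h3
    · rw [e, F.chr_eq hc] at k
      have k' : chr (P *ᵥ Pi.single 5 1) c ^ (0 : ℤ) * chr (P *ᵥ Pi.single 6 1) c ^ (-1 : ℤ) = 1 := k
      rw [zpow_zero, one_mul, _root_.zpow_neg_one] at k'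
      rwa [inv_eq_one.1 k', mul_one] at h3
  by_cases h4 : chr (P *ᵥ Pi.single 5 1) c ^ 2 * chr (P *ᵥ Pi.single 6 1) c = 1
  · obtain ⟨P', F', e⟩ := F.refl 1
    have h5 := eq_inv_of_mul_eq_one_right h4
    refine .inr (F'.f7 hc ?_ fun k => h2 ?_)
    · rw [e, F.chr_eq hc]
      show chr (P *ᵥ Pi.single 5 1) c ^ (-2 : ℤ) * chr (P *ᵥ Pi.single 6 1) c ^ (-1 : ℤ) = 1
      rw [h5]
      group
    · rw [e, F.chr_eq hc] at k
      have k' : chr (P *ᵥ Pi.single 5 1) c ^ (3 : ℤ) * chr (P *ᵥ Pi.single 6 1) c ^ (2 : ℤ) = 1 := k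
      rw [h5] at k'
      rw [← inv_eq_one, ← k']
      group
  exact .inl (F.noMix hc h2 h3 h4)

end Cfsg.Agent.BZ.RT.Z2

private theorem dce_e26557bfe92d : _root_.True := by
  try have : _root_.True := by simp only [_root_.Cfsg.Agent.BZ.RT.Z2.E8q.pp.eq_1]
  try have : _root_.True := by simp only [_root_.Cfsg.Agent.BZ.RT.Z2.E8q.bb.eq_1]
  exact _root_.True.intro
end

-- part: BZ/RT/Cx/F6
section
prune_inst 0x43400190133e20000001c801282203eb1cf0004b2004b880068a6094609c5cc6080c3ae404a20140012129c911801002000100020403000000a04300008070521182c42008348039d6c008180320b590c00008000000000000000000000000000214010000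
set_option linter.all false
open scoped Cfsg.Agent.FastGrp

/-!
# BZ / RT / Cx : the construction of the frame `E₆` (helper31)

`root_of` : vectors of norm two are roots; `tr_span` : the roots in the lattice of a base; `f6_of`.
-/

set_option autoImplicit false
set_option linter.unusedSectionVars false

namespace Cfsg.Agent.BZ.RT.Cx.F6c

open Cfsg Matrix Cfsg.Agent.DL Cfsg.Agent.HZ.L Cfsg.Agent.BZ.TA Cfsg.Agent.BZ.TA.Cl Cfsg.Agent.OM.Cu Cfsg.Agent.BZ.RT.Z2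
open BaseA (Cf Pf)

section Gen

variable {I J : Type} [Fintype I] [DecidableEq I] [Fintype J] [DecidableEq J] {C : Mat I} {Φ : RS I} {s : J → Vec I × Vec I}

/-- **vectors of norm two are roots** -/
theorem root_of (h : Car C fun _ => 1) {v : Vec I} (hv : fm C (fun _ => 1) v v = 2) : ∃ a ∈ Rc C, a.2 = v := by
  suffices k : ∀ (k : ℕ) (v : Vec I), ∑ i, (v i).natAbs < k → fm C (fun _ => 1) v v = 2 → ∃ a ∈ Rc C, a.2 = v from
    k _ v (Nat.lt_succ_self _) hv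
  intro k
  induction k with
  | zero => exact fun _ h => absurd h (Nat.not_lt_zero _)
  | succ k ih =>
    intro v h1 h2
    obtain ⟨i, -, h3⟩ := Finset.exists_lt_of_sum_lt (s := Finset.univ) (f := fun _ => (0 : ℤ)) (g := fun i => v i * (v ᵥ* C) i)
      (by rw [Finset.sum_const_zero, ← dotProduct, ← E8q.fm1, h2]; decide)
    have h4 : ∀ m : ℤ, fm C (fun _ => 1) (v - m • (sp C i).2) (v - m • (sp C i).2) = 2 - 2 * m * (v ᵥ* C) i + 2 * m * m := fun m => by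
      rw [RsP.fm_sub, RsP.fm_sub', RsP.fm_sub', RsP.fm_smul, RsP.fm_smul, RsP.fm_smul', RsP.fm_smul', h2, RsP.fm_comm h v, RsP.fm_sp,
        RsP.fm_sp, RsP.sp_two h, RsP.sp_dot]
      ring
    have h5 := E7P.fm_nonneg h (v - (1 : ℤ) • (sp C i).2)
    have h6 := E7P.fm_nonneg h (v - (-1 : ℤ) • (sp C i).2)
    rw [h4] at h5 h6
    by_cases e : (v ᵥ* C) i = 2
    · exact ⟨_, RsP.mem i, by
        have := RsP.fm_zero h (v := v - (1 : ℤ) • (sp C i).2) (by rw [h4, e]; decide)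
        rw [one_smul, sub_eq_zero] at this
        exact this.symm⟩
    by_cases e' : (v ᵥ* C) i = -2
    · exact ⟨_, RsP.neg h (RsP.mem i), by
        have := RsP.fm_zero h (v := v - (-1 : ℤ) • (sp C i).2) (by rw [h4, e']; decide)
        rw [neg_smul, one_smul, sub_eq_zero] at this
        exact this.symm⟩
    have h7 : (v ᵥ* C) i = 1 ∧ 0 < v i ∨ (v ᵥ* C) i = -1 ∧ v i < 0 := by
      rcases pos_and_pos_or_neg_and_neg_of_mul_pos h3 with e | e <;> omega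
    obtain ⟨a, ha, h8⟩ := ih (v - (v ᵥ* C) i • (sp C i).2) (by
      refine lt_of_lt_of_le (Finset.sum_lt_sum (fun j _ => ?_) ⟨i, Finset.mem_univ _, ?_⟩) (Nat.le_of_lt_succ h1)
      · by_cases e : j = i
        · subst e
          simp only [sp, Pi.sub_apply, Pi.smul_apply, Pi.single_eq_same, smul_eq_mul]
          omega
        · simp only [sp, Pi.sub_apply, Pi.smul_apply, Pi.single_eq_of_ne e, smul_zero, sub_zero, le_refl]
      · simp only [sp, Pi.sub_apply, Pi.smul_apply, Pi.single_eq_same, smul_eq_mul]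
        omega) (by rw [h4]; rcases h7 with e | e <;> rw [e.1] <;> decide)
    obtain ⟨b, hb, h9, -⟩ := RsP.nm h (RsP.s_mem i) a ha
    refine ⟨b, hb, ?_⟩
    rw [← h9, h8, ← RsP.sp_dot, ← RsP.rfm_mulVec, mulVec_mulVec, RsP.rfm_sq (RsP.sp_two h i), one_mulVec]

theorem fm_pf (h : Car C fun _ => 1) (hs : ∀ j, s j ∈ Rc C) (u v : Vec J) :
    fm C (fun _ => 1) (Pf s *ᵥ u) (Pf s *ᵥ v) = fm (Cf s) (fun _ => 1) u v := by
  rw [BaseA.fm_P, E8q.fm1]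
  exact Finset.sum_congr rfl fun j _ => by rw [E8q.fm1, ← E8q.dot' h (hs j), BaseA.vecMul_Cf]

/-- **the roots in the lattice of a base** -/
theorem tr_span (h : Car C fun _ => 1) (h' : Car (Cf s) fun _ => 1) (sub : Φ ⊆ Rc C) (cl : ∀ a ∈ Φ, Nm (rfm a) Φ) (hs : ∀ j, s j ∈ Φ) :
    Tr (Pf s) (Rc (Cf s)) {b | b ∈ Φ ∧ ∃ x, Pf s *ᵥ x = b.2} := by
  refine BaseA.tr_of h' (fun j => ⟨hs j, _, BaseA.Pf_single s j⟩) (fun b hb b' hb' => RsP.ext h (sub hb.1) (sub hb'.1)) ?_ ?_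
  · rintro b ⟨hb, x, hx⟩ a ⟨ha, y, hy⟩
    obtain ⟨c, hc, c1, c2⟩ := cl b hb a ha
    exact ⟨c, ⟨hc, y - (b.1 ⬝ᵥ a.2) • x, by rw [mulVec_sub, mulVec_smul, hx, hy, ← c1, RsP.rfm_mulVec]⟩, c1, c2⟩
  · rintro b ⟨hb, x, hx⟩
    obtain ⟨a, ha, rfl⟩ := root_of h' (v := x) (by rw [← fm_pf h fun j => sub (hs j), hx, E7P.fm_two h (sub hb)])
    refine ⟨a, ha, hx, funext fun j => ?_⟩
    rw [← dotProduct_single_one (b.1 ᵥ* Pf s), ← dotProduct_single_one a.1, ← dotProduct_mulVec, E8q.dot' h (sub hb), E8q.dot' h' ha,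
      ← E8q.fm1, ← E8q.fm1, ← hx, fm_pf h fun j => sub (hs j)]

end Gen

theorem car {n : ℕ} (hn : R3 n) : Car (En n) fun _ => 1 := by
  rcases hn with rfl | rfl | rfl
  exacts [(by decide : (![1, 1, 1, 1, 1, 1] : Fin 6 → ℤ) = fun _ => 1) ▸ Eng.carE6, boxRk.c7, boxRk.c8]

theorem cl_D4 {n : ℕ} (hn : R3 n) : ∀ a ∈ D4 n, Nm (rfm a) (D4 n) := fun a ha b hb => by
  obtain ⟨c, hc, c1, c2⟩ := nm_rc (boxRs _ _ (car hn)) a ha.1 b hb.1
  exact ⟨c, ⟨hc, fun i hi => by rw [← c1, RsP.rfm_mulVec, Pi.sub_apply, Pi.smul_apply, ha.2 i hi, hb.2 i hi, smul_zero, sub_zero]⟩, c1, c2⟩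

theorem nodes {n : ℕ} (hn : R3 n) : ∃ ν : Fin 6 → Fin n, Function.Injective ν ∧ (∀ i, Dn n (ν i) ↔ Dn 6 i) ∧ (∀ k, Dn n k → ∃ i, ν i = k) ∧
    (∀ i j : Fin 6, cT 2 n (ν i) (ν j) = cT 2 6 i j) ∧ (∀ i, (ν i : ℕ) = 1 ↔ i = 1) ∧ ∀ i, (ν i : ℕ) = 3 ↔ i = 3 := by
  unfold Dn
  rcases hn with rfl | rfl | rfl
  exacts [⟨id, by decide, by decide, by decide, by decide, by decide, by decide⟩,
    ⟨![0, 1, 2, 3, 4, 6], by decide, by decide, by decide, by decide, by decide, by decide⟩,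
    ⟨![0, 1, 2, 3, 4, 7], by decide, by decide, by decide, by decide, by decide, by decide⟩]

/-- **the frame** -/
theorem f6_of {n : ℕ} (hn : R3 n) {Φ L : RS (Fin n)} {X h : Mat (Fin n)} {a₀ a₄ : Vec (Fin n) × Vec (Fin n)} (sub : Φ ⊆ Rc (En n))
    (cl : ∀ a ∈ Φ, Nm (rfm a) Φ) (hD : D4 n ⊆ Φ) (h0 : a₀ ∈ Φ) (h4 : a₄ ∈ Φ)
    (p0 : ∀ i, Dn n i → a₀.1 i = if (i : ℕ) = 1 then -1 else 0) (p4 : ∀ i, Dn n i → a₄.1 i = if (i : ℕ) = 3 then -1 else 0)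
    (p04 : a₀.1 ⬝ᵥ a₄.2 = 0) (nx : Nm X (Rc (En n))) (hh : h ∈ WW (D4 n)) (x1 : ∀ i, Dn n i → X *ᵥ Pi.single i 1 = h *ᵥ Pi.single i 1)
    (x0 : X *ᵥ a₀.2 = h *ᵥ a₀.2) (x4 : X *ᵥ a₄.2 = h *ᵥ a₄.2)
    (rest : ∀ β ∈ Φ, (∃ x y : ℤ, ∀ i, ¬ Dn n i → β.2 i = x * a₀.2 i + y * a₄.2 i) ∨
      (β ∉ L ∧ X *ᵥ β.2 = β.2 ∧ (∀ i, Dn n i → β.1 i = 0) ∧ β.1 ⬝ᵥ a₀.2 = 0 ∧ β.1 ⬝ᵥ a₄.2 = 0)) : F6 Φ (D4 n) L X := by
  have hC := car hn
  obtain ⟨ν, n0, n1, n2, n3, n4, n5⟩ := nodes hn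
  have sy : ∀ a ∈ Rc (En n), ∀ b ∈ Rc (En n), a.1 ⬝ᵥ b.2 = b.1 ⬝ᵥ a.2 := fun a ha b hb => by rw [E8q.dot hC ha, E8q.dot' hC hb]
  have dn : ∀ i : Fin 6, Dn 6 i ↔ i ≠ 0 ∧ i ≠ 4 := by unfold Dn; decide
  have d4 : ∀ i, Dn n i → sp (En n) i ∈ D4 n := fun i hi => ⟨RsP.mem i, fun j hj => Pi.single_eq_of_ne (fun e : j = i => hj (e ▸ hi)) _⟩
  obtain ⟨s, s0, s4, s1⟩ : ∃ s : Fin 6 → Vec (Fin n) × Vec (Fin n), s 0 = a₀ ∧ s 4 = a₄ ∧ ∀ i, Dn 6 i → s i = sp (En n) (ν i) :=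
    ⟨fun i => if i = 0 then a₀ else if i = 4 then a₄ else sp (En n) (ν i), if_pos rfl, rfl,
      fun i hi => (if_neg ((dn i).1 hi).1).trans (if_neg ((dn i).1 hi).2)⟩
  have tri : ∀ i : Fin 6, i = 0 ∨ i = 4 ∨ Dn 6 i := fun i => by rw [dn]; omega
  have hs : ∀ i, s i ∈ Φ := fun i => by
    rcases tri i with rfl | rfl | e
    exacts [s0 ▸ h0, s4 ▸ h4, s1 i e ▸ hD (d4 _ ((n1 i).2 e))]
  have q0 : ∀ i, Dn 6 i → a₀.1 ⬝ᵥ (sp (En n) (ν i)).2 = En 6 i 0 := fun i hi => by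
    rw [sp, dotProduct_single_one, p0 _ ((n1 i).2 hi), if_congr (n4 i) rfl rfl]
    revert i
    unfold Dn
    decide
  have q4 : ∀ i, Dn 6 i → a₄.1 ⬝ᵥ (sp (En n) (ν i)).2 = En 6 i 4 := fun i hi => by
    rw [sp, dotProduct_single_one, p4 _ ((n1 i).2 hi), if_congr (n5 i) rfl rfl]
    revert i
    unfold Dn
    decide
  have hE : Cf s = En 6 := Matrix.ext fun i j => by
    show (s j).1 ⬝ᵥ (s i).2 = _
    have e6 : ∀ i j, En 6 i j = En 6 j i := (by decide : ∀ i j : Fin 6, cT 2 6 i j = cT 2 6 j i)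
    rcases tri i with rfl | rfl | e <;> rcases tri j with rfl | rfl | e'
    · exact RsP.two hC (sub (hs _))
    · rw [s0, s4, sy _ (sub h4) _ (sub h0), p04]; rfl
    · rw [sy _ (sub (hs _)) _ (sub (hs _)), s0, s1 _ e', q0 _ e', e6]
    · rw [s0, s4, p04]; rfl
    · exact RsP.two hC (sub (hs _))
    · rw [sy _ (sub (hs _)) _ (sub (hs _)), s4, s1 _ e', q4 _ e', e6]
    · rw [s0, s1 _ e, q0 _ e]
    · rw [s4, s1 _ e, q4 _ e]
    · rw [s1 _ e, s1 _ e']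
      exact (dotProduct_single_one _ _).trans (n3 _ _)
  have T := tr_span hC (hE ▸ car (.inl rfl)) sub cl hs
  rw [hE] at T
  have pv : ∀ x : Vec (Fin 6), Pf s *ᵥ x = ∑ i, x i • (s i).2 := fun x => funext fun r => by
    simp [Pf, mulVec, dotProduct, mul_comm]
  have off : ∀ (x : Vec (Fin 6)) r, ¬ Dn n r → (Pf s *ᵥ x) r = x 0 * a₀.2 r + x 4 * a₄.2 r := fun x r hr => by
    rw [pv, Finset.sum_apply, Finset.sum_eq_add_of_mem 0 4 (Finset.mem_univ _) (Finset.mem_univ _) (by decide) fun i _ e => by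
      rw [s1 i ((dn i).2 e), Pi.smul_apply, (d4 _ ((n1 i).2 ((dn i).2 e))).2 r hr, smul_zero], s0, s4]
    rfl
  have sp' : ∀ (v : Vec (Fin n)) (x y : ℤ), (∀ i, ¬ Dn n i → v i = x * a₀.2 i + y * a₄.2 i) →
      ∃ z : Vec (Fin 6), z 0 = x ∧ z 4 = y ∧ Pf s *ᵥ z = v := fun v x y hv => by
    refine ⟨fun i => if i = 0 then x else if i = 4 then y else (v - x • a₀.2 - y • a₄.2) (ν i), rfl, rfl, funext fun r => ?_⟩
    by_cases hr : Dn n r
    · obtain ⟨j, rfl⟩ := n2 r hr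
      have hj := (dn j).1 ((n1 j).1 hr)
      have e : ∀ i, Dn 6 i → (s i).2 (ν j) = if j = i then 1 else 0 := fun i hi => by
        rw [s1 i hi, ← if_congr n0.eq_iff rfl rfl]
        exact Pi.single_apply _ _ _
      rw [pv, Finset.sum_apply, Fin.sum_univ_six]
      simp only [Pi.smul_apply, s0, s4, e 1 (by rw [dn]; decide), e 2 (by rw [dn]; decide), e 3 (by rw [dn]; decide),
        e 5 (by rw [dn]; decide)]
      obtain rfl | rfl | rfl | rfl : j = 1 ∨ j = 2 ∨ j = 3 ∨ j = 5 := by omega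
      all_goals simp <;> ring
    · rw [off _ r hr, hv r hr]
      rfl
  have k4 : ∀ b, b ∈ D4 n ↔ b ∈ {b | b ∈ Φ ∧ ∃ x, Pf s *ᵥ x = b.2} ∧ ∃ a ∈ D4 6, Pf s *ᵥ a.2 = b.2 := fun b => by
    refine ⟨fun hb => ?_, fun ⟨hb, a, ha, e⟩ => ⟨sub hb.1, fun i hi => ?_⟩⟩
    · obtain ⟨z, z0, z4, e⟩ := sp' b.2 0 0 fun i hi => by rw [hb.2 i hi, zero_mul, zero_mul, add_zero]
      obtain ⟨a, ha, a1, -⟩ := T.dn b ⟨hD hb, z, e⟩
      refine ⟨⟨hD hb, z, e⟩, a, ⟨ha, fun i hi => ?_⟩, a1⟩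
      rw [T.inj' (a1.trans e.symm)]
      rcases tri i with rfl | rfl | k
      exacts [z0, z4, absurd k hi]
    · rw [← e, off _ i hi, ha.2 0 (by rw [dn]; decide), ha.2 4 (by rw [dn]; decide), zero_mul, zero_mul, add_zero]
  have T4 := tr_res T (fun _ k => k.1 : D4 6 ⊆ _) (cl_D4 (.inl rfl))
  rw [show Im (Pf s) _ (D4 6) = D4 n from Set.ext fun b => (k4 b).symm] at T4
  obtain ⟨w, hw, e⟩ := T4.ww_dn hh
  refine ⟨Pf s, _, w, T, fun _ k => k.1, k4, hw, ?_, fun β hβ hn => ?_⟩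
  · rw [← e]
    refine Matrix.ext_of_mulVec_single fun i => ?_
    rw [← mulVec_mulVec, ← mulVec_mulVec, BaseA.Pf_single]
    rcases tri i with rfl | rfl | k
    exacts [s0 ▸ x0, s4 ▸ x4, s1 i k ▸ x1 _ ((n1 i).2 k)]
  · obtain ⟨r1, r2, r3, r4, r5⟩ := (rest β hβ).resolve_left fun ⟨x, y, k⟩ => let ⟨z, _, _, e⟩ := sp' _ x y k; hn ⟨hβ, z, e⟩
    obtain ⟨c, hc, c1, c2⟩ := nx β (sub hβ)
    refine ⟨r1, r2, RsP.ext hC hc (sub hβ) (c1.symm.trans r2) ▸ c2, fun b ⟨hb, x, hx⟩ => ?_⟩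
    have h1 : β.1 ⬝ᵥ b.2 = 0 := by
      rw [← hx, pv, dotProduct_sum]
      refine Finset.sum_eq_zero fun i _ => ?_
      rw [dotProduct_smul]
      refine smul_eq_zero_of_right _ ?_
      rcases tri i with rfl | rfl | k
      exacts [s0 ▸ r4, s4 ▸ r5, s1 i k ▸ (dotProduct_single_one _ _).trans (r3 _ ((n1 i).2 k))]
    exact ⟨(sy _ (sub hb) _ (sub hβ)).trans h1, h1⟩

end Cfsg.Agent.BZ.RT.Cx.F6c
end

-- part: BZ/RT/Cg/Fix
section
set_option linter.all false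
open scoped Cfsg.Agent.FastGrp

/-!
# BZ / RT / Cg : fixed points, twists, degrees (helper65)

* `fix` : an `l`-monoid has a fixed point on a finite set whose order is prime to `l`;
* `deg` : the degree of an eigenvalue and the number of independent vanishing functionals;
* `chr_co`, `tl_co`, `cen_of`, `twi`, `twi_one`, `Twi.mul` : twists.
-/

set_option autoImplicit false
set_option linter.unusedSectionVars false

namespace Cfsg.Agent.BZ.RT.Cg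

open Cfsg Matrix Cfsg.Agent.DL Cfsg.Agent.HZ.L Cfsg.Agent.OM
open Cfsg.Agent.HZ.L.X (Zc Cen)

/-- **fixed points** -/
theorem fix {M α : Type*} [Monoid M] {l : ℕ} (hl : l.Prime) (V : Submonoid M) (act : M → α → α)
    (mul : ∀ a b x, act (a * b) x = act a (act b x)) {Ω : Set α} (st : ∀ v ∈ V, ∀ x ∈ Ω, act v x ∈ Ω)
    (pw : ∀ v ∈ V, ∃ i : ℕ, ∀ x ∈ Ω, act (v ^ l ^ i) x = x) (hc : ¬ l ∣ Ω.ncard) : ∃ x ∈ Ω, ∀ v ∈ V, act v x = x := by
  have := Fact.mk hl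
  have : Finite Ω := (Set.finite_of_ncard_ne_zero fun e => hc (e ▸ dvd_zero l)).to_subtype
  have k0 : ∀ v ∈ V, ∃ σ : Equiv.Perm Ω, ∀ x, (σ x : α) = act v x := fun v hv => by
    obtain ⟨i, h⟩ := pw v hv
    refine ⟨Equiv.ofBijective (fun x => ⟨act v x, st v hv x x.2⟩) (Finite.injective_iff_bijective.1 fun x y e => Subtype.ext ?_), fun _ => rfl⟩
    have e1 : act v x = act v y := congrArg Subtype.val e
    rw [← h x x.2, ← h y y.2, ← Nat.sub_add_cancel (pow_pos hl.pos i), pow_succ, mul, mul, e1]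
  let S : Submonoid (Equiv.Perm Ω) :=
    { carrier := {σ | σ = 1 ∨ ∃ v ∈ V, ∀ x, (σ x : α) = act v x}
      one_mem' := .inl rfl
      mul_mem' := by
        rintro a b (rfl | ⟨v, hv, h⟩) (rfl | ⟨w, hw, h'⟩)
        exacts [.inl (mul_one _), .inr ⟨w, hw, by rwa [one_mul]⟩, .inr ⟨v, hv, by rwa [mul_one]⟩,
          .inr ⟨v * w, mul_mem hv hw, fun x => by rw [Equiv.Perm.mul_apply, h, h', mul]⟩] }
  have k1 : ∀ σ ∈ S, ∃ i : ℕ, σ ^ l ^ i = 1 := by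
    rintro σ (rfl | ⟨v, hv, h⟩)
    · exact ⟨0, one_pow _⟩
    obtain ⟨i, h1⟩ := pw v hv
    have h2 : ∀ (n : ℕ) (x : Ω), ((σ ^ (n + 1)) x : α) = act (v ^ (n + 1)) x := fun n => by
      induction n with
      | zero => simpa only [zero_add, pow_one] using h
      | succ n ih => exact fun x => by rw [pow_succ σ, pow_succ v, Equiv.Perm.mul_apply, ih, mul, h]
    refine ⟨i, Equiv.ext fun x => Subtype.ext ?_⟩
    rw [← Nat.sub_add_cancel (pow_pos hl.pos i), h2, Nat.sub_add_cancel (pow_pos hl.pos i), h1 x x.2]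
    rfl
  let H : Subgroup (Equiv.Perm Ω) :=
    { S with
      inv_mem' := fun {σ} h => by
        obtain ⟨i, e⟩ := k1 σ h
        rw [← Nat.sub_add_cancel (pow_pos hl.pos i), pow_succ, mul_eq_one_iff_eq_inv] at e
        exact e ▸ S.pow_mem h _ }
  have hH : IsPGroup l H := fun σ => let ⟨i, e⟩ := k1 σ σ.2; ⟨i, Subtype.ext e⟩
  obtain ⟨x, hx⟩ := hH.nonempty_fixed_point_of_prime_not_dvd_card Ω (by rwa [Nat.card_coe_set_eq])
  refine ⟨x, x.2, fun v hv => ?_⟩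
  obtain ⟨σ, h⟩ := k0 v hv
  rw [← h]
  exact congrArg Subtype.val (hx ⟨σ, .inr ⟨v, hv, h⟩⟩)

variable {R : Type} [Fintype R] [DecidableEq R]

variable {ζ : ℂˣ} {τ : Vec R} {n : ℕ} {M A : Mat R} {Ψ ΨL : RS R} {V : Submonoid (Mat R)} {q : ℤ} {l i : ℕ} {t : Lb R}

theorem chr_co (ζ : ℂˣ) (τ v : Vec R) : chr v (coch τ ζ) = ζ ^ (τ ⬝ᵥ v) := by
  simp only [chr_apply, coch_apply, ← _root_.zpow_mul, dotProduct]
  induction (Finset.univ : Finset R) using Finset.induction_on with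
  | empty => simp
  | insert a s h ih => rw [Finset.prod_insert h, Finset.sum_insert h, ih, _root_.zpow_add]

theorem co_pow (h : ζ ^ n = 1) : coch τ ζ ^ n = 1 := by rw [← map_pow, h, map_one]

theorem tl_co (h : ζ ^ n = 1) (hM : ∀ r, (n : ℤ) ∣ (τ ᵥ* M - τ) r) : Tl M (coch τ ζ) (coch τ ζ) := fun v => by
  obtain ⟨k, e⟩ : (n : ℤ) ∣ (τ ᵥ* M - τ) ⬝ᵥ v := Finset.dvd_sum fun r _ => (hM r).mul_right _
  rw [sub_dotProduct, sub_eq_iff_eq_add, ← dotProduct_mulVec] at e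
  rw [chr_co, chr_co, e, _root_.zpow_add, _root_.zpow_mul, zpow_natCast, h, _root_.one_zpow, one_mul]

/-- fixed labels of odd order are central -/
theorem cen_of (ho : Odd n) (ht : t ^ n = 1) (two : ∀ b ∈ ΨL, b.1 ⬝ᵥ b.2 = 2) (h : ∀ b ∈ ΨL, Tl (rfm b) t t) : Cen ΨL t := fun b hb => by
  have h3 := h b hb b.2
  rw [Cu.rfm_mulVec, two b hb, chr_sub, chr_zsmul, mul_eq_left, inv_eq_one, zpow_ofNat] at h3
  have h4 : chr b.2 t ^ n = 1 := by rw [← map_pow, ht, map_one]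
  obtain ⟨r, rfl⟩ := ho
  rwa [pow_succ, pow_mul, h3, one_pow, one_mul] at h4

/-- **twists from row vectors** -/
theorem twi (ho : Odd l) (h : ζ ^ l ^ i = 1) (two : ∀ b ∈ ΨL, b.1 ⬝ᵥ b.2 = 2) (wv : WW ΨL ≤ V)
    (hA : ∀ r, ((l ^ i : ℕ) : ℤ) ∣ (q • (τ ᵥ* A) - τ) r) (hV : ∀ v ∈ V, ∀ r, ((l ^ i : ℕ) : ℤ) ∣ (τ ᵥ* v - τ) r) :
    Twi q l A ΨL V (coch τ ζ) where
  pw := ⟨i, co_pow h⟩
  fx := tl_co h (by rwa [vecMul_smul])
  cen := cen_of ho.pow (co_pow h) two fun b hb => tl_co h (hV _ (wv (Submonoid.subset_closure ⟨b, hb, rfl⟩)))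
  vt v hv := tl_co h (hV v hv)

theorem twi_one : Twi q l A ΨL V 1 where
  pw := ⟨0, one_pow _⟩
  fx v := by rw [map_one, map_one]
  cen _ _ := map_one _
  vt _ _ v := by rw [map_one, map_one]

theorem Twi.mul {t' : Lb R} (h : Twi q l A ΨL V t) (h' : Twi q l A ΨL V t') : Twi q l A ΨL V (t * t') where
  pw := let ⟨i, e⟩ := h.pw; let ⟨j, e'⟩ := h'.pw
    ⟨i + j, by rw [mul_pow, pow_add, pow_mul, e, one_pow, one_mul, mul_comm, pow_mul, e', one_pow]⟩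
  fx v := by rw [map_mul, map_mul, h.fx, h'.fx]
  cen a ha := by rw [map_mul, h.cen a ha, h'.cen a ha, one_mul]
  vt v hv x := by rw [map_mul, map_mul, h.vt v hv, h'.vt v hv]

end Cfsg.Agent.BZ.RT.Cg
end

-- part: BZ/RT/Ck/D5
section
set_option linter.all false
open scoped Cfsg.Agent.FastGrp

/-!
# BZ / RT : kills with the sum of all reflections on class tables; the type `D₅` (helper55)
-/

set_option autoImplicit false
set_option maxRecDepth 100000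

namespace Cfsg.Agent.BZ.RT

open Cfsg Matrix Cfsg.Agent.HZ.L Cfsg.Agent.BZ.TA Cfsg.Agent.OM Cfsg.Agent.OM.Cu Cfsg.Agent.OM.Cu.Eng

namespace CkD

theorem hy_of {R : Type} [Fintype R] [DecidableEq R] {Ψ : RS R} {B X : Mat R} {e : ℕ} {f : Mat R → ℂ} (h : Hy0 Ψ X e f)
    (hX : Co Ψ X B) : Hy Ψ B 0 1 e f :=
  ⟨fun u hu A hA => h.cj u hu A (hX.trans hA), fun A hA => h.bad A (hX.trans hA), fun A hA hb τ _ => by
    rw [show Zt Ψ 1 τ = Ψ from Set.ext fun a => and_iff_left (one_dvd _)]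
    exact h.rel A (hX.trans hA) hb⟩

/-- the kills `(h, w)` in their order, then every class is bad, dead or satisfies `Q` -/
noncomputable def rs0 (T : Tb) (e : ℕ) (Q : ℕ → Bool) (L : List (ℕ × ℕ)) : ℕ → Bool :=
  List.rec (motive := fun _ => ℕ → Bool) (fun D => aL (fun i => or (T.ba i e) (or (Nat.beq (fd 1 D i) 1) (Q i))) T.K)
    (fun x _ ih D => and (T.kil 1 0 e D x.1 0 x.2) (fc (Nat.lor D (Nat.shiftLeft 1 x.2)) ih)) L

variable {T : Tb} {c : ℕ → ℕ → ℤ} {d : Fin T.n → ℤ} {π : Equiv.Perm (Fin T.n)} (H : T.Ok c d π) {e : ℕ} {f : Mat (Fin T.n) → ℂ}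
  (hf : Hy (Rc (cm T.n c)) (pm π) 0 1 e f) (he : e < 7) {Q : ℕ → Bool}
include H hf he

theorem rs0_spec {L : List (ℕ × ℕ)} {D : ℕ} (hD : ∀ j, fd 1 D j = 1 → f (T.AA c π j) = 0) (k : rs0 T e Q L D = true) :
    ∀ i < T.K, f (T.AA c π i) ≠ 0 → Q i = true := by
  induction L generalizing D with
  | nil =>
    intro i hi h
    have a := aL_iff.1 k i hi
    simp only [Bool.or_eq_true, Nat.beq_eq] at a
    exact (a.resolve_left fun b => h (H.f_bad hf he hi b)).resolve_left fun b => h (hD i b)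
  | cons x L ih =>
    have a := Bool.and_eq_true_iff.1 k
    rw [fc_eq] at a
    exact ih (fun j hj => (bit_or hj).elim (hD j) fun e => e ▸ H.kil hf he (one_dvd _) (one_dvd _) hD a.1) a.2

/-- **the support of `f`** -/
theorem supp {L : List (ℕ × ℕ)} (k : rs0 T e Q L 0 = true) {A : Mat (Fin T.n)} (hA : Co (Rc (cm T.n c)) (pm π) A) (h0 : f A ≠ 0) :
    ∃ i < T.K, Q i = true ∧ ∃ g ∈ Wc (cm T.n c), T.AA c π i * g = g * A := by
  obtain ⟨i, hi, g, hg, a⟩ := H.closure hA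
  rw [← hf.conj H.rs.two (H.rs.ww ▸ hg) (H.co i) a] at h0
  exact ⟨i, hi, rs0_spec H hf he (fun j hj => by simp [fd] at hj) k i hi h0, g, hg, a⟩

omit H hf he

def tD5 : Tb where
  n := 5
  K := 18
  R := 20
  nb := 0x552552431520551
  ip := 0x43210
  rt := 0x33343000112210003342400011211000334320001121000044234000111110004424200011110000423340001011100024334000011110004432300011100000423420001011000024342000011100002243400000111000424230001010000024423000011000002244200000110000332440000001100053233000100000003523300001000000225230000010000033252000000100003332500000001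
  nx := 0x1313131213000000121210131100000011110f11120000000d0e12100f0000000a0b110c1000000009100e0e0b00000010090d0d0a00000007080c0f0c000000060f0b080e0000000f060a070d0000000e0d050906000000020c040b080000000c02030a070000000b0a010209000000050509000100000000040804040000000300070303000000080700060200000001010600050000000000000500
  cw := 0x22654299440d0000000000000000000000000000000000000000000000000000000000000000000000000000000000000000044ca853288c00000000000000000000000000000000000000000000000000000000000000000000000000000000000000000000089944070000000000000000000000000000000000000000000000000000000000000000000000000000000000000000000001132886000000000000000000000000000000000000000000000000000000000000000000000000000000000000000000000023440500000000000000000000000000000000000000000000000000000000000000000000000000000000000000000000000468840000000000000000000000000000000000000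000000000000000000000000000000000000000000000000000000000046804000000000000000000000000000000000000000000000000000000000000000000000000000000000000000000000004640400000000000000000000000000000000000000000000000000000000000000000000000000000000000000000000000344040000000000000000000000000000000000000000000000000000000000000000000000000000000000000000000000008d030000000000000000000000000000000000000000000000000000000000000000000000000000000000000000000000008c030000000000000000000000000000000000000000000000000000000000000000000000000000000000000000000000006403000000000000000000000000000000000000000000000000000000000000000000000000000000000000000000000000440300000000000000000000000000000000000000000000000000000000000000000000000000000000000000000000000011820000000000000000000000000000000000000000000000000000000000000000000000000000000000000000000000000802000000000000000000000000000000000000000000000000000000000000000000000000000000000000000000000000040200000000000000000000000000000000000000000000000000000000000000000000000000000000000000000000000000010000000000000000000000000000000000000000000000000000000000000000000000000000000000000000000000000000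
  od := 0x4020c040806040605040206040202030201
  bd := 0x140654120446160e0216060e1606060a0602
  jt := 0x100a0a0a0a0a0a0b0a0a0a0b0b0a0a0b0b0b0a1011110711071111070707110707071107070707110b09090e0b09090909090b0c0c0e09090909090e0f0f050f080f0f0505050f0808080f050505050f0a0b0a0c0b09090a09090a09090b0b09090c0c0c0d0d070d080f0f0705050d0505070d050508080d110d0d0d0d0f0f070f0f0d06060d0d0606070d081111110d0d0d0d0d0d0d0d0d0d0d0706060d07070d0f0d0f0f0d050d0f06060f0606060d050505050b0c0c0c0c0e0e040e0e0c02020c0c0202040c0b100a0a0c0c0c0c0b0c0c0c0b0b0c0a03030b0a040b0b0b0909090909090909090909030a020903030c0e0c0c0e09090c09090209090303090902020207070708080808080808080808080701010807070705050505060607060605060605050606010501080808050505050505050505050501060605010104020202020202030202020303020203030302000101010101010101010101010101010101010101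

def rD5 : List (List ℕ) := [
  [5474438, 684293, 4354310, 85508, 544261, 10755, 10627, 4337158, 68100, 67972, 1282, 542213, 542085, 8451, 129, 4337926, 4336902, 67716, 1026, 0],
  [8939654, 160005, 160004, 19972, 19971, 2563, 2435, 3586, 2562, 2434, 258, 513, 385, 257, 1, 4354, 3330, 0, 0, 0],
  [35270919, 277562376, 4336902, 69124, 19971, 8707, 8579, 3586, 2562, 2434, 1026, 513, 385, 257, 1026, 1199868405756176, 0, 0, 0, 129],
  [8939654, 1739142, 1739141, 10127751, 10127750, 18747943839885, 2435, 2434, 18747943839886, 2434, 1, 4577134985, 8939655, 0, 258, 4577134986, 8939654, 0, 257, 67716],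
  [5474438, 684293, 4354310, 1026, 129, 8579, 8707, 0, 1410, 1538, 17411, 385, 513, 2178, 129, 4336902, 4337926, 257, 1026, 0],
  [35270920, 68101, 92677, 5456903, 83333, 11205851842957, 10627, 10628, 1585125099916, 2434, 17411, 1585125099917, 385, 0, 1026, 9281706494350, 0, 0, 257, 2178],
  [35794183, 277562376, 4336902, 8707, 1539, 69124, 1026, 513, 11780, 130, 8579, 3586, 0, 1411, 214020, 0, 0, 385, 3330, 26755],
  [130, 160005, 160004, 1027, 130, 8580, 8708, 0, 1411, 1539, 69125, 385, 513, 11780, 1, 3330, 4354, 257, 0, 0],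
  [5474438, 19972, 19971, 1, 0, 386, 4355, 0, 129, 4354, 17411, 71583111, 71517703, 2178, 1026, 8939654, 8947846, 257, 129, 0],
  [8939654, 682501, 158212, 1262597, 4354, 214020, 214020, 513, 551045, 8939654, 17411, 257, 0, 2434, 142596, 0, 0, 385, 3330, 26755],
  [130, 1026, 0, 1026, 130, 8579, 8707, 0, 1411, 1539, 69124, 385, 513, 11780, 1026, 0, 1199868405756176, 3586, 0, 129],
  [67716, 19972, 19971, 1, 0, 386, 4355, 0, 385, 4354, 541701, 572141833, 71517703, 67716, 1027, 8939654, 4577134986, 257, 130, 0],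
  [43795463, 85508, 544261, 0, 0, 1026, 1262597, 1026, 646482056, 680028296, 17411, 2236805, 1712645, 67716, 1026, 214020, 279556, 1282, 129, 1],
  [73042312, 85508, 19971, 0, 0, 1852421, 387017225, 0, 231812, 3095947402, 17411, 1160213311757, 513, 67716, 1026, 0, 9281706494350, 1283, 130, 1],
  [5335558, 5343366, 5906950, 0, 385, 1410, 4333958, 279557, 2236805, 411592840, 82948, 129, 85252, 92292, 1411, 738309, 80810247, 17894662, 646482056, 1],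
  [5522822, 655428872, 2562, 0, 385, 1852805, 588343817, 485613472140, 1160213311757, 3095947401, 738309, 130, 85253, 10372, 1852422, 257, 28931, 145026663948, 231812, 1],
  [0, 129, 1026, 1282, 8451, 10627, 10755, 67716, 67972, 68100, 1283, 542085, 542213, 544261, 130, 4336902, 4337926, 4337158, 4354310, 1],
  [0, 1280133, 0, 9144454, 257, 73155975, 73042055, 67716, 2434, 2562, 73155592, 542085, 542213, 19971, 10241031, 4336902, 4337926, 4337158, 160004, 1]]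

theorem basD5 : tD5.bas (cT 2 5) = true := by decide +kernel

theorem rowsD5 : tD5.rows rD5 0 = true := by decide +kernel

theorem clsD5 : aL tD5.cls tD5.K = true := by decide +kernel

theorem carD5 : Car (cm 5 (cT 2 5)) ![1, 1, 1, 1, 1] :=
  car_of 60 ![30, 10, 5, 3, 48]
    !![2, -1, 0, 0, 0; 0, 3, -2, 0, 0; 0, 0, 4, -3, -3; 0, 0, 0, 5, -3; 0, 0, 0, 0, 1]
    (by decide) (by decide +kernel) (by decide +kernel) (by decide +kernel) (by decide +kernel)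

theorem okD5 : tD5.Ok (cT 2 5) ![1, 1, 1, 1, 1] 1 :=
  ⟨Tb.bs_of basD5, boxRs _ _ carD5, by decide +kernel, fun _ _ => rfl, fun i hi => Tb.rows_ok rowsD5 i (Nat.zero_le i) hi,
    aL_iff.1 clsD5⟩

theorem k1 : rs0 tD5 1 (fun _ => false) [(14, 15), (16, 17), (9, 13)] 0 = true := by decide +kernel

theorem k2 : rs0 tD5 2 (fun _ => false) [(13, 9), (15, 14), (5, 2), (1, 0)] 0 = true := by decide +kernel

end CkD

open CkD

/-- **`D₅`**, for `d = 1` and `d = 2` -/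
theorem kD5' {e : ℕ} (he : e = 1 ∨ e = 2) (f : Mat (Fin 5) → ℂ) (X : Mat (Fin 5)) (hX : X ∈ Wc (cm 5 (cT 2 5)))
    (h : Hy0 (Rc (cm 5 (cT 2 5))) X e f) : f X = 0 := by
  have a : Co (Rc (cm 5 (cT 2 5))) (pm 1) X := ⟨X, okD5.rs.ww ▸ hX, by rw [pm_one, mul_one]⟩
  have b := hy_of h (a.symm okD5.rs.two)
  by_contra k
  rcases he with rfl | rfl
  · obtain ⟨_, _, z, _⟩ := supp okD5 b (by decide) k1 a k
    cases z
  · obtain ⟨_, _, z, _⟩ := supp okD5 b (by decide) k2 a k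
    cases z

/-- **`D₅`** -/
theorem kD5 (f : Mat (Fin 5) → ℂ) (X : Mat (Fin 5)) (hX : X ∈ Wc (cm 5 (cT 2 5))) (h : Hy0 (Rc (cm 5 (cT 2 5))) X 1 f) : f X = 0 :=
  kD5' (Or.inl rfl) f X hX h

end Cfsg.Agent.BZ.RT
end

-- part: BZ/RT/Ck/D6
section
prune_inst 0x43400390533e2000000188012c2203e36ce0005b2106b8800e8e209460d856f60a0c3af607e60160092563ecd3831806811100160422000000a043200091f05a1182840009348039d6c008180fa0f580c00008000000000000000000000000000210000000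
set_option linter.all false
open scoped Cfsg.Agent.FastGrp

/-!
# BZ / RT : kills by integer combinations of relations; the types `D₆` and `²A₃` (helper55)
-/

set_option autoImplicit false
set_option linter.unusedSectionVars false
set_option maxRecDepth 100000

namespace Cfsg.Agent.BZ.RT

open Cfsg Matrix Cfsg.Agent.HZ.L Cfsg.Agent.BZ.TA Cfsg.Agent.OM Cfsg.Agent.OM.Cu Cfsg.Agent.OM.Cu.Eng Finset CkD

namespace CkE

/-- the number of the reflections which lead from the class `h` to the class `j` -/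
def cnt (T : Tb) (h j : ℕ) : ℕ := ((range T.R).filter fun t => T.jj h t = j).card

/-- a combination of rows -/
def cf (T : Tb) (ce : List (ℕ × ℤ)) (j : ℕ) : ℤ := (ce.map fun p => p.2 * (cnt T p.1 j : ℤ)).sum

/-- all classes are bad or killed, or satisfy `Q` -/
def Ce (T : Tb) (e : ℕ) (Q : ℕ → Bool) (L : List (ℕ × List (ℕ × ℤ))) : Prop :=
  (∀ g < T.K, (T.ba g e = true ∨ Q g = true) ∨ g ∈ L.map Prod.fst) ∧ ∀ x ∈ L,
    (∀ p ∈ x.2, p.1 < T.K ∧ T.ba p.1 e = true) ∧ cf T x.2 x.1 ≠ 0 ∧ ∀ j < T.K, j = x.1 ∨ T.ba j e = true ∨ cf T x.2 j = 0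

variable {T : Tb} {c : ℕ → ℕ → ℤ} {d : Fin T.n → ℤ} {π : Equiv.Perm (Fin T.n)} {f : Mat (Fin T.n) → ℂ} {e : ℕ}

theorem row_zero (H : T.Ok c d π) (hi : ∀ t < T.R, ∀ t' < T.R, (∀ j < T.n, T.co t j = T.co t' j) → t = t') (he : e < 7)
    (hf : Hy (Rc (cm T.n c)) (pm π) 0 1 e f) {h : ℕ} (h1 : h < T.K) (h2 : T.ba h e = true) :
    ∑ j ∈ range T.K, (cnt T h j : ℂ) * f (T.AA c π j) = 0 := by
  have h3 := hf.rel _ (H.co h) ((H.ord h1).2.2 e he h2) 0 fun a _ => by rw [Nat.cast_one]; exact one_dvd _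
  rw [Zt, Ext.rf_image H.bs H.rs (fun v => ((1 : ℕ) : ℤ) ∣ 0 ⬝ᵥ v) (fun v => by simp), finsum_mem_image fun t a t' b =>
    Ext.rf_inj H.bs H.rs hi (mem_range.1 (mem_filter.1 (mem_coe.1 a)).1) (mem_range.1 (mem_filter.1 (mem_coe.1 b)).1),
    finsum_mem_coe_finset, filter_true_of_mem fun t _ => by simp] at h3
  rw [← h3, ← sum_fiberwise_of_maps_to (s := range T.R) (t := range T.K) (g := T.jj h)
    fun t ht => mem_range.2 (H.ent h1 (mem_range.1 ht)).1]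
  refine sum_congr rfl fun j _ => ?_
  rw [cnt, ← nsmul_eq_mul, ← sum_const]
  refine sum_congr rfl fun t ht => ?_
  obtain ⟨-, g, hg, e⟩ := H.ent h1 (mem_range.1 (mem_filter.1 ht).1)
  rw [← (mem_filter.1 ht).2]
  exact hf.conj H.rs.two (H.rs.ww ▸ hg) (H.co _) e

/-- **the support of `f`** -/
theorem supp' (H : T.Ok c d π) (hi : ∀ t < T.R, ∀ t' < T.R, (∀ j < T.n, T.co t j = T.co t' j) → t = t') (he : e < 7)
    (hf : Hy (Rc (cm T.n c)) (pm π) 0 1 e f) {Q : ℕ → Bool} {L : List (ℕ × List (ℕ × ℤ))} (hL : Ce T e Q L) {A : Mat (Fin T.n)}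
    (hA : Co (Rc (cm T.n c)) (pm π) A) (h0 : f A ≠ 0) : ∃ i < T.K, Q i = true ∧ ∃ g ∈ Wc (cm T.n c), T.AA c π i * g = g * A := by
  obtain ⟨g, hg, u, hu, a⟩ := H.closure hA
  rw [← hf.conj H.rs.two (H.rs.ww ▸ hu) (H.co g) a] at h0
  rcases hL.1 g hg with (k | k) | k
  · exact absurd (H.f_bad hf he hg k) h0
  · exact ⟨g, hg, k, u, hu, a⟩
  obtain ⟨⟨_, ce⟩, hx, rfl⟩ := List.mem_map.1 k
  obtain ⟨h2, h3, h4⟩ := hL.2 _ hx
  dsimp only at h2 h3 h4 hg h0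
  have h5 : ∑ j ∈ range T.K, (cf T ce j : ℂ) * f (T.AA c π j) = 0 := by
    clear h3 h4 hx k a
    induction ce with
    | nil => simp [cf]
    | cons p ce ih =>
      have h6 := row_zero H hi he hf (h2 p List.mem_cons_self).1 (h2 p List.mem_cons_self).2
      have h7 := ih fun q hq => h2 q (List.mem_cons_of_mem _ hq)
      simp only [cf, List.map_cons, List.sum_cons, Int.cast_add, Int.cast_mul, Int.cast_natCast, add_mul, sum_add_distrib,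
        mul_assoc, ← mul_sum] at h7 ⊢
      rw [h6, h7, mul_zero, add_zero]
  rw [sum_eq_single_of_mem _ (mem_range.2 hg) fun j hj e => by
    rcases (h4 j (mem_range.1 hj)).resolve_left e with h6 | h6
    · rw [H.f_bad hf he (mem_range.1 hj) h6, mul_zero]
    · rw [h6, Int.cast_zero, zero_mul]] at h5
  exact absurd ((mul_eq_zero.1 h5).resolve_left (Int.cast_ne_zero.2 h3)) h0

/-- **no survivor** -/
theorem zero_of (H : T.Ok c d π) (hi : ∀ t < T.R, ∀ t' < T.R, (∀ j < T.n, T.co t j = T.co t' j) → t = t') (he : e < 7)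
    {L : List (ℕ × List (ℕ × ℤ))} (hL : Ce T e (fun _ => false) L) {X : Mat (Fin T.n)} (hX : Co (Rc (cm T.n c)) (pm π) X)
    (h : Hy0 (Rc (cm T.n c)) X e f) : f X = 0 := by
  by_contra k
  obtain ⟨_, _, z, _⟩ := supp' H hi he (hy_of h (hX.symm H.rs.two)) hL hX k
  cases z

theorem app {P : ℕ → Prop} {a k : ℕ} (h1 : ∀ i < a, P i) (h2 : ∀ i, a ≤ i → i < a + k → P i) : ∀ i < a + k, P i :=
  fun i hi => (Nat.lt_or_ge i a).elim (h1 i) fun h => h2 i h hi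

def tA3 : Tb where
  n := 3
  K := 5
  R := 6
  nb := 0x331320331
  ip := 0x12
  rt := 0x4340000011100000442000001100000024400000011000005230000010000000252000000100000032500000001
  nx := 0x3050400000000000102050000000000050001000000000000040200000000000400030000000000000300
  cw := 0xa04060000000000000000000000000000000000000000000000000000000000000000000000000000000000000000000000000402000000000000000000000000000000000000000000000000000000000000000000000000000000000000000000000000008100000000000000000000000000000000000000000000000000000000000000000000000000000000000000000000000000010000000000000000000000000000000000000000000000000000000000000000000000000000000000000000000000000000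
  od := 0x206020402
  bd := 0x444061206
  jt := 0x20202020202020102020101040303030003030303000300020101010201

theorem basA3 : tA3.bas cA = true := by decide +kernel

theorem clsA3 : aL tA3.cls tA3.K = true := by decide +kernel

theorem rowsA3_0 : tA3.rows [
  [258, 130, 129, 1, 0, 0],
  [130, 8451, 129, 1, 0, 0],
  [0, 1026, 0, 257, 0, 129],
  [130, 1026, 0, 257, 0, 129],
  [0, 1, 257, 130, 258, 2178]] 0 = true := by decide +kernel

theorem rowsA3 : ∀ i < tA3.K, tA3.RowOk i :=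
  app (fun i h => absurd h (Nat.not_lt_zero i)) (Tb.rows_ok rowsA3_0)

theorem injA3 : ∀ t < tA3.R, ∀ t' < tA3.R, (∀ j < tA3.n, tA3.co t j = tA3.co t' j) → t = t' := by
  decide +kernel

theorem carA3 : Car (cm 3 cA) ![1, 1, 1] :=
  car_of 6 ![3, 1, 8]
    !![2, -1, 0; 0, 3, -2; 0, 0, 1]
    (by decide) (by decide +kernel) (by decide +kernel) (by decide +kernel) (by decide +kernel)

theorem okA3 : tA3.Ok cA ![1, 1, 1] (Equiv.swap (0 : Fin 3) (2 : Fin 3)) :=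
  ⟨Tb.bs_of basA3, boxRs _ _ carA3, by decide +kernel, by decide +kernel, rowsA3, aL_iff.1 clsA3⟩

theorem a1 : Ce tA3 1 (fun _ => false) [(3, [(1, 1)]), (4, [(1, -1), (2, 1)])] := by
  unfold Ce
  decide +kernel

theorem a2 : Ce tA3 2 (fun _ => false) [(1, [(0, 1)])] := by
  unfold Ce
  decide +kernel

end CkE

open CkE

/-- **`²A₃`**, for `d = 1` and `d = 2` -/
theorem kA3' {e : ℕ} (he : e = 1 ∨ e = 2) (f : Mat (Fin 3) → ℂ) (X : Mat (Fin 3))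
    (hX : Co (Rc (cm 3 cA)) (pm (Equiv.swap (0 : Fin 3) 2)) X) (h : Hy0 (Rc (cm 3 cA)) X e f) : f X = 0 := by
  rcases he with rfl | rfl
  exacts [zero_of okA3 injA3 (by decide) a1 hX h, zero_of okA3 injA3 (by decide) a2 hX h]

/-- **`²A₃`** -/
theorem kA3 (f : Mat (Fin 3) → ℂ) (X : Mat (Fin 3)) (hX : Co (Rc (cm 3 cA)) (pm (Equiv.swap (0 : Fin 3) 2)) X)
    (h : Hy0 (Rc (cm 3 cA)) X 1 f) : f X = 0 := kA3' (Or.inl rfl) f X hX h

end Cfsg.Agent.BZ.RT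

private theorem dce_d6c4a3c6dc95 : _root_.True := by
  try have : _root_.True := by simp only [_root_.Cfsg.Agent.OM.Cu.Zt.eq_1]
  try have : _root_.True := by simp only [_root_.Cfsg.Agent.BZ.RT.CkE.cnt.eq_1]
  try have : _root_.True := by simp only [_root_.Cfsg.Agent.BZ.RT.CkE.cf.eq_1]
  exact _root_.True.intro
end

-- part: BZ/RT/CritE
section
set_option linter.all false
open scoped Cfsg.Agent.FastGrp

/-!
# BZ / RT (S4853) : the converse of the height criterion; non-abelian defect groups (helper27)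

* `critE` : a character over a member of height zero with an orbit and a multiplicity prime to `l` has height zero;
* `nab`, `nab'` : if the defect groups are not abelian then `l` divides the order of the relative group of `b`.
-/

set_option autoImplicit false
set_option linter.unusedSectionVars false

namespace Cfsg.Agent.BZ.RT

open Cfsg Subgroup Cfsg.Agent.HZ.Gen Cfsg.Agent.BZ.Lab Cfsg.Agent.Characters Cfsg.Agent.Characters.Core Cfsg.Agent.Blocks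
  Cfsg.Agent.Blocks.Basic Cfsg.Agent.Blocks.Local Cfsg.Agent.OddOrderCharacters.VChar Cfsg.Agent.BZ.L Cfsg.Agent.KM
open scoped ComplexConjugate

namespace Ce

variable {l r m n N : ℕ} {K L : Type} [Group K] [Fintype K] [Group L] [Fintype L] {M : Ideal AlgInt}
  {α : MulAut K} {β : MulAut L} {ι : L →* K} {P Q : Subgroup K} {B : Set (IrrCharacter K)}

/-- a member of height zero -/
theorem exists_zero (hM : IsPModular l M) (χ : IrrCharacter K) :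
    ∃ χ₀ : IrrCharacter K, SameBlock M χ.1 χ₀.1 ∧ blockHeight l (blockOf M χ.1) χ₀.1 = 0 := by
  obtain ⟨χ₀, h1, h2, -⟩ := H592.Defect.exists_height_zero l hM (isPBlock_blockOf (M := M) χ)
  exact ⟨χ₀, h1, Nat.sub_eq_zero_of_le (le_csInf ⟨_, χ₀, h1, rfl⟩ (by rintro _ ⟨x, hx, rfl⟩; exact h2 x hx))⟩

theorem unit_int (hM : IsPModular l M) {a : ℤ} (ha : ¬ (l : ℤ) ∣ a) : ¬ MemLocalIdeal M (a : ℂ) := fun h => by
  have := isPrime_of_isPModular hM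
  refine ha (Int.natCast_dvd.2 ((memLocalIdeal_natCast_iff hM _).1 ?_))
  rcases Int.natAbs_eq a with e | e
  · rwa [e, Int.cast_natCast] at h
  · rwa [e, Int.cast_neg, Int.cast_natCast, memLocalIdeal_neg_iff] at h

/-- the functional of a tight member -/
theorem to_uf (hM : IsPModular l M) (h : Fr l r m n N K α) (hP : IsPGroup r P) (e : Emb ι β α)
    (hL : ι.range = centralizer (P : Set K)) {ξ : IrrCharacter K} {ψ : IrrCharacter L} (hξ : St α ξ.1) (ht : Tight r ι P ψ.1)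
    {a : ℤ} (ha : classInner (rs r P ξ.1 ∘ ι) ψ.1 = a) (hl : ¬ (l : ℤ) ∣ a) (h1 : blockHeight l (blockOf M ψ.1) ψ.1 = 0)
    (h2 : ¬ l ∣ (Orb ι P ψ.1 ∩ blockOf M ψ.1).ncard) : ¬ MemLocalIdeal M (uf l ψ.1 (rs r P ξ.1 ∘ ι)) := by
  classical
  have := isPrime_of_isPModular hM
  have h0 : classInner (rs r P ξ.1 ∘ ι) ψ.1 ≠ 0 := by
    rw [ha]
    exact Int.cast_ne_zero.2 fun e0 => hl (e0 ▸ dvd_zero _)
  obtain ⟨a', T, -, h3, h4, h5⟩ := orb_fin boxSt boxOrb h hP e hL hξ h0 ht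
  have h6 : rs r P ξ.1 ∘ ι = fun y => ∑ φ ∈ T, (a' : ℂ) * φ.1 y := funext fun y => by rw [h5, Finset.mul_sum]
  obtain rfl : a = a' := by
    refine Int.cast_injective (α := ℂ) (ha.symm.trans ?_)
    rw [h6, show (fun y => ∑ φ ∈ T, (a' : ℂ) * φ.1 y) = ∑ φ ∈ T, (a' : ℂ) • φ.1 from funext fun y => by
      simp only [Finset.sum_apply, Pi.smul_apply, smul_eq_mul], classInner_sum_left, Finset.sum_eq_single_of_mem ψ h3
      fun φ _ h7 => by rw [classInner_smul_left, classInner_irr_ne φ.2 ψ.2 fun e0 => h7 (Subtype.ext e0), mul_zero],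
      classInner_smul_left, classInner_irr_self ψ.2, mul_one]
  set T' := T.filter fun φ : IrrCharacter L => SameBlock M ψ.1 φ.1
  have h7 : (Orb ι P ψ.1 ∩ blockOf M ψ.1).ncard = T'.card := by
    rw [← Set.ncard_coe_finset]
    congr 1
    ext φ
    rw [Finset.mem_coe, Finset.mem_filter, h4]
    rfl
  have h8 : uf l ψ.1 (rs r P ξ.1 ∘ ι) = a * ∑ φ ∈ T', uf l ψ.1 φ.1 := by
    rw [h6, uf_sum, ← Finset.mul_sum, Finset.sum_filter_of_ne fun φ _ h8 => by_contra fun h9 => h8 (boxUf.oth hM h9)]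
  have h9 : MemLocalIdeal M (∑ φ ∈ T', uf l ψ.1 φ.1 - ∑ φ ∈ T', uf l ψ.1 ψ.1) :=
    memLocalIdeal_sum_sub_sum fun φ hφ => by
      obtain ⟨h9, h10⟩ := Finset.mem_filter.1 hφ
      obtain ⟨g, hg, h11⟩ := (h4 φ).1 h9
      obtain ⟨σ, hσ⟩ := exists_aut e.inj hL hg
      have h12 : φ.1 ∘ σ = ψ.1 := funext fun y => h11 _ _ (hσ y)
      have h13 := boxUf.blk hM (gen_of_irr φ.2) h10
      rwa [← uf_aut σ φ.1, h12] at h13
  rw [Finset.sum_const, nsmul_eq_mul] at h9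
  rw [h8]
  intro h10
  refine (memLocalIdeal_or_of_mul (memLocalRing_intCast a) (memLocalRing_sum fun φ _ => boxUf.int hM ψ (gen_of_irr φ.2))
    h10).elim (unit_int hM hl) fun h11 => ?_
  refine (memLocalIdeal_or_of_mul (memLocalRing_natCast _) (boxUf.int hM ψ (gen_of_irr ψ.2))
    ((memLocalIdeal_iff_of_sub h9).1 h11)).elim (fun h12 => h2 (h7 ▸ (memLocalIdeal_natCast_iff hM _).1 h12))
    ((boxUf.ht hM (sameBlock_refl _)).2 h1)

/-- the ascent -/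
theorem up {C J : Type} [Group C] [Fintype C] [Group J] [Fintype J] {γ : MulAut C} {κ : C →* K} {ι' : J →* C}
    (h : Fr l r m n N K α) (hM : IsPModular l M) (hP : IsPGroup r P) (hQ : Fx l α Q) (e : Emb κ γ α)
    (hκ : κ.range = centralizer (Q : Set K)) (hPC : P ≤ κ.range) (hι : Function.Injective ι')
    (hJ : ι'.range = centralizer (P.comap κ : Set C)) {ξ : IrrCharacter K} (hξ : St α ξ.1) {η : IrrCharacter C} (hη : St γ η.1)
    {lam : IrrCharacter J} {ε : ℂ} (hε : ε = 1 ∨ ε = -1) (h1 : ∀ χ : IrrCharacter C, St γ χ.1 →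
      uf l lam.1 (rs r (P.comap κ) χ ∘ ι') * uf l η.1 η.1 = ε * (uf l η.1 χ.1 * uf l lam.1 lam.1))
    (h3 : ¬ MemLocalIdeal M (uf l lam.1 lam.1)) (h4 : IsClassFunction J (rs r P ξ ∘ κ ∘ ι'))
    (h2 : ¬ MemLocalIdeal M (uf l lam.1 (rs r P ξ ∘ κ ∘ ι'))) : ¬ MemLocalIdeal M (uf l η.1 (ξ.1 ∘ κ)) := by
  have : Fact r.Prime := ⟨h.rp⟩
  have := isPrime_of_isPModular hM
  have h' := h.sub e
  have hP' : IsPGroup r (P.comap κ) := hP.comap_of_injective κ e.inj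
  have hε' : ∀ z, MemLocalIdeal M (ε * z) ↔ MemLocalIdeal M z := fun z => by
    rcases hε with rfl | rfl
    · rw [one_mul]
    · rw [neg_one_mul, memLocalIdeal_neg_iff]
  have hg : ∀ χ : IrrCharacter C, St γ χ.1 → IsGeneralizedCharacter J (rs r (P.comap κ) χ ∘ ι') := fun χ hχ =>
    h'.bg.rs_gen hP' (boxSt.rat h' χ hχ) h.bdr hι hJ
  have h0 : ¬ MemLocalIdeal M (uf l η.1 η.1) := fun h0 => by
    obtain ⟨χ, k1, k2⟩ := exists_zero hM η
    have k3 := boxSt.blk h'.toGl hM η hη χ k1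
    have k4 := memLocalIdeal_mul_left (boxUf.int hM lam (hg χ k3)) h0
    rw [h1 χ k3, hε'] at k4
    exact (memLocalIdeal_or_of_mul (boxUf.int hM η (gen_of_irr χ.2)) (boxUf.int hM lam (gen_of_irr lam.2)) k4).elim
      ((boxUf.ht hM k1).2 k2) h3
  obtain ⟨S, c, h5, h6⟩ := boxSec2 h.toGl hM e hQ.pg (StS.of_fix hQ.fix) (fun x hx y hy => (hQ.ab hx y hy).symm) hκ ξ hξ
  have h7 := boxUf.cong hM η (f := ξ.1 ∘ κ - fun y => ∑ χ ∈ S, (c χ : ℂ) * χ.1 y) (fun g x => by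
    rw [Pi.sub_apply, Pi.sub_apply, gen_isClassFunction (gen_comp κ (gen_of_irr ξ.2))]
    exact congrArg _ (Finset.sum_congr rfl fun χ _ => by rw [irr_conj χ.2])) h6
  have h8 := boxUf.cong hM lam (f := rs r P ξ ∘ κ ∘ ι' - fun y => ∑ χ ∈ S, (c χ : ℂ) * (rs r (P.comap κ) χ ∘ ι') y)
    (fun g x => by
      rw [Pi.sub_apply, Pi.sub_apply, h4]
      exact congrArg _ (Finset.sum_congr rfl fun χ hχ => by rw [gen_isClassFunction (hg χ (h5 χ hχ).1)])) fun y hy => by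
      have h8 : ι' y ∈ centralizer (P.comap κ : Set C) := hJ ▸ ⟨y, rfl⟩
      have h9 : κ (ι' y) ∈ centralizer (P : Set K) := by rwa [cen_comap e.inj hPC] at h8
      obtain ⟨a, ha, e1, e2⟩ := h.bg.gel_spec hP h.nr h9
      obtain ⟨a, rfl⟩ := hPC ha
      rw [← map_mul] at e1 e2
      have h10 := h6 (a * ι' y) (by
        rwa [reg_mul h.lp (h8 a ha) (not_dvd_of_r h.lp h.rp h.ne (ord_of_mem hP' ha)), orderOf_injective ι' hι])
      rw [← e1, Finset.sum_congr rfl fun χ hχ => congrArg _ (h'.bg.rs_eq hP' (boxSt.rat h' χ (h5 χ hχ).1) h.bdr h8 ha (by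
        rw [cen_comap e.inj hPC]; exact gn_map e.inj e2)).symm] at h10
      exact h10
  rw [uf_sub, uf_sum] at h7 h8
  rw [memLocalIdeal_iff_of_sub h8] at h2
  rw [memLocalIdeal_iff_of_sub h7]
  intro h9
  have h10 := (hε' _).2 (memLocalIdeal_mul_right h9 (boxUf.int hM lam (gen_of_irr lam.2)))
  rw [Finset.sum_mul, Finset.mul_sum, Finset.sum_congr rfl fun χ hχ => show _ =
    (c χ * uf l lam.1 (rs r (P.comap κ) χ ∘ ι')) * uf l η.1 η.1 by rw [mul_assoc (c χ : ℂ) (uf l lam.1 _), h1 χ (h5 χ hχ).1]; ring,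
    ← Finset.sum_mul] at h10
  exact (memLocalIdeal_or_of_mul (memLocalRing_sum fun χ hχ => memLocalRing_mul (memLocalRing_intCast _)
    (boxUf.int hM lam (hg χ (h5 χ hχ).1))) (boxUf.int hM η (gen_of_irr η.2)) h10).elim h2 h0

/-- the normaliser condition -/
theorem eq_of_nrm [Fact l.Prime] {D : Subgroup K} (hD : IsPGroup l D) (h1 : Q ≤ D) (h2 : D ⊓ normalizer (Q : Set K) ≤ Q) : D = Q := by
  have := hD.isNilpotent
  by_contra h3
  have h4 : Q.subgroupOf D < ⊤ := lt_top_iff_ne_top.2 fun e => h3 (le_antisymm (subgroupOf_eq_top.1 e) h1)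
  obtain ⟨x, h5, h6⟩ := SetLike.exists_of_lt (Group.normalizerCondition_of_isNilpotent _ h4)
  rw [← subgroupOf_normalizer_eq h1] at h5
  exact h6 (h2 ⟨x.2, h5⟩)

end Ce

open Ce Ct

/-- **the converse of the criterion** -/
theorem critE {l r m n N : ℕ} {K L : Type} [Group K] [Fintype K] [Group L] [Fintype L] {α : MulAut K} {β : MulAut L} {ι : L →* K}
    {M : Ideal AlgInt} {B : Set (IrrCharacter K)} {P : Subgroup K} {b : Set (IrrCharacter L)} {Q : Subgroup L}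
    (h : Fr l r m n N K α) (hM : IsPModular l M) (T : Top r M α B P ι β b) (hD : IsDefectGroup l M b Q) (hQ : Fx l β Q)
    (hN : normalizer (P : Set K) ⊓ centralizer (Q.map ι : Set K) ≤ centralizer (P : Set K)) {ξ : IrrCharacter K} (hξ : ξ ∈ B)
    {ψ : IrrCharacter L} (hψ : ψ ∈ b) {a : ℤ} (ha : classInner (rs r P ξ.1 ∘ ι) ψ.1 = a) (hl : ¬ (l : ℤ) ∣ a)
    (hz : blockHeight l b ψ.1 = 0) (ho : ¬ l ∣ (Orb ι P ψ.1 ∩ b).ncard) : blockHeight l B ξ.1 = 0 := by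
  have : Fact r.Prime := ⟨h.rp⟩
  have := isPrime_of_isPModular hM
  have h' := h.sub T.emb
  have hQ' : Fx l α (Q.map ι) := ⟨hQ.pg.map ι, by
    rintro _ ⟨x, hx, rfl⟩ _ ⟨y, hy, rfl⟩
    rw [← map_mul, hQ.ab hx y hy, map_mul], by
    rintro _ ⟨x, hx, rfl⟩
    rw [← T.emb.cm, hQ.fix x hx]⟩
  have hQP : Q.map ι ≤ centralizer (P : Set K) := T.rg ▸ map_le_range ι Q
  let C := centralizer (Q.map ι : Set K)
  let J := centralizer (Q : Set L)
  have := Fintype.ofFinite C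
  have := Fintype.ofFinite J
  have sC : StS α C := (StS.of_fix hQ'.fix).cen
  have sJ : StS β J := (StS.of_fix hQ.fix).cen
  have hJC : ∀ y : J, (ι.comp J.subtype) y ∈ C := fun y => (cen_map T.emb.inj Q).le y.2
  let ι' : J →* C := (ι.comp J.subtype).codRestrict C hJC
  have e' : Emb ι' sJ.res sC.res :=
    ⟨fun a b e => Subtype.ext (T.emb.inj (congrArg Subtype.val e)), fun y => Subtype.ext (T.emb.cm y)⟩
  have hPC : P ≤ C.subtype.range := (le_centralizer_iff.1 hQP).trans (range_subtype C).ge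
  have hJ : ι'.range = centralizer (P.comap C.subtype : Set C) := by
    rw [cen_comap (subtype_injective C) hPC, ← T.rg]
    ext c
    exact ⟨fun ⟨y, e⟩ => ⟨y, congrArg Subtype.val e⟩, fun ⟨y, e⟩ =>
      ⟨⟨y, (cen_map T.emb.inj Q).ge (show ι y ∈ C from e ▸ c.2)⟩, Subtype.ext e⟩⟩
  obtain ⟨lam, h1, h2, h3, h4, h5⟩ := root h'.toGl hM T.hb T.sb hD hQ
  obtain ⟨η₀, h6, T'⟩ := boxY_of boxOs boxSub h hM T hQ' hQP sC.emb (range_subtype C) e' hJ (κ' := J.subtype) (fun _ => rfl) lam h1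
    ⟨ψ, hψ, h2 ψ hψ⟩
  have h7 : ((Q.map ι).subgroupOf C).comap ι' = Q.subgroupOf J := by
    ext y
    exact mem_map_iff_mem T.emb.inj
  obtain ⟨η, h8, ε, h9, h10⟩ := prop boxOs boxBes boxCd (h.sub sC.emb) hM T' (Q := (Q.map ι).subgroupOf C) (fun g hg => by
      rw [cen_comap (subtype_injective C) hPC]
      refine hN ⟨mem_normalizer_iff.2 fun x => ⟨fun hx => ?_, fun hx => ?_⟩, g.2⟩
      · obtain ⟨x, rfl⟩ := hPC hx
        exact (mem_normalizer_iff.1 hg x).1 hx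
      · obtain ⟨y, hy⟩ := hPC hx
        have h8 := (mem_normalizer_iff''.1 hg y).1 (show C.subtype y ∈ P from hy ▸ hx)
        rw [mem_comap, map_mul, map_mul, map_inv, hy] at h8
        simpa [mul_assoc] using h8)
    hQ'.pg.comap_subtype (fun x hx => mem_center_iff.2 fun y => Subtype.ext (y.2 x hx).symm)
    (fun x hx => hJ.ge (by rw [cen_comap (subtype_injective C) hPC]; exact hQP hx)) (h7 ▸ h3) (h7 ▸ h5)
  have hs := T.sB ξ hξ
  have h11 := h.bg.rs_gen T.rp (boxSt.rat h ξ hs) h.bdr T.emb.inj T.rg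
  rw [isPBlock_eq_blockOf T.hB hξ]
  rw [isPBlock_eq_blockOf T.hb hψ] at hz ho
  have h12 := to_uf hM h T.rp T.emb T.rg hs (boxOs.all h hM T ψ hψ).1 ha hl hz ho
  have h13 := up h hM T.rp hQ' sC.emb (range_subtype C) hPC e'.inj hJ hs (T'.sB η h8) h9 h10
    ((boxUf.ht hM (sameBlock_refl _)).2 h4) (gen_isClassFunction (gen_comp J.subtype h11))
    (mt (memLocalIdeal_iff_of_sub (boxUf.up hM (subtype_injective J) h11 (h2 ψ hψ))).1 h12)
  exact (boxUf.ht hM (sameBlock_refl _)).1 (mt (memLocalIdeal_iff_of_sub (boxUf.up hM (subtype_injective C) (gen_of_irr ξ.2)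
    (boxUp.congr hM h8 (sameBlock_refl _) (h6 ξ hξ)))).2 h13)

section nab

variable {l r m n N : ℕ} {K : Type} [Group K] [Fintype K] {α : MulAut K} {M : Ideal AlgInt} {B : Set (IrrCharacter K)}
  {P Q : Subgroup K} [Fintype (centralizer (P : Set K))] {β : MulAut (centralizer (P : Set K))}
  {b : Set (IrrCharacter (centralizer (P : Set K)))}

/-- **a non-abelian defect group** : `S` normalises `P` and `Q`, and `S C(P)` is the stabiliser of `b` -/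
theorem nab (h : Fr l r m n N K α) (hM : IsPModular l M) (t : Top r M α B P (centralizer (P : Set K)).subtype β b)
    (hQ : Q ≤ centralizer (P : Set K)) (hb : IsDefectGroup l M b (Q.subgroupOf (centralizer (P : Set K)))) (fx : Fx l α Q)
    (hc : normalizer (P : Set K) ⊓ centralizer (Q : Set K) ≤ centralizer (P : Set K)) :
    IsDefectGroup l M B Q ∨ ∃ S : Subgroup K, S ≤ normalizer (P : Set K) ∧ S ≤ normalizer (Q : Set K) ∧
      (∀ g ∈ normalizer (P : Set K), Stab (centralizer (P : Set K)).subtype b g ↔ ∃ c ∈ centralizer (P : Set K), g * c ∈ S) ∧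
      l ∣ (centralizer (P : Set K)).relIndex S := by
  have : Fact l.Prime := ⟨hM.1⟩
  have := isPrime_of_isPModular hM
  obtain ⟨lam, η, S, T, p1, p2, p3, p4, p5, p6, p7, p8⟩ := boxPair h hM t hQ hb fx hc
  obtain ⟨χ, rfl⟩ := t.hB
  obtain ⟨D, d1, d2, d3, d4, d5⟩ := boxDef2 hM fx.ab η χ (p2 χ (mem_blockOf_self χ)) p3 T p5
  have hL : centralizer (P : Set K) ≤ normalizer (P : Set K) := centralizer_le_normalizer _
  have sp : S ≤ normalizer (P : Set K) := fun g hg => ((p4 g).1 hg).1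
  have sq : S ≤ normalizer (Q : Set K) := fun g hg => ((p4 g).1 hg).2.1
  have cs : centralizer (P : Set K) ⊓ centralizer (Q : Set K) ≤ S := fun g hg =>
    (p4 g).2 ⟨hL hg.1, centralizer_le_normalizer _ hg.2, fun ψ k ψ' k' => (show ψ = ψ' from Subtype.ext (funext fun y =>
      (Rs.cj_self hg ψ (⟨g, hg⟩⁻¹ * y * ⟨g, hg⟩ :) y (by simp [mul_assoc])).trans
        (k' (⟨g, hg⟩⁻¹ * y * ⟨g, hg⟩ :) y (by simp [mul_assoc])).symm)) ▸ k⟩
  have syl : (Q.relIndex (D ⊓ normalizer (Q : Set K))).factorization l =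
      ((centralizer (P : Set K) ⊓ centralizer (Q : Set K)).relIndex S).factorization l := by
    rw [d5, Rs.rel_eq (S := S) (fun g hg => (p6 g).2 ⟨1, one_mem _, by rwa [mul_one]⟩) fun g hg => (p6 g).1 hg,
      ← inf_relIndex_right, show centralizer (Q : Set K) ⊓ S = centralizer (P : Set K) ⊓ centralizer (Q : Set K) from
        le_antisymm (fun g hg => ⟨hc ⟨sp hg.2, hg.1⟩, hg.1⟩) (le_inf inf_le_right cs)]
  have pD := isPGroup_of_isDefectGroup d1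
  by_cases h1 : l ∣ (centralizer (P : Set K)).relIndex S
  · exact .inr ⟨S, sp, sq, p7, h1⟩
  refine .inl (eq_of_nrm pD d2 ?_ ▸ d1)
  have h2 : ¬ l ∣ (centralizer (P : Set K) ⊓ centralizer (Q : Set K)).relIndex S := fun h2 => by
    rw [← relIndex_mul_relIndex _ (S ⊓ centralizer (P : Set K)) S (le_inf cs inf_le_left) inf_le_left, inf_comm S,
      inf_relIndex_right] at h2
    exact (hM.1.dvd_mul.1 h2).elim (inf_comm S _ ▸ p8) h1
  rw [Nat.factorization_eq_zero_of_not_dvd h2] at syl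
  have d6 : Q ≤ D ⊓ normalizer (Q : Set K) := le_inf d2 le_normalizer
  have h3 := Rs.fac_rel d6 l
  exact (H592.Defect.eq_of_le_of_factorization l fx.pg pD.to_inf_left d6 (by omega)).ge

/-- the same with an element of order `l` in the relative group -/
theorem nab' (h : Fr l r m n N K α) (hM : IsPModular l M) (t : Top r M α B P (centralizer (P : Set K)).subtype β b)
    (hQ : Q ≤ centralizer (P : Set K)) (hb : IsDefectGroup l M b (Q.subgroupOf (centralizer (P : Set K)))) (fx : Fx l α Q)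
    (hc : normalizer (P : Set K) ⊓ centralizer (Q : Set K) ≤ centralizer (P : Set K)) :
    IsDefectGroup l M B Q ∨ ∃ g ∈ normalizer (P : Set K), g ∈ normalizer (Q : Set K) ∧
      Stab (centralizer (P : Set K)).subtype b g ∧ g ∉ centralizer (P : Set K) ∧ g ^ l ∈ centralizer (P : Set K) := by
  have : Fact l.Prime := ⟨hM.1⟩
  refine (nab h hM t hQ hb fx hc).imp_right fun ⟨S, h1, h2, h3, h4⟩ => ?_
  have : ((centralizer (P : Set K)).subgroupOf S).Normal := normal_subgroupOf_of_le_normalizer (h1.trans (Cor.norm_le P))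
  obtain ⟨x, hx⟩ := exists_prime_orderOf_dvd_card' (G := S ⧸ (centralizer (P : Set K)).subgroupOf S) l h4
  obtain ⟨g, rfl⟩ := QuotientGroup.mk_surjective x
  refine ⟨g, h1 g.2, h2 g.2, (h3 g (h1 g.2)).2 ⟨1, one_mem _, by simp⟩, fun h5 => ?_, ?_⟩
  · rw [(QuotientGroup.eq_one_iff g).2 h5, orderOf_one] at hx
    exact hM.1.one_lt.ne hx
  · have h5 := pow_orderOf_eq_one (g : S ⧸ (centralizer (P : Set K)).subgroupOf S)
    rw [hx, ← QuotientGroup.mk_pow, QuotientGroup.eq_one_iff] at h5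
    exact h5

end nab

end Cfsg.Agent.BZ.RT
end

-- part: BZ/RT/Fin
section
prune_inst 0x8000000000000000000000000000014010000
set_option linter.all false
open scoped Cfsg.Agent.FastGrp

/-!
# BZ / RT (S4853) : the glue for one datum (helper56)

`boxFin_of : Bx p → BoxFin D`.
-/

set_option autoImplicit false
set_option linter.unusedSectionVars false
set_option maxHeartbeats 400000

namespace Cfsg.Agent.BZ.RT

open Cfsg Subgroup Matrix Cfsg.Agent.DL Cfsg.Agent.DL.PP Cfsg.Agent.KZ.Lie Cfsg.Agent.HZ.Gen Cfsg.Agent.HZ.L Cfsg.Agent.OM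
  Cfsg.Agent.Blocks
open Cfsg.Agent.HZ.L.X (Zc Cen)

namespace Fn

section Comb

variable {R : Type} [Fintype R] [DecidableEq R] {Ψ ΨL : RS R} {q : ℤ} {l d : ℕ} {A : Mat R} {V : Submonoid (Mat R)} {c s t : Lb R}

theorem tl_mul {c' t' : Lb R} (h : Tl A c c') (h' : Tl A t t') : Tl A (c * t) (c' * t') := fun v => by
  rw [map_mul, map_mul, h, h']

theorem tl_cen (ht : Cen Ψ t) (hA : A ∈ WW Ψ) : Tl A t t := by
  induction hA using Submonoid.closure_induction with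
  | mem x hx =>
    obtain ⟨a, ha, rfl⟩ := hx
    intro v
    rw [Cu.rfm_mulVec, chr_sub, chr_zsmul, ht a ha, _root_.one_zpow, inv_one, mul_one]
  | one => exact tl_one t
  | mul x y _ _ hx hy => exact hy.trans hx

/-- the label has roots outside of the Levi subsystem -/
theorem ne (h2 : ∀ a ∈ ΨL, a.1 ⬝ᵥ a.2 = 2) (h : Cb Ψ q l d A ΨL V c s) (ht : Twi q l A ΨL V t) : ∃ a ∈ Zc Ψ (c * t), a ∉ ΨL := by
  by_contra e
  push Not at e
  obtain ⟨v, h1, h3⟩ := h.ne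
  obtain ⟨g, h4, h5⟩ := h.vc v h1
  obtain ⟨t₀, i, h6, rfl⟩ := h.cs
  obtain ⟨i', h7⟩ := ht.pw
  have h8 := h.stab (t₀ * t) (i + i') (by rw [mul_pow, pow_add, pow_mul, h6, one_pow, one_mul, mul_comm, pow_mul, h7, one_pow])
    (g * v) (h.vw (mul_mem (h.wv h4) h1)) (mul_assoc s t₀ t ▸ tl_mul h5 ((ht.vt v h1).trans (tl_cen ht.cen h4)))
  obtain ⟨u, h9, h10, -⟩ := Cu.WW_inv h2 h4
  refine h3 ?_
  rw [← one_mul v, ← h10, mul_assoc]
  exact mul_mem h9 (WW_mono (fun a ha => e a (mul_assoc s t₀ t ▸ ha)) h8)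

end Comb

theorem pt_cen {Y : Type} [Group Y] {F : MulAut Y} {G Z : Subgroup Y} (h : ∀ x ∈ Z, ∀ y ∈ G, y * x = x * y) (m l : ℕ) :
    L.Pt F G m l Z ≤ center _ :=
  (closure_le _).2 fun _ hg => mem_center_iff.2 fun y => Subtype.ext (h _ hg.1 _ y.2.1)

theorem pt_mem {Y : Type} [Group Y] {F : MulAut Y} {G Z : Subgroup Y} (h : ∀ x ∈ Z, ∀ y ∈ G, y * x = x * y) {m l : ℕ}
    {g : ↥(GF (F ^ m) G)} (hg : g ∈ L.Pt F G m l Z) : (g : Y) ∈ Z ∧ ∃ j, g ^ l ^ j = 1 := by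
  induction hg using closure_induction with
  | mem x hx => exact hx
  | one => exact ⟨one_mem _, 0, one_pow _⟩
  | mul x y hx _ h1 h2 =>
    obtain ⟨i, hi⟩ := h1.2
    obtain ⟨j, hj⟩ := h2.2
    refine ⟨mul_mem h1.1 h2.1, i + j, ?_⟩
    rw [(show Commute x y from (mem_center_iff.1 (pt_cen h m l hx) y).symm).mul_pow, pow_add, pow_mul, hi, one_pow, one_mul,
      mul_comm, pow_mul, hj, one_pow]
  | inv x _ h1 =>
    obtain ⟨i, hi⟩ := h1.2
    exact ⟨inv_mem h1.1, i, by rw [inv_pow, hi, inv_one]⟩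

variable {p : ℕ} [Fact p.Prime] {k : Type} [Field k] [CharP k p] [IsAlgClosed k] {Y : Type} [Group Y] {N : Type}
  [Fintype N] [DecidableEq N] {ρ : Y →* GL N k} {F : MulAut Y} {G : Subgroup Y} {D : Datum p ρ F G}

theorem two {a : Vec D.R × Vec D.R} (ha : a ∈ rts D) : a.1 ⬝ᵥ a.2 = 2 := by
  obtain ⟨b, hb, rfl⟩ := ha
  exact (D.pair_cor hb b).trans (Nodes.Coroot.cpr_self _ _ hb)

variable [Fintype ↥(GF F G)] {j l r m n n' Q : ℕ} {B : Mat D.R} {M : Ideal AlgInt} {α : MulAut ↥(GF F G)}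
  {𝔅 : Set (IrrCharacter ↥(GF F G))} {P Z : Subgroup ↥(GF F G)} {s : Sb D} [Fintype ↥(GF F s.K)] {β : MulAut ↥(GF F s.K)} {lam : Vec D.R}
  {b : Set (IrrCharacter ↥(GF F s.K))}

/-- from the pair to the block -/
theorem two4 (h : Sit j B l r m n n' M α 𝔅 P s β lam b) (hZ : Z ≤ center _) {ψ : IrrCharacter ↥(GF F s.K)} (hψ : ψ ∈ b)
    (h0 : blockHeight l b (ψ : GF F s.K → ℂ) = 0) (ho : ¬ l ∣ (Lab.Orb s.ι P (ψ : GF F s.K → ℂ) ∩ b).ncard)
    (hz : Lab.Ov (Z.comap s.ι) (ψ : GF F s.K → ℂ)) (hP : Pair l Q r 𝔅 P s ψ) : Two4 l Q Z 𝔅 := by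
  obtain ⟨Q₀, q1, q2, q3⟩ := h.dq
  obtain ⟨ξ, h1, ξ', h2, a, a', J, h3, h4, h5, h6, h7, h8, h9⟩ := hP
  have k : ∀ η ∈ 𝔅, ∀ e : ℤ, ¬ (l : ℤ) ∣ e → classInner (s.rs r P η) ψ = e →
      Lab.Ov Z (η : GF F G → ℂ) ∧ blockHeight l 𝔅 (η : GF F G → ℂ) = 0 := fun η k1 e k2 k3 => by
    refine ⟨fun z hz' => ?_, critE h.fr h.hM h.top q1 q2 q3 k1 hψ k3 k2 h0 ho⟩
    obtain ⟨y, rfl⟩ : z ∈ s.ι.range := h.top.rg ▸ center_le_centralizer _ (hZ hz')
    have k4 := Lab.cen_rs Lab.boxSt h.fr h.top.rp h.top.emb h.top.rg (h.top.sB η k1)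
      (show classInner (s.rs r P η) ψ ≠ 0 from k3 ▸ Int.cast_ne_zero.2 fun e0 => k2 (e0 ▸ dvd_zero _)) (hZ hz')
    rw [hz y hz', div_self (irr_one_ne ψ.2)] at k4
    exact (div_eq_one_iff_eq (irr_one_ne η.2)).1 k4
  refine ⟨ξ, h1, ξ', h2, (k ξ h1 a h3 h5).1, (k ξ' h2 a' h4 h6).1, (k ξ h1 a h3 h5).2, (k ξ' h2 a' h4 h6).2, J, h7, h8, ?_⟩
  rw [Basic.irr_one_eq_charDegree ξ.2, Basic.irr_one_eq_charDegree ξ'.2] at h9
  exact_mod_cast h9

end Fn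

variable {p : ℕ} [Fact p.Prime] {k : Type} [Field k] [CharP k p] [IsAlgClosed k] {Y : Type} [Group Y] {N : Type}
  [Fintype N] [DecidableEq N] {ρ : Y →* GL N k} {F : MulAut Y} {G : Subgroup Y}

open Fn in
/-- **[Fin]** -/
theorem boxFin_of (H : Bx p) (D : Datum p ρ F G) : BoxFin D := fun j B l Z₀ z T hq hZ hz hC hT M hM => by
  have := @Fintype.ofFinite _ (D.amb.finite_GF G)
  refine ((H.sit D j B l M hq hM).and (hT M hM)).mono fun m ⟨h1, h2⟩ r hr _ n₁ n₂ α hF 𝔅 hB sB => ?_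
  by_cases e : ∃ E, IsDefectGroup l M 𝔅 E ∧ KM.BK.Ab E
  · exact .inl e
  have hm : 0 < m := (hF.fr r hr.rp hr.mr).mp.pos
  obtain ⟨P, s, _, β, lam, b, h⟩ := h1 r hr hm n₁ n₂ α 𝔅 hF hB sB fun E k1 k2 => e ⟨E, k1, k2⟩
  obtain ⟨Q, q1, q2, q3⟩ := h.dq
  obtain ⟨S, hS, ψ, k1, k2, k3, k4⟩ := H.hz0 h.fr hM h.top q1 q2 q3 h.nab (pt_cen hZ m l)
    fun g => (pt_mem hZ g.2).2.imp fun _ hi => Subtype.ext hi
  obtain ⟨f⟩ := nonempty_fr (D.pow hm)
  obtain ⟨u, c, c₀, k5, k6⟩ := H.cb (D.pow hm) _ _ _ _ _ _ _ _ _ _ _ s β lam b h S hS ψ k1 k2 f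
  obtain ⟨t, k7, k8, k9⟩ := hC _ _ _ _ _ _ _ k6
  obtain ⟨φ, g1, g2, g3, g4, g5⟩ := H.twi (D.pow hm) _ _ _ _ _ _ _ _ _ _ _ s β lam b h S hS.sn ψ k1 k2 f u c t k5 k7
  rw [← pow_mul]
  refine .inr (two4 h (pt_cen hZ m l) g1 (by rw [blockHeight, g3]; exact k3) (hS.orb φ g1 g2) ?_ (k9.elim (fun k10 => ?_) fun k10 => ?_))
  · rcases hz with hz | hz
    · exact g4 (k8 hz) ▸ k4
    · intro y hy
      obtain ⟨g6, i, g7⟩ := pt_mem hZ hy
      rw [show y = 1 from s.ι_injective (Subtype.ext ((hz _ g6 i (congrArg Subtype.val g7)).trans (by rw [map_one]; rfl)))]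
  · exact H.at1 (D.pow hm) _ _ _ _ _ _ _ _ _ _ _ s β lam b h φ g1 f u _ g5 ⟨k10, ne (fun a ha => two (s.rts_sub ha)) k6 k7⟩
  · exact h2 r hr hm n₁ n₂ α 𝔅 P s β lam b hF h φ g1 f u _ g5 k10

end Cfsg.Agent.BZ.RT
end
end
end
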