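import Cfsg.Agent.HZ.L.X.Bas
import Cfsg.Agent.BZ.RT.Down_m3
import Cfsg.Agent.OM.On.E6.Ax
import Cfsg.Agent.OM.Lie.UL0_m3
import Cfsg.Agent.HZ.L.E7.Ex_m3
import Cfsg.Agent.BZ.L.TA.KAll_m3
import Cfsg.Agent.BZ.RT.RowsC_m3
import Cfsg.Agent.BZ.RT.C5F
import Cfsg.Agent.OM.Cu.Glue_mg_m3
import Cfsg.Agent.OM.Cu.Asm_m3
import Cfsg.Agent.BZ.L.K3.Defs3_m3
import Cfsg.Agent.DL.CF.Uni_m3
import Cfsg.Agent.Lib.FinFast
import Cfsg.Agent.FastGrp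
import Cfsg.Agent.Prune
set_option linter.all false

section
prune_inst 0x7fdcb9f82fa89bffdfff7e37fe90ddf810800fffa4def9437fe1619f0b9f032109c1638509e010fe8e56c01410287843fb7ecfffe863d87ffffd17b01ffbee0fa5e63508119080240e242ff603e15f0a6f3fddfff7ffffffffffffffffffffffffbdebfeffff

-- part: BZ/RT/AtP
section
prune_inst 0x230406d004640020000000016b02042501a0004221040080000a20902014844624982a84108801412122a08092031000002000020c04000000e8444000005052198801400e1c9001d84009f81020b080c02200080000000000000000000000004210000000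
set_option linter.all false
open scoped Cfsg.Agent.FastGrp

/-!
# BZ / RT (S4853) : the atom, the pure part (helper42)

* `indep` : the eigen-parts of a vanishing sum vanish;  `per` : the maximum principle;  `ext` : the extreme eigen-parts;
* `sum_prod`, `avg` : sums over products of subgroups;  `ratio` : the quotient of the degrees;  `det_fac` : determinants.
-/

set_option autoImplicit false
set_option linter.unusedSectionVars false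

namespace Cfsg.Agent.BZ.RT.At

open Subgroup

theorem indep {ι V : Type*} [AddCommGroup V] [Module ℂ V] (T : Module.End ℂ V) (S : Finset ι) (κ : ι → ℂ) (y : ι → V)
    (h : ∀ i ∈ S, T (y i) = κ i • y i) (h0 : ∑ i ∈ S, y i = 0) (k : ℂ) : ∑ i ∈ S with κ i = k, y i = 0 := by
  by_cases hk : k ∈ S.image κ
  · refine (iSupIndep_iff_finsetSum_eq_zero_imp_eq_zero _).1 T.eigenspaces_iSupIndep (S.image κ)
      (fun k => ∑ i ∈ S with κ i = k, y i) (fun k _ => sum_mem fun i hi => ?_) ?_ k hk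
    · rw [Module.End.mem_eigenspace_iff, h i (Finset.mem_filter.1 hi).1, (Finset.mem_filter.1 hi).2]
    · rw [Finset.sum_fiberwise_of_maps_to fun i hi => Finset.mem_image_of_mem κ hi, h0]
  · exact Finset.sum_eq_zero fun i hi =>
      absurd (Finset.mem_image.2 ⟨i, (Finset.mem_filter.1 hi).1, (Finset.mem_filter.1 hi).2⟩) hk

section Grp

variable {W : Type} [Group W] [Fintype W]

/-- the sum of the left translations by the elements of `R` -/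
noncomputable def cs (R : Finset W) : Module.End ℂ (W → ℂ) := ∑ t ∈ R, LinearMap.funLeft ℂ ℂ (t * ·)

theorem cs_apply (R : Finset W) (y : W → ℂ) (w : W) : cs R y w = ∑ t ∈ R, y (t * w) := by
  rw [cs, LinearMap.sum_apply, Finset.sum_apply]
  rfl

theorem cs_comm {R₁ R₂ : Finset W} (hc : ∀ a ∈ R₁, ∀ b ∈ R₂, a * b = b * a) (y : W → ℂ) : cs R₁ (cs R₂ y) = cs R₂ (cs R₁ y) :=
  funext fun w => by
    simp only [cs_apply]
    rw [Finset.sum_comm]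
    exact Finset.sum_congr rfl fun b hb => Finset.sum_congr rfl fun a ha => by rw [← mul_assoc, ← hc a ha b hb, mul_assoc]

theorem per_re (R : Finset W) (g : W → ℝ) (h : ∀ w, ∑ t ∈ R, g (t * w) = R.card * g w) {t : W} (ht : t ∈ R) (w : W) :
    g (t * w) = g w := by
  have h1 : ∀ t, ∑ w, g (t * w) ^ 2 = ∑ w, g w ^ 2 := fun t => Equiv.sum_comp (Equiv.mulLeft t) fun w => g w ^ 2
  have h2 : ∀ t, ∑ w, (g (t * w) - g w) ^ 2 = 2 * ∑ w, g w ^ 2 - 2 * ∑ w, g (t * w) * g w := fun t => by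
    simp only [sub_sq, Finset.sum_add_distrib, Finset.sum_sub_distrib, h1, mul_assoc, ← Finset.mul_sum]
    ring
  have h3 : ∑ t ∈ R, ∑ w, g (t * w) * g w = R.card * ∑ w, g w ^ 2 := by
    rw [Finset.sum_comm, Finset.mul_sum]
    exact Finset.sum_congr rfl fun w _ => by rw [← Finset.sum_mul, h, sq, mul_assoc]
  have h4 : ∑ t ∈ R, ∑ w, (g (t * w) - g w) ^ 2 = 0 := by
    simp only [h2, Finset.sum_sub_distrib, Finset.sum_const, ← Finset.mul_sum, h3, nsmul_eq_mul]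
    ring
  have h5 := (Finset.sum_eq_zero_iff_of_nonneg fun t _ => Finset.sum_nonneg fun w _ => sq_nonneg _).1 h4 t ht
  exact sub_eq_zero.1 (pow_eq_zero_iff two_ne_zero |>.1
    ((Finset.sum_eq_zero_iff_of_nonneg fun w _ => sq_nonneg _).1 h5 w (Finset.mem_univ w)))

/-- the maximum principle -/
theorem per (R : Finset W) (g : W → ℂ) (h : ∀ w, ∑ t ∈ R, g (t * w) = R.card * g w) {x : W} (hx : x ∈ closure (R : Set W)) :
    ∀ w, g (x * w) = g w := by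
  induction hx using closure_induction with
  | mem t ht =>
    exact fun w => Complex.ext
      (per_re R (fun w => (g w).re) (fun w => by rw [← Complex.re_sum, h, Complex.mul_re, Complex.natCast_re, Complex.natCast_im, zero_mul, sub_zero]) ht w)
      (per_re R (fun w => (g w).im) (fun w => by rw [← Complex.im_sum, h, Complex.mul_im, Complex.natCast_re, Complex.natCast_im, zero_mul, add_zero]) ht w)
  | one => exact fun w => by rw [one_mul]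
  | mul x y _ _ h1 h2 => exact fun w => by rw [mul_assoc, h1, h2]
  | inv x _ h1 => exact fun w => by rw [← h1, mul_inv_cancel_left]

/-- **the extreme eigen-parts** -/
theorem ext {ι : Type*} {R₁ R₂ : Finset W} (hc : ∀ a ∈ R₁, ∀ b ∈ R₂, a * b = b * a) (ε : W →* ℂ) {e : ℂ} (he : e * e = 1)
    (hε : ∀ t ∈ R₂, ε t = e) {H : Subgroup W} [Fintype H] (hH : H = closure (R₂ : Set W)) (S : Finset ι) (κ : ι → ℂ)
    (y : ι → W → ℂ) (h : ∀ i ∈ S, cs R₁ (y i) + cs R₂ (y i) = κ i • y i) {κ₀ : ℂ}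
    (h0 : cs R₁ (∑ i ∈ S, y i) = κ₀ • ∑ i ∈ S, y i) (w : W) :
    (Nat.card H : ℂ) * (∑ i ∈ S with κ i = κ₀ + e * R₂.card, y i) w = ∑ x : H, ε x * (∑ i ∈ S, y i) (x * w) := by
  have h1 : ∀ k, cs R₂ (∑ i ∈ S with κ i = k, y i) = (k - κ₀) • ∑ i ∈ S with κ i = k, y i := fun k => by
    have h2 := indep (cs R₁ + cs R₂) S κ (fun i => cs R₁ (y i) - κ₀ • y i) (fun i hi => by
      rw [map_sub, map_smul, LinearMap.add_apply, LinearMap.add_apply, h i hi, ← cs_comm hc, ← map_add, h i hi, map_smul,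
        smul_sub, smul_comm]) (by rw [Finset.sum_sub_distrib, ← map_sum, ← Finset.smul_sum, h0, sub_self]) k
    rw [Finset.sum_sub_distrib, ← Finset.smul_sum, sub_eq_zero] at h2
    rw [sub_smul, ← h2, map_sum, eq_sub_iff_add_eq', ← Finset.sum_add_distrib, Finset.smul_sum]
    exact Finset.sum_congr rfl fun i hi => by rw [h i (Finset.mem_filter.1 hi).1, (Finset.mem_filter.1 hi).2]
  have h2 : ∀ z : W → ℂ, ∑ x : H, ε x * cs R₂ z (x * w) = e * R₂.card * ∑ x : H, ε x * z (x * w) := fun z => by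
    simp only [cs_apply, Finset.mul_sum]
    rw [Finset.sum_comm, ← Finset.mul_sum, mul_right_comm, mul_comm, ← nsmul_eq_mul, ← Finset.sum_const]
    refine Finset.sum_congr rfl fun t ht => ?_
    rw [← Equiv.sum_comp (Equiv.mulLeft (⟨t, hH ▸ subset_closure ht⟩ : H)) fun x => ε x * z (x * w), Finset.mul_sum]
    refine Finset.sum_congr rfl fun x _ => ?_
    show _ = e * (ε (t * x) * z (t * x * w))
    rw [map_mul, hε t ht, mul_assoc t]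
    linear_combination (-ε x * z (t * (x * w))) * he
  rw [← Finset.sum_fiberwise_of_maps_to (s := S) (t := insert (κ₀ + e * R₂.card) (S.image κ)) (g := κ)
    (fun i hi => Finset.mem_insert_of_mem (Finset.mem_image_of_mem κ hi)) y]
  conv_rhs => simp only [Finset.sum_apply (g := fun k => ∑ i ∈ S with κ i = k, y i), Finset.mul_sum]
  rw [Finset.sum_comm, Finset.sum_eq_single_of_mem _ (Finset.mem_insert_self _ _) fun k _ hk => ?_]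
  · generalize ∑ i ∈ S with κ i = κ₀ + e * R₂.card, y i = z, h1 (κ₀ + e * R₂.card) = h3 at *
    rw [Nat.card_eq_fintype_card, ← nsmul_eq_mul, ← Finset.card_univ, ← Finset.sum_const]
    refine Finset.sum_congr rfl fun x _ => ?_
    have h4 := per R₂ (fun w => ε w * z w) (fun w => by
      have h4 := congrFun h3 w
      rw [cs_apply, Pi.smul_apply, smul_eq_mul] at h4
      rw [Finset.sum_congr rfl fun t ht => by rw [map_mul, hε t ht], ← Finset.mul_sum, h4]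
      linear_combination (ε w * R₂.card * z w) * he) (hH.le x.2) w
    refine mul_left_cancel₀ (a := ε w) (fun h5 => ?_) (by rw [← h4, map_mul]; ring)
    have h6 := map_mul ε w w⁻¹
    rw [mul_inv_cancel, map_one, h5, zero_mul] at h6
    exact one_ne_zero h6
  · have h3 := h2 (∑ i ∈ S with κ i = k, y i)
    simp only [h1, Pi.smul_apply, smul_eq_mul, mul_left_comm _ (k - κ₀), ← Finset.mul_sum] at h3
    exact (mul_eq_mul_right_iff.1 h3).resolve_left fun h4 => hk (by rw [← h4, add_sub_cancel])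

theorem sum_prod {A B : Subgroup W} [Fintype A] [Fintype B] (hd : ∀ x ∈ A, x ∈ B → x = 1) (w₀ : W) {g : W → ℂ}
    (h : ∀ w, g w ≠ 0 → ∃ a ∈ A, ∃ b ∈ B, w = a * b * w₀) : ∑ w, g w = ∑ a : A, ∑ b : B, g (a * b * w₀) := by
  rw [← Fintype.sum_prod_type']
  refine (Fintype.sum_of_injective (fun x : A × B => (x.1 : W) * x.2 * w₀) (fun x y e => ?_) _ _ (fun w hw => ?_) fun _ => rfl).symm
  · have e1 : (x.1 : W) * x.2 = y.1 * y.2 := mul_right_cancel e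
    have e2 : ((y.1⁻¹ * x.1 : A) : W) = (y.2 * x.2⁻¹ : B) := by
      rw [coe_mul, coe_mul, coe_inv, coe_inv, inv_mul_eq_iff_eq_mul, ← mul_assoc, ← e1, mul_inv_cancel_right]
    have e3 := hd _ (y.1⁻¹ * x.1).2 (e2 ▸ (y.2 * x.2⁻¹).2)
    exact Prod.ext (inv_mul_eq_one.1 (Subtype.ext e3)).symm (mul_inv_eq_one.1 (Subtype.ext (e2.symm.trans e3))).symm
  · by_contra h0
    obtain ⟨a, ha, b, hb, rfl⟩ := h w h0
    exact hw ⟨(⟨a, ha⟩, ⟨b, hb⟩), rfl⟩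

open Classical in
/-- the average of an induced function -/
theorem avg {A B : Subgroup W} [Fintype B] (hc : ∀ a ∈ A, ∀ b ∈ B, a * b = b * a) (hd : ∀ x ∈ A, x ∈ B → x = 1) {φ : W → W}
    (hφ : ∀ x ∈ B, φ x ∈ B) (ε : W →* ℂ) (hε : ∀ x, ε (φ x) = ε x) (hε' : ∀ x, ε x * ε x = 1) {y : W → ℂ}
    (h1 : ∀ x, x ∉ A → y x = 0) {a b : W} (ha : a ∈ A) (hb : b ∈ B) :
    ∑ z : B, ε z * ∑ v : B, y (v * (z * (a * b)) * (φ v)⁻¹) = Nat.card B * (ε b * y a) := by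
  simp only [Finset.mul_sum]
  rw [Finset.sum_comm, Nat.card_eq_fintype_card, ← nsmul_eq_mul, ← Finset.card_univ, ← Finset.sum_const]
  refine Finset.sum_congr rfl fun v _ => ?_
  have h2 : ∀ z : B, v * (z * (a * b)) * (φ v)⁻¹ = a * (v * z * b * (φ v)⁻¹) := fun z => by
    rw [← mul_assoc (v : W), ← mul_assoc _ a, ← hc a ha _ (mul_mem v.2 z.2)]
    group
  rw [Finset.sum_eq_single_of_mem (v⁻¹ * ⟨φ v, hφ _ v.2⟩ * (⟨b, hb⟩ : B)⁻¹) (Finset.mem_univ _) fun z _ hz => ?_]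
  · rw [h2]
    simp only [coe_mul, coe_inv, map_mul, hε]
    have h3 : ∀ x, ε x⁻¹ = ε x := fun x => by
      rw [← one_mul (ε x⁻¹), ← hε' x, mul_assoc, ← map_mul, mul_inv_cancel, map_one, mul_one]
    rw [h3, h3, hε', one_mul]
    congr 2
    group
  · rw [h2, h1 _ fun h3 => hz ?_, mul_zero]
    have h4 := hd _ ((mul_mem_cancel_left ha).1 h3) (mul_mem (mul_mem (mul_mem v.2 z.2) hb) (inv_mem (hφ _ v.2)))
    refine Subtype.ext ?_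
    show (z : W) = (v : W)⁻¹ * φ v * b⁻¹
    rw [← mul_inv_eq_one.1 h4]
    group

end Grp

/-- the quotient of the degrees -/
theorem ratio {g h : ℝ} (hg : |g| < h) {Q i j : ℕ} (hQ : 1 < Q) {a b d d' u u' : ℂ} (h1 : d ^ 2 = a ^ 2 * g ^ 2)
    (h2 : d' ^ 2 = a ^ 2 * h ^ 2) (h3 : u ^ 2 = b ^ 2 * h ^ 2) (h4 : u' ^ 2 = b ^ 2 * g ^ 2) (h5 : u ^ 2 = (Q : ℂ) ^ i * d ^ 2)
    (h6 : u' ^ 2 = (Q : ℂ) ^ j * d' ^ 2) (h0 : d ≠ 0) : ∃ J, 0 < J ∧ J ≤ i ∧ d' ^ 4 = (Q : ℂ) ^ J * d ^ 4 := by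
  have h7 : a ^ 2 ≠ 0 := fun e => h0 (pow_eq_zero_iff two_ne_zero |>.1 (by rw [h1, e, zero_mul]))
  have h8 : (Q : ℂ) ^ j * h ^ 4 = (Q : ℂ) ^ i * g ^ 4 := mul_left_cancel₀ h7 (by
    linear_combination (-(Q : ℂ) ^ j * h ^ 2) * h2 - (h : ℂ) ^ 2 * h6 + (h : ℂ) ^ 2 * h4 - (g : ℂ) ^ 2 * h3 + (g : ℂ) ^ 2 * h5 +
      (Q : ℂ) ^ i * g ^ 2 * h1)
  have h9 : (Q : ℝ) ^ j * h ^ 4 = (Q : ℝ) ^ i * g ^ 4 := by exact_mod_cast h8
  have h10 : g ^ 4 < h ^ 4 := by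
    rw [← (show Even 4 by decide).pow_abs g]
    exact pow_lt_pow_left₀ hg (abs_nonneg g) four_ne_zero
  have h11 : (1 : ℝ) < Q := Nat.one_lt_cast.2 hQ
  have h12 : j < i := by
    by_contra h12
    have h13 := pow_le_pow_right₀ h11.le (not_lt.1 h12)
    have h14 : (0 : ℝ) < Q ^ i := by positivity
    have h15 : 0 ≤ h ^ 4 := by positivity
    nlinarith
  obtain ⟨J, rfl⟩ := Nat.exists_eq_add_of_lt h12
  refine ⟨J + 1, J.succ_pos, by omega, ?_⟩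
  rw [add_assoc, pow_add, mul_assoc] at h8
  have h13 := mul_left_cancel₀ (pow_ne_zero j (Nat.cast_ne_zero.2 (by omega))) h8
  linear_combination (d' ^ 2 + a ^ 2 * h ^ 2) * h2 - (Q : ℂ) ^ (J + 1) * (d ^ 2 + a ^ 2 * g ^ 2) * h1 + a ^ 4 * h13

open Matrix in
/-- determinants of products -/
theorem det_fac {R : Type} [Fintype R] [DecidableEq R] {A X X' : Matrix R R ℤ} {d : ℕ} {t : ℤ} (hA : A ^ d = t • 1) (ht : t ≠ 1)
    (h : ∀ i : ℕ, (X - 1) * A ^ i * (X' - 1) = 0) :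
    (X * X' * A - 1).det * (A - 1).det = (X * A - 1).det * (X' * A - 1).det := by
  set M := ∑ i ∈ Finset.range d, A ^ i with hM
  have h1 : M * (A - 1) = (t - 1) • 1 := by rw [geom_sum_mul, hA, sub_smul, one_smul]
  have h2 : (X - 1) * (A * M) * (X' - 1) = 0 := by
    simp only [hM, Finset.mul_sum, Finset.sum_mul, ← pow_succ', h, Finset.sum_const_zero]
  have h3 := h 0
  rw [pow_zero, mul_one] at h3
  have h4 : ∀ Z : Matrix R R ℤ, M * (Z * A - 1) = (t - 1) • 1 + M * (Z - 1) * A := fun Z => by rw [← h1]; noncomm_ring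
  have h5 : M * (X * A - 1) * (M * (X' * A - 1)) = M * (A - 1) * (M * (X * X' * A - 1)) := by
    have h6 : M * (X - 1) * A * (M * (X' - 1) * A) = 0 := by
      rw [show M * (X - 1) * A * (M * (X' - 1) * A) = M * ((X - 1) * (A * M) * (X' - 1)) * A by noncomm_ring, h2, mul_zero, zero_mul]
    have h7 : X * X' - 1 = X - 1 + (X' - 1) := by rw [← add_zero (X - 1 + _), ← h3]; noncomm_ring
    rw [h4, h4, h4 (X * X'), h1, h7, add_mul, mul_add, mul_add, h6]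
    simp only [smul_mul_assoc, mul_smul_comm, one_mul, mul_one, mul_add, add_mul, smul_add, add_zero]
    abel
  have h6 : M.det ≠ 0 := fun e => by
    have h6 := congrArg det h1
    rw [det_mul, e, zero_mul, det_smul, det_one, mul_one] at h6
    exact pow_ne_zero _ (sub_ne_zero.2 ht) h6.symm
  have h7 := congrArg det h5
  simp only [det_mul] at h7
  exact mul_left_cancel₀ (mul_ne_zero h6 h6) (by linear_combination -h7)

end Cfsg.Agent.BZ.RT.At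

private theorem dce_9908375c4620 : _root_.True := by
  try have : _root_.True := by simp only [_root_.Cfsg.Agent.BZ.RT.At.cs.eq_1]
  exact _root_.True.intro
end

-- part: BZ/RT/AtM
section
prune_inst 0x210003d041240020000008004802002100c0000221040880000a20244020400604080884148000518122208090000000813000020c040000004844000000405218800040040c10019800099010208400002200080000000000000000000000000210000000
set_option linter.all false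
open scoped Cfsg.Agent.FastGrp

-- part: BZ/RT/AtL
section
/-!
# BZ / RT (S4853) : the atom, Weyl groups and multiplicities (helper42)

* `red`, `val_red`, `gam_red` : the reduction to one label;  `Rs`, `Hs` : reflections and Weyl groups of sets of roots;
* `yb` : the multiplicities of a character of a sub-datum as a function on `W`;  `ind_eq` : the induced function.
-/

set_option autoImplicit false
set_option linter.unusedSectionVars false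

namespace Cfsg.Agent.BZ.RT.At

open Cfsg Cfsg.Agent.DL Cfsg.Agent.DL.PP Matrix Cfsg.Agent.KZ.Lie Cfsg.Agent.HZ.Gen Cfsg.Agent.HZ.L Cfsg.Agent.OM.On
  Cfsg.Agent.Characters.Core Subgroup Cfsg.Agent.DL.Uni
open Cfsg.Agent.HZ.L.X (Zc Qv)
open Cfsg.Agent.LV.Lab (ac rel_ac ac_eq sum_orb' tc_self tc_self')

section Comb

variable {R : Type} [Fintype R] [DecidableEq R] {Ψ Ψ' : RS R} {A A' B : Mat R}

theorem kill (h : ∀ a ∈ Ψ, ∀ b ∈ Ψ', a.1 ⬝ᵥ b.2 = 0) (hA : A ∈ WW Ψ) (hA' : A' ∈ WW Ψ') (hB : Nm B Ψ') (i : ℕ) :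
    (A - 1) * B ^ i * (A' - 1) = 0 := by
  refine toLin'.injective (LinearMap.ext fun v => ?_)
  rw [toLin'_apply, toLin'_apply, zero_mulVec, ← mulVec_mulVec, ← mulVec_mulVec, sub_mulVec, sub_mulVec, one_mulVec, one_mulVec,
    sub_eq_zero]
  refine Perp.fix (X.Qv.ind (P := Perp Ψ) (X.Qv.nm (X.nm_pow hB i) (X.Qv.sub hA' v)) (fun a _ => dotProduct_zero _)
    (fun b hb a ha => h a ha b hb) (fun x y h1 h2 a ha => ?_) fun m x h1 a ha => ?_) hA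
  · rw [dotProduct_add, h1 a ha, h2 a ha, add_zero]
  · rw [dotProduct_smul, h1 a ha, smul_zero]

theorem kill' (h : ∀ a ∈ Ψ, ∀ b ∈ Ψ', a.1 ⬝ᵥ b.2 = 0) (hA : A ∈ WW Ψ) (hA' : A' ∈ WW Ψ') : A * A' = A + A' - 1 := by
  have h1 := kill h hA hA' (B := 1) (fun a ha => ⟨a, ha, one_mulVec _, vecMul_one _⟩) 0
  rw [pow_zero, mul_one] at h1
  rw [← add_zero (_ - 1), ← h1]
  noncomm_ring

end Comb

variable {p : ℕ} [Fact p.Prime] {k : Type} [Field k] [CharP k p] [IsAlgClosed k] {Y : Type} [Group Y] {N : Type}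
  [Fintype N] [DecidableEq N] {ρ : Y →* GL N k} {F : MulAut Y} {G : Subgroup Y} {D : Datum p ρ F G}
  {j : ℕ} {B : Mat D.R} {Ψ Ψ' : RS D.R} {c c' : Lbl D} {v w w' x y : D.W}

theorem orth_symm {a b : Vec D.R × Vec D.R} (ha : a ∈ rts D) (hb : b ∈ rts D) (h : b.1 ⬝ᵥ a.2 = 0) : a.1 ⬝ᵥ b.2 = 0 := by
  have h2 := X.rt_two ha
  obtain ⟨a, ha, rfl⟩ := ha
  obtain ⟨b, hb, rfl⟩ := hb
  have h1 := D.cor_act (D.rf a) hb
  rw [D.act_rf ha, show Nodes.Coroot.cpr D.cs D.h b a = 0 from (wt_dot_cor D b ha).symm.trans h, zero_smul, sub_zero,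
    ← rfm_eq ha, rfm_vec, eq_comm, sub_eq_self] at h1
  have h3 := congrArg (D.wt a ⬝ᵥ ·) h1
  simp only [dotProduct_smul, dotProduct_zero, smul_eq_mul] at h2 h3 ⊢
  rw [h2] at h3
  omega

variable (D) in
/-- the reflections in a set of roots -/
def Rs (Ψ : RS D.R) : Set D.W := {t | ∃ a ∈ Ψ, D.Wm t = rfm a}

variable (D) in
/-- the Weyl group of a set of roots -/
def Hs (Ψ : RS D.R) : Subgroup D.W := _root_.Subgroup.closure (Rs D Ψ)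

theorem rs_eq (h : Ψ ⊆ rts D) : Rs D Ψ = D.rf '' {b | D.Rt b ∧ (D.wt b, D.cor b) ∈ Ψ} := Set.ext fun t =>
  ⟨fun ⟨a, ha, e⟩ => by
    obtain ⟨b, hb, rfl⟩ := h ha
    exact ⟨b, ⟨hb, ha⟩, D.Wm_injective ((rfm_eq hb).symm.trans e.symm)⟩, fun ⟨b, hb, e⟩ => ⟨_, hb.2, e ▸ (rfm_eq hb.1).symm⟩⟩

theorem mem_Hs (h : Ψ ⊆ rts D) : x ∈ Hs D Ψ ↔ D.Wm x ∈ WW Ψ := by
  rw [mem_WW_sub h, ← rs_eq h]
  exact ⟨fun e => ⟨x, e, rfl⟩, fun ⟨_, e, e'⟩ => D.Wm_injective e' ▸ e⟩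

theorem rf_eq : OM.Cas.Rf D c = Rs D (Zc (rts D) c) := by
  rw [rs_eq (X.Zc_sub _ _)]
  exact Set.ext fun t => ⟨fun ⟨a, h1, h2, h3⟩ => ⟨a, ⟨h1, rt_mem h1, h3⟩, h2⟩, fun ⟨a, h1, h2⟩ => ⟨a, h1.1, h2, h1.2.2⟩⟩

theorem sg_rs (h : Ψ ⊆ rts D) (hx : x ∈ Rs D Ψ) : sgZ D x = -1 := by
  obtain ⟨b, hb, rfl⟩ := rs_eq h ▸ hx
  exact sgZ_rf D hb.1

theorem hs_comm (e : Ψ ⊆ rts D) (e' : Ψ' ⊆ rts D) (h : ∀ a ∈ Ψ, ∀ b ∈ Ψ', a.1 ⬝ᵥ b.2 = 0) : ∀ x ∈ Hs D Ψ, ∀ y ∈ Hs D Ψ', x * y = y * x :=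
  fun x hx y hy => D.Wm_injective (by
    rw [D.Wm_mul, D.Wm_mul, kill' h ((mem_Hs e).1 hx) ((mem_Hs e').1 hy),
      kill' (fun b hb a ha => orth_symm (e' hb) (e ha) (h a ha b hb)) ((mem_Hs e').1 hy) ((mem_Hs e).1 hx), add_comm])

theorem hs_disj (e : Ψ ⊆ rts D) (e' : Ψ' ⊆ rts D) (h : ∀ a ∈ Ψ, ∀ b ∈ Ψ', a.1 ⬝ᵥ b.2 = 0) : ∀ x ∈ Hs D Ψ, x ∈ Hs D Ψ' → x = 1 :=
  fun x hx hx' => by
    have h1 := kill' h ((mem_Hs e).1 hx) ((mem_Hs e').1 hx')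
    have h2 : ∀ n : ℕ, D.Wm (x ^ n) = 1 + (n : ℤ) • (D.Wm x - 1) := fun n => by
      induction n with
      | zero => rw [pow_zero, D.Wm_one, Nat.cast_zero, zero_smul, add_zero]
      | succ n ih =>
        rw [pow_succ, D.Wm_mul, ih, add_mul, smul_mul_assoc, sub_mul, h1, one_mul, Nat.cast_succ, add_smul, one_smul]
        abel
    have h3 := h2 (orderOf x)
    rw [pow_orderOf_eq_one, D.Wm_one, left_eq_add, smul_eq_zero, sub_eq_zero, ← D.Wm_one] at h3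
    exact D.Wm_injective (h3.resolve_left (Nat.cast_ne_zero.2 (orderOf_pos x).ne'))

theorem hs_tw (h : St D j B) (e : Ψ ⊆ rts D) (hn : Nm (D.Wm w * B) Ψ) (hx : x ∈ Hs D Ψ) : w * D.Fw x * w⁻¹ ∈ Hs D Ψ := by
  refine (closure_le ((Hs D Ψ).comap (MulAut.conj w * D.Fw).toMonoidHom)).2 (fun t ht => _root_.Subgroup.subset_closure ?_) hx
  rw [rs_eq e] at ht ⊢
  obtain ⟨a, ha, rfl⟩ := ht
  exact ⟨_, ⟨(D.g_root a ha.1).act w, (h.nm_iff e).1 hn a ha.1 ha.2⟩,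
    (D.rf_act' w (D.g_root a ha.1)).trans (congrArg (w * · * w⁻¹) (D.Fw_rf ha.1).symm)⟩

theorem ord_fac (h : St D j B) (e : Ψ ⊆ rts D) (e' : Ψ' ⊆ rts D) (ho : ∀ a ∈ Ψ, ∀ b ∈ Ψ', a.1 ⬝ᵥ b.2 = 0)
    (hn : Nm (D.Wm w * B) Ψ') (hx : x ∈ Hs D Ψ) (hy : y ∈ Hs D Ψ') :
    ordT D (x * y * w) * ordT D w = ordT D (x * w) * ordT D (y * w) := by
  obtain ⟨d, i, L⟩ := exists_lvl D
  have h1 := congrArg Int.natAbs (det_fac (X := D.Wm x) (X' := D.Wm y) (L.pow w)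
    (one_lt_pow₀ (Nat.one_lt_cast.2 (Fact.out : p.Prime).one_lt) L.e_pos.ne').ne' fun i => by
      rw [h.WM, _root_.smul_pow, mul_smul_comm, smul_mul_assoc, kill ho ((mem_Hs e).1 hx) ((mem_Hs e').1 hy) hn, smul_zero])
  simpa only [ordT, D.Wm_mul, mul_assoc, Int.natAbs_mul] using h1

/-! ### the reduction to one label -/

theorem red [Fintype D.W] {a : D.W → Lbl D → ℂ} (h1 : ∀ v w w' c' c'', Tc D v w w' → _root_.Cfsg.Agent.DL.PP.Rel D v c' c'' → a w c' = a w' c'')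
    (h0 : ∀ w c', a w c' ≠ 0 → Cj (rts D) c c') :
    (Nat.card (LV.Lab.St D c) : ℂ) * ∑ᶠ (w : D.W) (c' : Lbl D), a w c' = Nat.card D.W * ∑ w, a w c := by
  classical
  have h2 := sum_orb' c fun b => ∑ w, a w b
  rw [Finset.sum_congr rfl fun v _ => show ∑ w, a w (ac D v c) = ∑ w, a w c from
      Fintype.sum_equiv ((Equiv.mulLeft v⁻¹).trans (Equiv.mulRight (D.Fw v))) _ _ fun w =>
        (h1 _ _ _ _ _ (tc_self v w) (rel_ac v c)).symm, Finset.sum_const, Finset.card_univ, nsmul_eq_mul, nsmul_eq_mul,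
    Finset.sum_comm] at h2
  rw [finsum_eq_sum_of_fintype, Nat.card_eq_fintype_card (α := D.W), h2]
  refine congrArg _ (Finset.sum_congr rfl fun w _ => finsum_eq_sum_of_support_subset _ fun b hb => ?_)
  obtain ⟨v, hv⟩ := cj_iff.1 (h0 w b hb)
  exact Finset.mem_coe.2 (Finset.mem_image.2 ⟨v, Finset.mem_univ v, ac_eq.2 hv⟩)

variable [Fintype ↥(GF F G)] (f : Fr D)

theorem val_red [Fintype D.W] {χ : GF F G → ℂ} (h : ∀ w c', Has f χ w c' → Cj (rts D) c c') :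
    Nat.card (LV.Lab.St D c) * χ 1 = ∑ w, classInner χ (RW f w c) * RW f w c 1 := by
  rw [val_one f χ, mul_left_comm, red (fun v w w' c' c'' h1 h2 => by rw [RW_conj f h1 h2]) fun w c' e => h w c' (left_ne_zero_of_mul e),
    inv_mul_cancel_left₀ (Nat.cast_ne_zero.2 Nat.card_pos.ne')]

theorem gam_red [Fintype D.W] {χ : GF F G → ℂ} (h : ∀ w c', Has f χ w c' → Cj (rts D) c c') :
    Nat.card (LV.Lab.St D c) * OM.Cas.usum (GF F G) {v | IsUni p v} χ =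
      Nat.card (GF F G) * ∑ w, (ordT D w : ℂ)⁻¹ * classInner χ (RW f w c) := by
  rw [OM.Cas.Eig.gam f χ, mul_left_comm, red (fun v w w' c' c'' h1 h2 => by rw [RW_conj f h1 h2, BR.ordT_tc h1])
    fun w c' e => h w c' (right_ne_zero_of_mul e), mul_assoc, inv_mul_cancel_left₀ (Nat.cast_ne_zero.2 Nat.card_pos.ne')]

/-! ### functions which come from a sub-datum -/

variable (s : Sb D) [Fintype ↥(GF F s.K)] (ψ : GF F s.K → ℂ)

/-- the multiplicities as a function on `W` -/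
noncomputable def yb (c : Lbl D) : D.W → ℂ :=
  Function.extend (fun u => s.sw u * s.w) (fun u => classInner ψ (RW (s.fr f) u c)) 0

theorem yb_sw (c : Lbl D) (u : s.E.W) : yb f s ψ c (s.sw u * s.w) = classInner ψ (RW (s.fr f) u c) :=
  Function.Injective.extend_apply (fun _ _ e => s.sw_injective (mul_right_cancel e)) _ _ u

theorem yb_zero (h : ∀ u, s.sw u * s.w ≠ w) : yb f s ψ c w = 0 := Function.extend_apply' _ _ _ fun ⟨u, e⟩ => h u e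

variable {f s ψ}

theorem yb_ne (h : yb f s ψ c w ≠ 0) : ∃ u, s.sw u * s.w = w ∧ Has (s.fr f) ψ u c := by
  by_contra h1
  refine h (yb_zero f s ψ fun u e => h1 ⟨u, e, ?_⟩)
  rwa [← e, yb_sw] at h

omit [Fintype ↥(GF F G)] [Fintype ↥(GF F s.K)] in
theorem tc_sub (h : St D j B) (hq : s.E.QS) {v u u' : s.E.W} :
    Tc s.E v u u' ↔ Tc D (s.sw v) (s.sw u * s.w) (s.sw u' * s.w) := by
  rw [(h.sub hq).tc_iff, h.tc_iff, s.Wm_eq, s.Wm_eq, s.Wm_eq, D.Wm_mul, D.Wm_mul]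
  simp only [mul_assoc]

theorem yb_conj (h : St D j B) (hq : s.E.QS) {v : s.E.W} (ht : Tc D (s.sw v) w w') (hr : _root_.Cfsg.Agent.DL.PP.Rel D (s.sw v) c c') :
    yb f s ψ c w = yb f s ψ c' w' := by
  have key : ∀ {v : s.E.W} {w w' c c'}, Tc D (s.sw v) w w' → _root_.Cfsg.Agent.DL.PP.Rel D (s.sw v) c c' → ∀ u, s.sw u * s.w = w →
      (∃ u', s.sw u' * s.w = w') ∧ yb f s ψ c w = yb f s ψ c' w' := by
    rintro v _ w' c c' ht hr u rfl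
    have h1 := tc_self' v u
    obtain rfl : w' = _ := mul_right_cancel (Eq.trans ht (Eq.symm ((tc_sub h hq).1 h1)))
    exact ⟨⟨_, rfl⟩, by rw [yb_sw, yb_sw, RW_conj (s.fr f) h1 (s.rel_iff.2 hr)]⟩
  by_cases e : ∃ u, s.sw u * s.w = w
  · exact e.elim fun u e => (key ht hr u e).2
  · rw [yb_zero f s ψ fun u h1 => e ⟨u, h1⟩, yb_zero f s ψ fun u h1 =>
      e (key (v := v⁻¹) (map_inv s.sw v ▸ ht.symm) (map_inv s.sw v ▸ hr.symm) u h1).1]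

/-- **the induced function** -/
theorem ind_eq [Fintype D.W] {r : ℕ} [Fact r.Prime] {P : Subgroup ↥(GF F G)} (hu : Hu1 D r) (hs : s.For r P)
    (hψ : IsIrrCharacter _ ψ) (hc : ¬ r ∣ orderOf c) (w : D.W) : classInner (s.rs r P (RW f w c)) ψ =
      (Nat.card s.E.W : ℂ)⁻¹ * ∑ v, yb f s ψ (ac D v c) (v * w * (D.Fw v)⁻¹) := by
  classical
  have h1 : ∀ v, yb f s ψ (ac D v c) (v * w * (D.Fw v)⁻¹) = ∑ᶠ (u : s.E.W) (c' : Lbl D)
      (_ : Tc D v w (s.sw u * s.w) ∧ _root_.Cfsg.Agent.DL.PP.Rel D v c c'), classInner ψ (RW (s.fr f) u c') := fun v => by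
    have h1 : ∀ u, Tc D v w (s.sw u * s.w) ↔ s.sw u * s.w = v * w * (D.Fw v)⁻¹ := fun u => eq_mul_inv_iff_mul_eq.symm
    simp only [h1, ← ac_eq, finsum_eq_if]
    by_cases e : ∃ u, s.sw u * s.w = v * w * (D.Fw v)⁻¹
    · obtain ⟨u, e⟩ := e
      rw [finsum_eq_single _ u fun u' hu' => finsum_eq_zero_of_forall_eq_zero fun c' => if_neg fun e' =>
        hu' (s.sw_injective (mul_right_cancel (e'.1.trans e.symm))), finsum_eq_single _ (ac D v c) fun c' h2 => if_neg fun e' =>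
        h2 e'.2.symm, if_pos ⟨e, rfl⟩, ← e, yb_sw]
    · rw [yb_zero f s ψ fun u h2 => e ⟨u, h2⟩, finsum_eq_zero_of_forall_eq_zero fun u =>
        finsum_eq_zero_of_forall_eq_zero fun c' => if_neg fun e' => e ⟨u, e'.1⟩]
  simp only [h1]
  rw [← finsum_eq_sum_of_fintype]
  by_cases h0 : Fx D w c
  swap
  · rw [RW_zero f h0, Cf.sum_zero fun v u c' e => by
      rw [RW_zero _ fun h2 => h0 (fx_of_tc e.1.symm e.2.symm (s.fx_iff.1 h2)), classInner_zero_right], mul_zero]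
    exact classInner_zero_left _
  obtain ⟨S, hS⟩ := Cf.exists_fin s.E
  have h4 : s.rs r P (RW f w c) = (Nat.card s.E.W : ℂ)⁻¹ •
      ∑ x ∈ S, classInner (RW f w c) (RW f (s.sw x.1 * s.w) x.2) • RW (s.fr f) x.1 x.2 := funext fun g => by
    rw [Cf.res' f s hu.ne hs (hu.bd_nb hu.card_le (by norm_num)) w hc, Cf.sum_rel f s h0,
      hS _ fun u c' e => by rw [RW_zero _ e, Pi.zero_apply, mul_zero], Pi.smul_apply, Finset.sum_apply]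
    rfl
  rw [Cf.sum_rel f s h0, h4, hS _ fun u c' e => by rw [RW_zero _ e, classInner_zero_right, mul_zero], classInner_smul_left,
    classInner_sum_left]
  refine congrArg _ (Finset.sum_congr rfl fun x _ => ?_)
  obtain ⟨a, h5, h6⟩ := LV.Lift.exists_int hψ (RW_gen (s.fr f) x.1 x.2)
  rw [classInner_smul_left, h5, h6]

/-- **the expansion** -/
theorem expand {r : ℕ} (P : Subgroup ↥(GF F G)) [Fintype (IrrCharacter ↥(GF F G))] (w : D.W) (c : Lbl D) :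
    classInner (s.rs r P (RW f w c)) ψ =
      ∑ ξ : IrrCharacter ↥(GF F G), classInner (s.rs r P ξ) ψ * classInner (ξ : GF F G → ℂ) (RW f w c) := by
  have h1 : s.rs r P (RW f w c) = ∑ ξ : IrrCharacter ↥(GF F G), classInner (RW f w c) ξ • s.rs r P ξ := funext fun g =>
    (congrFun (classFunction_eq_sum (OddOrderCharacters.VChar.gen_isClassFunction (RW_gen f w c))) _).trans
      ((Finset.sum_apply _ _ _).trans (Finset.sum_apply g _ fun ξ : IrrCharacter ↥(GF F G) =>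
        classInner (RW f w c) ξ • s.rs r P ξ).symm)
  rw [h1, classInner_sum_left]
  refine Finset.sum_congr rfl fun ξ _ => ?_
  obtain ⟨a, h5, h6⟩ := LV.Lift.exists_int ξ.2 (RW_gen f w c)
  rw [classInner_smul_left, h5, h6, mul_comm]

end Cfsg.Agent.BZ.RT.At
end

-- part: BZ/RT/Cas1
section
/-!
# BZ / RT : one eigenvalue of the sum of the reflections for all the labels (helper42)

The proofs are those of `boxSh` and `boxCas_of` with the quantifiers exchanged.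
-/

set_option autoImplicit false
set_option maxHeartbeats 400000
set_option linter.unusedSectionVars false

namespace Cfsg.Agent.BZ.RT

open Cfsg Cfsg.Agent.DL Cfsg.Agent.DL.Mk Cfsg.Agent.DL.PP Cfsg.Agent.DL.Lef Cfsg.Agent.KZ.Lie Cfsg.Agent.DL.Asm
  Cfsg.Agent.DL.Uni Cfsg.Agent.Nodes.BNOf Cfsg.Agent.Nodes.Reps Cfsg.Agent.OM.Cas

variable {p : ℕ} [Fact p.Prime] {k : Type} [Field k] [CharP k p] {Y : Type} [Group Y] {N : Type} [Fintype N]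
  [DecidableEq N] {ρ : Y →* GL N k} {F : MulAut Y} {G : Subgroup Y} [IsAlgClosed k]

/-- the trace formula, one level for all the labels -/
theorem sh1 {D : Datum p ρ F G} (f : Fr D) [Fintype ↥(GF F G)] [Fintype D.W] (hq : D.QS) :
    ∃ d e : ℕ, D.Split d e ∧ ∀ c : Lbl D, (∃ w, Fx D w c) →
    ∃ (lam : Y → ℂ) (S : D.W → ℕ → GF F G → ℂ), Mk.Lin (D.T ⊓ Mk.fix (F ^ d)) lam ∧
      (∀ w i, Mk.epsOf D.cs D.n (fun i => D.τ.comp (coch (D.cw i))⁻¹) (p ^ e) lam w i ↔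
        w * D.cs.simple i * w⁻¹ ∈ Rf D c) ∧
      (∀ w, Fx D w c → (∀ g, ExpC fun m => S w m g) ∧ lefFun (S w) = RW f w c) ∧
      ∀ m, 0 < m → ∀ [Fintype ↥(G ⊓ Mk.fix ((F ^ d) ^ m))] (κ : Y → ℂ) (φ : D.W → ℂ),
        Mk.Good (D.U ⊓ Mk.fix ((F ^ d) ^ m)) (D.T ⊓ Mk.fix ((F ^ d) ^ m)) (D.NN ⊓ Mk.fix (F ^ d)) D.pr
          (fun t => lam (t ^ Mk.gs (p ^ e) m)) κ φ → (∀ w, ¬ Fx D w c → φ w = 0) →
        ∀ a : GF F G → Y, (∀ g, a g ∈ G ∧ ((F ^ d) ^ m) (a g) = g * a g) → ∀ g,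
          ph F (G ⊓ Mk.fix ((F ^ d) ^ m)) (fun g => (a g)⁻¹ * F (a g)) κ g =
            Nat.card ↥(D.T ⊓ Mk.fix ((F ^ d) ^ m)) * ∑ w, φ w * S w m g := by
  obtain ⟨r, e', H', hd'⟩ := LV.T.Sh.exists_split D
  have H := H'.mul f.L.d_pos
  have hd : ∀ u, (F ^ (r * f.d)) (yw D u) = yw D u := fun u => by rw [pow_mul]; exact pow_fix (hd' u) _
  rw [mul_comm r] at H hd
  generalize e' * f.d = e at H
  have := fun u => @Fintype.ofFinite _ (finite_inf_GF D (cj (yw D u) D.T))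
  obtain ⟨n₀, h3, h4⟩ := H.exists_rp D.wF
  have A := Mk.frame D H h3 h4
  have hn : ∀ u, (yw D u)⁻¹ * F (yw D u) ∈ D.NN := fun u => ⟨_, yw_rp D u⟩
  have hp : ∀ l, ((p : ℂ) ^ e) ^ l ≠ 0 := fun l =>
    pow_ne_zero _ (pow_ne_zero _ (Nat.cast_ne_zero.2 (Fact.out : p.Prime).ne_zero))
  refine ⟨f.d * r, e, H, fun c ⟨w₀, h₀⟩ => ?_⟩
  refine ⟨fun t => th f w₀ c (nrm F (f.d * r) (yw D w₀ * t * (yw D w₀)⁻¹)),
    fun u m g => (((p : ℂ) ^ e) ^ D.cs.length u) ^ m * Asm.cmp (GF F G) (cj (yw D u) D.T ⊓ GF F G)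
      (cn F G (cj (yw D u) D.U) (f.d * r)) (th f u c) m g, ?_, Sh.eps_iff f H h₀, fun u hu => ?_,
    fun m hm _ κ φ hκ hφ a ha g => ?_⟩
  · have B := Mk.pr_of D (yw_mem D w₀) (hd w₀) ((D.stable_iff (yw_mem D w₀)).2 (hn w₀))
    have h1 := A.lin_conj (one_mem _) (A.lin_chOf B ⟨(th_spec f h₀).1.one, (th_spec f h₀).1.mul⟩)
    simpa only [chOf, inv_one, one_mul, mul_one, inv_inv] using h1
  · have h1 := (LV.T.Sh.isInd H hd u).spectral_cmp (th_spec f hu).1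
    refine ⟨fun g => (LV.T.Sh.expZ_q e _).expC.mul (h1.expC g), funext fun g => ?_⟩
    rw [← R_eq_RW f (yw_mem D u) (yw_rp D u) (th_spec f hu).2 g,
      Pair.R_eq Mk.mackey ⟨_, yw_mem D u, rfl, rfl, (D.stable_iff (yw_mem D u)).2 (hn u)⟩ _ g g.2, lefFun_apply,
      lef_mul (LV.T.Sh.expZ_q e _).expC (h1.expC g), lef_pow (hp _), one_mul]
    exact (congrFun ((LV.T.Sh.isInd H hd u).res_eq _) g).symm
  have S := A.level m
  have hc := pow_pow_comm_apply F (f.d * r) m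
  have hF : ∀ {K : Subgroup Y}, (∀ x ∈ K, F x ∈ K) →
      ∀ x ∈ K ⊓ Mk.fix ((F ^ (f.d * r)) ^ m), F x ∈ K ⊓ Mk.fix ((F ^ (f.d * r)) ^ m) :=
    fun h x hx => ⟨h x hx.1, (hc x).trans (congrArg F hx.2)⟩
  have := @Fintype.ofFinite _ (Finite.of_injective _ (Subgroup.inclusion_injective S.U_le))
  have := @Fintype.ofFinite _ (Finite.of_injective _ (Subgroup.inclusion_injective (S.T_le.trans S.N_le)))
  rw [ph, Sh.trace S (A.card_X hm) (hF fun u hu => (hq.F_mem_U u).2 hu) (hF fun _ => D.F_mem_G)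
    (inf_le_inf_left _ (fix_le_pow _ m)) hκ (r := fun u => (yw D u)⁻¹ * F (yw D u))
    (fun u => mkfx (hn u) (by rw [Mk.mem_fix, map_mul, map_inv, pow_comm_apply, hd])) (fun u => (yw_rp D u).pr_eq)
    (mkfx (G.mul_mem (G.inv_mem (ha g).1) (D.F_mem_G (ha g).1)) (by
      rw [Mk.mem_fix, map_mul, map_inv, hc, (ha g).2, map_mul, (mem_GF.1 g.2).2]; group)), Finset.mul_sum]
  refine Finset.sum_congr rfl fun u _ => ?_
  by_cases hu : Fx D u c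
  · rw [Finset.sum_congr rfl fun t _ => congrArg _ (Sh.th_indep f h₀ hu (A.pow_gs_mem t.2).1 (by
      rw [map_mul, map_mul, map_inv, hd, Mk.mem_fix.1 (mfx (A.pow_gs_mem t.2))])),
      Sh.cmp_mul H (yw_mem D u) (hn u) (hd u) hm g (ha g).1 (ha g).2, pow_right_comm]
    push_cast
    ring
  · rw [hφ u hu, zero_mul, zero_mul, mul_zero]

open Cfsg.Agent.Characters.Core Polynomial Glue in
/-- **one eigenvalue for all the labels** -/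
theorem cas1 {D : Datum p ρ F G} (f : Fr D) [Fintype ↥(GF F G)] [Fintype D.W] (hq : D.QS) {χ : GF F G → ℂ}
    (hχ : IsIrrCharacter (GF F G) χ) : ∃ κ : ℤ, ∀ (c : Lbl D) w,
      cas D c (fun u => classInner χ (RW f u c)) w = (κ : ℂ) / 2 * classInner χ (RW f w c) := by
  have bG : BoxGen := boxGen
  have bK : BoxKaw := boxKaw
  have bI : BoxIso := boxIso
  classical
  have z0 : ∀ (c : Lbl D) (κ : ℂ) w, ¬ Fx D w c → cas D c (fun u => classInner χ (RW f u c)) w = κ * classInner χ (RW f w c) :=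
    fun c κ w hw => by
      rw [RW_zero f hw, classInner_zero_right, mul_zero]
      refine Finset.sum_eq_zero fun t _ => ?_
      split_ifs with ht
      · simp only [RW_zero f (fx_rf ht hw), classInner_zero_right]
      · rfl
  obtain ⟨d, e, H, hc⟩ := sh1 f hq
  have h2 : ∀ m, 0 < m → ∀ g : GF F G, ∃ a ∈ G, ((F ^ d) ^ m) a = g * a := fun m hm g => by
    obtain ⟨z, hz, h⟩ := (D.pow (Nat.mul_pos H.d_pos hm)).lang_G' (inv_mem g.2.1)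
    exact ⟨z, hz, by rw [← pow_mul, ← inv_inv (g : Y), h, mul_inv_rev, inv_inv, inv_mul_cancel_right]⟩
  choose! a ha ha' using h2
  obtain ⟨j, B, hB⟩ := _root_.Cfsg.Agent.OM.Cas.Glue.pure boxPur boxMean boxEig bI boxOrd boxSp hq H hχ a fun m hm g => ⟨ha m hm g, ha' m hm g⟩
  have fin : ∀ m, 0 < m → Finite ↥(G ⊓ Mk.fix ((F ^ d) ^ m)) := fun m hm => by
    rw [← pow_mul]
    exact (D.amb.pow (Nat.mul_pos H.d_pos hm)).finite_GF G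
  have finT : ∀ m, 0 < m → 0 < Nat.card ↥(D.T ⊓ Mk.fix ((F ^ d) ^ m)) := fun m hm => by
    have := fin m hm
    have := Finite.of_injective _ (Subgroup.inclusion_injective (inf_le_inf_right (Mk.fix ((F ^ d) ^ m)) D.T_le_G))
    exact Nat.card_pos
  have h3 := finT 1 one_pos
  rw [pow_one] at h3
  obtain ⟨r, hr⟩ : ∃ r, r = Nat.card ↥(D.T ⊓ Mk.fix (F ^ d)) * (B + 1) := ⟨_, rfl⟩
  have r0 : 0 < r := hr ▸ Nat.mul_pos h3 B.succ_pos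
  have p1 : 1 < p ^ e := Nat.one_lt_pow H.e_pos.ne' (Fact.out : p.Prime).one_lt
  obtain ⟨ω, hω⟩ : ∃ ω, ω = rword D.cs (Tits.Core.w0 D.cs) := ⟨_, rfl⟩
  refine ⟨j + 2 * ω.length - 4 * (Nodes.BNOf.RGD.Pos D.cs D.h).ncard, fun c u => ?_⟩
  by_cases hu : Fx D u c
  swap
  · exact z0 c _ u hu
  obtain ⟨lam, S, hl, h1, hS, hSh⟩ := hc c ⟨u, hu⟩
  obtain ⟨g1, g2⟩ := gen bG h1 hω (4 * (Nodes.BNOf.RGD.Pos D.cs D.h).ncard) (j + 4 * ω.length) u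
    (fun w => classInner (RW f w c) χ) fun _ => rfl
  have h4 := _root_.Cfsg.Agent.OM.Cas.Glue.deriv (x := ((p ^ e : ℕ) : ℂ) ^ r) (pow_ne_zero _ (Nat.cast_ne_zero.2 (by omega))) (fun m hm k => by
      rw [← pow_mul, ← Nat.cast_pow, Nat.cast_eq_one] at k
      exact (Nat.one_lt_pow (Nat.mul_pos r0 hm).ne' p1).ne' k)
    (τ := fun w m => if Fx D w c then classInner (S w (r * m)) χ else 0) (fun w => by
      split_ifs with hw
      · exact (expC_classInner (hS w hw).1 fun g => expC_const (χ g)).comp_mul r0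
      · exact expC_const 0) g1 fun m hm => by
    have hm' := Nat.mul_pos r0 hm
    have := fin _ hm'
    have := Fintype.ofFinite ↥(G ⊓ Mk.fix ((F ^ d) ^ (r * m)))
    have h5 := level bG bK H hl rfl h1 hm' (hr ▸ (dvd_mul_right _ _).mul_right _)
      (L := fun κ => (Nat.card ↥(D.T ⊓ Mk.fix ((F ^ d) ^ (r * m))) : ℂ)⁻¹ *
        classInner (ph F (G ⊓ Mk.fix ((F ^ d) ^ (r * m))) (fun g => (a (r * m) g)⁻¹ * F (a (r * m) g)) κ) χ)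
      (τ := fun w => if Fx D w c then classInner (S w (r * m)) χ else 0) (z := ((((p ^ e : ℕ) : ℂ) ^ r) ^ m) ^ j)
      (fun κ φ hg hφ => by
        rw [show ph F _ _ κ = (Nat.card ↥(D.T ⊓ Mk.fix ((F ^ d) ^ (r * m))) : ℂ) • ∑ w, φ w • S w (r * m) from
          _root_.funext fun g => by
            rw [hSh _ hm' κ φ hg hφ _ (fun g => ⟨ha _ hm' g, ha' _ hm' g⟩) g]
            simp only [Pi.smul_apply, Finset.sum_apply, smul_eq_mul], classInner_smul_left, classInner_sum_left,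
          inv_mul_cancel_left₀ (Nat.cast_ne_zero.2 (finT _ hm').ne')]
        refine Finset.sum_congr rfl fun w _ => ?_
        split_ifs with hw
        · exact classInner_smul_left _ _ _
        · rw [hφ w hw, classInner_smul_left, zero_mul, zero_mul])
      (fun κ => by
        rw [hB _ (lt_of_lt_of_le (by nlinarith only [h3, hr]) (Nat.le_mul_of_pos_right r hm)), mul_left_comm, Nat.cast_pow _ (r * m),
          pow_mul _ r m])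
      (bI D (Nat.mul_pos H.d_pos hm') _ (pow_mul F d _).symm (a _) fun g => ⟨ha _ hm' g, ha' _ hm' g⟩).2.1.conj
      hω (q := (((p ^ e : ℕ) : ℂ) ^ r) ^ m) (by rw [← pow_mul, Nat.cast_pow _ (r * m)]) hu
    refine (Finset.sum_congr rfl fun w _ => ?_).trans h5
    have h6 := fun φ w => Rw_map D.cs (epsOf D.cs D.n (fun i => D.τ.comp (coch (D.cw i))⁻¹) (p ^ e) lam)
      (evalRingHom ((((p ^ e : ℕ) : ℂ) ^ r) ^ m)) X ω φ w
    have h7 := fun w : D.W => map_dl1 (evalRingHom ((((p ^ e : ℕ) : ℂ) ^ r) ^ m)) w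
    simp only [coe_evalRingHom, eval_X] at h6 h7
    simp only [eval_sub, eval_mul, eval_pow, eval_X, h6, h7, pow_add]
  have h5 : ∀ w, lef (fun m => if Fx D w c then classInner (S w (r * m)) χ else 0) = classInner (RW f w c) χ := fun w => by
    split_ifs with hw
    · rw [lef_comp_mul (expC_classInner (hS w hw).1 fun g => expC_const (χ g)) r0, ← classInner_lefFun_left (hS w hw).1,
        (hS w hw).2]
    · rw [RW_zero f hw, classInner_zero_left, lef_const]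
  simp only [h5] at h4
  rw [g2] at h4
  have h6 := congrArg (starRingEnd ℂ) h4
  simp only [cas, map_add, map_mul, map_sum, apply_ite (starRingEnd ℂ), map_zero, classInner_conj_symm, map_sub, map_natCast,
    map_ofNat] at h6
  rw [cas]
  push_cast at h6 ⊢
  linear_combination h6 / 2

end Cfsg.Agent.BZ.RT
end

-- part: BZ/RT/AtM
section
/-!
# BZ / RT (S4853) : the atom, the characters above a tight character (helper42)

* `top`, `del`, `has_top` : the multiplicities on the top stratum;  `sum_eq` : the sum of the multiplicity functions;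
* `fs`, `cas_cs`, `cas_yb` : the sums of reflections;  `dec`, `nm2`, `ind2`, `ind0` : the configuration.
-/

set_option autoImplicit false
set_option linter.unusedSectionVars false
set_option maxHeartbeats 400000

namespace Cfsg.Agent.BZ.RT.At

open Cfsg Cfsg.Agent.DL Cfsg.Agent.DL.PP Matrix Cfsg.Agent.KZ.Lie Cfsg.Agent.HZ.Gen Cfsg.Agent.HZ.L Cfsg.Agent.OM.On
  Cfsg.Agent.Characters.Core Subgroup Cfsg.Agent.DL.Uni Cfsg.Agent.OddOrderCharacters.VChar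
open Cfsg.Agent.HZ.L.X (Zc Qv)
open Cfsg.Agent.LV.Lab (ac rel_ac ac_eq tc_self')
open Cfsg.Agent.OM.Cas (Rf cas)

variable {p : ℕ} [Fact p.Prime] {k : Type} [Field k] [CharP k p] [IsAlgClosed k] {Y : Type} [Group Y] {N : Type}
  [Fintype N] [DecidableEq N] {ρ : Y →* GL N k} {F : MulAut Y} {G : Subgroup Y} {D : Datum p ρ F G}
  {j : ℕ} {B : Mat D.R} {Ψ : RS D.R} {c c' : Lbl D} {w x y : D.W} {s : Sb D} {lam : Vec D.R} {u : s.E.W}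

/-! ### roots -/

/-- the roots of the label in the subgroup -/
abbrev P1 (s : Sb D) (c : Lbl D) : RS D.R := Zc (rts s.E) c

/-- the other roots of the label -/
abbrev P2 (s : Sb D) (c : Lbl D) : RS D.R := Zc (rts D) c \ rts s.E

theorem e1 : P1 s c ⊆ rts D := fun _ ha => s.rts_sub ha.1

theorem e2 : P2 s c ⊆ rts D := fun _ ha => ha.1.1

theorem Cfg.ho (C : Cfg s c) : ∀ a ∈ P1 s c, ∀ b ∈ P2 s c, a.1 ⬝ᵥ b.2 = 0 := fun a ha b hb => C.orth b hb.1 hb.2 a ha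

theorem rel1 (hx : x ∈ Hs D (P1 s c)) : _root_.Cfsg.Agent.DL.PP.Rel D x c c := tl_of_cor (fun _ ha => ha.2) ((mem_Hs e1).1 hx)

theorem rel2 (hx : x ∈ Hs D (P2 s c)) : _root_.Cfsg.Agent.DL.PP.Rel D x c c := tl_of_cor (fun _ ha => ha.1.2) ((mem_Hs e2).1 hx)

theorem sw_of (hx : x ∈ Hs D (P1 s c)) : ∃ u, s.sw u = x := by
  obtain ⟨u, e⟩ := s.mem_WW.1 (WW_mono (Ψ := P1 s c) (Ψ' := rts s.E) (fun _ h => h.1) ((mem_Hs e1).1 hx))
  exact ⟨u, D.Wm_injective e⟩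

theorem mem1 (hz : Cz p (rts s.E)) (hc : Fo p c) (h : _root_.Cfsg.Agent.DL.PP.Rel D (s.sw u) c c) : s.sw u ∈ Hs D (P1 s c) :=
  (mem_Hs e1).2 (s.Wm_eq u ▸ (X.stab_WW hz hc).1 (s.rel_iff.2 h))

theorem dec (C : Cfg s c) (hz : Cz p (rts D)) (hc : Fo p c) (h : _root_.Cfsg.Agent.DL.PP.Rel D x c c) :
    ∃ a ∈ Hs D (P1 s c), ∃ b ∈ Hs D (P2 s c), x = a * b := by
  have h1 := hs_comm e1 e2 C.ho
  let H : Subgroup D.W :=
    { carrier := {x | ∃ a ∈ Hs D (P1 s c), ∃ b ∈ Hs D (P2 s c), x = a * b}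
      one_mem' := ⟨1, one_mem _, 1, one_mem _, (mul_one _).symm⟩
      mul_mem' := by
        rintro _ _ ⟨a, ha, b, hb, rfl⟩ ⟨a', ha', b', hb', rfl⟩
        exact ⟨_, mul_mem ha ha', _, mul_mem hb hb', by rw [mul_assoc, ← mul_assoc b, ← h1 a' ha' b hb]; simp only [mul_assoc]⟩
      inv_mem' := by
        rintro _ ⟨a, ha, b, hb, rfl⟩
        exact ⟨_, inv_mem ha, _, inv_mem hb, by rw [h1 a ha b hb, _root_.mul_inv_rev]⟩ }
  refine X.stab_le hz hc (H := H) (fun a ha h2 => ?_) h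
  by_cases h3 : (D.wt a, D.cor a) ∈ rts s.E
  · exact ⟨_, subset_closure ⟨_, ⟨h3, h2⟩, (rfm_eq ha).symm⟩, 1, one_mem _, (mul_one _).symm⟩
  · exact ⟨1, one_mem _, _, subset_closure ⟨_, ⟨⟨rt_mem ha, h2⟩, h3⟩, (rfm_eq ha).symm⟩, (one_mul _).symm⟩

theorem nm2 (h : St D j B) (hq : s.E.QS) (hc : Fx s.E u c) : Nm (D.Wm (s.sw u * s.w) * B) (P2 s c) := by
  obtain ⟨d, i, L⟩ := exists_lvl D
  refine (h.nm_iff e2).2 fun a ha h1 => ⟨⟨rt_mem ((D.g_root a ha).act _), ((s.fx_iff.1 hc).cor_iff L ha).2 h1.1.2⟩, fun h2 => h1.2 ?_⟩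
  have h3 := (h.sub hq).nm u
  rw [s.Wm_eq, ← mul_assoc, ← D.Wm_mul] at h3
  obtain ⟨b, hb, -, h4⟩ := X.nm_inv L.d_pos (h.pow_eq L _) h3 h2
  obtain ⟨b, -, rfl⟩ := s.rts_sub hb
  rwa [D.wt_injective ((h.wt_g _ ha).symm.trans h4)]

variable [Fintype D.W]

open Classical in
variable (D) in
/-- the reflections as a finite set -/
noncomputable def fs (Ψ : RS D.R) : Finset D.W := Finset.univ.filter (· ∈ Rs D Ψ)

theorem mem_fs : x ∈ fs D Ψ ↔ x ∈ Rs D Ψ := by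
  classical
  exact Finset.mem_filter.trans (and_iff_right (Finset.mem_univ x))

theorem hs_fs : Hs D Ψ = Subgroup.closure (fs D Ψ : Set D.W) := congrArg Subgroup.closure (Set.ext fun _ => mem_fs.symm)

theorem cas_cs (z : D.W → ℂ) (w : D.W) : cas D c z w = cs (fs D (Zc (rts D) c)) z w := by
  classical
  rw [cs_apply, cas, ← Finset.sum_filter]
  exact Finset.sum_congr (Finset.ext fun t => by rw [Finset.mem_filter, mem_fs, rf_eq, and_iff_right (Finset.mem_univ t)])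
    fun _ _ => rfl

theorem cs_add (C : Cfg s c) (z : D.W → ℂ) : cs (fs D (Zc (rts D) c)) z = cs (fs D (P1 s c)) z + cs (fs D (P2 s c)) z := by
  classical
  funext w
  rw [Pi.add_apply, cs_apply, cs_apply, cs_apply, ← Finset.sum_union (Finset.disjoint_left.2 fun t h1 h2 => ?_)]
  · refine Finset.sum_congr (Finset.ext fun t => ?_) fun _ _ => rfl
    rw [Finset.mem_union, mem_fs, mem_fs, mem_fs]
    refine ⟨fun ⟨a, ha, e⟩ => ?_, fun h => h.elim (fun ⟨a, ha, e⟩ => ⟨a, ⟨e1 ha, ha.2⟩, e⟩) fun ⟨a, ha, e⟩ => ⟨a, ha.1, e⟩⟩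
    by_cases h : a ∈ rts s.E
    · exact .inl ⟨a, ⟨h, ha.2⟩, e⟩
    · exact .inr ⟨a, ⟨ha, h⟩, e⟩
  · have h3 := sg_rs e1 (mem_fs.1 h1)
    rw [hs_disj e1 e2 C.ho t (_root_.Subgroup.subset_closure (mem_fs.1 h1)) (_root_.Subgroup.subset_closure (mem_fs.1 h2)), map_one] at h3
    omega

variable [Fintype ↥(GF F G)] {f : Fr D} [Fintype ↥(GF F s.K)] [Fintype s.E.W]

theorem cas_yb {ψ : GF F s.K → ℂ} {κ : ℂ}
    (h : ∀ u, cas s.E c (fun u => classInner ψ (RW (s.fr f) u c)) u = κ * classInner ψ (RW (s.fr f) u c)) (w : D.W) :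
    ∑ t ∈ fs D (P1 s c), yb f s ψ c (t * w) = κ * yb f s ψ c w := by
  by_cases e : ∃ u, s.sw u * s.w = w
  · obtain ⟨u, rfl⟩ := e
    rw [yb_sw, ← h, cas_cs, cs_apply]
    refine (Finset.sum_bij (fun t _ => s.sw t) (fun t ht => ?_) (fun _ _ _ _ e => s.sw_injective e) (fun t ht => ?_)
      fun t _ => by rw [← mul_assoc, ← map_mul, yb_sw]).symm
    · obtain ⟨a, ha, e⟩ := mem_fs.1 ht
      exact mem_fs.2 ⟨a, ha, s.Wm_eq t ▸ e⟩
    · obtain ⟨t, rfl⟩ := sw_of (_root_.Subgroup.subset_closure (mem_fs.1 ht) : t ∈ Hs D (P1 s c))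
      obtain ⟨a, ha, e⟩ := mem_fs.1 ht
      exact ⟨t, mem_fs.2 ⟨a, ha, (s.Wm_eq t).trans e⟩, rfl⟩
  · rw [yb_zero f s ψ fun u h1 => e ⟨u, h1⟩, mul_zero]
    refine Finset.sum_eq_zero fun t ht => yb_zero f s ψ fun u h1 => ?_
    obtain ⟨t, rfl⟩ := sw_of (_root_.Subgroup.subset_closure (mem_fs.1 ht) : t ∈ Hs D (P1 s c))
    exact e ⟨t⁻¹ * u, by rw [map_mul, map_inv, mul_assoc, h1, inv_mul_cancel_left]⟩

/-! ### the characters above `ψ` -/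

variable {r : ℕ} [Fact r.Prime] {P : Subgroup ↥(GF F G)} {ψ : IrrCharacter ↥(GF F s.K)} (hu : Hu1 D r) (hs : s.For r P)
  (h1 : On1 s.E) (hc : Has (s.fr f) ψ u c)

include hu hs in
theorem ord_c {ξ : IrrCharacter ↥(GF F G)} (hr : RatR r (ξ : GF F G → ℂ)) (h0 : classInner (s.rs r P ξ) ψ ≠ 0)
    (hc : Has (s.fr f) ψ u c) : ¬ r ∣ orderOf c := by
  refine Cf.lab (D := s.E) (s.fr f) (hu.big_GF.sm_rs hs.grp (sm_irr ξ.2 hr) hu.bd_one s.ι_injective hs.range)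
    (hu.lt (i := 2) ?_ (by norm_num)) ψ.2 h0 hc
  rw [mul_one, sq]
  exact Nat.mul_le_mul (nb_le_sz1 D) (s.card_le.trans (hu.card_le.trans (pow_one _).le))

include hu in
theorem ord_c' {ξ : IrrCharacter ↥(GF F G)} (hr : RatR r (ξ : GF F G → ℂ)) (hc : Has f ξ w c) : ¬ r ∣ orderOf c :=
  Cf.lab f (sm_irr ξ.2 hr) (hu.lt ((one_mul _).trans_le hu.card_le) (by norm_num)) ξ.2
    (by rw [classInner_irr_self ξ.2]; exact one_ne_zero) hc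

include hu hs in
/-- **the top stratum** -/
theorem top (f : Fr D) (hT : Lab.Tight r s.ι P (ψ : GF F s.K → ℂ)) : ∃ T : Finset (IrrCharacter ↥(GF F s.K)), ψ ∈ T ∧
    (∀ φ ∈ T, φ.1 1 = ψ.1 1) ∧ ∀ ξ : IrrCharacter ↥(GF F G), RatR r ξ.1 → classInner (s.rs r P ξ) ψ ≠ 0 →
      ∃ a : ℤ, classInner (s.rs r P ξ) ψ = a ∧
        ∀ u c, classInner ξ.1 (RW f (s.sw u * s.w) c) = a * ∑ φ ∈ T, classInner φ.1 (RW (s.fr f) u c) := by
  have := finite_irr (G := GF F s.K)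
  have O : Lab.BoxOrb := Lab.boxOrb
  have h2 : ψ ∈ (Set.toFinite (Lab.Orb s.ι P ψ.1)).toFinset :=
    (Set.Finite.mem_toFinset _).2 ⟨1, one_mem _, fun y y' h1 => by rw [s.ι_injective (h1.trans (by simp) : s.ι y' = s.ι y)]⟩
  refine ⟨_, h2, fun φ hφ => ?_, fun ξ hr h0 => ?_⟩
  · obtain ⟨g, -, hg⟩ := (Set.Finite.mem_toFinset _).1 hφ
    exact hg 1 1 (by rw [map_one, mul_one, mul_inv_cancel])
  obtain ⟨a, ha⟩ := O.orb hu.prime hu.big_GF hu.bd_one hs.grp s.ι_injective hs.range (sm_irr ξ.2 hr) hT h0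
  have h3 : s.rs r P ξ = (a : ℂ) • ∑ φ ∈ (Set.toFinite (Lab.Orb s.ι P ψ.1)).toFinset, φ.1 := funext fun y =>
    (ha y).trans (by rw [finsum_mem_eq_finite_toFinset_sum, Pi.smul_apply, Finset.sum_apply, smul_eq_mul])
  refine ⟨a, ?_, fun u c => ?_⟩
  · rw [h3, classInner_smul_left, classInner_sum_left, Finset.sum_eq_single_of_mem ψ h2 fun φ _ h4 =>
      classInner_irr_ne φ.2 ψ.2 fun e => h4 (Subtype.ext e), classInner_irr_self ψ.2, mul_one]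
  · rw [← Cf.adj f s hu.ne hs (sm_irr ξ.2 hr) hu.bd_one, h3, classInner_smul_left, classInner_sum_left]

include h1 hc in
theorem del {T : Finset (IrrCharacter ↥(GF F s.K))} (h2 : ψ ∈ T) (h3 : ∀ φ ∈ T, φ.1 1 = ψ.1 1) : ∃ n : ℕ, 0 < n ∧
    ∑ u, (∑ φ ∈ T, classInner φ.1 (RW (s.fr f) u c)) * RW (s.fr f) u c 1 = n * (Nat.card (LV.Lab.St s.E c) * ψ.1 1) := by
  classical
  refine ⟨(T.filter fun φ => ∃ u, Has (s.fr f) φ.1 u c).card, Finset.card_pos.2 ⟨ψ, Finset.mem_filter.2 ⟨h2, u, (by exact hc)⟩⟩, ?_⟩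
  simp only [Finset.sum_mul]
  rw [Finset.sum_comm, ← nsmul_eq_mul, ← Finset.sum_const, Finset.sum_filter]
  refine Finset.sum_congr rfl fun φ hφ => ?_
  split_ifs with h4
  · obtain ⟨u, h4⟩ := h4
    rw [← val_red (s.fr f) fun w c' => h1 _ _ φ.2 _ _ _ _ h4, h3 φ hφ]
  · exact Finset.sum_eq_zero fun u _ => mul_eq_zero_of_left (not_not.1 fun e => h4 ⟨u, e⟩) _

include hu hs h1 hc in
theorem has_top (hT : Lab.Tight r s.ι P (ψ : GF F s.K → ℂ)) {ξ : IrrCharacter ↥(GF F G)} (hr : RatR r ξ.1)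
    (h0 : classInner (s.rs r P ξ) ψ ≠ 0) : ∃ u, Has f ξ.1 (s.sw u * s.w) c := by
  obtain ⟨T, h2, h3, h4⟩ := top hu hs f hT
  obtain ⟨n, h5, h6⟩ := del h1 hc h2 h3
  obtain ⟨a, h7, h8⟩ := h4 ξ hr h0
  obtain ⟨u, -, h9⟩ := Finset.exists_ne_zero_of_sum_ne_zero (h6 ▸ mul_ne_zero (Nat.cast_ne_zero.2 h5.ne')
    (mul_ne_zero (Nat.cast_ne_zero.2 Nat.card_pos.ne') (irr_one_ne ψ.2)))
  exact ⟨u, (h8 u c).trans_ne (mul_ne_zero (h7 ▸ h0) (left_ne_zero_of_mul h9))⟩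

open Classical in
/-- **the sum of the multiplicity functions** -/
theorem sum_eq [Fintype (IrrCharacter ↥(GF F G))] {Γ : Set (IrrCharacter ↥(GF F G))} (h : ∀ ξ : IrrCharacter ↥(GF F G), Has f ξ.1 w c → ξ ∈ Γ) :
    ∑ ξ ∈ Finset.univ.filter fun ξ => ξ ∈ Γ ∧ classInner (s.rs r P ξ.1) ψ ≠ 0,
      classInner (s.rs r P ξ.1) ψ * classInner ξ.1 (RW f w c) = classInner (s.rs r P (RW f w c)) ψ := by
  rw [expand, Finset.sum_filter_of_ne fun ξ _ e => ⟨h ξ (right_ne_zero_of_mul e), left_ne_zero_of_mul e⟩]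

include hu hs h1 hc in
theorem ind0 (hr : ¬ r ∣ orderOf c') (hn : ¬ Cj (rts D) c c') (w : D.W) : classInner (s.rs r P (RW f w c')) ψ = 0 := by
  rw [ind_eq hu hs ψ.2 hr, Finset.sum_eq_zero fun v _ => not_not.1 fun e => ?_, mul_zero]
  obtain ⟨u', -, e⟩ := yb_ne e
  exact hn ((cj_sub (h1 _ _ ψ.2 _ _ _ _ hc e)).trans (cj_symm (cj_rel (rel_ac v c'))))

include hu hs h1 hc in
theorem ind2 [Fintype (Hs D (P2 s c))] (h : St D j B) (hz : Cz p (rts D)) (hz' : Cz p (rts s.E)) (C : Cfg s c) (hr : ¬ r ∣ orderOf c)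
    (w : D.W) : classInner (s.rs r P (RW f w c)) ψ = ∑ b : Hs D (P2 s c), yb f s ψ c (b * w * (D.Fw b)⁻¹) := by
  have := Fintype.ofFinite s.sw.range
  rw [ind_eq hu hs ψ.2 hr, sum_prod (A := s.sw.range) (B := Hs D (P2 s c)) ?_ 1 fun v e => ?_,
    Finset.sum_congr rfl fun (a : s.sw.range) _ => Finset.sum_congr rfl fun (b : Hs D (P2 s c)) _ =>
      show yb f s ψ (ac D (a * b * 1) c) (a * b * 1 * w * (D.Fw (a * b * 1))⁻¹) = yb f s ψ c (b * w * (D.Fw b)⁻¹) from ?_,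
    Finset.sum_const, Finset.card_univ, ← Nat.card_eq_fintype_card, ← Nat.card_congr (MonoidHom.ofInjective s.sw_injective).toEquiv,
    nsmul_eq_mul, inv_mul_cancel_left₀ (Nat.cast_ne_zero.2 Nat.card_pos.ne')]
  · obtain ⟨_, a, rfl⟩ := a
    refine (yb_conj h hs.qs (v := a) ?_ ?_).symm
    · show _ * _ = _
      rw [mul_one, map_mul]
      group
    · rw [mul_one, ← ac_eq, ac_eq.2 (Rel.trans (rel2 b.2) (rel_ac (s.sw a) c))]
  · rintro _ ⟨a, rfl⟩ h2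
    exact hs_disj e1 e2 C.ho _ (mem1 hz' hc.fo (rel2 h2)) h2
  · obtain ⟨u', -, e⟩ := yb_ne e
    obtain ⟨a, ha⟩ := cj_iff.1 (h1 _ _ ψ.2 _ _ _ _ hc e)
    obtain ⟨x, hx, b, hb, h2⟩ := dec C hz hc.fo ((rel_ac v c).trans (s.rel_iff.1 ha).symm)
    obtain ⟨x, rfl⟩ := sw_of hx
    exact ⟨_, ⟨a * x, rfl⟩, b, hb, by rw [map_mul, mul_one, mul_assoc, ← h2, mul_inv_cancel_left]⟩

end Cfsg.Agent.BZ.RT.At
end

private theorem dce_b9b44e866c58 : _root_.True := by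
  try have : _root_.True := by simp only [_root_.Cfsg.Agent.HZ.L.Has.congr_simp]
  exact _root_.True.intro
end

-- part: BZ/RT/Atom
section
prune_inst 0x200080000000000000000000000000000000000
set_option linter.all false
open scoped Cfsg.Agent.FastGrp

/-!
# BZ / RT (S4853) : the atom (helper42)

* `At.single` : a sum of squares which divides one;  `At.one` : the member for a sign character;  `At.deg` : its degree;
* `boxAtom`.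
-/

set_option autoImplicit false
set_option linter.unusedSectionVars false
set_option maxHeartbeats 400000

namespace Cfsg.Agent.BZ.RT

open Cfsg Cfsg.Agent.DL Cfsg.Agent.DL.PP Matrix Cfsg.Agent.KZ.Lie Cfsg.Agent.HZ.Gen Cfsg.Agent.HZ.L Cfsg.Agent.OM.On
  Cfsg.Agent.Characters.Core Subgroup Cfsg.Agent.DL.Uni Cfsg.Agent.OddOrderCharacters.VChar
open Cfsg.Agent.HZ.L.X (Zc Qv)
open Cfsg.Agent.OM.Cas (Rf cas)

namespace At

theorem single {ι : Type*} {S : Finset ι} {m : ι → ℤ} (h : ∀ i ∈ S, m i ≠ 0) {n : ℕ} (e : (∑ i ∈ S, m i ^ 2) * n = 1) :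
    ∃ i, S = {i} ∧ m i ^ 2 = 1 := by
  have h1 : ∑ i ∈ S, m i ^ 2 = 1 := Int.eq_one_of_mul_eq_one_right (Finset.sum_nonneg fun _ _ => sq_nonneg _) e
  have h2 : (S.card : ℤ) ≤ 1 := by
    rw [← h1, ← mul_one (S.card : ℤ), ← nsmul_eq_mul, ← Finset.sum_const]
    exact Finset.sum_le_sum fun i hi => sq_pos_of_ne_zero (h i hi)
  obtain ⟨i, rfl⟩ := Finset.card_eq_one.1 (le_antisymm (Nat.cast_le.1 h2) (Finset.card_pos.2
    (Finset.nonempty_of_sum_ne_zero (h1 ▸ one_ne_zero))))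
  exact ⟨i, rfl, (Finset.sum_singleton (fun i => m i ^ 2) i).symm.trans h1⟩

theorem le_sq {Y : Type} [Group Y] {S : Subgroup Y} [Fintype S] {Un : Set Y} {ψ : S → ℂ} (hψ : IsIrrCharacter S ψ)
    {Q j : ℕ} (h : OM.Cas.usum S Un ψ ^ 2 = (Q : ℂ) ^ j * ψ 1 ^ 2) : Q ^ j ≤ Nat.card S ^ 2 := by
  have h1 := H418.CC.charDegree_eq (isIrr_isCharacter hψ)
  have h2 : ‖OM.Cas.usum S Un ψ‖ ≤ Nat.card S * charDegree ψ := by
    rw [Nat.card_eq_fintype_card, ← nsmul_eq_mul, ← Finset.card_univ, ← Finset.sum_const]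
    refine norm_sum_le_of_le _ fun v _ => ?_
    split_ifs
    · exact H418.CC.norm_le (isIrr_isCharacter hψ) v
    · simp
  have h3 := pow_le_pow_left₀ (norm_nonneg _) h2 2
  have h4 : 0 < charDegree ψ := Nat.pos_of_ne_zero fun k => isIrr_apply_one_ne_zero hψ (by rw [h1, k, Nat.cast_zero])
  rw [← norm_pow, h, h1, norm_mul, norm_pow, norm_pow, Complex.norm_natCast, Complex.norm_natCast, mul_pow,
    mul_le_mul_iff_left₀ (by positivity)] at h3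
  exact_mod_cast h3

variable {p : ℕ} [Fact p.Prime] {k : Type} [Field k] [CharP k p] [IsAlgClosed k] {Y : Type} [Group Y] {N : Type}
  [Fintype N] [DecidableEq N] {ρ : Y →* GL N k} {F : MulAut Y} {G : Subgroup Y} {D : Datum p ρ F G}
  {j : ℕ} {B : Mat D.R} {c : Lbl D} {s : Sb D} {u : s.E.W} [Fintype D.W] [Fintype ↥(GF F G)] {f : Fr D} [Fintype ↥(GF F s.K)]
  [Fintype s.E.W] {r : ℕ} [Fact r.Prime] {P : Subgroup ↥(GF F G)} {ψ : IrrCharacter ↥(GF F s.K)}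
  {Γ : Set (IrrCharacter ↥(GF F G))} [Fintype (Hs D (P1 s c))] [Fintype (Hs D (P2 s c))]
  (h : St D j B) (hz : Cz p (rts D)) (hz' : Cz p (rts s.E)) (hu : Hu1 D r) (hs : s.For r P) (h1 : On1 s.E) (hΓ : Cls f r Γ)
  (hT : Lab.Tight r s.ι P (ψ : GF F s.K → ℂ)) (h0 : ∃ ξ ∈ Γ, classInner (s.rs r P ξ.1) ψ ≠ 0) (hc : Has (s.fr f) ψ u c) (C : Cfg s c)

include hz' hc in
theorem top_mem {u' : s.E.W} (e : Fx s.E u' c) : ∃ x ∈ Hs D (P1 s c), s.sw u' * s.w = x * (s.sw u * s.w) := by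
  obtain ⟨d, i, L⟩ := exists_lvl s.E
  exact ⟨_, mem1 hz' hc.fo (s.rel_iff.1 (hc.fx.div e L)), by rw [map_mul, map_inv, mul_assoc, inv_mul_cancel_left]⟩

include h hz hz' hu hs h1 hΓ hT h0 hc C in
/-- **the member which belongs to a sign character** -/
theorem one (ε : D.W →* ℂ) {e : ℂ} (he : e * e = 1) (hε : ∀ t ∈ Rs D (P2 s c), ε t = e) (hF : ∀ x, ε (D.Fw x) = ε x)
    (h2 : ∀ x, ε x * ε x = 1) : ∃ ξ ∈ Γ, ∃ a : ℤ, a ^ 2 = 1 ∧ classInner (s.rs r P ξ.1) ψ = a ∧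
      (∀ w c', Has f ξ.1 w c' → Cj (rts D) c c') ∧ ∀ x ∈ Hs D (P1 s c), ∀ y ∈ Hs D (P2 s c),
        a * classInner ξ.1 (RW f (x * y * (s.sw u * s.w)) c) = ε y * yb f s ψ c (x * (s.sw u * s.w)) := by
  classical
  have := finite_irr (G := GF F G)
  have := Fintype.ofFinite (IrrCharacter ↥(GF F G))
  obtain ⟨ξ₀, k1, k2⟩ := h0
  have k3 := ord_c hu hs (hΓ.rat _ k1) k2 hc
  obtain ⟨u₁, k4⟩ := has_top hu hs h1 hc hT (hΓ.rat _ k1) k2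
  obtain ⟨T, k5, k6, k7⟩ := top hu hs f hT
  obtain ⟨n, k8, k9⟩ := del h1 hc k5 k6
  choose κ hκ using fun ξ : IrrCharacter ↥(GF F G) => cas1 f h.qs ξ.2
  obtain ⟨κ₀, k10⟩ := cas1 (s.fr f) hs.qs ψ.2
  set S := Finset.univ.filter fun ξ : IrrCharacter ↥(GF F G) => ξ ∈ Γ ∧ classInner (s.rs r P ξ.1) ψ ≠ 0 with hS
  let y : Lbl D → IrrCharacter ↥(GF F G) → D.W → ℂ := fun c' ξ w => classInner (s.rs r P ξ.1) ψ * classInner ξ.1 (RW f w c')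
  have k11 : ∀ c' ξ, cs (fs D (Zc (rts D) c')) (y c' ξ) = ((κ ξ : ℂ) / 2) • y c' ξ := fun c' ξ => funext fun w => by
    have k11 := hκ ξ c' w
    rw [cas_cs, cs_apply] at k11
    rw [cs_apply, ← Finset.mul_sum, k11, Pi.smul_apply, smul_eq_mul, mul_left_comm]
  have k12 : ∀ w, (∑ ξ ∈ S, y c ξ) w = ∑ b : Hs D (P2 s c), yb f s ψ c (b * w * (D.Fw b)⁻¹) := fun w => by
    rw [Finset.sum_apply, ← ind2 hu hs h1 hc h hz hz' C k3]
    exact sum_eq fun ξ => hΓ.cl ξ₀ k1 ξ _ _ _ k4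
  have k13 := ext (R₁ := fs D (P1 s c)) (R₂ := fs D (P2 s c))
    (fun a ha b hb => hs_comm e1 e2 C.ho a (subset_closure (mem_fs.1 ha)) b (subset_closure (mem_fs.1 hb))) ε he
    (fun t ht => hε t (mem_fs.1 ht)) hs_fs S (fun ξ => (κ ξ : ℂ) / 2) (y c) (fun ξ _ => (cs_add C _).symm.trans (k11 c ξ))
    (κ₀ := (κ₀ : ℂ) / 2) (funext fun w => by
      simp only [cs_apply, Pi.smul_apply, k12, smul_eq_mul]
      rw [Finset.sum_comm, Finset.mul_sum]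
      refine Finset.sum_congr rfl fun b _ => ?_
      rw [← cas_yb (k10 c)]
      refine Finset.sum_congr rfl fun t ht => ?_
      rw [← mul_assoc, ← hs_comm e1 e2 C.ho t (subset_closure (mem_fs.1 ht)) b b.2, mul_assoc, mul_assoc, mul_assoc])
  set k₀ := (κ₀ : ℂ) / 2 + e * (fs D (P2 s c)).card
  have k14 : ∀ x ∈ Hs D (P1 s c), ∀ z ∈ Hs D (P2 s c), (∑ ξ ∈ S with (κ ξ : ℂ) / 2 = k₀, y c ξ) (x * z * (s.sw u * s.w)) =
      ε z * yb f s ψ c (x * (s.sw u * s.w)) := fun x hx z hz => by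
    refine mul_left_cancel₀ (Nat.cast_ne_zero.2 (Nat.card_pos (α := Hs D (P2 s c))).ne') ((k13 _).trans ?_)
    rw [← avg (φ := fun v => s.sw u * s.w * D.Fw v * (s.sw u * s.w)⁻¹) (y := fun x => yb f s ψ c (x * (s.sw u * s.w)))
      (hs_comm e1 e2 C.ho) (hs_disj e1 e2 C.ho) (fun v hv => hs_tw h e2 (nm2 h hs.qs hc.fx) hv) ε (fun v => by
        rw [map_mul, map_mul, hF, mul_right_comm, ← map_mul, mul_inv_cancel, map_one, one_mul]) h2 (fun v hv => by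
        by_contra k14
        obtain ⟨u', k15, k16⟩ := yb_ne k14
        obtain ⟨x, hx, k17⟩ := top_mem hz' hc k16.fx
        exact hv (mul_right_cancel (k15.symm.trans k17) ▸ hx)) hx hz]
    refine Finset.sum_congr rfl fun b _ => ?_
    rw [k12]
    refine congrArg _ (Finset.sum_congr rfl fun v _ => congrArg _ ?_)
    group
  choose! m k15 k16 using k7
  have k17 : ∀ ξ ∈ S, RatR r ξ.1 ∧ classInner (s.rs r P ξ.1) ψ ≠ 0 := fun ξ hξ =>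
    ⟨hΓ.rat ξ (Finset.mem_filter.1 hξ).2.1, (Finset.mem_filter.1 hξ).2.2⟩
  obtain ⟨ξ, k18, k19⟩ := single (S := S.filter fun ξ => (κ ξ : ℂ) / 2 = k₀) (m := m) (n := n) (fun ξ hξ e => by
    have k18 := k17 ξ (Finset.mem_filter.1 hξ).1
    exact k18.2 (by rw [k15 ξ k18.1 k18.2, e, Int.cast_zero])) (by
    refine Int.cast_injective (α := ℂ) (mul_right_cancel₀ (mul_ne_zero (Nat.cast_ne_zero.2
      (Nat.card_pos (α := LV.Lab.St s.E c)).ne') (irr_one_ne ψ.2)) ?_)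
    rw [Int.cast_mul, Int.cast_natCast, mul_assoc, ← k9, Int.cast_one, one_mul, val_red (s.fr f) fun w c' => h1 _ _ ψ.2 _ _ _ _ hc,
      Finset.mul_sum]
    refine Finset.sum_congr rfl fun u' _ => ?_
    by_cases k18 : Fx s.E u' c
    swap
    · rw [RW_zero _ k18, Pi.zero_apply, mul_zero, mul_zero, mul_zero]
    obtain ⟨x, hx, k19⟩ := top_mem hz' hc k18
    have k20 := k14 x hx 1 (one_mem _)
    rw [mul_one, map_one, one_mul, ← k19, yb_sw, Finset.sum_apply] at k20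
    rw [← k20, ← mul_assoc, Int.cast_sum, Finset.sum_mul]
    refine congrArg (· * _) (Finset.sum_congr rfl fun ξ hξ => ?_)
    have k21 := k17 ξ (Finset.mem_filter.1 hξ).1
    show _ = classInner _ _ * classInner _ _
    rw [k15 ξ k21.1 k21.2, k16 ξ k21.1 k21.2, Int.cast_pow, sq, mul_assoc])
  have k20 := (Finset.mem_filter.1 (k18 ▸ Finset.mem_singleton_self ξ)).1
  have k21 := k17 ξ k20
  refine ⟨ξ, (Finset.mem_filter.1 k20).2.1, m ξ, k19, k15 ξ k21.1 k21.2, fun w c' k22 => by_contra fun k23 => ?_, fun x hx z hz => ?_⟩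
  · have k24 := congrFun (indep _ S (fun ξ => (κ ξ : ℂ) / 2) (y c') (fun ξ _ => k11 c' ξ) (funext fun w' => by
      rw [Finset.sum_apply, Pi.zero_apply, ← ind0 hu hs h1 hc (ord_c' hu k21.1 k22) k23 w']
      exact sum_eq fun ξ' => hΓ.cl ξ (Finset.mem_filter.1 k20).2.1 ξ' _ _ _ k22) k₀) w
    rw [k18, Finset.sum_singleton] at k24
    exact mul_ne_zero k21.2 k22 k24
  · rw [← k14 x hx z hz, k18, Finset.sum_singleton, ← k15 ξ k21.1 k21.2]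

include h hz hs hc C in
/-- **the degree and the sum over the unipotent elements** -/
theorem deg : ∃ α β : ℂ, ∀ (ξ : GF F G → ℂ) (a : ℤ) (ε : D.W → ℂ), a ^ 2 = 1 → (∀ w c', Has f ξ w c' → Cj (rts D) c c') →
    (∀ x ∈ Hs D (P1 s c), ∀ y ∈ Hs D (P2 s c),
      a * classInner ξ (RW f (x * y * (s.sw u * s.w)) c) = ε y * yb f s ψ c (x * (s.sw u * s.w))) →
    ξ 1 ^ 2 = α ^ 2 * (∑ y : Hs D (P2 s c), ε y * sg D y * (ordT D (y * (s.sw u * s.w)) : ℂ)⁻¹) ^ 2 ∧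
      OM.Cas.usum (GF F G) {v | IsUni p v} ξ ^ 2 = β ^ 2 * (∑ y : Hs D (P2 s c), ε y * (ordT D (y * (s.sw u * s.w)) : ℂ)⁻¹) ^ 2 := by
  obtain ⟨d, i, L⟩ := exists_lvl D
  have k1 := s.fx_iff.1 hc.fx
  have k2 := nm2 h hs.qs hc.fx
  have k0 := hc.fo
  generalize s.sw u * s.w = w at k1 k2 ⊢
  have k3 : ∀ g : D.W → ℂ, (∀ w', ¬ Fx D w' c → g w' = 0) →
      ∑ w', g w' = ∑ x : Hs D (P1 s c), ∑ y : Hs D (P2 s c), g (x * y * w) := fun g hg =>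
    sum_prod (hs_disj e1 e2 C.ho) w fun w' e => by
      obtain ⟨x, hx, y, hy, e'⟩ := dec C hz k0 (k1.div (not_not.1 (mt (hg w') e)) L)
      exact ⟨x, hx, y, hy, by rw [← e', inv_mul_cancel_right]⟩
  have k4 : ∀ w, (ordT D w : ℂ) ≠ 0 := fun w => Nat.cast_ne_zero.2 (ordT_ne w)
  have k5 : ∀ (x : Hs D (P1 s c)) (y : Hs D (P2 s c)), (ordT D (x * y * w) : ℂ)⁻¹ =
      ordT D w * (ordT D (x * w) : ℂ)⁻¹ * (ordT D (y * w) : ℂ)⁻¹ := fun x y => by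
    have k5 : (ordT D (x * y * w) : ℂ) * ordT D w = ordT D (x * w) * ordT D (y * w) := by
      exact_mod_cast ord_fac h e1 e2 C.ho k2 x.2 y.2
    have := k4 (x * y * w)
    have := k4 (x * w)
    have := k4 (y * w)
    field_simp
    linear_combination -k5
  have k6 : (Nat.card (LV.Lab.St D c) : ℂ) ≠ 0 := Nat.cast_ne_zero.2 Nat.card_pos.ne'
  refine ⟨(Nat.card (LV.Lab.St D c) : ℂ)⁻¹ * ∑ x : Hs D (P1 s c), yb f s ψ c (x * w) * (sg D x * sg D w * pc' p (GF F G)) *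
      (ordT D w * (ordT D (x * w) : ℂ)⁻¹), (Nat.card (LV.Lab.St D c) : ℂ)⁻¹ * (Nat.card (GF F G) *
      ∑ x : Hs D (P1 s c), yb f s ψ c (x * w) * (ordT D w * (ordT D (x * w) : ℂ)⁻¹)), fun ξ a ε k7 k8 k9 => ?_⟩
  have k10 : (a : ℂ) ^ 2 = 1 := by exact_mod_cast k7
  have k11 : ∀ z z' : ℂ, a * z = z' → z ^ 2 = z' ^ 2 := fun z z' e => by rw [← e, mul_pow, k10, one_mul]
  rw [← mul_pow, ← mul_pow]
  refine ⟨k11 _ _ ?_, k11 _ _ ?_⟩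
  · rw [mul_assoc, eq_inv_mul_iff_mul_eq₀ k6, mul_left_comm, val_red f k8, k3 _ fun w' e => by rw [RW_zero f e, Pi.zero_apply, mul_zero],
      Finset.sum_mul_sum, Finset.mul_sum]
    refine Finset.sum_congr rfl fun x _ => ?_
    rw [Finset.mul_sum]
    refine Finset.sum_congr rfl fun y _ => ?_
    rw [← mul_assoc, k9 x x.2 y y.2, (eq_mul_inv_iff_mul_eq₀ (k4 _)).2
      (RW_deg f h.qs (k1.mul ((rel2 y.2).trans (rel1 x.2)))), k5, sg_mul, sg_mul]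
    ring
  · rw [mul_assoc, eq_inv_mul_iff_mul_eq₀ k6, mul_left_comm, gam_red f k8, k3 _ fun w' e => by
      rw [RW_zero f e, classInner_zero_right, mul_zero], mul_left_comm, mul_assoc, Finset.sum_mul_sum, Finset.mul_sum]
    refine congrArg _ (Finset.sum_congr rfl fun x _ => ?_)
    rw [Finset.mul_sum]
    refine Finset.sum_congr rfl fun y _ => ?_
    rw [mul_left_comm, k9 x x.2 y y.2, k5]
    ring

end At

open At in
theorem boxAtom {p : ℕ} [Fact p.Prime] {k : Type} [Field k] [CharP k p] [IsAlgClosed k] {Y : Type} [Group Y] {N : Type}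
    [Fintype N] [DecidableEq N] {ρ : Y →* GL N k} {F : MulAut Y} {G : Subgroup Y} (D : Datum p ρ F G) : BoxAtom D := by
  intro _ j B f r P s _ lam Γ ψ u c h hz hu hs hl h1 hΓ hT h0 hc C
  have : Fact r.Prime := ⟨hu.prime⟩
  have := Fintype.ofFinite D.W
  have := @Fintype.ofFinite s.E.W (Finite.of_injective _ s.sw_injective)
  have := Fintype.ofFinite (Hs D (P1 s c))
  have := Fintype.ofFinite (Hs D (P2 s c))
  have hz' : Cz p (rts s.E) := hl ▸ X.Adm.cz lam hz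
  obtain ⟨α, β, k1⟩ := deg h hz hs hc C
  obtain ⟨ξ, k2, a, k3, k4, k5, k6⟩ := At.one h hz hz' hu hs h1 hΓ hT h0 hc C 1 (one_mul 1) (fun _ _ => rfl) (fun _ => rfl) fun _ => one_mul 1
  obtain ⟨ξ', k2', a', k3', k4', k5', k6'⟩ := At.one h hz hz' hu hs h1 hΓ hT h0 hc C ((Int.castRingHom ℂ).toMonoidHom.comp (sgZ D))
    (e := -1) (by norm_num) (fun t ht => (congrArg (Int.cast : ℤ → ℂ) (sg_rs e2 ht)).trans (by simp)) (sg_Fw D) (sg_mul_self D)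
  obtain ⟨k7, k8⟩ := k1 ξ.1 a _ k3 k5 k6
  obtain ⟨k7', k8'⟩ := k1 ξ'.1 a' (sg D) k3' k5' k6'
  obtain ⟨i, k9⟩ := eigT h ξ.2
  obtain ⟨i', k9'⟩ := eigT h ξ'.2
  simp only [MonoidHom.one_apply, one_mul, sg_mul_self] at k7 k8 k7'
  obtain ⟨t, ht, ht'⟩ := C.ne
  obtain ⟨b, hb, rfl⟩ := ht.1
  have k10 : D.rf b ∈ Rs D (P2 s c) := ⟨_, ⟨ht, ht'⟩, (rfm_eq hb).symm⟩
  have k11 : ∀ w, (0 : ℝ) < (ordT D w : ℝ)⁻¹ := fun w => inv_pos.2 (Nat.cast_pos.2 (Nat.pos_of_ne_zero (ordT_ne w)))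
  have k12 : ∀ w, ((sgZ D w : ℤ) : ℝ) ≤ 1 ∧ -((sgZ D w : ℤ) : ℝ) ≤ 1 := fun w => by rcases sgZ_sign D w with e | e <;> simp [e]
  obtain ⟨J, k13, k14, k15⟩ := ratio (g := ∑ y : Hs D (P2 s c), (sgZ D y : ℤ) * (ordT D (y * (s.sw u * s.w)) : ℝ)⁻¹)
    (h := ∑ y : Hs D (P2 s c), (ordT D (y * (s.sw u * s.w)) : ℝ)⁻¹) (abs_lt.2 ⟨neg_lt.1 (by
      rw [← Finset.sum_neg_distrib]
      refine Finset.sum_lt_sum (fun y _ => ?_) ⟨1, Finset.mem_univ _, ?_⟩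
      · rw [← neg_mul]
        exact mul_le_of_le_one_left (k11 _).le (k12 _).2
      · rw [OneMemClass.coe_one, map_one, Int.cast_one, one_mul]
        exact neg_lt_self (k11 _)), Finset.sum_lt_sum (fun y _ => mul_le_of_le_one_left (k11 _).le (k12 _).1)
      ⟨⟨_, subset_closure k10⟩, Finset.mem_univ _, by
        rw [sg_rs e2 k10, Int.cast_neg, Int.cast_one, neg_one_mul]
        exact neg_lt_self (k11 _)⟩⟩) (Nat.one_lt_pow h.pos.ne' (Fact.out : p.Prime).one_lt) (a := α) (b := β)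
    (by rw [k7]; push_cast; rfl) (by rw [k7']; push_cast; rfl) (by rw [k8]; push_cast; rfl) (by rw [k8']; push_cast; rfl)
    k9 k9' (irr_one_ne ξ.2)
  exact ⟨ξ, k2, ξ', k2', a, a', J, k3, k3', k4, k4', k13,
    (Nat.pow_le_pow_right (pow_pos (Fact.out : p.Prime).pos j) k14).trans (le_sq ξ.2 k9), k15⟩

end Cfsg.Agent.BZ.RT
end

-- part: BZ/RT/AtR
section
prune_inst 0x214604d001640000000188006b0205e502a0004221040080008a2020007800c604983a0619800051a1228084d0031000002000000c04000000e0000000118018000201404c0c90008800010012202400002000000000000000000000000000004000000000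
set_option linter.all false
open scoped Cfsg.Agent.FastGrp

-- part: BZ/RT/AtG
section
/-!
# BZ / RT (S4853) : eigen-parts of mass one, without a configuration (helper42)

* `exists_dec` : the decomposition of the induced function;  `oneG` : an eigen-part which is `y_ψ` on the top stratum;
* `pairG` : two such parts which differ by the sign character.
-/

set_option autoImplicit false
set_option linter.unusedSectionVars false
set_option maxHeartbeats 400000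

namespace Cfsg.Agent.BZ.RT.At

open Cfsg Cfsg.Agent.DL Cfsg.Agent.DL.PP Matrix Cfsg.Agent.KZ.Lie Cfsg.Agent.HZ.Gen Cfsg.Agent.HZ.L Cfsg.Agent.OM.On
  Cfsg.Agent.Characters.Core Subgroup Cfsg.Agent.DL.Uni Cfsg.Agent.OddOrderCharacters.VChar
open Cfsg.Agent.HZ.L.X (Zc Qv)
open Cfsg.Agent.OM.Cas (Rf cas)

/-- the eigen-decomposition is unique -/
theorem uniq {ι V : Type*} [AddCommGroup V] [Module ℂ V] (T : Module.End ℂ V) (S : Finset ι) (κ : ι → ℂ) (y : ι → V)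
    (h : ∀ i ∈ S, T (y i) = κ i • y i) (K : Finset ℂ) (z : ℂ → V) (h' : ∀ k ∈ K, T (z k) = k • z k)
    (e : ∑ i ∈ S, y i = ∑ k ∈ K, z k) {k : ℂ} (hk : k ∈ K) : ∑ i ∈ S with κ i = k, y i = z k := by
  have h1 := indep T (S.disjSum K) (Sum.elim κ id) (Sum.elim y fun k => -z k) (by
    rintro (i | i) hi
    · exact h i (Finset.inl_mem_disjSum.1 hi)
    · exact (map_neg T _).trans ((congrArg _ (h' i (Finset.inr_mem_disjSum.1 hi))).trans (smul_neg _ _).symm)) (by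
    rw [Finset.sum_disjSum]
    simp only [Sum.elim_inl, Sum.elim_inr, Finset.sum_neg_distrib, e, add_neg_cancel]) k
  rw [Finset.sum_filter, Finset.sum_disjSum] at h1
  have h2 : (∑ i ∈ S, if κ i = k then y i else 0) + (∑ i ∈ K, if i = k then -z i else 0) = 0 := h1
  rw [Finset.sum_ite_eq', if_pos hk, add_neg_eq_zero] at h2
  rw [Finset.sum_filter, h2]

/-- the quotient of the degrees, symmetric form -/
theorem ratio' {g h : ℂ} (hg : g ^ 4 ≠ h ^ 4) {Q i j : ℕ} (hQ : Q ≠ 0) {a b d d' u u' : ℂ} (h1 : d ^ 2 = a ^ 2 * g ^ 2)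
    (h2 : d' ^ 2 = a ^ 2 * h ^ 2) (h3 : u ^ 2 = b ^ 2 * h ^ 2) (h4 : u' ^ 2 = b ^ 2 * g ^ 2) (h5 : u ^ 2 = (Q : ℂ) ^ i * d ^ 2)
    (h6 : u' ^ 2 = (Q : ℂ) ^ j * d' ^ 2) (h0 : d ≠ 0) :
    ∃ J, 0 < J ∧ (J ≤ i ∧ d' ^ 4 = (Q : ℂ) ^ J * d ^ 4 ∨ J ≤ j ∧ d ^ 4 = (Q : ℂ) ^ J * d' ^ 4) := by
  have h7 : a ^ 2 ≠ 0 := fun e => h0 (pow_eq_zero_iff two_ne_zero |>.1 (by rw [h1, e, zero_mul]))
  have h8 : (Q : ℂ) ^ j * h ^ 4 = (Q : ℂ) ^ i * g ^ 4 := mul_left_cancel₀ h7 (by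
    linear_combination (-(Q : ℂ) ^ j * h ^ 2) * h2 - h ^ 2 * h6 + h ^ 2 * h4 - g ^ 2 * h3 + g ^ 2 * h5 + (Q : ℂ) ^ i * g ^ 2 * h1)
  have h9 : ∀ n, (Q : ℂ) ^ n ≠ 0 := fun n => pow_ne_zero n (Nat.cast_ne_zero.2 hQ)
  rcases lt_trichotomy j i with e | rfl | e
  · obtain ⟨J, rfl⟩ := Nat.exists_eq_add_of_lt e
    rw [add_assoc, pow_add, mul_assoc] at h8
    refine ⟨J + 1, J.succ_pos, .inl ⟨by omega, ?_⟩⟩
    linear_combination (d' ^ 2 + a ^ 2 * h ^ 2) * h2 - (Q : ℂ) ^ (J + 1) * (d ^ 2 + a ^ 2 * g ^ 2) * h1 +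
      a ^ 4 * mul_left_cancel₀ (h9 j) h8
  · exact absurd (mul_left_cancel₀ (h9 j) h8).symm hg
  · obtain ⟨J, rfl⟩ := Nat.exists_eq_add_of_lt e
    rw [add_assoc, pow_add, mul_assoc] at h8
    refine ⟨J + 1, J.succ_pos, .inr ⟨by omega, ?_⟩⟩
    linear_combination (d ^ 2 + a ^ 2 * g ^ 2) * h1 - (Q : ℂ) ^ (J + 1) * (d' ^ 2 + a ^ 2 * h ^ 2) * h2 -
      a ^ 4 * mul_left_cancel₀ (h9 i) h8

variable {p : ℕ} [Fact p.Prime] {k : Type} [Field k] [CharP k p] [IsAlgClosed k] {Y : Type} [Group Y] {N : Type}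
  [Fintype N] [DecidableEq N] {ρ : Y →* GL N k} {F : MulAut Y} {G : Subgroup Y} {D : Datum p ρ F G}
  {j : ℕ} {B : Mat D.R} {c : Lbl D} {s : Sb D} {u : s.E.W} [Fintype D.W] [Fintype ↥(GF F G)] {f : Fr D} [Fintype ↥(GF F s.K)]
  [Fintype s.E.W] {r : ℕ} [Fact r.Prime] {P : Subgroup ↥(GF F G)} {ψ : IrrCharacter ↥(GF F s.K)}
  {Γ : Set (IrrCharacter ↥(GF F G))}
  (hq : D.QS) (hu : Hu1 D r) (hs : s.For r P) (h1 : On1 s.E) (hΓ : Cls f r Γ)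
  (hT : Lab.Tight r s.ι P (ψ : GF F s.K → ℂ)) (h0 : ∃ ξ ∈ Γ, classInner (s.rs r P ξ.1) ψ ≠ 0) (hc : Has (s.fr f) ψ u c)

include hq hu hs h1 hΓ hT h0 hc in
/-- **all the data** : the members `S` over `ψ`, their multiplicities `m`, eigenvalues `κ / 2`; `Yb` is the sum over the orbit -/
theorem exists_all : ∃ (S : Finset (IrrCharacter ↥(GF F G))) (m κ : IrrCharacter ↥(GF F G) → ℤ) (Yb : s.E.W → ℂ) (n : ℕ), 0 < n ∧
    ∑ u, Yb u * RW (s.fr f) u c 1 = n * ∑ u, classInner ψ.1 (RW (s.fr f) u c) * RW (s.fr f) u c 1 ∧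
    ∑ u, classInner ψ.1 (RW (s.fr f) u c) * RW (s.fr f) u c 1 ≠ 0 ∧
    (∀ ξ ∈ S, ξ ∈ Γ ∧ m ξ ≠ 0 ∧ classInner (s.rs r P ξ.1) ψ = m ξ ∧ ∀ u, classInner ξ.1 (RW f (s.sw u * s.w) c) = m ξ * Yb u) ∧
    (∀ ξ c', cs (fs D (Zc (rts D) c')) (fun w => classInner ξ.1 (RW f w c')) = ((κ ξ : ℂ) / 2) • fun w => classInner ξ.1 (RW f w c')) ∧
    (∀ w, ∑ ξ ∈ S, m ξ * classInner ξ.1 (RW f w c) = classInner (s.rs r P (RW f w c)) ψ) ∧
    ∀ k, ∀ ξ ∈ S, S.filter (fun ξ => (κ ξ : ℂ) / 2 = k) = {ξ} → ∀ w c', Has f ξ.1 w c' → Cj (rts D) c c' := by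
  classical
  have := finite_irr (G := GF F G)
  have := Fintype.ofFinite (IrrCharacter ↥(GF F G))
  obtain ⟨ξ₀, k1, k2⟩ := h0
  obtain ⟨u₁, k4⟩ := has_top hu hs h1 hc hT (hΓ.rat _ k1) k2
  obtain ⟨T, k5, k6, k7⟩ := top hu hs f hT
  obtain ⟨n, k8, k9⟩ := del h1 hc k5 k6
  choose κ hκ using fun ξ : IrrCharacter ↥(GF F G) => cas1 f hq ξ.2
  choose! m k15 k16 using k7
  have k10 := val_red (s.fr f) fun w c' => h1 _ _ ψ.2 _ _ _ _ hc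
  set S := Finset.univ.filter fun ξ : IrrCharacter ↥(GF F G) => ξ ∈ Γ ∧ classInner (s.rs r P ξ.1) ψ ≠ 0 with hS
  have k17 : ∀ ξ ∈ S, ξ ∈ Γ ∧ RatR r ξ.1 ∧ classInner (s.rs r P ξ.1) ψ ≠ 0 := fun ξ hξ =>
    ⟨(Finset.mem_filter.1 hξ).2.1, hΓ.rat ξ (Finset.mem_filter.1 hξ).2.1, (Finset.mem_filter.1 hξ).2.2⟩
  have k11 : ∀ (ξ : IrrCharacter ↥(GF F G)) c', cs (fs D (Zc (rts D) c')) (fun w => classInner ξ.1 (RW f w c')) =
      ((κ ξ : ℂ) / 2) • fun w => classInner ξ.1 (RW f w c') := fun ξ c' => funext fun w => (cas_cs _ w).symm.trans (hκ ξ c' w)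
  have k12 : ∀ w c', (∀ ξ : IrrCharacter ↥(GF F G), Has f ξ.1 w c' → ξ ∈ Γ) →
      ∑ ξ ∈ S, m ξ * classInner ξ.1 (RW f w c') = classInner (s.rs r P (RW f w c')) ψ := fun w c' e => by
    rw [← sum_eq e]
    exact Finset.sum_congr rfl fun ξ hξ => by rw [k15 ξ (k17 ξ hξ).2.1 (k17 ξ hξ).2.2]
  have k13 : ∀ ξ ∈ S, m ξ ≠ 0 := fun ξ hξ e => (k17 ξ hξ).2.2 (by rw [k15 ξ (k17 ξ hξ).2.1 (k17 ξ hξ).2.2, e, Int.cast_zero])
  refine ⟨S, m, κ, _, n, k8, k10 ▸ k9, k10 ▸ mul_ne_zero (Nat.cast_ne_zero.2 Nat.card_pos.ne') (irr_one_ne ψ.2), fun ξ hξ =>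
    ⟨(k17 ξ hξ).1, k13 ξ hξ, k15 ξ (k17 ξ hξ).2.1 (k17 ξ hξ).2.2, fun u => k16 ξ (k17 ξ hξ).2.1 (k17 ξ hξ).2.2 u c⟩, k11,
    fun w => k12 w c fun ξ => hΓ.cl ξ₀ k1 ξ _ _ _ k4, fun k ξ hξ k18 w c' k22 => by_contra fun k23 => ?_⟩
  have k24 := congrFun (indep _ S (fun ξ => (κ ξ : ℂ) / 2) (fun ξ => (m ξ : ℂ) • fun w => classInner ξ.1 (RW f w c'))
    (fun ξ _ => by rw [map_smul, k11, smul_comm]) (funext fun w' => by
      rw [Finset.sum_apply, Pi.zero_apply, ← ind0 hu hs h1 hc (ord_c' hu (k17 ξ hξ).2.1 k22) k23 w']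
      exact k12 w' c' fun ξ' => hΓ.cl ξ (k17 ξ hξ).1 ξ' _ _ _ k22) k) w
  rw [k18, Finset.sum_singleton] at k24
  exact mul_ne_zero (Int.cast_ne_zero.2 (k13 ξ hξ)) k22 k24

include hq hu hs h1 hΓ hT h0 hc in
/-- **the eigen-decomposition of the induced function** -/
theorem exists_dec : ∃ (K : Finset ℂ) (z : ℂ → D.W → ℂ) (μ : ℂ → ℕ) (Yb : s.E.W → ℂ) (n : ℕ), 0 < n ∧
    ∑ u, Yb u * RW (s.fr f) u c 1 = n * ∑ u, classInner ψ.1 (RW (s.fr f) u c) * RW (s.fr f) u c 1 ∧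
    ∑ u, classInner ψ.1 (RW (s.fr f) u c) * RW (s.fr f) u c 1 ≠ 0 ∧
    (∀ k ∈ K, cs (fs D (Zc (rts D) c)) (z k) = k • z k ∧ 0 < μ k ∧ (∃ i : ℤ, k = i / 2) ∧ ∀ u, z k (s.sw u * s.w) = μ k * Yb u) ∧
    (∀ k v w w', Tc D v w w' → Rel D v c c → z k w = z k w') ∧ (∀ k w, ¬ Fx D w c → z k w = 0) ∧ (∀ k w, ∃ a : ℤ, z k w = a) ∧
    ∀ w, ∑ k ∈ K, z k w = classInner (s.rs r P (RW f w c)) ψ := by
  obtain ⟨S, m, κ, Yb, n, k1, k2, k3, k4, k5, k6, -⟩ := exists_all hq hu hs h1 hΓ hT h0 hc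
  refine ⟨S.image fun ξ => (κ ξ : ℂ) / 2, fun k => ∑ ξ ∈ S with (κ ξ : ℂ) / 2 = k, (m ξ : ℂ) • fun w => classInner ξ.1 (RW f w c),
    fun k => ∑ ξ ∈ S with (κ ξ : ℂ) / 2 = k, (m ξ).natAbs ^ 2, Yb, n, k1, k2, k3, fun k hk => ⟨?_, ?_, ?_, fun u => ?_⟩,
    fun k v w w' e e' => ?_, fun k w e => ?_, fun k w => ?_, fun w => ?_⟩
  · rw [map_sum, Finset.smul_sum]
    exact Finset.sum_congr rfl fun ξ hξ => by rw [map_smul, k5, smul_comm, (Finset.mem_filter.1 hξ).2]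
  · obtain ⟨ξ, hξ, e⟩ := Finset.mem_image.1 hk
    exact Finset.sum_pos (fun ξ hξ => pow_pos (Int.natAbs_pos.2 (k4 ξ (Finset.mem_filter.1 hξ).1).2.1) 2) ⟨ξ, Finset.mem_filter.2 ⟨hξ, e⟩⟩
  · obtain ⟨ξ, -, e⟩ := Finset.mem_image.1 hk
    exact ⟨_, e.symm⟩
  · beta_reduce
    rw [Finset.sum_apply, Nat.cast_sum, Finset.sum_mul]
    refine Finset.sum_congr rfl fun ξ hξ => ?_
    rw [Pi.smul_apply, (k4 ξ (Finset.mem_filter.1 hξ).1).2.2.2, smul_eq_mul, ← mul_assoc, ← Int.cast_natCast, Nat.cast_pow,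
      Int.natAbs_sq, Int.cast_pow, sq]
  · simp only [Finset.sum_apply, Pi.smul_apply, RW_conj f e e']
  · simp only [Finset.sum_apply, Pi.smul_apply, RW_zero f e, classInner_zero_right, smul_zero, Finset.sum_const_zero]
  · choose a ha using fun ξ : IrrCharacter ↥(GF F G) => LV.Lift.exists_int ξ.2 (RW_gen f w c)
    refine ⟨∑ ξ ∈ S with (κ ξ : ℂ) / 2 = k, m ξ * a ξ, ?_⟩
    simp only [Finset.sum_apply, Pi.smul_apply, fun ξ => (ha ξ).1, smul_eq_mul, Int.cast_sum, Int.cast_mul]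
  · rw [← k6, ← Finset.sum_apply, Finset.sum_fiberwise_of_maps_to fun ξ hξ => Finset.mem_image_of_mem _ hξ, Finset.sum_apply]
    rfl

include hq hu hs h1 hΓ hT h0 hc in
/-- **an eigen-part of mass one** -/
theorem oneG {K : Finset ℂ} {z : ℂ → D.W → ℂ} (h2 : ∀ k ∈ K, cs (fs D (Zc (rts D) c)) (z k) = k • z k)
    (h3 : ∀ w, ∑ k ∈ K, z k w = classInner (s.rs r P (RW f w c)) ψ) {k₀ : ℂ} (h4 : k₀ ∈ K)
    (h5 : ∀ u', Fx s.E u' c → z k₀ (s.sw u' * s.w) = classInner ψ.1 (RW (s.fr f) u' c)) :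
    ∃ ξ ∈ Γ, ∃ a : ℤ, a ^ 2 = 1 ∧ classInner (s.rs r P ξ.1) ψ = a ∧ (∀ w c', Has f ξ.1 w c' → Cj (rts D) c c') ∧
      ∀ w, a * classInner ξ.1 (RW f w c) = z k₀ w := by
  obtain ⟨S, m, κ, Yb, n, k1, k2, k3, k4, k5, k6, k7⟩ := exists_all hq hu hs h1 hΓ hT h0 hc
  have k8 := uniq _ S (fun ξ => (κ ξ : ℂ) / 2) (fun ξ => (m ξ : ℂ) • fun w => classInner ξ.1 (RW f w c))
    (fun ξ _ => by rw [map_smul, k5, smul_comm]) K z h2 (funext fun w => by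
      rw [Finset.sum_apply, Finset.sum_apply, h3, ← k6]
      rfl) h4
  obtain ⟨ξ, k18, k19⟩ := single (S := S.filter fun ξ => (κ ξ : ℂ) / 2 = k₀) (m := m) (n := n)
    (fun ξ hξ => (k4 ξ (Finset.mem_filter.1 hξ).1).2.1) (by
    refine Int.cast_injective (α := ℂ) (mul_right_cancel₀ k3 ?_)
    rw [Int.cast_mul, Int.cast_natCast, mul_assoc, ← k2, Int.cast_one, one_mul, Finset.mul_sum]
    refine Finset.sum_congr rfl fun u' _ => ?_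
    by_cases k18 : Fx s.E u' c
    swap
    · rw [RW_zero _ k18, Pi.zero_apply, mul_zero, mul_zero, mul_zero]
    rw [← h5 u' k18, ← k8, Finset.sum_apply, ← mul_assoc, Int.cast_sum, Finset.sum_mul]
    refine congrArg (· * _) (Finset.sum_congr rfl fun ξ hξ => ?_)
    rw [Pi.smul_apply, (k4 ξ (Finset.mem_filter.1 hξ).1).2.2.2, Int.cast_pow, sq, mul_assoc, smul_eq_mul])
  have k20 := (Finset.mem_filter.1 (k18 ▸ Finset.mem_singleton_self ξ)).1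
  refine ⟨ξ, (k4 ξ k20).1, m ξ, k19, (k4 ξ k20).2.2.1, k7 k₀ ξ k20 k18, fun w => ?_⟩
  rw [← k8, k18, Finset.sum_singleton]
  rfl

include hq in
/-- the degree and the sum over the unipotent elements -/
theorem degG {ξ : GF F G → ℂ} {a : ℤ} {z : D.W → ℂ} (h2 : a ^ 2 = 1) (h3 : ∀ w c', Has f ξ w c' → Cj (rts D) c c')
    (h4 : ∀ w, a * classInner ξ (RW f w c) = z w) :
    ξ 1 ^ 2 = ((Nat.card (LV.Lab.St D c) : ℂ)⁻¹ * pc' p (GF F G)) ^ 2 * (∑ w, sg D w * z w * (ordT D w : ℂ)⁻¹) ^ 2 ∧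
      OM.Cas.usum (GF F G) {v | IsUni p v} ξ ^ 2 =
        ((Nat.card (LV.Lab.St D c) : ℂ)⁻¹ * Nat.card (GF F G)) ^ 2 * (∑ w, z w * (ordT D w : ℂ)⁻¹) ^ 2 := by
  have k6 : (Nat.card (LV.Lab.St D c) : ℂ) ≠ 0 := Nat.cast_ne_zero.2 Nat.card_pos.ne'
  have k10 : (a : ℂ) ^ 2 = 1 := by exact_mod_cast h2
  have k11 : ∀ z z' : ℂ, a * z = z' → z ^ 2 = z' ^ 2 := fun z z' e => by rw [← e, mul_pow, k10, one_mul]
  rw [← mul_pow, ← mul_pow]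
  refine ⟨k11 _ _ ?_, k11 _ _ ?_⟩
  · rw [mul_assoc, eq_inv_mul_iff_mul_eq₀ k6, mul_left_comm, val_red f h3, Finset.mul_sum, Finset.mul_sum]
    refine Finset.sum_congr rfl fun w _ => ?_
    by_cases e : Fx D w c
    · rw [← mul_assoc, h4, (eq_mul_inv_iff_mul_eq₀ (Nat.cast_ne_zero.2 (ordT_ne w))).2 (RW_deg f hq e)]
      ring
    · rw [← h4, RW_zero f e, classInner_zero_right, zero_mul, mul_zero, mul_zero, zero_mul, mul_zero]
  · rw [mul_assoc, eq_inv_mul_iff_mul_eq₀ k6, mul_left_comm, gam_red f h3, mul_left_comm, Finset.mul_sum]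
    exact congrArg _ (Finset.sum_congr rfl fun w _ => by rw [mul_left_comm, h4, mul_comm])

include hu hs h1 hΓ hT h0 hc in
/-- **two eigen-parts of mass one which differ by the sign character** -/
theorem pairG (h : St D j B) {K : Finset ℂ} {z : ℂ → D.W → ℂ} (h2 : ∀ k ∈ K, cs (fs D (Zc (rts D) c)) (z k) = k • z k)
    (h3 : ∀ w, ∑ k ∈ K, z k w = classInner (s.rs r P (RW f w c)) ψ) {k₁ k₂ : ℂ} (h4 : k₁ ∈ K) (h4' : k₂ ∈ K)
    (h5 : ∀ u', Fx s.E u' c → z k₁ (s.sw u' * s.w) = classInner ψ.1 (RW (s.fr f) u' c))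
    (h5' : ∀ u', Fx s.E u' c → z k₂ (s.sw u' * s.w) = classInner ψ.1 (RW (s.fr f) u' c)) {ε : ℂ} (h6 : ε * ε = 1)
    (h7 : ∀ w, z k₂ w = ε * sg D w * z k₁ w)
    (h8 : (∑ w, sg D w * z k₁ w * (ordT D w : ℂ)⁻¹) ^ 4 ≠ (∑ w, z k₁ w * (ordT D w : ℂ)⁻¹) ^ 4) :
    ∃ ξ ∈ Γ, ∃ ξ' ∈ Γ, ∃ (a a' : ℤ) (J : ℕ), a ^ 2 = 1 ∧ a' ^ 2 = 1 ∧ classInner (s.rs r P ξ.1) ψ = a ∧
      classInner (s.rs r P ξ'.1) ψ = a' ∧ 0 < J ∧ (p ^ j) ^ J ≤ Nat.card ↥(GF F G) ^ 2 ∧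
      ξ'.1 1 ^ 4 = ((p ^ j : ℕ) : ℂ) ^ J * ξ.1 1 ^ 4 := by
  obtain ⟨ξ, k2, a, k3, k4, k5, k6⟩ := oneG h.qs hu hs h1 hΓ hT h0 hc h2 h3 h4 h5
  obtain ⟨ξ', k2', a', k3', k4', k5', k6'⟩ := oneG h.qs hu hs h1 hΓ hT h0 hc h2 h3 h4' h5'
  obtain ⟨k7, k8⟩ := degG h.qs k3 k5 k6
  obtain ⟨k7', k8'⟩ := degG h.qs k3' k5' k6'
  obtain ⟨i, k9⟩ := eigT h ξ.2
  obtain ⟨i', k9'⟩ := eigT h ξ'.2
  have k10 : ∀ x : ℂ, (ε * x) ^ 2 = x ^ 2 := fun x => by rw [mul_pow, sq, h6, one_mul]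
  rw [Finset.sum_congr rfl fun w _ => show sg D w * z k₂ w * (ordT D w : ℂ)⁻¹ = ε * (z k₁ w * (ordT D w : ℂ)⁻¹) by
    rw [h7]; linear_combination ε * z k₁ w * (ordT D w : ℂ)⁻¹ * sg_mul_self D w, ← Finset.mul_sum, k10] at k7'
  rw [Finset.sum_congr rfl fun w _ => show z k₂ w * (ordT D w : ℂ)⁻¹ = ε * (sg D w * z k₁ w * (ordT D w : ℂ)⁻¹) by
    rw [h7]; ring, ← Finset.mul_sum, k10] at k8'
  have k11 := pow_pos (Fact.out : p.Prime).pos j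
  obtain ⟨J, k13, ⟨k14, k15⟩ | ⟨k14, k15⟩⟩ := ratio' h8 k11.ne' k7 k7' k8 k8' k9 k9' (irr_one_ne ξ.2)
  · exact ⟨ξ, k2, ξ', k2', a, a', J, k3, k3', k4, k4', k13, (Nat.pow_le_pow_right k11 k14).trans (le_sq ξ.2 k9), k15⟩
  · exact ⟨ξ', k2', ξ, k2, a', a, J, k3', k3, k4', k4, k13, (Nat.pow_le_pow_right k11 k14).trans (le_sq ξ'.2 k9'), k15⟩

end Cfsg.Agent.BZ.RT.At
end

-- part: BZ/RT/AtQ
section
/-!
# BZ / RT (S4853) : extreme eigen-parts for a product (helper42)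

* `cs_bound` : the eigenvalues of `cs R`;  `qs` : a product of linear factors;  `ext2` : the first factor has several eigenvalues.
-/

set_option autoImplicit false
set_option linter.unusedSectionVars false

namespace Cfsg.Agent.BZ.RT.At

open Subgroup

variable {W : Type} [Group W] [Fintype W]

theorem cs_bound (R : Finset W) {y : W → ℂ} {k : ℂ} (h : cs R y = k • y) (hk : (R.card : ℝ) < ‖k‖) : y = 0 := by
  obtain ⟨w, -, hw⟩ := Finset.exists_max_image Finset.univ (fun w => ‖y w‖) ⟨1, Finset.mem_univ _⟩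
  have h1 : ‖k‖ * ‖y w‖ ≤ R.card * ‖y w‖ := by
    rw [← norm_mul, ← smul_eq_mul, ← Pi.smul_apply, ← h, cs_apply, ← nsmul_eq_mul, ← Finset.sum_const]
    exact norm_sum_le_of_le _ fun t _ => hw _ (Finset.mem_univ _)
  have h2 : ‖y w‖ ≤ 0 := not_lt.1 fun e => (mul_lt_mul_of_pos_right hk e).not_ge h1
  exact funext fun v => norm_le_zero_iff.1 ((hw v (Finset.mem_univ _)).trans h2)

/-- the product of the operators `cs R - κ` -/
noncomputable def qs (R : Finset W) (L : List ℂ) (y : W → ℂ) : W → ℂ := L.foldr (fun κ z => cs R z - κ • z) y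

theorem qs_nil (R : Finset W) (y : W → ℂ) : qs R [] y = y := rfl

theorem qs_cons (R : Finset W) (κ : ℂ) (L : List ℂ) (y : W → ℂ) : qs R (κ :: L) y = cs R (qs R L y) - κ • qs R L y := rfl

theorem qs_map (R : Finset W) (L : List ℂ) (T : Module.End ℂ (W → ℂ)) (h : ∀ y, T (cs R y) = cs R (T y)) (y : W → ℂ) :
    T (qs R L y) = qs R L (T y) := by
  induction L with
  | nil => rfl
  | cons κ L ih => rw [qs_cons, qs_cons, map_sub, map_smul, h, ih]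

theorem qs_sum {ι : Type*} (R : Finset W) (L : List ℂ) (S : Finset ι) (y : ι → W → ℂ) :
    qs R L (∑ i ∈ S, y i) = ∑ i ∈ S, qs R L (y i) := by
  induction L with
  | nil => rfl
  | cons κ L ih => simp only [qs_cons, ih, map_sum, Finset.smul_sum, Finset.sum_sub_distrib]

theorem qs_eig (R : Finset W) (L : List ℂ) {y : W → ℂ} {k : ℂ} (h : cs R y = k • y) : qs R L y = (L.map (k - ·)).prod • y := by
  induction L with
  | nil => exact (one_smul _ _).symm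
  | cons κ L ih => rw [qs_cons, ih, map_smul, h, List.map_cons, List.prod_cons, smul_smul, smul_smul, ← sub_smul, sub_mul, mul_comm k]

theorem qs_smul (R : Finset W) (L : List ℂ) (a : ℂ) (y : W → ℂ) : qs R L (a • y) = a • qs R L y :=
  (qs_map R L (a • LinearMap.id) (fun y => (map_smul (cs R) a y).symm) y).symm

theorem qs_inj {R₁ R₂ : Finset W} (hc : ∀ a ∈ R₁, ∀ b ∈ R₂, a * b = b * a) {k : ℂ} {L : List ℂ}
    (hL : ∀ κ ∈ L, (R₂.card : ℝ) < ‖k - κ‖) {y : W → ℂ} (h : cs R₁ y + cs R₂ y = k • y) (h0 : qs R₁ L y = 0) : y = 0 := by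
  induction L with
  | nil => exact h0
  | cons κ L ih =>
    refine ih (fun κ' e => hL κ' (List.mem_cons_of_mem _ e)) (cs_bound R₂ ?_ (hL κ List.mem_cons_self))
    have h1 := qs_map R₁ L (cs R₁ + cs R₂) (fun y => by rw [LinearMap.add_apply, LinearMap.add_apply, map_add, cs_comm hc]) y
    rw [LinearMap.add_apply, LinearMap.add_apply, h, qs_smul, sub_eq_zero.1 ((qs_cons _ _ _ _).symm.trans h0)] at h1
    rw [sub_smul, ← h1, add_sub_cancel_left]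

/-- **the extreme eigen-parts**; `κ₀` and the members of `L` are the eigenvalues of the first factor -/
theorem ext2 {ι : Type*} {R₁ R₂ : Finset W} (hc : ∀ a ∈ R₁, ∀ b ∈ R₂, a * b = b * a) (ε : W →* ℂ) {e : ℂ} (he : e * e = 1)
    (hε : ∀ t ∈ R₂, ε t = e) {H : Subgroup W} [Fintype H] (hH : H = closure (R₂ : Set W)) (S : Finset ι) (κ : ι → ℂ)
    (y : ι → W → ℂ) (h : ∀ i ∈ S, cs R₁ (y i) + cs R₂ (y i) = κ i • y i) {κ₀ : ℂ} {L : List ℂ}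
    (hL : ∀ k ∈ L, (R₂.card : ℝ) < ‖κ₀ + e * R₂.card - k‖) (h0 : qs R₁ (κ₀ :: L) (∑ i ∈ S, y i) = 0) (w : W) :
    (Nat.card H : ℂ) * ((L.map (κ₀ - ·)).prod * (∑ i ∈ S with κ i = κ₀ + e * R₂.card, y i) w) =
      ∑ x : H, ε x * qs R₁ L (∑ i ∈ S, y i) (x * w) := by
  have h1 : ∀ (L : List ℂ) i, i ∈ S → cs R₁ (qs R₁ L (y i)) + cs R₂ (qs R₁ L (y i)) = κ i • qs R₁ L (y i) := fun L i hi => by
    have h1 := qs_map R₁ L (cs R₁ + cs R₂) (fun y => by rw [LinearMap.add_apply, LinearMap.add_apply, map_add, cs_comm hc]) (y i)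
    rwa [LinearMap.add_apply, LinearMap.add_apply, h i hi, qs_smul] at h1
  have h2 := ext hc ε he hε hH S κ (fun i => qs R₁ L (y i)) (h1 L) (κ₀ := κ₀) (by
    rw [← qs_sum]
    exact sub_eq_zero.1 h0) w
  have h3 := indep (cs R₁ + cs R₂) S κ (fun i => qs R₁ (κ₀ :: L) (y i)) (h1 _) (by rw [← qs_sum, h0]) (κ₀ + e * R₂.card)
  have h4 : cs R₁ (∑ i ∈ S with κ i = κ₀ + e * R₂.card, y i) + cs R₂ (∑ i ∈ S with κ i = κ₀ + e * R₂.card, y i) =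
      (κ₀ + e * R₂.card) • ∑ i ∈ S with κ i = κ₀ + e * R₂.card, y i := by
    rw [map_sum, map_sum, ← Finset.sum_add_distrib, Finset.smul_sum]
    exact Finset.sum_congr rfl fun i hi => by rw [h i (Finset.mem_filter.1 hi).1, (Finset.mem_filter.1 hi).2]
  rw [← qs_sum] at h3
  rw [← qs_sum, ← qs_sum] at h2
  generalize ∑ i ∈ S with κ i = κ₀ + e * R₂.card, y i = z at h2 h3 h4 ⊢
  have h5 := qs_inj hc hL (y := cs R₁ z - κ₀ • z) (by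
    rw [map_sub, map_sub, map_smul, map_smul, ← cs_comm hc, sub_add_sub_comm, ← map_add, ← smul_add, h4, map_smul, smul_sub,
      smul_comm κ₀]) ((qs_map R₁ L (cs R₁ - κ₀ • LinearMap.id) (fun y => by
        rw [LinearMap.sub_apply, LinearMap.sub_apply, map_sub]
        exact congrArg _ (map_smul (cs R₁) κ₀ y).symm) z).symm.trans h3)
  rw [← h2, qs_eig R₁ L (sub_eq_zero.1 h5), Pi.smul_apply, smul_eq_mul]

end Cfsg.Agent.BZ.RT.At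
end

-- part: BZ/RT/AtR
section
/-!
# BZ / RT (S4853) : a core times a toral factor (helper42)

* `ind1` : the induced function as a sum over the stabiliser;  `J1`, `ind3` : the function of the first factor;
* `prodG` : the second factor is not empty;  `coreG` : the second factor is empty.
-/

set_option autoImplicit false
set_option linter.unusedSectionVars false
set_option maxHeartbeats 400000

namespace Cfsg.Agent.BZ.RT.At

open Cfsg Cfsg.Agent.DL Cfsg.Agent.DL.PP Matrix Cfsg.Agent.KZ.Lie Cfsg.Agent.HZ.Gen Cfsg.Agent.HZ.L Cfsg.Agent.OM.On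
  Cfsg.Agent.Characters.Core Subgroup Cfsg.Agent.DL.Uni Cfsg.Agent.OddOrderCharacters.VChar
open Cfsg.Agent.HZ.L.X (Zc Qv)
open Cfsg.Agent.LV.Lab (ac rel_ac ac_eq)

theorem sum_prod' {W : Type} [Group W] [Fintype W] (A B : Subgroup W) [Fintype A] [Fintype B] {g : W → ℂ}
    (h : ∀ w, g w ≠ 0 → ∃ a ∈ A, ∃ b ∈ B, w = a * b) : (Nat.card ↥(A ⊓ B) : ℂ) * ∑ w, g w = ∑ a : A, ∑ b : B, g (a * b) := by
  rw [← Fintype.sum_prod_type' fun (a : A) (b : B) => g (a * b), sum_fib (fun x : A × B => (x.1 : W) * x.2) g, Finset.mul_sum]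
  refine Finset.sum_congr rfl fun w _ => ?_
  by_cases e : g w = 0
  · rw [e, mul_zero, mul_zero]
  obtain ⟨a, ha, b, hb, rfl⟩ := h w e
  refine congrArg (fun n : ℕ => (n : ℂ) * _) (Nat.card_congr ⟨fun x => ⟨(⟨a * x, A.mul_mem ha x.2.1⟩, ⟨(x : W)⁻¹ * b,
    B.mul_mem (B.inv_mem x.2.2) hb⟩), by rw [mul_assoc, mul_inv_cancel_left]⟩,
    fun x => ⟨a⁻¹ * x.1.1, A.mul_mem (A.inv_mem ha) x.1.1.2, ?_⟩,
    fun x => Subtype.ext (inv_mul_cancel_left _ _), fun x => Subtype.ext (Prod.ext (Subtype.ext (mul_inv_cancel_left _ _))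
      (Subtype.ext ?_))⟩)
  · have e : (x.1.1 : W) * x.1.2 = a * b := x.2
    rw [show a⁻¹ * x.1.1 = b * (x.1.2 : W)⁻¹ by rw [eq_mul_inv_iff_mul_eq, mul_assoc, e, inv_mul_cancel_left]]
    exact B.mul_mem hb (B.inv_mem x.1.2.2)
  · have e : (x.1.1 : W) * x.1.2 = a * b := x.2
    show (a⁻¹ * x.1.1)⁻¹ * b = x.1.2
    rw [inv_mul_eq_iff_eq_mul, mul_assoc, e, inv_mul_cancel_left]

theorem qs_supp {W : Type} [Group W] [Fintype W] {R : Finset W} {H : Subgroup W} (hR : ∀ t ∈ R, t ∈ H) (w : W) {y : W → ℂ}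
    (h : ∀ x, x ∉ H → y (x * w) = 0) (L : List ℂ) : ∀ x, x ∉ H → qs R L y (x * w) = 0 := by
  induction L with
  | nil => exact h
  | cons κ L ih =>
    intro x hx
    rw [qs_cons, Pi.sub_apply, Pi.smul_apply, ih x hx, smul_zero, sub_zero, cs_apply]
    exact Finset.sum_eq_zero fun t ht => by
      rw [← mul_assoc]
      exact ih _ fun e => hx ((mul_mem_cancel_left (hR t ht)).1 e)

variable {p : ℕ} [Fact p.Prime] {k : Type} [Field k] [CharP k p] [IsAlgClosed k] {Y : Type} [Group Y] {N : Type}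
  [Fintype N] [DecidableEq N] {ρ : Y →* GL N k} {F : MulAut Y} {G : Subgroup Y} {D : Datum p ρ F G}
  {j : ℕ} {B A : Mat D.R} {c : Lbl D} {s : Sb D} {u : s.E.W} {Ψ₁ Ψ₂ : RS D.R} {x : D.W}

section Dc

variable (C : Dec (Zc (rts D) c) Ψ₁ Ψ₂ A)
include C

theorem d1 : Ψ₁ ⊆ Zc (rts D) c := C.union ▸ Set.subset_union_left

theorem d2 : Ψ₂ ⊆ Zc (rts D) c := C.union ▸ Set.subset_union_right

theorem f1 : Ψ₁ ⊆ rts D := fun _ h => (d1 C h).1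

theorem f2 : Ψ₂ ⊆ rts D := fun _ h => (d2 C h).1

theorem fo : ∀ a ∈ Ψ₁, ∀ b ∈ Ψ₂, a.1 ⬝ᵥ b.2 = 0 := fun a ha b hb => (C.orth a ha b hb).1

theorem r1 (hx : x ∈ Hs D Ψ₁) : Rel D x c c := tl_of_cor (fun _ ha => (d1 C ha).2) ((mem_Hs (f1 C)).1 hx)

theorem r2 (hx : x ∈ Hs D Ψ₂) : Rel D x c c := tl_of_cor (fun _ ha => (d2 C ha).2) ((mem_Hs (f2 C)).1 hx)

theorem dec2 (hz : Cz p (rts D)) (hc : Fo p c) (h : Rel D x c c) : ∃ a ∈ Hs D Ψ₁, ∃ b ∈ Hs D Ψ₂, x = a * b := by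
  have h1 := hs_comm (f1 C) (f2 C) (fo C)
  let H : Subgroup D.W :=
    { carrier := {x | ∃ a ∈ Hs D Ψ₁, ∃ b ∈ Hs D Ψ₂, x = a * b}
      one_mem' := ⟨1, one_mem _, 1, one_mem _, (mul_one _).symm⟩
      mul_mem' := by
        rintro _ _ ⟨a, ha, b, hb, rfl⟩ ⟨a', ha', b', hb', rfl⟩
        exact ⟨_, mul_mem ha ha', _, mul_mem hb hb', by rw [mul_assoc, ← mul_assoc b, ← h1 a' ha' b hb]; simp only [mul_assoc]⟩
      inv_mem' := by
        rintro _ ⟨a, ha, b, hb, rfl⟩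
        exact ⟨_, inv_mem ha, _, inv_mem hb, by rw [h1 a ha b hb, _root_.mul_inv_rev]⟩ }
  refine X.stab_le hz hc (H := H) (fun a ha h2 => ?_) h
  rcases C.union.le (show (D.wt a, D.cor a) ∈ Zc (rts D) c from ⟨rt_mem ha, h2⟩) with h3 | h3
  · exact ⟨_, subset_closure ⟨_, h3, (rfm_eq ha).symm⟩, 1, one_mem _, (mul_one _).symm⟩
  · exact ⟨1, one_mem _, _, subset_closure ⟨_, h3, (rfm_eq ha).symm⟩, (one_mul _).symm⟩

theorem cs_add2 [Fintype D.W] (z : D.W → ℂ) : cs (fs D (Zc (rts D) c)) z = cs (fs D Ψ₁) z + cs (fs D Ψ₂) z := by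
  classical
  funext w
  rw [Pi.add_apply, cs_apply, cs_apply, cs_apply, ← Finset.sum_union (Finset.disjoint_left.2 fun t h1 h2 => ?_)]
  · refine Finset.sum_congr (Finset.ext fun t => ?_) fun _ _ => rfl
    rw [Finset.mem_union, mem_fs, mem_fs, mem_fs]
    exact ⟨fun ⟨a, ha, e⟩ => (C.union.le ha).imp (fun h => ⟨a, h, e⟩) fun h => ⟨a, h, e⟩,
      fun h => h.elim (fun ⟨a, ha, e⟩ => ⟨a, d1 C ha, e⟩) fun ⟨a, ha, e⟩ => ⟨a, d2 C ha, e⟩⟩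
  · have h3 := sg_rs (f1 C) (mem_fs.1 h1)
    rw [hs_disj (f1 C) (f2 C) (fo C) t (subset_closure (mem_fs.1 h1)) (subset_closure (mem_fs.1 h2)), map_one] at h3
    omega

end Dc

theorem hs_mono (h : Ψ₁ ⊆ Ψ₂) : Hs D Ψ₁ ≤ Hs D Ψ₂ := closure_mono fun _ ⟨a, ha, e⟩ => ⟨a, h ha, e⟩

variable [Fintype D.W] [Fintype ↥(GF F G)] {f : Fr D} [Fintype ↥(GF F s.K)]
  [Fintype s.E.W] {r : ℕ} [Fact r.Prime] {P : Subgroup ↥(GF F G)} {ψ : IrrCharacter ↥(GF F s.K)}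
  {Γ : Set (IrrCharacter ↥(GF F G))}
  (h : St D j B) (hz : Cz p (rts D)) (hz' : Cz p (rts s.E)) (hu : Hu1 D r) (hs : s.For r P) (h1 : On1 s.E) (hΓ : Cls f r Γ)
  (hT : Lab.Tight r s.ι P (ψ : GF F s.K → ℂ)) (h0 : ∃ ξ ∈ Γ, classInner (s.rs r P ξ.1) ψ ≠ 0) (hc : Has (s.fr f) ψ u c)

include hz' hc in
theorem top_mem' {u' : s.E.W} (e : Fx s.E u' c) : ∃ x ∈ Hs D (P1 s c), s.sw u' * s.w = x * (s.sw u * s.w) := by
  obtain ⟨d, i, L⟩ := exists_lvl s.E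
  exact ⟨_, mem1 hz' hc.fo (s.rel_iff.1 (hc.fx.div e L)), by rw [map_mul, map_inv, mul_assoc, inv_mul_cancel_left]⟩

include h hu hs h1 hc in
/-- **the induced function as a sum over the stabiliser** -/
theorem ind1 [Fintype (LV.Lab.St D c)] (hr : ¬ r ∣ orderOf c) (w : D.W) : classInner (s.rs r P (RW f w c)) ψ =
    (Nat.card ↥(s.sw.range ⊓ LV.Lab.St D c) : ℂ)⁻¹ * ∑ b : LV.Lab.St D c, yb f s ψ c (b * w * (D.Fw b)⁻¹) := by
  have := Fintype.ofFinite s.sw.range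
  rw [ind_eq hu hs ψ.2 hr, eq_inv_mul_iff_mul_eq₀ (Nat.cast_ne_zero.2 Nat.card_pos.ne'), mul_left_comm,
    sum_prod' s.sw.range (LV.Lab.St D c) fun v e => ?_,
    Finset.sum_congr rfl fun (a : s.sw.range) _ => Finset.sum_congr rfl fun (b : LV.Lab.St D c) _ =>
      show yb f s ψ (ac D (a * b) c) (a * b * w * (D.Fw (a * b))⁻¹) = yb f s ψ c (b * w * (D.Fw b)⁻¹) from ?_,
    Finset.sum_const, Finset.card_univ, ← Nat.card_eq_fintype_card, ← Nat.card_congr (MonoidHom.ofInjective s.sw_injective).toEquiv,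
    nsmul_eq_mul, inv_mul_cancel_left₀ (Nat.cast_ne_zero.2 Nat.card_pos.ne')]
  · obtain ⟨_, a, rfl⟩ := a
    refine (yb_conj h hs.qs (v := a) ?_ ?_).symm
    · show _ * _ = _
      rw [map_mul]
      group
    · rw [← ac_eq, ac_eq.2 (Rel.trans b.2 (rel_ac (s.sw a) c))]
  · obtain ⟨u', -, e⟩ := yb_ne e
    obtain ⟨a, ha⟩ := cj_iff.1 (h1 _ _ ψ.2 _ _ _ _ hc e)
    exact ⟨_, ⟨a, rfl⟩, _, (rel_ac v c).trans (s.rel_iff.1 ha).symm, (mul_inv_cancel_left _ _).symm⟩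

/-- the function which is induced to the first factor -/
noncomputable def J1 (f : Fr D) (s : Sb D) [Fintype ↥(GF F s.K)] (c : Lbl D) (Ψ₁ : RS D.R) (ψ : IrrCharacter ↥(GF F s.K))
    [Fintype (Hs D Ψ₁)] (w : D.W) : ℂ :=
  (Nat.card (Hs D (P1 s c)) : ℂ)⁻¹ * ∑ v : Hs D Ψ₁, yb f s ψ c (v * w * (D.Fw v)⁻¹)

variable [Fintype (Hs D Ψ₁)] [Fintype (Hs D Ψ₂)] (C : Dec (Zc (rts D) c) Ψ₁ Ψ₂ (D.Wm (s.sw u * s.w) * B)) (hb : P1 s c ⊆ Ψ₁)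

include h hz hz' hu hs h1 hc C in
theorem ind3 (hr : ¬ r ∣ orderOf c) (w : D.W) :
    classInner (s.rs r P (RW f w c)) ψ = ∑ b : Hs D Ψ₂, J1 f s c Ψ₁ ψ (b * w * (D.Fw b)⁻¹) := by
  classical
  have k1 : s.sw.range ⊓ LV.Lab.St D c = Hs D (P1 s c) := Subgroup.ext fun x =>
    ⟨fun ⟨⟨a, e⟩, e'⟩ => e ▸ mem1 hz' hc.fo (e.symm ▸ e'), fun e => ⟨sw_of e, rel1 e⟩⟩
  have k2 := sum_prod (hs_disj (f1 C) (f2 C) (fo C)) 1
    (g := fun b => if b ∈ LV.Lab.St D c then yb f s ψ c (b * w * (D.Fw b)⁻¹) else 0) fun b e => by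
      obtain ⟨x, hx, y, hy, e'⟩ := dec2 C hz hc.fo (x := b) (by_contra fun e' => e (if_neg e'))
      exact ⟨x, hx, y, hy, e'.trans (mul_one _).symm⟩
  rw [← Finset.sum_filter, Finset.sum_subtype (p := (· ∈ LV.Lab.St D c)) _ (fun x => by simp), Finset.sum_comm] at k2
  rw [ind1 h hu hs h1 hc hr, k1, k2, Finset.mul_sum]
  refine Finset.sum_congr rfl fun b _ => congrArg _ (Finset.sum_congr rfl fun a _ => ?_)
  rw [mul_one, if_pos (show (a : D.W) * b ∈ LV.Lab.St D c from (r2 C b.2).trans (r1 C a.2)), map_mul]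
  congr 1
  group

include h hz' hc C hb in
theorem J1_supp (hx : x ∉ Hs D Ψ₁) : J1 f s c Ψ₁ ψ (x * (s.sw u * s.w)) = 0 :=
  mul_eq_zero_of_right _ (Finset.sum_eq_zero fun v _ => by_contra fun e => by
    obtain ⟨u', k1, k2⟩ := yb_ne e
    obtain ⟨y, hy, k3⟩ := top_mem' hz' hc k2.fx
    refine hx ?_
    rw [show x = (v : D.W)⁻¹ * y * (s.sw u * s.w * D.Fw v * (s.sw u * s.w)⁻¹) by
      rw [mul_assoc _ y, ← mul_assoc y, ← mul_assoc y, ← k3, k1]; group]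
    exact mul_mem (mul_mem (inv_mem v.2) (hs_mono hb hy)) (hs_tw h (f1 C) C.nm₁ v.2))

include h hz hz' hu hs h1 hΓ hT h0 hc C hb in
/-- the member which belongs to a sign character of the second factor -/
theorem one2 (ε : D.W →* ℂ) {e : ℂ} (he : e * e = 1) (hε : ∀ t ∈ Rs D Ψ₂, ε t = e) (hF : ∀ x, ε (D.Fw x) = ε x)
    (h2 : ∀ x, ε x * ε x = 1) {κ₀ : ℂ} {L : List ℂ} (hL : ∀ k ∈ L, ((fs D Ψ₂).card : ℝ) < ‖κ₀ + e * (fs D Ψ₂).card - k‖)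
    (h3 : (L.map (κ₀ - ·)).prod ≠ 0) (h4 : qs (fs D Ψ₁) (κ₀ :: L) (J1 f s c Ψ₁ ψ) = 0)
    (h5 : ∀ u', Fx s.E u' c → qs (fs D Ψ₁) L (J1 f s c Ψ₁ ψ) (s.sw u' * s.w) =
      (L.map (κ₀ - ·)).prod * classInner ψ.1 (RW (s.fr f) u' c)) :
    ∃ ξ ∈ Γ, ∃ a : ℤ, a ^ 2 = 1 ∧ classInner (s.rs r P ξ.1) ψ = a ∧ (∀ w c', Has f ξ.1 w c' → Cj (rts D) c c') ∧
      ∀ x ∈ Hs D Ψ₁, ∀ y ∈ Hs D Ψ₂, a * classInner ξ.1 (RW f (x * y * (s.sw u * s.w)) c) =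
        ε y * (((L.map (κ₀ - ·)).prod)⁻¹ * qs (fs D Ψ₁) L (J1 f s c Ψ₁ ψ) (x * (s.sw u * s.w))) := by
  obtain ⟨K, z, μ, Yb, n, -, -, -, k1, -, -, -, k2⟩ := exists_dec h.qs hu hs h1 hΓ hT h0 hc
  obtain ⟨ξ₀, k3, k4⟩ := id h0
  have k5 := hs_comm (f1 C) (f2 C) (fo C)
  let T : Module.End ℂ (D.W → ℂ) := ∑ b : Hs D Ψ₂, LinearMap.funLeft ℂ ℂ fun w => b * w * (D.Fw b)⁻¹
  have k6 : ∀ y w, T y w = ∑ b : Hs D Ψ₂, y (b * w * (D.Fw b)⁻¹) := fun y w => by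
    rw [LinearMap.sum_apply, Finset.sum_apply]
    rfl
  have k7 : ∀ L, qs (fs D Ψ₁) L (∑ k ∈ K, z k) = T (qs (fs D Ψ₁) L (J1 f s c Ψ₁ ψ)) := fun L => by
    rw [qs_map _ L T fun y => funext fun w => ?_]
    · exact congrArg _ (funext fun w => by
        rw [Finset.sum_apply, k2, k6, ind3 h hz hz' hu hs h1 hc C (ord_c hu hs (hΓ.rat _ k3) k4 hc)])
    · simp only [k6, cs_apply]
      rw [Finset.sum_comm]
      refine Finset.sum_congr rfl fun t ht => Finset.sum_congr rfl fun b _ => ?_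
      rw [← mul_assoc (b : D.W), ← k5 t (subset_closure (mem_fs.1 ht)) b b.2, mul_assoc t, mul_assoc t]
  have k8 := ext2 (R₁ := fs D Ψ₁) (R₂ := fs D Ψ₂) (fun a ha b hb => k5 a (subset_closure (mem_fs.1 ha)) b (subset_closure (mem_fs.1 hb)))
    ε he (fun t ht => hε t (mem_fs.1 ht)) hs_fs K id z (fun i hi => (cs_add2 C _).symm.trans (k1 i hi).1) hL (by rw [k7, h4, map_zero])
  set k₀ := κ₀ + e * (fs D Ψ₂).card
  have k9 : ∀ x ∈ Hs D Ψ₁, ∀ y ∈ Hs D Ψ₂, (∑ k ∈ K with id k = k₀, z k) (x * y * (s.sw u * s.w)) =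
      ε y * (((L.map (κ₀ - ·)).prod)⁻¹ * qs (fs D Ψ₁) L (J1 f s c Ψ₁ ψ) (x * (s.sw u * s.w))) := fun x hx y hy => by
    rw [mul_left_comm, eq_inv_mul_iff_mul_eq₀ h3]
    refine mul_left_cancel₀ (Nat.cast_ne_zero.2 (Nat.card_pos (α := Hs D Ψ₂)).ne') ((k8 _).trans ?_)
    rw [← avg (φ := fun v => s.sw u * s.w * D.Fw v * (s.sw u * s.w)⁻¹)
      (y := fun x => qs (fs D Ψ₁) L (J1 f s c Ψ₁ ψ) (x * (s.sw u * s.w))) k5 (hs_disj (f1 C) (f2 C) (fo C))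
      (fun v hv => hs_tw h (f2 C) C.nm₂ hv) ε (fun v => by
        rw [map_mul, map_mul, hF, mul_right_comm, ← map_mul, mul_inv_cancel, map_one, one_mul]) h2
      (qs_supp (fun t ht => subset_closure (mem_fs.1 ht)) _ (fun x => J1_supp h hz' hc C hb) L) hx hy]
    refine Finset.sum_congr rfl fun b _ => ?_
    rw [k7, k6]
    refine congrArg _ (Finset.sum_congr rfl fun v _ => congrArg _ ?_)
    group
  obtain ⟨ξ, k10, a, k11, k12, k13, k14⟩ := oneG h.qs hu hs h1 hΓ hT h0 hc (K := insert k₀ K) (z := fun k => ∑ i ∈ K with id i = k, z i)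
    (fun k _ => by
      rw [map_sum, Finset.smul_sum]
      exact Finset.sum_congr rfl fun i hi => by rw [(k1 i (Finset.mem_filter.1 hi).1).1, ← (Finset.mem_filter.1 hi).2, id])
    (fun w => by
      rw [← k2, ← Finset.sum_apply, Finset.sum_fiberwise_of_maps_to (g := id) (s := K) (t := insert k₀ K)
        (fun i hi => Finset.mem_insert_of_mem hi) z, Finset.sum_apply])
    (Finset.mem_insert_self _ _) fun u' e' => by
      obtain ⟨x, hx, k10⟩ := top_mem' hz' hc e'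
      have k11 := k9 x (hs_mono hb hx) 1 (one_mem _)
      rwa [mul_one, map_one, one_mul, ← k10, h5 u' e', inv_mul_cancel_left₀ h3] at k11
  exact ⟨ξ, k10, a, k11, k12, k13, fun x hx y hy => (k14 _).trans (k9 x hx y hy)⟩

include h hz hc C in
/-- the degree and the sum over the unipotent elements -/
theorem deg2 (X : D.W → ℂ) : ∃ α β : ℂ, ∀ (ξ : GF F G → ℂ) (a : ℤ) (ε : D.W → ℂ), a ^ 2 = 1 →
    (∀ w c', Has f ξ w c' → Cj (rts D) c c') → (∀ x ∈ Hs D Ψ₁, ∀ y ∈ Hs D Ψ₂,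
      a * classInner ξ (RW f (x * y * (s.sw u * s.w)) c) = ε y * X (x * (s.sw u * s.w))) →
    ξ 1 ^ 2 = α ^ 2 * (∑ y : Hs D Ψ₂, ε y * sg D y * (ordT D (y * (s.sw u * s.w)) : ℂ)⁻¹) ^ 2 ∧
      OM.Cas.usum (GF F G) {v | IsUni p v} ξ ^ 2 = β ^ 2 * (∑ y : Hs D Ψ₂, ε y * (ordT D (y * (s.sw u * s.w)) : ℂ)⁻¹) ^ 2 := by
  obtain ⟨d, i, L⟩ := exists_lvl D
  have k1 := s.fx_iff.1 hc.fx
  have k0 := hc.fo
  generalize s.sw u * s.w = w at k1 C ⊢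
  have k4 : ∀ w, (ordT D w : ℂ) ≠ 0 := fun w => Nat.cast_ne_zero.2 (ordT_ne w)
  have k5 : ∀ (x : Hs D Ψ₁) (y : Hs D Ψ₂), (ordT D (x * y * w) : ℂ)⁻¹ =
      ordT D w * (ordT D (x * w) : ℂ)⁻¹ * (ordT D (y * w) : ℂ)⁻¹ := fun x y => by
    have k5 : (ordT D (x * y * w) : ℂ) * ordT D w = ordT D (x * w) * ordT D (y * w) := by
      exact_mod_cast ord_fac h (f1 C) (f2 C) (fo C) C.nm₂ x.2 y.2
    have := k4 (x * y * w)
    have := k4 (x * w)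
    have := k4 (y * w)
    field_simp
    linear_combination -k5
  refine ⟨(Nat.card (LV.Lab.St D c) : ℂ)⁻¹ * pc' p (GF F G) * ∑ x : Hs D Ψ₁, X (x * w) * (sg D x * sg D w) *
      (ordT D w * (ordT D (x * w) : ℂ)⁻¹), (Nat.card (LV.Lab.St D c) : ℂ)⁻¹ * Nat.card (GF F G) *
      ∑ x : Hs D Ψ₁, X (x * w) * (ordT D w * (ordT D (x * w) : ℂ)⁻¹), fun ξ a ε k7 k8 k9 => ?_⟩
  have k3 : ∀ g : D.W → ℂ, ∑ w', g w' * (a * classInner ξ (RW f w' c)) =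
      ∑ x : Hs D Ψ₁, ∑ y : Hs D Ψ₂, g (x * y * w) * (ε y * X (x * w)) := fun g => by
    rw [sum_prod (hs_disj (f1 C) (f2 C) (fo C)) w fun w' e => ?_]
    · exact Finset.sum_congr rfl fun x _ => Finset.sum_congr rfl fun y _ => by rw [k9 x x.2 y y.2]
    · obtain ⟨x, hx, y, hy, e'⟩ := dec2 C hz k0 (k1.div (Has.fx (right_ne_zero_of_mul (right_ne_zero_of_mul e))) L)
      exact ⟨x, hx, y, hy, by rw [← e', inv_mul_cancel_right]⟩
  obtain ⟨k10, k11⟩ := degG h.qs k7 k8 fun _ => rfl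
  simp only [mul_right_comm _ (a * _ : ℂ), mul_comm (a * _ : ℂ), k3] at k10 k11
  rw [k10, k11, mul_pow _ (∑ x : Hs D Ψ₁, _), mul_pow _ (∑ x : Hs D Ψ₁, _), mul_assoc (_ ^ 2), mul_assoc (_ ^ 2), ← mul_pow (∑ x : Hs D Ψ₁, _),
    ← mul_pow (∑ x : Hs D Ψ₁, _), Finset.sum_mul_sum, Finset.sum_mul_sum]
  refine ⟨congrArg (fun z : ℂ => _ * z ^ 2) ?_, congrArg (fun z : ℂ => _ * z ^ 2) ?_⟩ <;>
    refine Finset.sum_congr rfl fun x _ => Finset.sum_congr rfl fun y _ => ?_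
  · rw [k5, sg_mul, sg_mul]
    ring
  · rw [k5]
    ring

include h hz hz' hu hs h1 hΓ hT h0 hc C hb in
/-- **a core times a toral factor** -/
theorem prodG (hn : Ψ₂.Nonempty) {κ₀ : ℂ} {L : List ℂ} (hL : ∀ k ∈ L, (2 * (fs D Ψ₂).card : ℝ) < ‖κ₀ - k‖)
    (h4 : qs (fs D Ψ₁) (κ₀ :: L) (J1 f s c Ψ₁ ψ) = 0) (h5 : ∀ u', Fx s.E u' c → qs (fs D Ψ₁) L (J1 f s c Ψ₁ ψ) (s.sw u' * s.w) =
      (L.map (κ₀ - ·)).prod * classInner ψ.1 (RW (s.fr f) u' c)) :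
    ∃ ξ ∈ Γ, ∃ ξ' ∈ Γ, ∃ (a a' : ℤ) (J : ℕ), a ^ 2 = 1 ∧ a' ^ 2 = 1 ∧ classInner (s.rs r P ξ.1) ψ = a ∧
      classInner (s.rs r P ξ'.1) ψ = a' ∧ 0 < J ∧ (p ^ j) ^ J ≤ Nat.card ↥(GF F G) ^ 2 ∧
      ξ'.1 1 ^ 4 = ((p ^ j : ℕ) : ℂ) ^ J * ξ.1 1 ^ 4 := by
  have k0 : ∀ e : ℂ, ‖e‖ = 1 → ∀ k ∈ L, ((fs D Ψ₂).card : ℝ) < ‖κ₀ + e * (fs D Ψ₂).card - k‖ := fun e he k hk => by
    have k0 := norm_sub_le (κ₀ + e * (fs D Ψ₂).card - k) (e * (fs D Ψ₂).card)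
    rw [sub_right_comm, add_sub_cancel_right, norm_mul, he, one_mul, Complex.norm_natCast] at k0
    linarith [hL k hk]
  have h3 : (L.map (κ₀ - ·)).prod ≠ 0 := List.prod_ne_zero fun e => by
    obtain ⟨k, hk, e⟩ := List.mem_map.1 e
    have := hL k hk
    rw [e, norm_zero] at this
    exact this.not_ge (mul_nonneg zero_le_two (Nat.cast_nonneg _))
  obtain ⟨α, β, k1⟩ := deg2 h hz hc C fun w => ((L.map (κ₀ - ·)).prod)⁻¹ * qs (fs D Ψ₁) L (J1 f s c Ψ₁ ψ) w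
  obtain ⟨ξ, k2, a, k3, k4, k5, k6⟩ := one2 h hz hz' hu hs h1 hΓ hT h0 hc C hb 1 (one_mul 1) (fun _ _ => rfl) (fun _ => rfl)
    (fun _ => one_mul 1) (k0 1 norm_one) h3 h4 h5
  obtain ⟨ξ', k2', a', k3', k4', k5', k6'⟩ := one2 h hz hz' hu hs h1 hΓ hT h0 hc C hb ((Int.castRingHom ℂ).toMonoidHom.comp (sgZ D))
    (e := -1) (by norm_num) (fun t ht => (congrArg (Int.cast : ℤ → ℂ) (sg_rs (f2 C) ht)).trans (by simp)) (sg_Fw D) (sg_mul_self D)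
    (k0 (-1) (by simp)) h3 h4 h5
  obtain ⟨k7, k8⟩ := k1 ξ.1 a _ k3 k5 k6
  obtain ⟨k7', k8'⟩ := k1 ξ'.1 a' (sg D) k3' k5' k6'
  obtain ⟨i, k9⟩ := eigT h ξ.2
  obtain ⟨i', k9'⟩ := eigT h ξ'.2
  simp only [MonoidHom.one_apply, one_mul, sg_mul_self] at k7 k8 k7'
  obtain ⟨t, ht⟩ := hn
  obtain ⟨b, hb, rfl⟩ := f2 C ht
  have k10 : D.rf b ∈ Rs D Ψ₂ := ⟨_, ht, (rfm_eq hb).symm⟩
  have k11 : ∀ w, (0 : ℝ) < (ordT D w : ℝ)⁻¹ := fun w => inv_pos.2 (Nat.cast_pos.2 (Nat.pos_of_ne_zero (ordT_ne w)))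
  have k12 : ∀ w, ((sgZ D w : ℤ) : ℝ) ≤ 1 ∧ -((sgZ D w : ℤ) : ℝ) ≤ 1 := fun w => by rcases sgZ_sign D w with e | e <;> simp [e]
  obtain ⟨J, k13, k14, k15⟩ := ratio (g := ∑ y : Hs D Ψ₂, (sgZ D y : ℤ) * (ordT D (y * (s.sw u * s.w)) : ℝ)⁻¹)
    (h := ∑ y : Hs D Ψ₂, (ordT D (y * (s.sw u * s.w)) : ℝ)⁻¹) (abs_lt.2 ⟨neg_lt.1 (by
      rw [← Finset.sum_neg_distrib]
      refine Finset.sum_lt_sum (fun y _ => ?_) ⟨1, Finset.mem_univ _, ?_⟩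
      · rw [← neg_mul]
        exact mul_le_of_le_one_left (k11 _).le (k12 _).2
      · rw [OneMemClass.coe_one, map_one, Int.cast_one, one_mul]
        exact neg_lt_self (k11 _)), Finset.sum_lt_sum (fun y _ => mul_le_of_le_one_left (k11 _).le (k12 _).1)
      ⟨⟨_, subset_closure k10⟩, Finset.mem_univ _, by
        rw [sg_rs (f2 C) k10, Int.cast_neg, Int.cast_one, neg_one_mul]
        exact neg_lt_self (k11 _)⟩⟩) (Nat.one_lt_pow h.pos.ne' (Fact.out : p.Prime).one_lt) (a := α) (b := β)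
    (by rw [k7]; push_cast; rfl) (by rw [k7']; push_cast; rfl) (by rw [k8]; push_cast; rfl) (by rw [k8']; push_cast; rfl)
    k9 k9' (irr_one_ne ξ.2)
  exact ⟨ξ, k2, ξ', k2', a, a', J, k3, k3', k4, k4', k13,
    (Nat.pow_le_pow_right (pow_pos (Fact.out : p.Prime).pos j) k14).trans (le_sq ξ.2 k9), k15⟩

omit [Fintype (Hs D Ψ₁)] [Fintype (Hs D Ψ₂)] in
include h hz hz' hu hs h1 hc in
/-- the induced function, one factor -/
theorem ind4 [Fintype (Hs D (Zc (rts D) c))] (hr : ¬ r ∣ orderOf c) (w : D.W) :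
    classInner (s.rs r P (RW f w c)) ψ = J1 f s c (Zc (rts D) c) ψ w := by
  have k1 : s.sw.range ⊓ LV.Lab.St D c = Hs D (P1 s c) := Subgroup.ext fun x =>
    ⟨fun ⟨⟨a, e⟩, e'⟩ => e ▸ mem1 hz' hc.fo (e.symm ▸ e'), fun e => ⟨sw_of e, rel1 e⟩⟩
  have k2 : LV.Lab.St D c = Hs D (Zc (rts D) c) := Subgroup.ext fun x => (X.stab_WW hz hc.fo).trans (mem_Hs (X.Zc_sub _ _)).symm
  have := Fintype.ofFinite (LV.Lab.St D c)
  rw [ind1 h hu hs h1 hc hr, k1]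
  exact congrArg _ (Fintype.sum_equiv (MulEquiv.subgroupCongr k2).toEquiv _ _ fun _ => rfl)

omit [Fintype (Hs D Ψ₁)] [Fintype (Hs D Ψ₂)] in
include h hz hz' hu hs h1 hΓ hT h0 hc in
/-- **a core** : `J1 = ∑ z k`, two parts of mass one differ by the sign character -/
theorem coreG [Fintype (Hs D (Zc (rts D) c))] {K : Finset ℂ} {z : ℂ → D.W → ℂ}
    (h2 : ∀ k ∈ K, cs (fs D (Zc (rts D) c)) (z k) = k • z k) (h3 : ∀ w, ∑ k ∈ K, z k w = J1 f s c (Zc (rts D) c) ψ w)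
    {k₁ k₂ : ℂ} (h4 : k₁ ∈ K) (h4' : k₂ ∈ K) (h5 : ∀ u', Fx s.E u' c → z k₁ (s.sw u' * s.w) = classInner ψ.1 (RW (s.fr f) u' c))
    (h5' : ∀ u', Fx s.E u' c → z k₂ (s.sw u' * s.w) = classInner ψ.1 (RW (s.fr f) u' c)) {ε : ℂ} (h6 : ε * ε = 1)
    (h7 : ∀ w, z k₂ w = ε * sg D w * z k₁ w)
    (h8 : (∑ w, sg D w * z k₁ w * (ordT D w : ℂ)⁻¹) ^ 4 ≠ (∑ w, z k₁ w * (ordT D w : ℂ)⁻¹) ^ 4) :
    ∃ ξ ∈ Γ, ∃ ξ' ∈ Γ, ∃ (a a' : ℤ) (J : ℕ), a ^ 2 = 1 ∧ a' ^ 2 = 1 ∧ classInner (s.rs r P ξ.1) ψ = a ∧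
      classInner (s.rs r P ξ'.1) ψ = a' ∧ 0 < J ∧ (p ^ j) ^ J ≤ Nat.card ↥(GF F G) ^ 2 ∧
      ξ'.1 1 ^ 4 = ((p ^ j : ℕ) : ℂ) ^ J * ξ.1 1 ^ 4 := by
  obtain ⟨ξ₀, k3, k4⟩ := id h0
  exact pairG hu hs h1 hΓ hT h0 hc h h2 (fun w => (h3 w).trans
    (ind4 h hz hz' hu hs h1 hc (ord_c hu hs (hΓ.rat _ k3) k4 hc) w).symm) h4 h4' h5 h5' h6 h7 h8

end Cfsg.Agent.BZ.RT.At
end
end

-- part: BZ/RT/Co2/Defs
section
set_option linter.all false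

/-!
# BZ / RT (S4853) : the terminal case for the prime two, statements (helper94)

* `BoxP7`, `BoxO7` : class functions on `W(E₇)` which live over the elliptic classes of `W(E₆)`;
* `BoxT` : the same inside the Weyl group of a datum;  `BoxN` : the component `E₇` is stable;  `BoxTm7` : the aim.
-/

set_option autoImplicit false
set_option linter.unusedSectionVars false

namespace Cfsg.Agent.BZ.RT.Co2

open Cfsg Matrix Cfsg.Agent.DL Cfsg.Agent.DL.PP Cfsg.Agent.KZ.Lie Cfsg.Agent.HZ.Gen Cfsg.Agent.HZ.L Cfsg.Agent.OM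
  Cfsg.Agent.OM.Cu Cfsg.Agent.BZ.RT.At Cfsg.Agent.BZ.RT.Z2 Cfsg.Agent.DL.Uni

/-- the standard `E₆` -/
def P6 : RS (Fin 7) := {a | a ∈ Rc E7 ∧ a.2 5 = 0}

/-- the sum over the reflections -/
noncomputable def Cs {R : Type} [Fintype R] [DecidableEq R] (Ψ : RS R) (g : Mat R → ℂ) (A : Mat R) : ℂ := ∑ᶠ ρ ∈ rfm '' Ψ, g (ρ * A)

/-- class functions over the elliptic classes of `W(E₆)` -/
structure H7 (f : Mat (Fin 7) → ℂ) : Prop where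
  cj : ∀ u ∈ Wc E7, ∀ A ∈ Wc E7, f (u * A) = f (A * u)
  sup : ∀ A ∈ Wc E7, f A ≠ 0 → ∃ v ∈ Wc E7, ∃ u ∈ WW P6, ¬ Eig P6 u 1 ∧ v * A = u * v
  rel : ∀ u ∈ WW P6, Eig P6 u 1 → Cs P6 f u = 0

/-- [P7] (table) the eigenvalues are `± 9`, the support is even, the odd part lives on elliptic elements -/
def BoxP7 : Prop := ∀ f, H7 f → ∀ A ∈ Wc E7, Cs (Rc E7) (Cs (Rc E7) f) A = 81 * f A ∧ (f A ≠ 0 → A.det = 1) ∧
  ((A - 1).det = 0 → Cs (Rc E7) f A = 0)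

/-- [O7] (table) the odd part has a non zero sum -/
def BoxO7 : Prop := ∀ f, H7 f → (∃ A ∈ Wc E7, f A ≠ 0) → ∀ x : ℤ, 1 < |x| →
  ∑ᶠ A ∈ (Wc E7 : Set (Mat (Fin 7))), Cs (Rc E7) f A * (((x • A - 1).det : ℤ) : ℂ)⁻¹ ≠ 0

/-- [N] the component `E₇` is stable -/
def BoxN : Prop := ∀ {R : Type} [Fintype R] [DecidableEq R] (P : Matrix R (Fin 7) ℤ) (Ψ₁ : RS R) (β : Vec R × Vec R) (A : Mat R),
  Tr P (Rc E7) Ψ₁ → β.1 ⬝ᵥ β.2 = 2 → (∀ b ∈ Ψ₁, b.1 ⬝ᵥ β.2 = 0 ∧ β.1 ⬝ᵥ b.2 = 0) → Nm A (Ψ₁ ∪ {β, -β}) → Nm A Ψ₁ ∧ Nm A {β, -β}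

variable {p : ℕ} [Fact p.Prime] {k : Type} [Field k] [CharP k p] [IsAlgClosed k] {Y : Type} [Group Y] {N : Type}
  [Fintype N] [DecidableEq N] {ρ : Y →* GL N k} {F : MulAut Y} {G : Subgroup Y} (D : Datum p ρ F G)

/-- the induced function -/
noncomputable def ind (Ψ₀ Ψ₁ : RS D.R) (y : D.W → ℂ) (w : D.W) : ℂ :=
  (Nat.card (Hs D Ψ₀) : ℂ)⁻¹ * ∑ᶠ v : Hs D Ψ₁, y (v * w * (D.Fw v)⁻¹)

/-- the function on the top coset -/
structure Hd [Fintype D.W] (B : Mat D.R) (Ψ₀ : RS D.R) (w₀ : D.W) (μ : ℤˣ) (y : D.W → ℂ) : Prop where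
  sup : ∀ w, y w ≠ 0 → (∃ x ∈ Hs D Ψ₀, w = x * w₀) ∧ ¬ Eig Ψ₀ (D.Wm w * B) ((μ : ℤ) : ℂ)
  cj : ∀ v ∈ Hs D Ψ₀, ∀ w, y (v * w * (D.Fw v)⁻¹) = y w
  eig : ∃ κ : ℂ, cs (fs D Ψ₀) y = κ • y
  ne : y w₀ ≠ 0

/-- **the certificate** -/
structure Ce [Fintype D.W] (Ψ₀ Ψ₁ : RS D.R) (w₀ : D.W) (y : D.W → ℂ) : Prop where
  sup : ∀ w, ind D Ψ₀ Ψ₁ y w ≠ 0 → ∃ x ∈ Hs D Ψ₁, w = x * w₀
  sq : cs (fs D Ψ₁) (cs (fs D Ψ₁) (ind D Ψ₀ Ψ₁ y)) = (81 : ℂ) • ind D Ψ₀ Ψ₁ y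
  par : ∃ ε : ℂ, ∀ w, ind D Ψ₀ Ψ₁ y w ≠ 0 → sg D w = ε
  top : ∀ x ∈ Hs D Ψ₀, ind D Ψ₀ Ψ₁ y (x * w₀) = 2 * y (x * w₀)
  zero : ∀ x ∈ Hs D Ψ₀, cs (fs D Ψ₁) (ind D Ψ₀ Ψ₁ y) (x * w₀) = 0
  odd : ∑ w, cs (fs D Ψ₁) (ind D Ψ₀ Ψ₁ y) w * (ordT D w : ℂ)⁻¹ ≠ 0

/-- [T] the certificate holds -/
def BoxT : Prop := ∀ [Fintype D.W] (j : ℕ) (B : Mat D.R) (P : Matrix D.R (Fin 7) ℤ) (Ψ₀ Ψ₁ : RS D.R) (w₀ : D.W) (μ : ℤˣ)
  (y : D.W → ℂ), St D j B → Ψ₁ ⊆ rts D → Tr P (Rc E7) Ψ₁ → (∀ b, b ∈ Ψ₀ ↔ b ∈ Ψ₁ ∧ ∃ a ∈ Rc E7, a.2 5 = 0 ∧ P *ᵥ a.2 = b.2) →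
  Nm (D.Wm w₀ * B) Ψ₁ → (∀ a ∈ Ψ₁, a ∉ Ψ₀ → ∃ z, IsE (D.Wm w₀ * B) ((μ : ℤ) : ℂ) z ∧ (∀ b ∈ Ψ₀, ev b.1 z = 0) ∧ ev a.1 z ≠ 0) →
  Hd D B Ψ₀ w₀ μ y → Ce D Ψ₀ Ψ₁ w₀ y

/-- **the aim** -/
def BoxTm7 : Prop := ∀ j B, Lie.Cq D j B 2 → Tm D j B 2 (T7 (rts D))

end Cfsg.Agent.BZ.RT.Co2
end

-- part: BZ/RT/Co2/E
section
prune_inst 0x2200080000000000000000000000000010000000
set_option linter.all false
open scoped Cfsg.Agent.FastGrp

/-!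
# BZ / RT (S4853) : the terminal case for the prime two, `W(E₆)` in `W(E₇)` (helper94)
-/

set_option autoImplicit false
set_option linter.unusedSectionVars false

namespace Cfsg.Agent.BZ.RT.Co2

open Cfsg Matrix Cfsg.Agent.DL Cfsg.Agent.HZ.L Cfsg.Agent.OM Cfsg.Agent.OM.Cu Cfsg.Agent.BZ.RT.Z2 Cfsg.Agent.BZ.RT.Z2.E7P
  Cfsg.Agent.BZ.RT.Z2.Rk47

section Seven

variable {X V : Mat (Fin 7)}

theorem r7 : Cu.Rs E7 fun _ => 1 := boxRs _ _ c7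

theorem wc_of_nm (h : Nm X (Rc E7)) : X ∈ Wc E7 := by
  obtain ⟨w, hw, π, h1, rfl⟩ := boxCh boxRs E7 _ X c7 h
  obtain rfl := Z2.autE7 π h1
  rwa [Cu.pm_one, mul_one]

theorem smul_wc (μ : ℤˣ) (h : X ∈ Wc E7) : (μ : ℤ) • X ∈ Wc E7 := by
  rcases Int.units_eq_one_or μ with rfl | rfl
  · rwa [Units.val_one, one_smul]
  · rw [Units.val_neg, Units.val_one, neg_one_smul]
    exact wc_of_nm (Nm.neg r7.neg (r7.nm _ h))

theorem lev_u5 : lev (Rc E7) u5 = P6 := Set.ext fun a => and_congr_right fun ha => by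
  obtain ⟨m, hm, e⟩ := r7.len a ha
  have h1 := e u5
  rw [fm_u5] at h1
  exact ⟨fun h => by rw [h, mul_zero] at h1; omega, fun h => by
    rw [h, mul_zero] at h1
    exact (mul_eq_zero.1 h1.symm).resolve_left hm.ne'⟩

theorem stab6 (h : X ∈ Wc E7) (e : X *ᵥ u5 = u5) : X ∈ WW P6 := lev_u5 ▸ ParT.stab c7 (fun i => by
  rw [RsP.sp_dot, u5_mul]
  rw [Pi.single_apply]
  split_ifs <;> decide) h e

theorem fix6 (h : X ∈ WW P6) : X *ᵥ u5 = u5 := Perp.fix (fun _ ha => (lev_u5.ge ha).2) h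

theorem sub6 (h : X ∈ WW P6) : X ∈ Wc E7 := r7.ww ▸ WW_mono (fun _ ha => ha.1) h

theorem sp6 {i : Fin 7} (h : i ≠ 5) : sp E7 i ∈ P6 := ⟨RsP.mem i, Pi.single_eq_of_ne h.symm _⟩

/-- the line which is orthogonal to `E₆` -/
theorem line (h : V ∈ Wc E7) (e : Perp P6 (V *ᵥ u5)) : ∃ ε : ℤˣ, (ε : ℤ) • V ∈ WW P6 := by
  have h1 := r7.iso V h u5 u5
  have h2 : (2 : ℤ) • V *ᵥ u5 = ((V *ᵥ u5) ᵥ* E7) 5 • u5 := sub_eq_zero.1 (RsP.top₀ c7 (funext fun i => by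
    rw [sub_vecMul, smul_vecMul, smul_vecMul, u5_mul]
    by_cases hi : i = 5
    · subst hi
      simp [mul_comm]
    · have := e _ (sp6 hi)
      rw [RsP.sp_dot] at this
      simp [this, hi]))
  generalize ((V *ᵥ u5) ᵥ* E7) 5 = t at h2
  have h3 := congrArg (fun v => fm E7 (fun _ => 1) v v) h2
  simp only [RsP.fm_smul, RsP.fm_smul', h1, fm_u5, show u5 5 = 3 from rfl] at h3
  have h4 : ∀ ε : ℤˣ, t = 2 * ε → (ε : ℤ) • V ∈ WW P6 := fun ε e => stab6 (smul_wc ε h) (smul_right_injective _ (two_ne_zero' ℤ) (by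
    simp only [smul_mulVec, smul_comm (2 : ℤ) (ε : ℤ), h2, e, smul_smul]
    rw [mul_left_comm, Int.units_coe_mul_self, mul_one]))
  rcases mul_eq_zero.1 (show (t - 2) * (t + 2) = 0 by linarith) with e | e
  · exact ⟨1, h4 1 (by simp; omega)⟩
  · exact ⟨-1, h4 (-1) (by simp; omega)⟩

theorem line' {U : Mat (Fin 7)} (h : V ∈ Wc E7) (hX : X ∈ WW P6) (e : V * X = U * V) (hn : ¬ Eig P6 U 1) :
    ∃ ε : ℤˣ, (ε : ℤ) • V ∈ WW P6 := line h fun a ha => by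
  by_contra h1
  refine hn ⟨fun i => ((V *ᵥ u5) i : ℂ), funext fun i => ?_, a, ha, fun h2 => h1 (Int.cast_injective (α := ℂ) ?_)⟩
  · rw [one_smul]
    refine (RingHom.map_mulVec (Int.castRingHom ℂ) U _ i).symm.trans ?_
    rw [mulVec_mulVec, ← e, ← mulVec_mulVec, fix6 hX]
    rfl
  · rw [Int.cast_zero, ← h2]
    simp [ev, dotProduct]

theorem neg6 : (-1 : Mat (Fin 7)) ∉ WW P6 := fun h => absurd (congrFun (fix6 h) 5) (by rw [neg_mulVec, one_mulVec]; decide)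

theorem det6 (h : X ∈ WW P6) : (X - 1).det = 0 :=
  exists_mulVec_eq_zero_iff.1 ⟨u5, fun e => absurd (congrFun e 5) (by decide), by rw [sub_mulVec, fix6 h, one_mulVec, sub_self]⟩

/-- an eigenvector on the line -/
theorem six_of {μ : ℤˣ} {y : Fin 7 → ℂ} (h : X ∈ Wc E7) (h1 : IsE X ((μ : ℤ) : ℂ) y) (h2 : ∀ a ∈ P6, ev a.1 y = 0) (h0 : y ≠ 0) :
    (μ : ℤ) • X ∈ WW P6 := by
  have k : ∀ (i) (z : Fin 7 → ℂ), ev (sp E7 i).1 z = (z ᵥ* E7.map (Int.cast : ℤ → ℂ)) i := fun i z => dotProduct_comm _ _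
  have k1 : ∀ i, ev (sp E7 i).1 (fun j => (u5 j : ℂ)) = (Pi.single 5 2 : Vec (Fin 7)) i := fun i => by
    rw [k, ← u5_mul]
    exact (RingHom.map_vecMul (Int.castRingHom ℂ) E7 u5 i).symm
  have h3 : (2 : ℂ) • y = ev (sp E7 5).1 y • fun j => (u5 j : ℂ) := sub_eq_zero.1 (eq_zero_of_vecMul_eq_zero
    (M := E7.map (Int.cast : ℤ → ℂ)) (fun e => RsP.det_ne c7 (Int.cast_injective (α := ℂ)
      (((Int.castRingHom ℂ).map_det E7).trans (e.trans Int.cast_zero.symm)))) (funext fun i => by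
    rw [← k, TrL.ev_sub, TrL.ev_smul, TrL.ev_smul, k1]
    by_cases hi : i = 5
    · subst hi
      simp [mul_comm]
    · simp [h2 _ (sp6 hi), hi]))
  generalize ev (sp E7 5).1 y = t at h3
  have h4 : t ≠ 0 := fun e => h0 (by rwa [e, zero_smul, smul_eq_zero_iff_right two_ne_zero] at h3)
  have h5 := congrArg (X.map (Int.cast : ℤ → ℂ) *ᵥ ·) h3
  simp only [mulVec_smul] at h5
  rw [h1, smul_comm, h3, smul_comm] at h5
  refine stab6 (smul_wc μ h) (funext fun i => Int.cast_injective (α := ℂ) ?_)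
  have h6 := (congrFun (smul_right_injective _ h4 h5) i).trans (RingHom.map_mulVec (Int.castRingHom ℂ) X u5 i).symm
  rw [smul_mulVec, Pi.smul_apply, smul_eq_mul, Int.cast_mul]
  refine (congrArg _ h6.symm).trans ?_
  rw [Pi.smul_apply, smul_eq_mul, ← mul_assoc, ← Int.cast_mul, Int.units_coe_mul_self, Int.cast_one, one_mul]

end Seven

section Tr

variable {R I : Type} [Fintype R] [DecidableEq R] [Fintype I] [DecidableEq I] {P : Matrix R I ℤ} {Φ : RS I} {Ψ : RS R}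
  {C A : Mat I} {d : I → ℤ} {A' : Mat R}

theorem det_blk {M : Mat R} {N : Mat I} (h : M * P = P * N) (Z : Matrix I R ℤ) :
    (M + P * Z).det * N.det = M.det * (N + Z * P).det := by
  have h1 := det_mul_comm (fromBlocks 1 (-P) 0 1) (fromBlocks M (P * N) (-Z) N)
  rw [fromBlocks_multiply, fromBlocks_multiply] at h1
  simp only [Matrix.one_mul, Matrix.mul_one, Matrix.zero_mul, Matrix.mul_zero, Matrix.neg_mul, Matrix.mul_neg, neg_neg, h,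
    add_neg_cancel, neg_add_cancel, add_zero, zero_add, det_fromBlocks_zero₁₂] at h1
  rw [h1, add_comm]

theorem exists_Z (T : Tr P Φ Ψ) {w : Mat R} {V : Mat I} (hw : w ∈ WW Ψ) (h : w * P = P * V) :
    ∃ Z : Matrix I R ℤ, w = 1 + P * Z ∧ V = 1 + Z * P := by
  choose β hβ using T.sub_mem hw
  have h1 : w = 1 + P * (of fun j => β (Pi.single j 1))ᵀ := ext_of_mulVec_single fun j => by
    rw [hβ, add_mulVec, one_mulVec, ← mulVec_mulVec, mulVec_single_one]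
    rfl
  refine ⟨_, h1, T.cancel ?_⟩
  rw [← h, Matrix.mul_add, Matrix.mul_one, ← Matrix.mul_assoc]
  conv_lhs => rw [h1, Matrix.add_mul, Matrix.one_mul]

theorem det_w (T : Tr P Φ Ψ) {w : Mat R} {V : Mat I} (hw : w ∈ WW Ψ) (h : w * P = P * V) : w.det = V.det := by
  obtain ⟨Z, rfl, rfl⟩ := exists_Z T hw h
  exact det_one_add_mul_comm _ _

theorem det_tr (T : Tr P Φ Ψ) {w : Mat R} {V : Mat I} (hw : w ∈ WW Ψ) (h : w * P = P * V) (hA : A' * P = P * A) :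
    (w * A' - 1).det * (A - 1).det = (A' - 1).det * (V * A - 1).det := by
  obtain ⟨Z, rfl, rfl⟩ := exists_Z T hw h
  have h1 := det_blk (M := A' - 1) (N := A - 1) (P := P)
    (by rw [Matrix.sub_mul, Matrix.mul_sub, hA, Matrix.one_mul, Matrix.mul_one]) (Z * A')
  rw [Matrix.mul_assoc Z, hA] at h1
  simpa only [add_mul, one_mul, add_sub_right_comm, Matrix.mul_assoc] using h1

/-- the projection of an eigenvector -/
theorem eig_dn (T : Tr P (Rc C) Ψ) (H : Cu.Rs C d) (h : A' * P = P * A) (hn : Nm A' Ψ) {μ : ℂ} {y' : R → ℂ} (h1 : IsE A' μ y') :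
    ∃ y, IsE A μ y ∧ ∀ c ∈ Ψ, ev (c.1 ᵥ* P) y = ev c.1 y' := by
  obtain ⟨y, hy⟩ := T.dec H y'
  have h3 : ∀ c ∈ Ψ, ev (c.1 ᵥ* P) y = ev c.1 y' := fun c hc => by
    have := hy c hc
    rw [TrL.ev_sub, TrL.ev_rect] at this
    exact (sub_eq_zero.1 this).symm
  refine ⟨y, sub_eq_zero.1 (H.topC _ fun a' ha' => ?_), h3⟩
  obtain ⟨a'', ha'', h5, h6⟩ := TrL.nm_surj H (T.nm_dn h hn) a' ha'
  obtain ⟨c', hc', h7, h8⟩ := T.up a' ha'
  obtain ⟨c'', hc'', h9, h10⟩ := T.up a'' ha''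
  obtain ⟨c, hc, h11, h12⟩ := hn c'' hc''
  obtain rfl := T.ext c hc c' hc' (by rw [← h11, ← h9, mulVec_mulVec, h, ← mulVec_mulVec, h5, h7])
  rw [TrL.ev_sub, TrL.ev_smul, ev_mul, h6, ← h10, ← h8, h3 _ hc'', h3 _ hc, ← h12, ← ev_mul, h1, TrL.ev_smul, sub_self]

end Tr

end Cfsg.Agent.BZ.RT.Co2
end

-- part: BZ/RT/Co2/T
section
prune_inst 0x210003d041640020000188016a2207c12ce0000b21048880060e20a440344686269c3a8414820151a12380c190001004002000020c06800000e8448000000010018000400d1c9001980009801020a400002200080000000000000000000000004010000000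
set_option linter.all false
open scoped Cfsg.Agent.FastGrp

/-!
# BZ / RT (S4853) : the terminal case for the prime two, transport (helper94)

`boxT_of`.
-/

set_option autoImplicit false
set_option linter.unusedSectionVars false
set_option maxHeartbeats 400000

namespace Cfsg.Agent.BZ.RT.Co2

open Cfsg Matrix Cfsg.Agent.DL Cfsg.Agent.DL.PP Cfsg.Agent.KZ.Lie Cfsg.Agent.HZ.Gen Cfsg.Agent.HZ.L Cfsg.Agent.OM
  Cfsg.Agent.OM.Cu Cfsg.Agent.BZ.RT.At Cfsg.Agent.BZ.RT.Z2 Cfsg.Agent.DL.Uni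
open Cfsg.Agent.LV.Lab (tc_self')

variable {p : ℕ} [Fact p.Prime] {k : Type} [Field k] [CharP k p] [IsAlgClosed k] {Y : Type} [Group Y] {N : Type}
  [Fintype N] [DecidableEq N] {ρ : Y →* GL N k} {F : MulAut Y} {G : Subgroup Y} {D : Datum p ρ F G}
  {j : ℕ} {B : Mat D.R} {P : Matrix D.R (Fin 7) ℤ} {Ψ₀ Ψ₁ : RS D.R} {w₀ v v' w w' : D.W} {μ : ℤˣ} {y g : D.W → ℂ}
  {X₁ X X' V V' : Mat (Fin 7)}

variable (D) in
/-- the frame -/
structure Fm (j : ℕ) (B : Mat D.R) (P : Matrix D.R (Fin 7) ℤ) (Ψ₀ Ψ₁ : RS D.R) (w₀ : D.W) (μ : ℤˣ) (X₁ : Mat (Fin 7)) : Prop where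
  st : St D j B
  sub : Ψ₁ ⊆ rts D
  tr : Tr P (Rc E7) Ψ₁
  t6 : Tr P P6 Ψ₀
  s6 : Ψ₀ ⊆ Ψ₁
  nm : Nm (D.Wm w₀ * B) Ψ₁
  x1 : X₁ ∈ WW P6
  eq : D.Wm w₀ * B * P = P * ((μ : ℤ) • X₁)

/-- `v` lies over `V` -/
structure Ov (P : Matrix D.R (Fin 7) ℤ) (Ψ₁ : RS D.R) (v : D.W) (V : Mat (Fin 7)) : Prop where
  m : v ∈ Hs D Ψ₁
  w : V ∈ Wc E7
  e : D.Wm v * P = P * V

/-- the element `w` of the coset lies over `X` -/
def Rl (P : Matrix D.R (Fin 7) ℤ) (Ψ₁ : RS D.R) (w₀ : D.W) (X₁ : Mat (Fin 7)) (w : D.W) (X : Mat (Fin 7)) : Prop :=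
  ∃ v V, Ov P Ψ₁ v V ∧ w = v * w₀ ∧ X = V * X₁

/-- the element over `X` -/
noncomputable def up (P : Matrix D.R (Fin 7) ℤ) (Ψ₁ : RS D.R) (w₀ : D.W) (X₁ X : Mat (Fin 7)) : D.W :=
  Classical.epsilon fun w => Rl P Ψ₁ w₀ X₁ w X

theorem Ov.mul (h : Ov P Ψ₁ v V) (h' : Ov P Ψ₁ v' V') : Ov P Ψ₁ (v * v') (V * V') :=
  ⟨mul_mem h.m h'.m, mul_mem h.w h'.w, by rw [D.Wm_mul, Matrix.mul_assoc, h'.e, ← Matrix.mul_assoc, h.e, Matrix.mul_assoc]⟩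

theorem Rl.left (h : Rl P Ψ₁ w₀ X₁ w X) (h' : Ov P Ψ₁ v V) : Rl P Ψ₁ w₀ X₁ (v * w) (V * X) := by
  obtain ⟨x, U, h1, rfl, rfl⟩ := h
  exact ⟨_, _, h'.mul h1, (mul_assoc _ _ _).symm, (mul_assoc _ _ _).symm⟩

theorem canc (h : V ∈ Wc E7) (e : X * V = X' * V) : X = X' := by
  obtain ⟨u, -, -, h1⟩ := r7.inv V h
  rw [← mul_one X, ← h1, ← mul_assoc, e, mul_assoc, h1, mul_one]

theorem ind_cj (hv : v ∈ Hs D Ψ₁) (w : D.W) : ind D Ψ₀ Ψ₁ y (v * w * (D.Fw v)⁻¹) = ind D Ψ₀ Ψ₁ y w := by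
  refine congrArg (_ * ·) (Eq.trans (finsum_congr fun x => congrArg y ?_)
    (finsum_comp_equiv (f := fun x : Hs D Ψ₁ => y (x * w * (D.Fw x)⁻¹)) (Equiv.mulRight (⟨v, hv⟩ : Hs D Ψ₁))))
  show _ = x * v * w * (D.Fw (x * v))⁻¹
  rw [map_mul]
  group

theorem ind_ne (h : ind D Ψ₀ Ψ₁ y w ≠ 0) : ∃ v ∈ Hs D Ψ₁, y (v * w * (D.Fw v)⁻¹) ≠ 0 := by
  by_contra e
  exact h (mul_eq_zero_of_right _ (finsum_eq_zero_of_forall_eq_zero fun v => not_not.1 fun e' => e ⟨v, v.2, e'⟩))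

theorem fin_const {W : Type} [Group W] [Finite W] (H : Subgroup W) {g : W → ℂ} {c : ℂ} (h : ∀ v ∈ H, g v = c) :
    ∑ᶠ v ∈ (H : Set W), g v = Nat.card H * c := by
  have := Fintype.ofFinite H
  refine (finsum_set_coe_eq_finsum_mem (H : Set W)).symm.trans ((finsum_eq_sum_of_fintype fun v : H => g v).trans ?_)
  rw [Finset.sum_congr rfl fun (v : H) _ => h v v.2, Finset.sum_const, Finset.card_univ, nsmul_eq_mul, Nat.card_eq_fintype_card]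

namespace Fm

variable (H : Fm D j B P Ψ₀ Ψ₁ w₀ μ X₁)
include H

theorem ov_up (h : V ∈ Wc E7) : ∃ v, Ov P Ψ₁ v V := by
  obtain ⟨_, h1, h2⟩ := H.tr.ww_up (r7.ww.ge h)
  obtain ⟨v, rfl⟩ := mem_WW.1 (WW_mono H.sub h1)
  exact ⟨v, (mem_Hs H.sub).2 h1, h, h2⟩

theorem ov_dn (h : v ∈ Hs D Ψ₁) : ∃ V, Ov P Ψ₁ v V :=
  let ⟨V, h1, h2⟩ := H.tr.ww_dn ((mem_Hs H.sub).1 h)
  ⟨V, h, r7.ww.le h1, h2⟩

theorem ov_eq (h : Ov P Ψ₁ v V) (h' : Ov P Ψ₁ v' V) : v = v' :=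
  D.Wm_injective (H.tr.eq_of r7 ((mem_Hs H.sub).1 h.m) ((mem_Hs H.sub).1 h'.m) (h.e.trans h'.e.symm))

theorem sub0 : Ψ₀ ⊆ rts D := H.s6.trans H.sub

theorem hs0 (h : v ∈ Hs D Ψ₀) : v ∈ Hs D Ψ₁ := (mem_Hs H.sub).2 (WW_mono H.s6 ((mem_Hs H.sub0).1 h))

theorem ov6 (h : Ov P Ψ₁ v V) : v ∈ Hs D Ψ₀ ↔ V ∈ WW P6 := by
  refine ⟨fun e => ?_, fun e => ?_⟩
  · obtain ⟨U, h1, h2⟩ := H.t6.ww_dn ((mem_Hs H.sub0).1 e)
    rwa [H.tr.cancel (h.e.symm.trans h2)]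
  · obtain ⟨u, h1, h2⟩ := H.t6.ww_up e
    rwa [mem_Hs H.sub0, H.tr.eq_of r7 ((mem_Hs H.sub).1 h.m) (WW_mono H.s6 h1) (h.e.trans h2.symm)]

theorem rl_w (h : Rl P Ψ₁ w₀ X₁ w X) : X ∈ Wc E7 :=
  let ⟨_, _, h1, _, h2⟩ := h
  h2 ▸ mul_mem h1.w (sub6 H.x1)

theorem rl_e (h : Rl P Ψ₁ w₀ X₁ w X) : D.Wm w * B * P = P * ((μ : ℤ) • X) := by
  obtain ⟨v, V, h1, rfl, rfl⟩ := h
  rw [D.Wm_mul, mul_assoc, Matrix.mul_assoc, H.eq, ← Matrix.mul_assoc, h1.e, Matrix.mul_assoc, mul_smul_comm]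

theorem up_eq (h : Rl P Ψ₁ w₀ X₁ w X) : up P Ψ₁ w₀ X₁ X = w := by
  obtain ⟨v, V, h1, h2, h3⟩ := Classical.epsilon_spec (p := fun w => Rl P Ψ₁ w₀ X₁ w X) ⟨w, h⟩
  obtain ⟨v', V', h4, rfl, rfl⟩ := h
  obtain rfl := canc (sub6 H.x1) h3
  exact h2.trans (H.ov_eq h1 h4 ▸ rfl)

theorem rl_up (h : X ∈ Wc E7) : Rl P Ψ₁ w₀ X₁ (up P Ψ₁ w₀ X₁ X) X := by
  obtain ⟨u, h1, h2, -⟩ := r7.inv _ (sub6 H.x1)
  obtain ⟨v, h3⟩ := H.ov_up (mul_mem h h1)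
  exact Classical.epsilon_spec (p := fun w => Rl P Ψ₁ w₀ X₁ w X) ⟨_, v, _, h3, rfl, by rw [mul_assoc, h2, mul_one]⟩

theorem rl_dn (h : v ∈ Hs D Ψ₁) : ∃ X, Rl P Ψ₁ w₀ X₁ (v * w₀) X :=
  let ⟨V, h1⟩ := H.ov_dn h
  ⟨_, v, V, h1, rfl, rfl⟩

theorem rl_cj (h : Rl P Ψ₁ w₀ X₁ w X) (h' : Ov P Ψ₁ v V) : ∃ X', Rl P Ψ₁ w₀ X₁ (v * w * (D.Fw v)⁻¹) X' ∧ V * X = X' * V := by
  obtain ⟨X', h1⟩ : ∃ X', Rl P Ψ₁ w₀ X₁ (v * w * (D.Fw v)⁻¹) X' := by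
    obtain ⟨x, U, h1, rfl, -⟩ := h
    refine (congrArg (fun w => ∃ X', Rl P Ψ₁ w₀ X₁ w X') ?_).mp
      (H.rl_dn (mul_mem (mul_mem h'.m h1.m) (inv_mem (hs_tw H.st H.sub H.nm h'.m))))
    group
  refine ⟨X', h1, smul_right_injective _ μ.ne_zero (H.tr.cancel ?_)⟩
  have h2 := congrArg (· * P) (H.st.tc_iff.1 (tc_self' v w))
  simp only [Matrix.mul_assoc (_ * B), Matrix.mul_assoc (D.Wm v), h'.e, H.rl_e h] at h2
  simp only [← Matrix.mul_assoc, H.rl_e h1, h'.e] at h2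
  simpa only [Matrix.mul_assoc, Matrix.mul_smul, Matrix.smul_mul] using h2.symm

theorem rl6 (h : Rl P Ψ₁ w₀ X₁ w X) : (∃ x ∈ Hs D Ψ₀, w = x * w₀) ↔ X ∈ WW P6 := by
  obtain ⟨v, V, h1, rfl, rfl⟩ := h
  refine ⟨fun ⟨x, h2, h3⟩ => mul_mem ((H.ov6 h1).1 (mul_right_cancel h3 ▸ h2)) H.x1, fun e => ⟨v, (H.ov6 h1).2 ?_, rfl⟩⟩
  obtain ⟨u, h2, -, h3⟩ := WW_inv (fun a (ha : a ∈ P6) => r7.two a ha.1) H.x1
  simpa only [mul_assoc, h3, mul_one] using mul_mem e h2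

variable [Fintype D.W]

theorem cs_eq {Φ : RS (Fin 7)} {Ψ : RS D.R} (T : Tr P Φ Ψ) (e : Φ ⊆ Rc E7) (e' : Ψ ⊆ Ψ₁) (h : Rl P Ψ₁ w₀ X₁ w X) (g : D.W → ℂ) :
    cs (fs D Ψ) g w = Cs Φ (fun X => g (up P Ψ₁ w₀ X₁ X)) X := by
  have k : ∀ t ∈ fs D Ψ, ∃ a ∈ Φ, Ov P Ψ₁ t (rfm a) ∧ TrL.dn P (D.Wm t) = rfm a := fun t ht => by
    obtain ⟨b, hb, h1⟩ := mem_fs.1 ht
    obtain ⟨a, ha, h2, h3⟩ := T.dn b hb
    have h4 := h1 ▸ TrL.rfm_mul h2 h3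
    exact ⟨a, ha, ⟨Subgroup.subset_closure ⟨b, e' hb, h1⟩, RsP.r_mem Rk47.c7 (e ha), h4⟩, T.dn_eq h4⟩
  rw [cs_apply, ← finsum_mem_coe_finset]
  refine finsum_mem_eq_of_bijOn (fun t => TrL.dn P (D.Wm t)) ⟨fun t ht => ?_, fun t ht t' ht' h1 => ?_, ?_⟩ fun t ht => ?_
  · obtain ⟨a, ha, -, h1⟩ := k t ht
    exact ⟨a, ha, h1.symm⟩
  · obtain ⟨a, -, h2, h3⟩ := k t ht
    obtain ⟨a', -, h4, h5⟩ := k t' ht'
    exact H.ov_eq h2 ((h5.symm.trans (h1.symm.trans h3)) ▸ h4)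
  · rintro _ ⟨a, ha, rfl⟩
    obtain ⟨b, hb, h2, h3⟩ := T.up a ha
    obtain ⟨t, h4⟩ := mem_WW.1 (rfm_mem (H.sub (e' hb)))
    exact ⟨t, mem_fs.2 ⟨b, hb, h4⟩, T.dn_eq (h4 ▸ TrL.rfm_mul h2 h3)⟩
  · obtain ⟨a, -, h2, h3⟩ := k t ht
    simp only [h3, H.up_eq (h.left h2)]

theorem cs_sup (h : ∀ w, g w ≠ 0 → ∃ x ∈ Hs D Ψ₁, w = x * w₀) (w : D.W) (e : cs (fs D Ψ₁) g w ≠ 0) : ∃ x ∈ Hs D Ψ₁, w = x * w₀ := by
  obtain ⟨t, h1, h2⟩ := Finset.exists_ne_zero_of_sum_ne_zero (cs_apply _ g w ▸ e)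
  obtain ⟨x, h3, h4⟩ := h _ h2
  exact ⟨_, mul_mem (inv_mem (Subgroup.subset_closure (mem_fs.1 h1))) h3, by rw [mul_assoc, ← h4, inv_mul_cancel_left]⟩

variable (hy : Hd D B Ψ₀ w₀ μ y)
include hy

theorem n_eig (h : Rl P Ψ₁ w₀ X₁ w X) (e : y w ≠ 0) : ¬ Eig P6 X 1 := fun ⟨z, h1, h2⟩ =>
  (hy.sup w e).2 (H.t6.eig_up (H.rl_e h) ⟨z, by
    rw [IsE, show ((μ : ℤ) • X).map (Int.cast : ℤ → ℂ) = ((μ : ℤ) : ℂ) • X.map (Int.cast : ℤ → ℂ) from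
      Matrix.ext fun _ _ => Int.cast_mul _ _, smul_mulVec, h1, one_smul], h2⟩)

theorem sup (w : D.W) (h : ind D Ψ₀ Ψ₁ y w ≠ 0) : ∃ x ∈ Hs D Ψ₁, w = x * w₀ := by
  obtain ⟨v, h1, h2⟩ := ind_ne h
  obtain ⟨x, h3, h4⟩ := (hy.sup _ h2).1
  refine ⟨_, mul_mem (mul_mem (inv_mem h1) (H.hs0 h3)) (hs_tw H.st H.sub H.nm h1), ?_⟩
  rw [mul_assoc, inv_mul_cancel_right, mul_assoc, ← mul_assoc x, ← h4]
  group

theorem top (x : D.W) (hx : x ∈ Hs D Ψ₀) : ind D Ψ₀ Ψ₁ y (x * w₀) = 2 * y (x * w₀) := by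
  obtain ⟨U, h1⟩ := H.rl_dn (H.hs0 hx)
  have h2 := (H.rl6 h1).1 ⟨x, hx, rfl⟩
  generalize x * w₀ = w at h1
  obtain ⟨z, h3⟩ := H.ov_up (smul_wc (-1) (one_mem _))
  rw [Units.val_neg, Units.val_one, neg_one_smul] at h3
  obtain ⟨U', h4, h5⟩ := H.rl_cj h1 h3
  obtain rfl : U = U' := neg_injective (by simpa using h5)
  have h6 : z⁻¹ * w * D.Fw z = w := by
    conv_lhs => rw [(H.up_eq h1).symm.trans (H.up_eq h4)]
    group
  rw [ind, show ∑ᶠ v : Hs D Ψ₁, y (v * w * (D.Fw v)⁻¹) = _ from finsum_set_coe_eq_finsum_mem (f := fun v => y (v * w * (D.Fw v)⁻¹)) (Hs D Ψ₁ : Set D.W),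
    finsum_mem_inter_support_eq' _ _ ((Hs D Ψ₀ : Set D.W) ∪ (· * z⁻¹) '' (Hs D Ψ₀ : Set D.W)) fun v h7 => ⟨fun h8 => ?_, ?_⟩,
    finsum_mem_union ?_ (Set.toFinite _) (Set.toFinite _), finsum_mem_image (mul_left_injective _).injOn,
    fin_const _ fun v hv => hy.cj v hv w, fin_const (c := y w) _ fun v hv => ?_, ← two_mul, mul_left_comm,
    inv_mul_cancel_left₀ (Nat.cast_ne_zero.2 Nat.card_pos.ne')]
  · rw [← hy.cj v hv w, map_mul, map_inv]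
    conv_rhs => rw [← h6]
    congr 1
    group
  · refine Set.disjoint_left.2 ?_
    rintro _ h7 ⟨v, h8, rfl⟩
    exact neg6 ((H.ov6 h3).1 (inv_mem_iff.1 ((mul_mem_cancel_left h8).1 h7)))
  · obtain ⟨V, h9⟩ := H.ov_dn h8
    obtain ⟨X', k1, k2⟩ := H.rl_cj h1 h9
    obtain ⟨ε, k3⟩ := line' h9.w h2 k2 (H.n_eig hy k1 h7)
    rcases Int.units_eq_one_or ε with rfl | rfl
    · exact .inl ((H.ov6 h9).2 (by simpa using k3))
    · exact .inr ⟨v * z, (H.ov6 (h9.mul h3)).2 (by simpa using k3), mul_inv_cancel_right _ _⟩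
  · rintro (h8 | ⟨v, h8, rfl⟩)
    · exact H.hs0 h8
    · exact mul_mem (H.hs0 h8) (inv_mem h3.m)

theorem h7 : H7 fun X => ind D Ψ₀ Ψ₁ y (up P Ψ₁ w₀ X₁ X) := by
  refine ⟨fun u hu A hA => ?_, fun A hA e => ?_, fun u hu e => ?_⟩
  · obtain ⟨v, h1⟩ := H.ov_up hu
    obtain ⟨X', h2, h3⟩ := H.rl_cj (H.rl_up (mul_mem hA hu)) h1
    rw [canc hu ((mul_assoc _ _ _).trans h3), H.up_eq h2, ind_cj h1.m]
  · obtain ⟨v, h1, h2⟩ := ind_ne e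
    obtain ⟨V, h3⟩ := H.ov_dn h1
    obtain ⟨X', h4, h5⟩ := H.rl_cj (H.rl_up hA) h3
    exact ⟨V, h3.w, X', (H.rl6 h4).1 (hy.sup _ h2).1, H.n_eig hy h4 h2, h5⟩
  · have h1 := H.rl_up (sub6 hu)
    obtain ⟨x, h2, h3⟩ := (H.rl6 h1).2 hu
    obtain ⟨κ, h4⟩ := hy.eig
    have h5 := congrFun h4 (x * w₀)
    rw [cs_apply, Pi.smul_apply, not_not.1 fun e' => H.n_eig hy (h3 ▸ h1) e' e, smul_zero] at h5
    rw [← H.cs_eq H.t6 (fun _ h => h.1) H.s6 h1, h3, cs_apply, Finset.sum_congr rfl fun t ht => by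
      rw [← mul_assoc, H.top hy _ (mul_mem (Subgroup.subset_closure (mem_fs.1 ht)) h2), mul_assoc t], ← Finset.mul_sum, h5, mul_zero]

theorem ce (hP : BoxP7) (hO : BoxO7) : Ce D Ψ₀ Ψ₁ w₀ y := by
  have k := hP _ (H.h7 hy)
  have c1 := fun {w X} (h : Rl P Ψ₁ w₀ X₁ w X) => H.cs_eq H.tr subset_rfl subset_rfl h
  have k1 : ∀ w, ind D Ψ₀ Ψ₁ y w ≠ 0 → sg D w = ((X₁.det : ℤ) : ℂ)⁻¹ * sg D w₀ := fun w e => by
    obtain ⟨x, h1, rfl⟩ := H.sup hy w e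
    obtain ⟨V, h2⟩ := H.ov_dn h1
    have h3 : Rl P Ψ₁ w₀ X₁ _ _ := ⟨x, V, h2, rfl, rfl⟩
    have h4 := (k _ (H.rl_w h3)).2.1 (by rwa [H.up_eq h3])
    rw [sg_mul, sg, det_w H.tr ((mem_Hs H.sub).1 h1) h2.e, eq_inv_of_mul_eq_one_left
      (show ((V.det : ℤ) : ℂ) * (X₁.det : ℤ) = 1 by rw [← Int.cast_mul, ← det_mul, h4, Int.cast_one])]
  refine ⟨H.sup hy, funext fun w => ?_, ⟨_, k1⟩, H.top hy, fun x hx => ?_, fun e => ?_⟩
  · by_cases e : ∃ x ∈ Hs D Ψ₁, w = x * w₀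
    · obtain ⟨x, h1, rfl⟩ := e
      obtain ⟨X, h2⟩ := H.rl_dn h1
      rw [c1 h2, Pi.smul_apply, ← H.up_eq h2, smul_eq_mul, ← (k X (H.rl_w h2)).1]
      refine finsum_mem_congr rfl ?_
      rintro _ ⟨a, ha, rfl⟩
      exact c1 (H.rl_up (mul_mem (RsP.r_mem Rk47.c7 ha) (H.rl_w h2))) _
    · rw [Pi.smul_apply, not_not.1 (mt (H.sup hy w) e), not_not.1 (mt (H.cs_sup (H.cs_sup (H.sup hy)) w) e), smul_zero]
  · obtain ⟨X, h2⟩ := H.rl_dn (H.hs0 hx)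
    rw [c1 h2, (k X (H.rl_w h2)).2.2 (det6 ((H.rl6 h2).1 ⟨x, hx, rfl⟩))]
  have q1 : 1 < (p : ℤ) ^ j := one_lt_pow₀ (Nat.one_lt_cast.2 (Fact.out : p.Prime).one_lt) H.st.pos.ne'
  have r0 : Rl P Ψ₁ w₀ X₁ w₀ X₁ := ⟨1, 1, ⟨one_mem _, one_mem _, by rw [D.Wm_one, Matrix.one_mul, Matrix.mul_one]⟩,
    (one_mul _).symm, (one_mul _).symm⟩
  obtain ⟨n, n0, hn⟩ := H.st.fin
  have hB := (Et.form n0 hn).2
  have k2 : ∀ w, ((((p : ℤ) ^ j • (D.Wm w * B) - 1).det : ℤ) : ℂ) = (B.det : ℤ) * sg D w * ordT D w := fun w => by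
    have h1 := Et.cp_lev (zero_lt_one.trans q1) H.st.mx hB w
    rw [Polynomial.eval_mul, Polynomial.eval_C, Cas.Eig.cp_eval] at h1
    rw [mul_assoc, sg_eq, ← Int.cast_natCast (ordT D w), ← Int.cast_mul, ← h1, ← Int.cast_mul, ← mul_assoc, hB, one_mul]
  have k3 : ∀ w, ((B.det : ℤ) : ℂ) * sg D w * ((B.det : ℤ) * sg D w) = 1 := fun w => by
    rw [mul_mul_mul_comm, ← Int.cast_mul, hB, sg_mul_self, Int.cast_one, one_mul]
  refine hO _ (H.h7 hy) ⟨X₁, sub6 H.x1, ?_⟩ ((p : ℤ) ^ j * μ) (by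
    rwa [abs_mul, Int.isUnit_iff_abs_eq.1 μ.isUnit, mul_one, abs_of_pos (zero_lt_one.trans q1)]) ?_
  · have h1 := H.top hy 1 (one_mem _)
    rw [one_mul] at h1
    simpa only [H.up_eq r0, h1] using mul_ne_zero two_ne_zero hy.ne
  rw [← mul_zero (sg D w₀ * ordT D w₀ * ((((p : ℤ) ^ j • (μ : ℤ) • X₁ - 1).det : ℤ) : ℂ)⁻¹ * -(((X₁.det : ℤ) : ℂ)⁻¹ * sg D w₀)), ← e,
    Finset.mul_sum, ← finsum_eq_sum_of_fintype, ← finsum_mem_univ (α := D.W),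
    finsum_mem_inter_support_eq' _ Set.univ {w | ∃ x ∈ Hs D Ψ₁, w = x * w₀}
      fun w hw => iff_of_true trivial (H.cs_sup (H.sup hy) w (left_ne_zero_of_mul (right_ne_zero_of_mul hw)))]
  refine finsum_mem_eq_of_bijOn (up P Ψ₁ w₀ X₁) ⟨fun X hX => ?_, fun X hX X' hX' h1 => ?_, ?_⟩ fun X hX => ?_
  · obtain ⟨v, V, h1, h2, -⟩ := H.rl_up hX
    exact ⟨v, h1.m, h2⟩
  · exact smul_right_injective _ μ.ne_zero (H.tr.cancel ((H.rl_e (H.rl_up hX)).symm.trans (h1 ▸ H.rl_e (H.rl_up hX'))))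
  · rintro _ ⟨x, hx, rfl⟩
    obtain ⟨X, h1⟩ := H.rl_dn hx
    exact ⟨X, H.rl_w h1, H.up_eq h1⟩
  have h1 := H.rl_up hX
  rw [← c1 h1]
  generalize up P Ψ₁ w₀ X₁ X = w at h1
  by_cases h2 : cs (fs D Ψ₁) (ind D Ψ₀ Ψ₁ y) w = 0
  · rw [h2, zero_mul, zero_mul, mul_zero]
  obtain ⟨t, h3, h4⟩ := Finset.exists_ne_zero_of_sum_ne_zero (cs_apply _ _ w ▸ h2)
  have h5 := k1 _ h4
  rw [sg_mul, sg_eq, sg_rs H.sub (mem_fs.1 h3), Int.cast_neg, Int.cast_one, neg_one_mul] at h5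
  obtain ⟨v, V, h6, rfl, rfl⟩ := h1
  have h7 := congrArg (Int.cast : ℤ → ℂ) (det_tr H.tr ((mem_Hs H.sub).1 h6.m) h6.e (A' := (p : ℤ) ^ j • (D.Wm w₀ * B))
    (A := (p : ℤ) ^ j • (μ : ℤ) • X₁) (by rw [Matrix.smul_mul, H.eq, Matrix.mul_smul P ((p : ℤ) ^ j)]))
  rw [mul_smul_comm, ← mul_assoc, ← D.Wm_mul, Int.cast_mul, Int.cast_mul, k2, k2, mul_smul_comm, mul_smul_comm, smul_smul _ _ (V * X₁)] at h7
  have h8 : ∀ w, (ordT D w : ℂ) ≠ 0 := fun w => Nat.cast_ne_zero.2 (ordT_ne w)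
  rw [← h5, neg_neg, (inv_mul_eq_iff_eq_mul₀ (mul_ne_zero (left_ne_zero_of_mul_eq_one (k3 w₀)) (h8 w₀))).2 h7 |>.symm, mul_inv, inv_inv,
    mul_inv, mul_inv, inv_eq_of_mul_eq_one_right (k3 _)]
  have h9 : ((B.det : ℤ) : ℂ) * (B.det : ℤ) = 1 := by rw [← Int.cast_mul, hB, Int.cast_one]
  linear_combination (cs (fs D Ψ₁) (ind D Ψ₀ Ψ₁ y) (v * w₀) * sg D w₀ * ordT D w₀ * sg D (v * w₀) * (ordT D (v * w₀) : ℂ)⁻¹ *
    ((((p : ℤ) ^ j • (μ : ℤ) • X₁ - 1).det : ℤ) : ℂ)⁻¹) * h9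

end Fm

/-- **[T]** -/
theorem boxT_of (hP : BoxP7) (hO : BoxO7) (D : Datum p ρ F G) : BoxT D := by
  intro _ j B P Ψ₀ Ψ₁ w₀ μ y h1 h2 T h3 h4 h5 hy
  have up6 : ∀ a ∈ P6, ∃ b ∈ Ψ₀, P *ᵥ a.2 = b.2 ∧ b.1 ᵥ* P = a.1 := fun a ha =>
    let ⟨b, k1, k2, k3⟩ := T.up a ha.1
    ⟨b, (h3 b).2 ⟨k1, a, ha.1, ha.2, k2⟩, k2, k3⟩
  have dn6 : ∀ b ∈ Ψ₀, ∃ a ∈ P6, P *ᵥ a.2 = b.2 ∧ b.1 ᵥ* P = a.1 := fun b hb =>
    let ⟨k1, _, _, k2, k3⟩ := (h3 b).1 hb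
    let ⟨a, k4, k5, k6⟩ := T.dn b k1
    ⟨a, ⟨k4, T.inj' (k3.trans k5.symm) ▸ k2⟩, k5, k6⟩
  have s6 : Ψ₀ ⊆ Ψ₁ := fun b hb => ((h3 b).1 hb).1
  have T6 : Tr P P6 Ψ₀ := ⟨T.inj, up6, dn6, fun b hb b' hb' => T.ext b (s6 hb) b' (s6 hb'), fun b hb b' hb' => by
    obtain ⟨c, k1, k2, k3⟩ := T.nm b (s6 hb) b' (s6 hb')
    obtain ⟨a, k4, k5, k6⟩ := dn6 b hb
    obtain ⟨a', k7, k8, -⟩ := dn6 b' hb'
    obtain ⟨a'', k9, k10, -⟩ := T.dn c k1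
    refine ⟨c, (h3 c).2 ⟨k1, a'', k9, ?_, k10⟩, k2, k3⟩
    rw [T.inj' (k10.trans (by rw [← k2, ← k8, mulVec_mulVec, TrL.rfm_mul k5 k6, ← mulVec_mulVec])), TrL.rfm_vec', Pi.sub_apply,
      Pi.smul_apply, k7.2, k4.2, smul_zero, sub_zero]⟩
  obtain ⟨X₀, k1⟩ := Gl.exists_B r7 T h4
  obtain ⟨b, k2, k3, k4⟩ := T.up _ (RsP.mem (C := E7) 5)
  obtain ⟨z, k5, k6, k7⟩ := h5 b k2 fun e => by
    obtain ⟨a, k5, k6, -⟩ := dn6 b e
    have k7 := k5.2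
    rw [T.inj' (k6.trans k3.symm)] at k7
    exact absurd k7 (by decide)
  obtain ⟨z', k8, k9⟩ := eig_dn T r7 k1 h4 k5
  exact Fm.ce ⟨h1, h2, T, T6, s6, h4, six_of (wc_of_nm (T.nm_dn k1 h4)) k8 (fun a ha => by
    obtain ⟨c, c1, -, c2⟩ := up6 a ha
    rw [← c2, k9 c (s6 c1), k6 c c1]) (fun e => k7 (by rw [← k9 b k2, e, ev, dotProduct_zero])),
    by rw [smul_smul, Int.units_coe_mul_self, one_smul, k1]⟩ hy hP hO

end Cfsg.Agent.BZ.RT.Co2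

private theorem dce_47d50c95d345 : _root_.True := by
  try have : _root_.True := by simp only [_root_.Cfsg.Agent.BZ.RT.Co2.ind.eq_1]
  try have : _root_.True := by simp only [_root_.Cfsg.Agent.BZ.RT.Co2.ind.congr_simp]
  exact _root_.True.intro
end

-- part: BZ/RT/Co3/Defs
section
set_option linter.all false

/-!
# BZ / RT (S4853) : the terminal case for the prime three, statements (helper94)

* `BoxP6`, `BoxO6` : class functions on `W(E₆)` which live over the elliptic classes of `W(D₄)`;  `BoxN4` : fusion;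
* `T6` : the terminal labels;  `BoxT6` : the certificate inside the Weyl group of a datum;  `BoxTm6` : the aim.
-/

set_option autoImplicit false
set_option linter.unusedSectionVars false

namespace Cfsg.Agent.BZ.RT.Co3

open Cfsg Matrix Cfsg.Agent.DL Cfsg.Agent.DL.PP Cfsg.Agent.KZ.Lie Cfsg.Agent.HZ.Gen Cfsg.Agent.HZ.L Cfsg.Agent.OM
  Cfsg.Agent.OM.Cu Cfsg.Agent.BZ.RT.At Cfsg.Agent.DL.Uni Cfsg.Agent.BZ.TA Cfsg.Agent.BZ.TA.Cl
open Cfsg.Agent.HZ.L.X (Zc)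
open Cfsg.Agent.BZ.RT.Co2 (Cs ind Hd)

/-- the path `0 - 1 - 2 - 3 - 4`, the node `5` is attached to the node `2` -/
def E6 : Mat (Fin 6) := cm 6 (cT 2 6)

/-- the standard `D₄` -/
def P4 : RS (Fin 6) := {a | a ∈ Rc E6 ∧ a.2 0 = 0 ∧ a.2 4 = 0}

/-- class functions over the elliptic classes of `W(D₄)` -/
structure H6 (f : Mat (Fin 6) → ℂ) : Prop where
  cj : ∀ u ∈ Wc E6, ∀ A ∈ Wc E6, f (u * A) = f (A * u)
  sup : ∀ A ∈ Wc E6, f A ≠ 0 → ∃ v ∈ Wc E6, ∃ u ∈ WW P4, ¬ Eig P4 u 1 ∧ v * A = u * v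
  rel : ∀ u ∈ WW P4, Eig P4 u 1 → Cs P4 f u = 0

/-- [P6] (table) the eigenvalues are `0`, `± 12`, the support is even, the values on `W(D₄)` -/
def BoxP6 : Prop := ∀ f, H6 f →
  (∀ A ∈ Wc E6, Cs (Rc E6) (Cs (Rc E6) (Cs (Rc E6) f)) A = 144 * Cs (Rc E6) f A ∧ (f A ≠ 0 → A.det = 1)) ∧
    ∀ u ∈ WW P4, Cs (Rc E6) f u = 0 ∧ Cs (Rc E6) (Cs (Rc E6) f) u = 48 * f u

/-- [O6] (table) the odd and the even part have non zero sums -/
def BoxO6 : Prop := ∀ f, H6 f → (∃ A ∈ Wc E6, f A ≠ 0) → ∀ x : ℤ, 1 < |x| →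
  ∑ᶠ A ∈ (Wc E6 : Set (Mat (Fin 6))), Cs (Rc E6) f A * (((x • A - 1).det : ℤ) : ℂ)⁻¹ ≠ 0 ∧
    ∑ᶠ A ∈ (Wc E6 : Set (Mat (Fin 6))), Cs (Rc E6) (Cs (Rc E6) f) A * (((x • A - 1).det : ℤ) : ℂ)⁻¹ ≠ 0

/-- [N4] (table) elliptic elements of `W(D₄)` which are conjugate in `W(E₆)` are conjugate in `W(D₄)` -/
def BoxN4 : Prop := ∀ V ∈ Wc E6, ∀ X ∈ WW P4, ∀ U ∈ WW P4, V * X = U * V → ¬ Eig P4 U 1 → ∃ a ∈ WW P4, a * X = U * a

/-- **the terminal labels for the prime three** -/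
def T6 {R : Type} [Fintype R] [DecidableEq R] (Ψ : RS R) (A : Mat R) (ΨL : RS R) (c : Lb R) : Prop :=
  ∃ (P : Matrix R (Fin 6) ℤ) (Ψ₁ Ψ₂ : RS R) (ε : ℤˣ) (h : Mat (Fin 6)), Tr P (Rc E6) Ψ₁ ∧ Dec (Zc Ψ c) Ψ₁ Ψ₂ A ∧
    (∀ b, b ∈ Zc ΨL c ↔ b ∈ Ψ₁ ∧ ∃ a ∈ P4, P *ᵥ a.2 = b.2) ∧ h ∈ WW P4 ∧ A * P = P * ((ε : ℤ) • h) ∧ (rfm '' Ψ₂).ncard < 6

/-- [Lt] the last clause of `T6` in a simply laced system of rank at most eight -/
def BoxLt : Prop := ∀ {R : Type} [Fintype R] [DecidableEq R] (Ψ Ψ₁ Ψ₂ : RS R) (P : Matrix R (Fin 6) ℤ), Z2.Bs 8 Ψ →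
  (∀ a ∈ Ψ, ∀ b ∈ Ψ, a.1 ⬝ᵥ b.2 = b.1 ⬝ᵥ a.2) → Tr P (Rc E6) Ψ₁ → Ψ₁ ⊆ Ψ → Ψ₂ ⊆ Ψ → (∀ a ∈ Ψ₁, ∀ b ∈ Ψ₂, a.1 ⬝ᵥ b.2 = 0) →
  (rfm '' Ψ₂).ncard < 6

variable {p : ℕ} [Fact p.Prime] {k : Type} [Field k] [CharP k p] [IsAlgClosed k] {Y : Type} [Group Y] {N : Type}
  [Fintype N] [DecidableEq N] {ρ : Y →* GL N k} {F : MulAut Y} {G : Subgroup Y} (D : Datum p ρ F G)

/-- **the certificate** -/
structure Ce6 [Fintype D.W] (Ψ₀ Ψ₁ : RS D.R) (w₀ : D.W) (y : D.W → ℂ) : Prop where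
  sup : ∀ w, ind D Ψ₀ Ψ₁ y w ≠ 0 → ∃ x ∈ Hs D Ψ₁, w = x * w₀
  cub : cs (fs D Ψ₁) (cs (fs D Ψ₁) (cs (fs D Ψ₁) (ind D Ψ₀ Ψ₁ y))) = (144 : ℂ) • cs (fs D Ψ₁) (ind D Ψ₀ Ψ₁ y)
  par : ∃ ε : ℂ, ∀ w, ind D Ψ₀ Ψ₁ y w ≠ 0 → sg D w = ε
  top : ∀ x ∈ Hs D Ψ₀, ind D Ψ₀ Ψ₁ y (x * w₀) = 6 * y (x * w₀)
  zero : ∀ x ∈ Hs D Ψ₀, cs (fs D Ψ₁) (ind D Ψ₀ Ψ₁ y) (x * w₀) = 0
  two : ∀ x ∈ Hs D Ψ₀, cs (fs D Ψ₁) (cs (fs D Ψ₁) (ind D Ψ₀ Ψ₁ y)) (x * w₀) = 288 * y (x * w₀)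
  odd : ∑ w, cs (fs D Ψ₁) (ind D Ψ₀ Ψ₁ y) w * (ordT D w : ℂ)⁻¹ ≠ 0
  evn : ∑ w, cs (fs D Ψ₁) (cs (fs D Ψ₁) (ind D Ψ₀ Ψ₁ y)) w * (ordT D w : ℂ)⁻¹ ≠ 0

/-- [T6] the certificate holds -/
def BoxT6 : Prop := ∀ [Fintype D.W] (j : ℕ) (B : Mat D.R) (P : Matrix D.R (Fin 6) ℤ) (Ψ₀ Ψ₁ : RS D.R) (w₀ : D.W) (μ ε : ℤˣ)
  (h : Mat (Fin 6)) (y : D.W → ℂ), St D j B → Ψ₁ ⊆ rts D → Tr P (Rc E6) Ψ₁ → (∀ b, b ∈ Ψ₀ ↔ b ∈ Ψ₁ ∧ ∃ a ∈ P4, P *ᵥ a.2 = b.2) →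
  Nm (D.Wm w₀ * B) Ψ₁ → h ∈ WW P4 → D.Wm w₀ * B * P = P * ((ε : ℤ) • h) →
  (∀ a ∈ Ψ₁, a ∉ Ψ₀ → ∃ z, IsE (D.Wm w₀ * B) ((μ : ℤ) : ℂ) z ∧ (∀ b ∈ Ψ₀, ev b.1 z = 0) ∧ ev a.1 z ≠ 0) →
  Hd D B Ψ₀ w₀ μ y → Ce6 D Ψ₀ Ψ₁ w₀ y

/-- **the aim** -/
def BoxTm6 : Prop := ∀ j B, Lie.Cq D j B 3 → Tm D j B 3 (T6 (rts D))

end Cfsg.Agent.BZ.RT.Co3
end

-- part: BZ/RT/Co3/T
section
prune_inst 0x200003c045240020000188014a22040100c0000b01040880060a2034403484060e9c2a8410820050a12280c010001000002000000c04000000e8440000000010010000400c1c90019800018010208000002200080000000000000000000000004010000000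
set_option linter.all false
open scoped Cfsg.Agent.FastGrp

-- part: BZ/RT/Co3/S
section
/-!
# BZ / RT (S4853) : the terminal case for the prime three, the normaliser of `W(D₄)` in `W(E₆)` (helper94)
-/

set_option autoImplicit false
set_option linter.unusedSectionVars false

namespace Cfsg.Agent.BZ.RT.Co3

open Cfsg Matrix Cfsg.Agent.DL Cfsg.Agent.HZ.L Cfsg.Agent.OM Cfsg.Agent.OM.Cu Cfsg.Agent.BZ.RT.Z2 Cfsg.Agent.BZ.TA

variable {X U V a : Mat (Fin 6)} {v : Vec (Fin 6)} {i : Fin 6}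

theorem c6 : Car E6 fun _ => 1 := by
  rw [show (fun _ => 1 : Fin 6 → ℤ) = ![1, 1, 1, 1, 1, 1] by decide +kernel]
  exact Eng.carE6

theorem r6 : Cu.Rs E6 fun _ => 1 := boxRs _ _ c6

/-- three times the fundamental weight of the node `0` -/
def u0 : Vec (Fin 6) := ![4, 5, 6, 4, 2, 3]

/-- three times the fundamental weight of the node `4` -/
def u4 : Vec (Fin 6) := ![2, 4, 6, 5, 4, 3]

/-- the plane -/
def pv (x : ℤ × ℤ) : Vec (Fin 6) := x.1 • u0 + x.2 • u4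

/-- the images of the regular vector -/
def lv : Fin 6 → ℤ × ℤ := ![(2, 1), (-1, -2), (3, -1), (-3, 2), (1, -3), (-2, 3)]

/-- the words -/
def wl : Fin 6 → List (Fin 6) := ![[], [0, 1, 2, 3, 4, 3, 2, 1, 0, 5, 2, 1, 0, 3, 2, 1, 4, 3, 5, 2, 1, 0, 3, 4], [4, 3, 2, 1, 5, 2, 3, 4],
  [0, 1, 2, 3, 4, 5, 2, 1, 0, 3, 2, 1, 5, 2, 3, 4], [4, 3, 2, 1, 0, 5, 2, 1, 3, 2, 4, 3, 5, 2, 1, 0], [0, 1, 2, 3, 5, 2, 1, 0]]

/-- the representatives -/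
def nn (i : Fin 6) : Mat (Fin 6) := ((wl i).map fun j => rfm (sp E6 j)).prod

theorem nn_mem (i : Fin 6) : nn i ∈ Wc E6 := Submonoid.list_prod_mem _ fun x hx => by
  obtain ⟨j, -, rfl⟩ := List.mem_map.1 hx
  exact RsP.s_mem j

theorem nn_vec (i : Fin 6) (v : Vec (Fin 6)) : nn i *ᵥ v = (wl i).foldr (fun j v => rfm (sp E6 j) *ᵥ v) v := by
  rw [nn]
  induction wl i with
  | nil => exact one_mulVec v
  | cons j L ih => rw [List.map_cons, List.prod_cons, ← mulVec_mulVec, ih, List.foldr_cons]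

theorem nn_lam : ∀ i, nn i *ᵥ pv (2, 1) = pv (lv i) ∧ ∃ j, nn i *ᵥ pv (lv j) = pv (2, 1) := by
  simp only [nn_vec]
  decide +kernel

theorem pv_mul (x : ℤ × ℤ) : pv x ᵥ* E6 = x.1 • Pi.single 0 3 + x.2 • Pi.single 4 3 := by
  rw [pv, add_vecMul, smul_vecMul, smul_vecMul, show u0 ᵥ* E6 = Pi.single 0 3 by decide +kernel,
    show u4 ᵥ* E6 = Pi.single 4 3 by decide +kernel]

theorem perp4 (x : ℤ × ℤ) : Perp P4 (pv x) := fun b hb => by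
  obtain ⟨m, hm, e⟩ := r6.len b hb.1
  refine (mul_eq_zero.1 ((e _).symm.trans ?_)).resolve_left hm.ne'
  simp only [fm, pv_mul, Fin.sum_univ_six, hb.2.1, hb.2.2, _root_.mul_one, _root_.Fin.isValue, _root_.zsmul_eq_mul, _root_.Pi.add_apply, _root_.Pi.mul_apply, _root_.Pi.intCast_apply, _root_.Int.cast_eq, _root_.Pi.single_eq_same, _root_.ne_eq, _root_.Fin.reduceEq, _root_.not_false_eq_true, _root_.Pi.single_eq_of_ne, _root_.MulZeroClass.mul_zero, _root_.add_zero, _root_.MulZeroClass.zero_mul, _root_.one_ne_zero, _root_.zero_add]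

theorem dom4 : Dom E6 (pv (2, 1)) := by
  unfold Dom
  decide +kernel

theorem lev4 : _root_.Cfsg.Agent.HZ.L.lev (Rc E6) (pv (2, 1)) = P4 := Set.ext fun b => ⟨fun hb =>
  have h := (ParT.zero_iff c6 dom4 hb.1).1 hb.2
  ⟨hb.1, h 0 (by decide +kernel), h 4 (by decide +kernel)⟩, fun hb => ⟨hb.1, perp4 _ b hb⟩⟩

theorem stab4 (h : X ∈ Wc E6) (e : X *ᵥ pv (2, 1) = pv (2, 1)) : X ∈ WW P4 := lev4 ▸ ParT.stab c6 dom4 h e

theorem fix4 (h : X ∈ WW P4) (x : ℤ × ℤ) : X *ᵥ pv x = pv x := (perp4 x).fix h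

theorem cong3 (h : V ∈ Wc E6) : ∀ z, ∃ z', V *ᵥ (pv (2, 1) + (3 : ℤ) • z) = pv (2, 1) + (3 : ℤ) • z' := by
  refine RsP.ind (p := fun V => ∀ z, ∃ z', V *ᵥ (pv (2, 1) + (3 : ℤ) • z) = pv (2, 1) + (3 : ℤ) • z') (fun z => ⟨z, one_mulVec _⟩)
    (fun i z => ?_) (fun u w _ _ h1 h2 z => ?_) h
  · obtain ⟨t, ht⟩ : (3 : ℤ) ∣ (sp E6 i).1 ⬝ᵥ pv (2, 1) := by
      revert i
      decide +kernel
    refine ⟨z - (t + (sp E6 i).1 ⬝ᵥ z) • (sp E6 i).2, ?_⟩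
    rw [RsP.rfm_mulVec, dotProduct_add, ht, dotProduct_smul, smul_eq_mul]
    module
  · obtain ⟨z', h3⟩ := h2 z
    obtain ⟨z'', h4⟩ := h1 z'
    exact ⟨z'', by rw [← mulVec_mulVec, h3, h4]⟩

theorem six (h : V ∈ Wc E6) (e : Perp P4 (V *ᵥ pv (2, 1))) : ∃ i, V *ᵥ pv (2, 1) = pv (lv i) := by
  have h1 := r6.iso V h (pv (2, 1)) (pv (2, 1))
  obtain ⟨z, h2⟩ := cong3 h 0
  rw [smul_zero, add_zero] at h2
  have h3 : V *ᵥ pv (2, 1) = pv (2 + (z ᵥ* E6) 0, 1 + (z ᵥ* E6) 4) := sub_eq_zero.1 (RsP.top₀ c6 (funext fun i => by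
    have h4 : i ≠ 0 → i ≠ 4 → ((V *ᵥ pv (2, 1)) ᵥ* E6) i = 0 := fun a b => (RsP.sp_dot i _).symm.trans
      (e _ ⟨RsP.mem i, Pi.single_eq_of_ne a.symm _, Pi.single_eq_of_ne b.symm _⟩)
    rw [sub_vecMul, Pi.sub_apply]
    by_cases a : i = 0
    · subst a
      rw [h2, add_vecMul, smul_vecMul]
      simp only [pv_mul, _root_.Fin.isValue, _root_.zsmul_eq_mul, _root_.Int.cast_ofNat, _root_.one_smul, _root_.Pi.add_apply, _root_.Pi.mul_apply, _root_.Pi.ofNat_apply, _root_.Pi.single_eq_same, _root_.Int.reduceMul, _root_.ne_eq, _root_.Fin.reduceEq, _root_.not_false_eq_true, _root_.Pi.single_eq_of_ne, _root_.add_zero, _root_.Int.cast_add, _root_.Int.cast_one, _root_.Pi.intCast_apply, _root_.Int.cast_eq, _root_.Pi.one_apply, _root_.MulZeroClass.mul_zero, _root_.Pi.zero_apply]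
      ring
    by_cases b : i = 4
    · subst b
      rw [h2, add_vecMul, smul_vecMul]
      simp only [pv_mul, _root_.Fin.isValue, _root_.zsmul_eq_mul, _root_.Int.cast_ofNat, _root_.one_smul, _root_.Pi.add_apply, _root_.Pi.mul_apply, _root_.Pi.ofNat_apply, _root_.ne_eq, _root_.Fin.reduceEq, _root_.not_false_eq_true, _root_.Pi.single_eq_of_ne, _root_.MulZeroClass.mul_zero, _root_.Pi.single_eq_same, _root_.zero_add, _root_.Int.cast_add, _root_.Int.cast_one, _root_.Pi.intCast_apply, _root_.Int.cast_eq, _root_.Pi.one_apply, _root_.Pi.zero_apply]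
      ring
    · simp [h4 a b, pv_mul, a, b]))
  have h4 := congrFun (h2.symm.trans h3) 0
  rw [h3] at h1 ⊢
  generalize 2 + (z ᵥ* E6) 0 = s, 1 + (z ᵥ* E6) 4 = t at h1 h4 ⊢
  simp only [fm, pv_mul, Fin.sum_univ_six] at h1
  simp only [pv, u0, u4, _root_.Matrix.smul_cons, _root_.Int.zsmul_eq_mul, _root_.Matrix.smul_empty, _root_.Fin.isValue, _root_.Pi.add_apply, _root_.Matrix.cons_val_zero, _root_.mul_one, _root_.zsmul_eq_mul, _root_.Pi.mul_apply, _root_.Pi.intCast_apply, _root_.Int.cast_eq, _root_.Pi.single_eq_same, _root_.ne_eq, _root_.Fin.reduceEq, _root_.not_false_eq_true, _root_.Pi.single_eq_of_ne, _root_.MulZeroClass.mul_zero, _root_.add_zero, _root_.Matrix.cons_val_one, _root_.one_ne_zero, _root_.Matrix.cons_val, _root_.zero_add, _root_.Int.reduceMul, _root_.one_smul, _root_.Int.reduceAdd, _root_.Int.cast_ofNat, _root_.Pi.ofNat_apply, _root_.Matrix.add_cons,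 _root_.Matrix.head_cons, _root_.Matrix.tail_cons, _root_.Matrix.empty_add_empty] at h1 h4
  have h5 : s * s + s * t + t * t = 7 := by linarith
  have h6 : -3 ≤ s ∧ s ≤ 3 ∧ -3 ≤ t ∧ t ≤ 3 := ⟨by nlinarith only [h1, sq_nonneg (s + 2 * t)], by nlinarith only [h1, sq_nonneg (s + 2 * t)],
    by nlinarith only [h1, sq_nonneg (t + 2 * s)], by nlinarith only [h1, sq_nonneg (t + 2 * s)]⟩
  have key : ∀ s ∈ Finset.Icc (-3 : ℤ) 3, ∀ t ∈ Finset.Icc (-3 : ℤ) 3, s * s + s * t + t * t = 7 → 3 ∣ s - t - 1 → ∃ i, (s, t) = lv i := by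
    decide +kernel
  exact (key s (Finset.mem_Icc.2 ⟨h6.1, h6.2.1⟩) t (Finset.mem_Icc.2 h6.2.2) h5 (by omega)).imp fun i hi => congrArg pv hi

/-- the elements which keep an elliptic element in `W(D₄)` -/
theorem line4 (h : V ∈ Wc E6) (hX : X ∈ WW P4) (e : V * X = U * V) (hn : ¬ Eig P4 U 1) : ∃ i, ∃ a ∈ WW P4, V = nn i * a := by
  obtain ⟨i, h1⟩ := six h fun b hb => by
    by_contra h1
    refine hn ⟨fun i => ((V *ᵥ pv (2, 1)) i : ℂ), funext fun i => ?_, b, hb, fun h2 => h1 (Int.cast_injective (α := ℂ) ?_)⟩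
    · rw [one_smul]
      refine (RingHom.map_mulVec (Int.castRingHom ℂ) U _ i).symm.trans ?_
      rw [mulVec_mulVec, ← e, ← mulVec_mulVec, fix4 hX]
      rfl
    · rw [Int.cast_zero, ← h2]
      simp only [ev, dotProduct, _root_.Int.cast_sum, _root_.Int.cast_mul]
  obtain ⟨m, h2, h3, h4⟩ := r6.inv _ (nn_mem i)
  exact ⟨i, m * V, stab4 (mul_mem h2 h) (by rw [← mulVec_mulVec, h1, ← (nn_lam i).1, mulVec_mulVec, h3, one_mulVec]),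
    by rw [← mul_assoc, h4, one_mul]⟩

theorem norm4 (ha : a ∈ WW P4) (hX : X ∈ WW P4) (hU : U ∈ Wc E6) (e : nn i * a * X = U * (nn i * a)) : U ∈ WW P4 := by
  obtain ⟨j, h1⟩ := (nn_lam i).2
  have h2 := congrArg (· *ᵥ pv (lv j)) e
  simp only [← mulVec_mulVec, fix4 ha, fix4 hX, h1] at h2
  exact stab4 hU h2.symm

theorem inj4 {j : Fin 6} {a' : Mat (Fin 6)} (ha : a ∈ WW P4) (ha' : a' ∈ WW P4) (e : nn i * a = nn j * a') : i = j := by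
  have h2 := congrArg (· *ᵥ pv (2, 1)) e
  simp only [← mulVec_mulVec, fix4 ha, fix4 ha', (nn_lam _).1] at h2
  exact (show ∀ i j, pv (lv i) = pv (lv j) → i = j by decide +kernel) i j h2

theorem eps_eq {μ ε : ℤˣ} {y : Fin 6 → ℂ} (h : X ∈ WW P4) (h1 : IsE ((ε : ℤ) • X) ((μ : ℤ) : ℂ) y) (h2 : ∀ b ∈ P4, ev b.1 y = 0)
    (h0 : y ≠ 0) : ε = μ := by
  have h3 : X.map (Int.cast : ℤ → ℂ) *ᵥ y = y := funext fun i => by
    have h3 := (ev_mul _ X y).trans (TrL.ev_ww h2 h (Pi.single i 1))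
    simpa [ev, Pi.single_apply, dotProduct] using h3
  rw [IsE, show ((ε : ℤ) • X).map (Int.cast : ℤ → ℂ) = ((ε : ℤ) : ℂ) • X.map (Int.cast : ℤ → ℂ) from
    Matrix.ext fun _ _ => Int.cast_mul _ _, smul_mulVec, h3] at h1
  exact Units.ext (Int.cast_injective (smul_left_injective ℂ h0 h1))

end Cfsg.Agent.BZ.RT.Co3
end

-- part: BZ/RT/Co3/T
section
/-!
# BZ / RT (S4853) : the terminal case for the prime three, transport (helper94)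

`boxT6_of`; the dictionary is that of `Co2/T`.
-/

set_option autoImplicit false
set_option linter.unusedSectionVars false
set_option maxHeartbeats 400000

namespace Cfsg.Agent.BZ.RT.Co3

open Cfsg Matrix Cfsg.Agent.DL Cfsg.Agent.DL.PP Cfsg.Agent.KZ.Lie Cfsg.Agent.HZ.Gen Cfsg.Agent.HZ.L Cfsg.Agent.OM
  Cfsg.Agent.OM.Cu Cfsg.Agent.BZ.RT.At Cfsg.Agent.DL.Uni
open Cfsg.Agent.LV.Lab (tc_self')
open Cfsg.Agent.BZ.RT.Co2 (Cs ind Hd ind_cj ind_ne det_w det_tr eig_dn)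

variable {p : ℕ} [Fact p.Prime] {k : Type} [Field k] [CharP k p] [IsAlgClosed k] {Y : Type} [Group Y] {N : Type}
  [Fintype N] [DecidableEq N] {ρ : Y →* GL N k} {F : MulAut Y} {G : Subgroup Y} {D : Datum p ρ F G}
  {j : ℕ} {B : Mat D.R} {P : Matrix D.R (Fin 6) ℤ} {Ψ₀ Ψ₁ : RS D.R} {w₀ v v' w w' : D.W} {μ : ℤˣ} {y g : D.W → ℂ}
  {X₁ X X' V V' : Mat (Fin 6)}

variable (D) in
/-- the frame -/
structure Fm (j : ℕ) (B : Mat D.R) (P : Matrix D.R (Fin 6) ℤ) (Ψ₀ Ψ₁ : RS D.R) (w₀ : D.W) (μ : ℤˣ) (X₁ : Mat (Fin 6)) : Prop where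
  st : St D j B
  sub : Ψ₁ ⊆ rts D
  tr : _root_.Cfsg.Agent.OM.Cu.Tr P (Rc E6) Ψ₁
  t6 : _root_.Cfsg.Agent.OM.Cu.Tr P P4 Ψ₀
  s6 : Ψ₀ ⊆ Ψ₁
  nm : Nm (D.Wm w₀ * B) Ψ₁
  x1 : X₁ ∈ WW P4
  eq : D.Wm w₀ * B * P = P * ((μ : ℤ) • X₁)

/-- `v` lies over `V` -/
structure Ov (P : Matrix D.R (Fin 6) ℤ) (Ψ₁ : RS D.R) (v : D.W) (V : Mat (Fin 6)) : Prop where
  m : v ∈ Hs D Ψ₁
  w : V ∈ Wc E6
  e : D.Wm v * P = P * V

/-- the element `w` of the coset lies over `X` -/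
def Rl (P : Matrix D.R (Fin 6) ℤ) (Ψ₁ : RS D.R) (w₀ : D.W) (X₁ : Mat (Fin 6)) (w : D.W) (X : Mat (Fin 6)) : Prop :=
  ∃ v V, Ov P Ψ₁ v V ∧ w = v * w₀ ∧ X = V * X₁

/-- the element over `X` -/
noncomputable def up (P : Matrix D.R (Fin 6) ℤ) (Ψ₁ : RS D.R) (w₀ : D.W) (X₁ X : Mat (Fin 6)) : D.W :=
  Classical.epsilon fun w => Rl P Ψ₁ w₀ X₁ w X

theorem Ov.mul (h : Ov P Ψ₁ v V) (h' : Ov P Ψ₁ v' V') : Ov P Ψ₁ (v * v') (V * V') :=
  ⟨mul_mem h.m h'.m, mul_mem h.w h'.w, by rw [D.Wm_mul, Matrix.mul_assoc, h'.e, ← Matrix.mul_assoc, h.e, Matrix.mul_assoc]⟩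

theorem Rl.left (h : Rl P Ψ₁ w₀ X₁ w X) (h' : Ov P Ψ₁ v V) : Rl P Ψ₁ w₀ X₁ (v * w) (V * X) := by
  obtain ⟨x, U, h1, rfl, rfl⟩ := h
  exact ⟨_, _, h'.mul h1, (mul_assoc _ _ _).symm, (mul_assoc _ _ _).symm⟩

theorem canc (h : V ∈ Wc E6) (e : X * V = X' * V) : X = X' := by
  obtain ⟨u, -, -, h1⟩ := r6.inv V h
  rw [← mul_one X, ← h1, ← mul_assoc, e, mul_assoc, h1, mul_one]

theorem sub6 (h : X ∈ WW P4) : X ∈ Wc E6 := r6.ww ▸ WW_mono (fun _ ha => ha.1) h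

namespace Fm

variable (H : Fm D j B P Ψ₀ Ψ₁ w₀ μ X₁)
include H

theorem ov_up (h : V ∈ Wc E6) : ∃ v, Ov P Ψ₁ v V := by
  obtain ⟨_, h1, h2⟩ := H.tr.ww_up (r6.ww.ge h)
  obtain ⟨v, rfl⟩ := mem_WW.1 (WW_mono H.sub h1)
  exact ⟨v, (mem_Hs H.sub).2 h1, h, h2⟩

theorem ov_dn (h : v ∈ Hs D Ψ₁) : ∃ V, Ov P Ψ₁ v V :=
  let ⟨V, h1, h2⟩ := H.tr.ww_dn ((mem_Hs H.sub).1 h)
  ⟨V, h, r6.ww.le h1, h2⟩

theorem ov_eq (h : Ov P Ψ₁ v V) (h' : Ov P Ψ₁ v' V) : v = v' :=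
  D.Wm_injective (H.tr.eq_of r6 ((mem_Hs H.sub).1 h.m) ((mem_Hs H.sub).1 h'.m) (h.e.trans h'.e.symm))

theorem sub0 : Ψ₀ ⊆ rts D := H.s6.trans H.sub

theorem hs0 (h : v ∈ Hs D Ψ₀) : v ∈ Hs D Ψ₁ := (mem_Hs H.sub).2 (WW_mono H.s6 ((mem_Hs H.sub0).1 h))

theorem ov6 (h : Ov P Ψ₁ v V) : v ∈ Hs D Ψ₀ ↔ V ∈ WW P4 := by
  refine ⟨fun e => ?_, fun e => ?_⟩
  · obtain ⟨U, h1, h2⟩ := H.t6.ww_dn ((mem_Hs H.sub0).1 e)
    rwa [H.tr.cancel (h.e.symm.trans h2)]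
  · obtain ⟨u, h1, h2⟩ := H.t6.ww_up e
    rwa [mem_Hs H.sub0, H.tr.eq_of r6 ((mem_Hs H.sub).1 h.m) (WW_mono H.s6 h1) (h.e.trans h2.symm)]

theorem rl_w (h : Rl P Ψ₁ w₀ X₁ w X) : X ∈ Wc E6 :=
  let ⟨_, _, h1, _, h2⟩ := h
  h2 ▸ mul_mem h1.w (sub6 H.x1)

theorem rl_e (h : Rl P Ψ₁ w₀ X₁ w X) : D.Wm w * B * P = P * ((μ : ℤ) • X) := by
  obtain ⟨v, V, h1, rfl, rfl⟩ := h
  rw [D.Wm_mul, mul_assoc, Matrix.mul_assoc, H.eq, ← Matrix.mul_assoc, h1.e, Matrix.mul_assoc, mul_smul_comm]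

theorem up_eq (h : Rl P Ψ₁ w₀ X₁ w X) : up P Ψ₁ w₀ X₁ X = w := by
  obtain ⟨v, V, h1, h2, h3⟩ := Classical.epsilon_spec (p := fun w => Rl P Ψ₁ w₀ X₁ w X) ⟨w, h⟩
  obtain ⟨v', V', h4, rfl, rfl⟩ := h
  obtain rfl := canc (sub6 H.x1) h3
  exact h2.trans (H.ov_eq h1 h4 ▸ rfl)

theorem rl_up (h : X ∈ Wc E6) : Rl P Ψ₁ w₀ X₁ (up P Ψ₁ w₀ X₁ X) X := by
  obtain ⟨u, h1, h2, -⟩ := r6.inv _ (sub6 H.x1)
  obtain ⟨v, h3⟩ := H.ov_up (mul_mem h h1)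
  exact Classical.epsilon_spec (p := fun w => Rl P Ψ₁ w₀ X₁ w X) ⟨_, v, _, h3, rfl, by rw [mul_assoc, h2, mul_one]⟩

theorem rl_dn (h : v ∈ Hs D Ψ₁) : ∃ X, Rl P Ψ₁ w₀ X₁ (v * w₀) X :=
  let ⟨V, h1⟩ := H.ov_dn h
  ⟨_, v, V, h1, rfl, rfl⟩

theorem rl_cj (h : Rl P Ψ₁ w₀ X₁ w X) (h' : Ov P Ψ₁ v V) : ∃ X', Rl P Ψ₁ w₀ X₁ (v * w * (D.Fw v)⁻¹) X' ∧ V * X = X' * V := by
  obtain ⟨X', h1⟩ : ∃ X', Rl P Ψ₁ w₀ X₁ (v * w * (D.Fw v)⁻¹) X' := by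
    obtain ⟨x, U, h1, rfl, -⟩ := h
    refine (congrArg (fun w => ∃ X', Rl P Ψ₁ w₀ X₁ w X') ?_).mp
      (H.rl_dn (mul_mem (mul_mem h'.m h1.m) (inv_mem (hs_tw H.st H.sub H.nm h'.m))))
    group
  refine ⟨X', h1, smul_right_injective _ μ.ne_zero (H.tr.cancel ?_)⟩
  have h2 := congrArg (· * P) (H.st.tc_iff.1 (tc_self' v w))
  simp only [Matrix.mul_assoc (_ * B), Matrix.mul_assoc (D.Wm v), h'.e, H.rl_e h] at h2
  simp only [← Matrix.mul_assoc, H.rl_e h1, h'.e] at h2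
  simpa only [Matrix.mul_assoc, Matrix.mul_smul, Matrix.smul_mul] using h2.symm

theorem rl6 (h : Rl P Ψ₁ w₀ X₁ w X) : (∃ x ∈ Hs D Ψ₀, w = x * w₀) ↔ X ∈ WW P4 := by
  obtain ⟨v, V, h1, rfl, rfl⟩ := h
  refine ⟨fun ⟨x, h2, h3⟩ => mul_mem ((H.ov6 h1).1 (mul_right_cancel h3 ▸ h2)) H.x1, fun e => ⟨v, (H.ov6 h1).2 ?_, rfl⟩⟩
  obtain ⟨u, h2, -, h3⟩ := WW_inv (fun a (ha : a ∈ P4) => r6.two a ha.1) H.x1
  simpa only [mul_assoc, h3, mul_one] using mul_mem e h2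

variable [Fintype D.W]

theorem cs_eq {Φ : RS (Fin 6)} {Ψ : RS D.R} (T : _root_.Cfsg.Agent.OM.Cu.Tr P Φ Ψ) (e : Φ ⊆ Rc E6) (e' : Ψ ⊆ Ψ₁) (h : Rl P Ψ₁ w₀ X₁ w X) (g : D.W → ℂ) :
    cs (fs D Ψ) g w = Cs Φ (fun X => g (up P Ψ₁ w₀ X₁ X)) X := by
  have k : ∀ t ∈ fs D Ψ, ∃ a ∈ Φ, Ov P Ψ₁ t (rfm a) ∧ TrL.dn P (D.Wm t) = rfm a := fun t ht => by
    obtain ⟨b, hb, h1⟩ := mem_fs.1 ht
    obtain ⟨a, ha, h2, h3⟩ := T.dn b hb
    have h4 := h1 ▸ TrL.rfm_mul h2 h3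
    exact ⟨a, ha, ⟨Subgroup.subset_closure ⟨b, e' hb, h1⟩, RsP.r_mem c6 (e ha), h4⟩, T.dn_eq h4⟩
  rw [cs_apply, ← finsum_mem_coe_finset]
  refine finsum_mem_eq_of_bijOn (fun t => TrL.dn P (D.Wm t)) ⟨fun t ht => ?_, fun t ht t' ht' h1 => ?_, ?_⟩ fun t ht => ?_
  · obtain ⟨a, ha, -, h1⟩ := k t ht
    exact ⟨a, ha, h1.symm⟩
  · obtain ⟨a, -, h2, h3⟩ := k t ht
    obtain ⟨a', -, h4, h5⟩ := k t' ht'
    exact H.ov_eq h2 ((h5.symm.trans (h1.symm.trans h3)) ▸ h4)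
  · rintro _ ⟨a, ha, rfl⟩
    obtain ⟨b, hb, h2, h3⟩ := T.up a ha
    obtain ⟨t, h4⟩ := mem_WW.1 (rfm_mem (H.sub (e' hb)))
    exact ⟨t, mem_fs.2 ⟨b, hb, h4⟩, T.dn_eq (h4 ▸ TrL.rfm_mul h2 h3)⟩
  · obtain ⟨a, -, h2, h3⟩ := k t ht
    simp only [h3, H.up_eq (h.left h2)]

theorem cs_sup (h : ∀ w, g w ≠ 0 → ∃ x ∈ Hs D Ψ₁, w = x * w₀) (w : D.W) (e : cs (fs D Ψ₁) g w ≠ 0) : ∃ x ∈ Hs D Ψ₁, w = x * w₀ := by
  obtain ⟨t, h1, h2⟩ := Finset.exists_ne_zero_of_sum_ne_zero (cs_apply _ g w ▸ e)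
  obtain ⟨x, h3, h4⟩ := h _ h2
  exact ⟨_, mul_mem (inv_mem (Subgroup.subset_closure (mem_fs.1 h1))) h3, by rw [mul_assoc, ← h4, inv_mul_cancel_left]⟩

variable (hy : Hd D B Ψ₀ w₀ μ y)
include hy

theorem n_eig (h : Rl P Ψ₁ w₀ X₁ w X) (e : y w ≠ 0) : ¬ Eig P4 X 1 := fun ⟨z, h1, h2⟩ =>
  (hy.sup w e).2 (H.t6.eig_up (H.rl_e h) ⟨z, by
    rw [IsE, show ((μ : ℤ) • X).map (Int.cast : ℤ → ℂ) = ((μ : ℤ) : ℂ) • X.map (Int.cast : ℤ → ℂ) from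
      Matrix.ext fun _ _ => Int.cast_mul _ _, smul_mulVec, h1, one_smul], h2⟩)

theorem sup (w : D.W) (h : _root_.Cfsg.Agent.BZ.RT.Co2.ind D Ψ₀ Ψ₁ y w ≠ 0) : ∃ x ∈ Hs D Ψ₁, w = x * w₀ := by
  obtain ⟨v, h1, h2⟩ := ind_ne h
  obtain ⟨x, h3, h4⟩ := (hy.sup _ h2).1
  refine ⟨_, mul_mem (mul_mem (inv_mem h1) (H.hs0 h3)) (hs_tw H.st H.sub H.nm h1), ?_⟩
  rw [mul_assoc, inv_mul_cancel_right, mul_assoc, ← mul_assoc x, ← h4]
  group

theorem y_eq (hN : BoxN4) (h : Rl P Ψ₁ w₀ X₁ w X) (h' : Rl P Ψ₁ w₀ X₁ w' X') (hX : X ∈ WW P4) (hV : V ∈ Wc E6) (e : V * X = X' * V)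
    (h0 : y w' ≠ 0) : y w' = y w := by
  obtain ⟨A, k1, k2⟩ := hN V hV X hX X' ((H.rl6 h').1 (hy.sup _ h0).1) e (H.n_eig hy h' h0)
  obtain ⟨a, k3⟩ := H.ov_up (sub6 k1)
  obtain ⟨X'', k4, k5⟩ := H.rl_cj h k3
  obtain rfl := canc k3.w (k5.symm.trans k2)
  rw [← H.up_eq h', H.up_eq k4, hy.cj a ((H.ov6 k3).2 k1)]

theorem top (hN : BoxN4) (x : D.W) (hx : x ∈ Hs D Ψ₀) : _root_.Cfsg.Agent.BZ.RT.Co2.ind D Ψ₀ Ψ₁ y (x * w₀) = 6 * y (x * w₀) := by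
  obtain ⟨U, h1⟩ := H.rl_dn (H.hs0 hx)
  have h2 := (H.rl6 h1).1 ⟨x, hx, rfl⟩
  generalize x * w₀ = w at h1
  by_cases h0 : y w = 0
  · rw [h0, mul_zero]
    by_contra h3
    obtain ⟨v, h4, h5⟩ := ind_ne h3
    obtain ⟨V, h6⟩ := H.ov_dn h4
    obtain ⟨X', h7, h8⟩ := H.rl_cj h1 h6
    exact h5 ((H.y_eq hy hN h1 h7 h2 h6.w h8 h5).trans h0)
  choose z hz using fun i => H.ov_up (nn_mem i)
  have := Fintype.ofFinite (Hs D Ψ₀)
  have := Fintype.ofFinite (Hs D Ψ₁)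
  rw [Co2.ind, finsum_eq_sum_of_fintype, ← Fintype.sum_of_injective
    (fun a : Fin 6 × Hs D Ψ₀ => (⟨z a.1 * a.2, mul_mem (hz _).m (H.hs0 a.2.2)⟩ : Hs D Ψ₁)) ?_ (fun _ => y w) _ (fun v hv => ?_) ?_,
    Finset.sum_const, Finset.card_univ, Fintype.card_prod, Fintype.card_fin, ← Nat.card_eq_fintype_card, nsmul_eq_mul, Nat.cast_mul,
    mul_comm _ (Nat.card _ : ℂ), mul_assoc, inv_mul_cancel_left₀ (Nat.cast_ne_zero.2 Nat.card_pos.ne'), Nat.cast_ofNat]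
  · rintro ⟨i, a⟩ ⟨i', a'⟩ e
    have e1 : z i * a = z i' * a' := congrArg Subtype.val e
    obtain ⟨A, k1⟩ := H.ov_dn (H.hs0 a.2)
    obtain ⟨A', k2⟩ := H.ov_dn (H.hs0 a'.2)
    obtain rfl := inj4 ((H.ov6 k1).1 a.2) ((H.ov6 k2).1 a'.2) (H.tr.cancel (((hz i).mul k1).e.symm.trans (e1 ▸ ((hz i').mul k2).e)))
    exact Prod.ext rfl (Subtype.ext (mul_left_cancel e1))
  · rintro ⟨i, a⟩
    obtain ⟨A, k1⟩ := H.ov_dn (H.hs0 a.2)
    obtain ⟨X', h7, h8⟩ := H.rl_cj h1 ((hz i).mul k1)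
    obtain ⟨V, k2, k3, k4⟩ := r6.inv _ ((hz i).mul k1).w
    exact H.y_eq hy hN h7 h1 (norm4 ((H.ov6 k1).1 a.2) h2 (H.rl_w h7) h8) k2
      (by rw [← mul_one (V * X'), ← k4, ← mul_assoc, mul_assoc V, ← h8, ← mul_assoc, k3, one_mul]) h0
  · by_contra h5
    obtain ⟨V, h6⟩ := H.ov_dn v.2
    obtain ⟨X', h7, h8⟩ := H.rl_cj h1 h6
    obtain ⟨i, A, k1, rfl⟩ := line4 h6.w h2 h8 (H.n_eig hy h7 h5)
    obtain ⟨a, k2⟩ := H.ov_up (sub6 k1)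
    exact hv ⟨(i, ⟨a, (H.ov6 k2).2 k1⟩), Subtype.ext (H.ov_eq ((hz i).mul k2) h6)⟩

theorem h6 (hN : BoxN4) : H6 fun X => _root_.Cfsg.Agent.BZ.RT.Co2.ind D Ψ₀ Ψ₁ y (up P Ψ₁ w₀ X₁ X) := by
  refine ⟨fun u hu A hA => ?_, fun A hA e => ?_, fun u hu e => ?_⟩
  · obtain ⟨v, h1⟩ := H.ov_up hu
    obtain ⟨X', h2, h3⟩ := H.rl_cj (H.rl_up (mul_mem hA hu)) h1
    rw [canc hu ((mul_assoc _ _ _).trans h3), H.up_eq h2, ind_cj h1.m]
  · obtain ⟨v, h1, h2⟩ := ind_ne e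
    obtain ⟨V, h3⟩ := H.ov_dn h1
    obtain ⟨X', h4, h5⟩ := H.rl_cj (H.rl_up hA) h3
    exact ⟨V, h3.w, X', (H.rl6 h4).1 (hy.sup _ h2).1, H.n_eig hy h4 h2, h5⟩
  · have h1 := H.rl_up (sub6 hu)
    obtain ⟨x, h2, h3⟩ := (H.rl6 h1).2 hu
    obtain ⟨κ, h4⟩ := hy.eig
    have h5 := congrFun h4 (x * w₀)
    rw [cs_apply, Pi.smul_apply, not_not.1 fun e' => H.n_eig hy (h3 ▸ h1) e' e, smul_zero] at h5
    rw [← H.cs_eq H.t6 (fun _ h => h.1) H.s6 h1, h3, cs_apply, Finset.sum_congr rfl fun t ht => by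
      rw [← mul_assoc, H.top hy hN _ (mul_mem (Subgroup.subset_closure (mem_fs.1 ht)) h2), mul_assoc t], ← Finset.mul_sum, h5, mul_zero]

omit hy in
theorem sum_ne (h : ∀ w, g w ≠ 0 → ∃ x ∈ Hs D Ψ₁, w = x * w₀) {ε : ℂ} (h' : ∀ w, g w ≠ 0 → sg D w = ε) {φ : Mat (Fin 6) → ℂ}
    (hφ : ∀ w X, Rl P Ψ₁ w₀ X₁ w X → g w = φ X)
    (h0 : ∑ᶠ A ∈ (Wc E6 : Set (Mat (Fin 6))), φ A * (((((p : ℤ) ^ j * μ) • A - 1).det : ℤ) : ℂ)⁻¹ ≠ 0) :
    ∑ w, g w * (ordT D w : ℂ)⁻¹ ≠ 0 := fun e => h0 (by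
  have q1 : 1 < (p : ℤ) ^ j := one_lt_pow₀ (Nat.one_lt_cast.2 (Fact.out : p.Prime).one_lt) H.st.pos.ne'
  obtain ⟨n, n0, hn⟩ := H.st.fin
  have hB := (Et.form n0 hn).2
  have k2 : ∀ w, ((((p : ℤ) ^ j • (D.Wm w * B) - 1).det : ℤ) : ℂ) = (B.det : ℤ) * sg D w * ordT D w := fun w => by
    have h1 := Et.cp_lev (zero_lt_one.trans q1) H.st.mx hB w
    rw [Polynomial.eval_mul, Polynomial.eval_C, Cas.Eig.cp_eval] at h1
    rw [mul_assoc, sg_eq, ← Int.cast_natCast (ordT D w), ← Int.cast_mul, ← h1, ← Int.cast_mul, ← mul_assoc, hB, one_mul]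
  have k3 : ∀ w, ((B.det : ℤ) : ℂ) * sg D w * ((B.det : ℤ) * sg D w) = 1 := fun w => by
    rw [mul_mul_mul_comm, ← Int.cast_mul, hB, sg_mul_self, Int.cast_one, one_mul]
  rw [← mul_zero (sg D w₀ * ordT D w₀ * ((((p : ℤ) ^ j • (μ : ℤ) • X₁ - 1).det : ℤ) : ℂ)⁻¹ * ε), ← e,
    Finset.mul_sum, ← finsum_eq_sum_of_fintype, ← finsum_mem_univ (α := D.W),
    finsum_mem_inter_support_eq' _ Set.univ {w | ∃ x ∈ Hs D Ψ₁, w = x * w₀}
      fun w hw => iff_of_true trivial (h w (left_ne_zero_of_mul (right_ne_zero_of_mul hw)))]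
  refine finsum_mem_eq_of_bijOn (up P Ψ₁ w₀ X₁) ⟨fun X hX => ?_, fun X hX X' hX' h1 => ?_, ?_⟩ fun X hX => ?_
  · obtain ⟨v, V, h1, h2, -⟩ := H.rl_up hX
    exact ⟨v, h1.m, h2⟩
  · exact smul_right_injective _ μ.ne_zero (H.tr.cancel ((H.rl_e (H.rl_up hX)).symm.trans (h1 ▸ H.rl_e (H.rl_up hX'))))
  · rintro _ ⟨x, hx, rfl⟩
    obtain ⟨X, h1⟩ := H.rl_dn hx
    exact ⟨X, H.rl_w h1, H.up_eq h1⟩
  have h1 := H.rl_up hX
  rw [← hφ _ _ h1]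
  generalize up P Ψ₁ w₀ X₁ X = w at h1
  by_cases h2 : g w = 0
  · rw [h2, zero_mul, zero_mul, mul_zero]
  have h5 := h' _ h2
  obtain ⟨v, V, h6, rfl, rfl⟩ := h1
  have h7 := congrArg (Int.cast : ℤ → ℂ) (det_tr H.tr ((mem_Hs H.sub).1 h6.m) h6.e (A' := (p : ℤ) ^ j • (D.Wm w₀ * B))
    (A := (p : ℤ) ^ j • (μ : ℤ) • X₁) (by rw [Matrix.smul_mul, H.eq, Matrix.mul_smul P ((p : ℤ) ^ j)]))
  rw [mul_smul_comm, ← mul_assoc, ← D.Wm_mul, Int.cast_mul, Int.cast_mul, k2, k2, mul_smul_comm, mul_smul_comm, smul_smul _ _ (V * X₁)] at h7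
  have h8 : ∀ w, (ordT D w : ℂ) ≠ 0 := fun w => Nat.cast_ne_zero.2 (ordT_ne w)
  rw [← h5, (inv_mul_eq_iff_eq_mul₀ (mul_ne_zero (left_ne_zero_of_mul_eq_one (k3 w₀)) (h8 w₀))).2 h7 |>.symm, mul_inv, inv_inv,
    mul_inv, mul_inv, inv_eq_of_mul_eq_one_right (k3 _)]
  have h9 : ((B.det : ℤ) : ℂ) * (B.det : ℤ) = 1 := by rw [← Int.cast_mul, hB, Int.cast_one]
  linear_combination (g (v * w₀) * sg D w₀ * ordT D w₀ * sg D (v * w₀) * (ordT D (v * w₀) : ℂ)⁻¹ *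
    ((((p : ℤ) ^ j • (μ : ℤ) • X₁ - 1).det : ℤ) : ℂ)⁻¹) * h9)

omit hy in
theorem cs_par {ε : ℂ} (h : ∀ w, g w ≠ 0 → sg D w = ε) (w : D.W) (e : cs (fs D Ψ₁) g w ≠ 0) : sg D w = -ε := by
  obtain ⟨t, h3, h4⟩ := Finset.exists_ne_zero_of_sum_ne_zero (cs_apply _ _ w ▸ e)
  rw [← h _ h4, sg_mul, sg_eq D t, sg_rs H.sub (mem_fs.1 h3), Int.cast_neg, Int.cast_one, neg_one_mul, neg_neg]

omit hy in
theorem cs_rl {φ : Mat (Fin 6) → ℂ} (hφ : ∀ w X, Rl P Ψ₁ w₀ X₁ w X → g w = φ X) (w : D.W) (X : Mat (Fin 6))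
    (h : Rl P Ψ₁ w₀ X₁ w X) : cs (fs D Ψ₁) g w = Cs (Rc E6) φ X := by
  rw [H.cs_eq H.tr subset_rfl subset_rfl h]
  refine finsum_mem_congr rfl ?_
  rintro _ ⟨a, ha, rfl⟩
  exact hφ _ _ (H.rl_up (mul_mem (RsP.r_mem c6 ha) (H.rl_w h)))

theorem ce (hP : BoxP6) (hO : BoxO6) (hN : BoxN4) : Ce6 D Ψ₀ Ψ₁ w₀ y := by
  obtain ⟨k, k'⟩ := hP _ (H.h6 hy hN)
  have c0 : ∀ w X, Rl P Ψ₁ w₀ X₁ w X → _root_.Cfsg.Agent.BZ.RT.Co2.ind D Ψ₀ Ψ₁ y w = _root_.Cfsg.Agent.BZ.RT.Co2.ind D Ψ₀ Ψ₁ y (up P Ψ₁ w₀ X₁ X) := fun w X h => by rw [H.up_eq h]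
  have c1 := H.cs_rl c0
  have c2 := H.cs_rl c1
  have s0 := H.sup hy
  have k1 : ∀ w, _root_.Cfsg.Agent.BZ.RT.Co2.ind D Ψ₀ Ψ₁ y w ≠ 0 → sg D w = ((X₁.det : ℤ) : ℂ)⁻¹ * sg D w₀ := fun w e => by
    obtain ⟨x, h1, rfl⟩ := s0 w e
    obtain ⟨V, h2⟩ := H.ov_dn h1
    have h3 : Rl P Ψ₁ w₀ X₁ _ _ := ⟨x, V, h2, rfl, rfl⟩
    have h4 := (k _ (H.rl_w h3)).2 (by rwa [H.up_eq h3])
    rw [sg_mul, sg, det_w H.tr ((mem_Hs H.sub).1 h1) h2.e, eq_inv_of_mul_eq_one_left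
      (show ((V.det : ℤ) : ℂ) * (X₁.det : ℤ) = 1 by rw [← Int.cast_mul, ← det_mul, h4, Int.cast_one])]
  have q1 : 1 < (p : ℤ) ^ j := one_lt_pow₀ (Nat.one_lt_cast.2 (Fact.out : p.Prime).one_lt) H.st.pos.ne'
  have r0 : Rl P Ψ₁ w₀ X₁ w₀ X₁ := ⟨1, 1, ⟨one_mem _, one_mem _, by rw [D.Wm_one, Matrix.one_mul, Matrix.mul_one]⟩,
    (one_mul _).symm, (one_mul _).symm⟩
  obtain ⟨o1, o2⟩ := hO _ (H.h6 hy hN) ⟨X₁, sub6 H.x1, by
    have h1 := H.top hy hN 1 (one_mem _)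
    rw [one_mul] at h1
    simpa only [H.up_eq r0, h1] using mul_ne_zero (show (6 : ℂ) ≠ 0 by norm_num) hy.ne⟩ ((p : ℤ) ^ j * μ) (by
    rwa [abs_mul, Int.isUnit_iff_abs_eq.1 μ.isUnit, mul_one, abs_of_pos (zero_lt_one.trans q1)])
  refine ⟨s0, funext fun w => ?_, ⟨_, k1⟩, H.top hy hN, fun x hx => ?_, fun x hx => ?_, H.sum_ne (H.cs_sup s0) (H.cs_par k1) c1 o1,
    H.sum_ne (H.cs_sup (H.cs_sup s0)) (H.cs_par (H.cs_par k1)) c2 o2⟩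
  · by_cases e : ∃ x ∈ Hs D Ψ₁, w = x * w₀
    · obtain ⟨x, h1, rfl⟩ := e
      obtain ⟨X, h2⟩ := H.rl_dn h1
      rw [H.cs_rl c2 _ _ h2, Pi.smul_apply, c1 _ _ h2, smul_eq_mul, (k X (H.rl_w h2)).1]
    · rw [Pi.smul_apply, not_not.1 (mt (H.cs_sup s0 w) e), not_not.1 (mt (H.cs_sup (H.cs_sup (H.cs_sup s0)) w) e), smul_zero]
  · obtain ⟨X, h2⟩ := H.rl_dn (H.hs0 hx)
    rw [c1 _ _ h2, (k' X ((H.rl6 h2).1 ⟨x, hx, rfl⟩)).1]
  · obtain ⟨X, h2⟩ := H.rl_dn (H.hs0 hx)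
    rw [c2 _ _ h2, (k' X ((H.rl6 h2).1 ⟨x, hx, rfl⟩)).2, H.up_eq h2, H.top hy hN x hx, ← mul_assoc]
    norm_num

end Fm

/-- **[T6]** -/
theorem boxT6_of (hP : BoxP6) (hO : BoxO6) (hN : BoxN4) (D : Datum p ρ F G) : BoxT6 D := by
  intro _ j B P Ψ₀ Ψ₁ w₀ μ ε h y h1 h2 T h3 h4 hh k1 h5 hy
  have up6 : ∀ a ∈ P4, ∃ b ∈ Ψ₀, P *ᵥ a.2 = b.2 ∧ b.1 ᵥ* P = a.1 := fun a ha =>
    let ⟨b, k1, k2, k3⟩ := T.up a ha.1
    ⟨b, (h3 b).2 ⟨k1, a, ha, k2⟩, k2, k3⟩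
  have dn6 : ∀ b ∈ Ψ₀, ∃ a ∈ P4, P *ᵥ a.2 = b.2 ∧ b.1 ᵥ* P = a.1 := fun b hb =>
    let ⟨k1, _, k2, k3⟩ := (h3 b).1 hb
    let ⟨a, k4, k5, k6⟩ := T.dn b k1
    ⟨a, ⟨k4, T.inj' (k3.trans k5.symm) ▸ k2.2⟩, k5, k6⟩
  have s6 : Ψ₀ ⊆ Ψ₁ := fun b hb => ((h3 b).1 hb).1
  have T6 : _root_.Cfsg.Agent.OM.Cu.Tr P P4 Ψ₀ := ⟨T.inj, up6, dn6, fun b hb b' hb' => T.ext b (s6 hb) b' (s6 hb'), fun b hb b' hb' => by
    obtain ⟨c, k1, k2, k3⟩ := T.nm b (s6 hb) b' (s6 hb')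
    obtain ⟨a, k4, k5, k6⟩ := dn6 b hb
    obtain ⟨a', k7, k8, -⟩ := dn6 b' hb'
    obtain ⟨a'', k9, k10, -⟩ := T.dn c k1
    refine ⟨c, (h3 c).2 ⟨k1, a'', ⟨k9, ?_⟩, k10⟩, k2, k3⟩
    rw [T.inj' (k10.trans (by rw [← k2, ← k8, mulVec_mulVec, TrL.rfm_mul k5 k6, ← mulVec_mulVec])), TrL.rfm_vec', Pi.sub_apply,
      Pi.sub_apply, Pi.smul_apply, Pi.smul_apply, k7.2.1, k7.2.2, k4.2.1, k4.2.2, smul_zero, sub_zero]
    exact ⟨rfl, rfl⟩⟩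
  obtain ⟨b, k2, k3, k4⟩ := T.up _ (RsP.mem (C := E6) 0)
  obtain ⟨z, k5, k6, k7⟩ := h5 b k2 fun e => by
    obtain ⟨a, k5, k6, -⟩ := dn6 b e
    have k7 := k5.2.1
    rw [T.inj' (k6.trans k3.symm)] at k7
    exact absurd k7 (by decide)
  obtain ⟨z', k8, k9⟩ := eig_dn T r6 k1 h4 k5
  obtain rfl := eps_eq hh k8 (fun a ha => by
    obtain ⟨c, c1, -, c2⟩ := up6 a ha
    rw [← c2, k9 c (s6 c1), k6 c c1]) fun e => k7 (by rw [← k9 b k2, e, ev, dotProduct_zero])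
  exact Fm.ce ⟨h1, h2, T, T6, s6, h4, hh, k1⟩ hy hP hO hN

end Cfsg.Agent.BZ.RT.Co3
end

private theorem dce_0e317af5f975 : _root_.True := by
  try have : _root_.True := by simp only [_root_.Cfsg.Agent.BZ.RT.Co3.u4.eq_1]
  try have : _root_.True := by simp only [_root_.Cfsg.Agent.BZ.RT.Co3.nn.eq_1]
  try have : _root_.True := by simp only [_root_.Cfsg.Agent.BZ.RT.Co3.pv.eq_1]
  try have : _root_.True := by simp only [_root_.Cfsg.Agent.BZ.RT.Co3.u0.eq_1]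
  exact _root_.True.intro
end

-- part: BZ/RT/Co3/Lt
section
prune_inst 0x2200080000000000000000000000000014010000
set_option linter.all false
open scoped Cfsg.Agent.FastGrp

/-!
# BZ / RT : `boxLt`, the roots orthogonal to `E₆` give at most three reflections (helper22)
-/

set_option autoImplicit false
set_option linter.unusedSectionVars false

namespace Cfsg.Agent.BZ.RT.Co3

open Cfsg Matrix Cfsg.Agent.DL Cfsg.Agent.HZ.L Cfsg.Agent.OM.Cu Cfsg.Agent.BZ.TA Cfsg.Agent.BZ.TA.Cl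

namespace LtA

theorem tri {x y z α β γ : ℤ} (hx : -1 ≤ x ∧ x ≤ 1) (hy : -1 ≤ y ∧ y ≤ 1) (hz : -1 ≤ z ∧ z ≤ 1) (h0 : ¬ (α = 0 ∧ β = 0 ∧ γ = 0))
    (e1 : α * 2 + β * x + γ * y = 0) (e2 : α * x + β * 2 + γ * z = 0) (e3 : α * y + β * z + γ * 2 = 0) :
    x * y * z = -1 ∧ α ≠ 0 ∧ β = -x * α ∧ γ = -y * α := by
  obtain ⟨x1, x2⟩ := hx
  obtain ⟨y1, y2⟩ := hy
  obtain ⟨z1, z2⟩ := hz
  interval_cases x <;> interval_cases y <;> interval_cases z <;> omega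

theorem four {x y u v w α : ℤ} (h0 : α ≠ 0) (h1 : x * u * v = -1) (h2 : y * u * w = -1)
    (e : α * u + -x * α * v + -y * α * w = 0) : False := by
  have h3 : α * (u * u + 2) = 0 := by linear_combination u * e + α * h1 + α * h2
  exact h0 ((mul_eq_zero.1 h3).resolve_right (by nlinarith))

variable {R I : Type} [Fintype R] [DecidableEq R] [Fintype I] [DecidableEq I] {C : Mat I} {d : I → ℤ} {Q : Matrix R I ℤ}
  {Ψ Ψ₁ Ψ₂ : RS R} {P : Matrix R (Fin 6) ℤ} {b b' : Vec R × Vec R}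

theorem two (h : Car C d) (T : Tr Q (Rc C) Ψ) (hb : b ∈ Ψ) : b.1 ⬝ᵥ b.2 = 2 := by
  obtain ⟨a, ha, e, -⟩ := T.dn b hb
  rw [Z2.tr_dot T ha hb e e, RsP.two h ha]

theorem neg_mem (h : Car C d) (T : Tr Q (Rc C) Ψ) (hb : b ∈ Ψ) : -b ∈ Ψ := by
  have h2 := two h T hb
  obtain ⟨b', h3, h4, h5⟩ := T.nm b hb b hb
  refine (show b' = -b from Prod.ext ?_ (by rw [← h4, Ch.rfm_self h2]; rfl)) ▸ h3
  rw [← vecMul_one b'.1, ← OM.Cu.rfm_sq h2, ← vecMul_vecMul, h5, OM.Cu.vecMul_rfm, h2, Prod.fst_neg]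
  module

theorem le_one (h : Car C d) (T : Tr Q (Rc C) Ψ) (hb : b ∈ Ψ) (hb' : b' ∈ Ψ) (s : b.1 ⬝ᵥ b'.2 = b'.1 ⬝ᵥ b.2) (k : rfm b ≠ rfm b') :
    -1 ≤ b.1 ⬝ᵥ b'.2 ∧ b.1 ⬝ᵥ b'.2 ≤ 1 := by
  obtain ⟨a, ha, e, -⟩ := T.dn b hb
  obtain ⟨a', ha', e', -⟩ := T.dn b' hb'
  have h3 := (RsP.cauchy h ha ha' (fun h1 => k (by rw [T.ext b hb b' hb' (by rw [← e, ← e', h1])])) fun h1 => k (by
    rw [T.ext b' hb' _ (neg_mem h T hb) (by rw [← e', h1, Prod.snd_neg, Prod.snd_neg, mulVec_neg, e]), OM.Cu.rfm_neg])).1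
  rw [← Z2.tr_dot T ha hb e e', ← Z2.tr_dot T ha' hb' e' e, ← s] at h3
  exact ⟨by nlinarith, by nlinarith⟩

/-- three roots orthogonal to `E₆` are dependent -/
theorem rel (h8 : Fintype.card I ≤ 8) (T₀ : Tr Q (Rc C) Ψ) (s : ∀ a ∈ Ψ, ∀ b ∈ Ψ, a.1 ⬝ᵥ b.2 = b.1 ⬝ᵥ a.2) (T : Tr P (Rc E6) Ψ₁)
    (h1 : Ψ₁ ⊆ Ψ) (h2 : Ψ₂ ⊆ Ψ) (o : ∀ a ∈ Ψ₁, ∀ b ∈ Ψ₂, a.1 ⬝ᵥ b.2 = 0) {b₁ b₂ b₃ : Vec R × Vec R} (k1 : b₁ ∈ Ψ₂) (k2 : b₂ ∈ Ψ₂)
    (k3 : b₃ ∈ Ψ₂) : ∃ α β γ : ℤ, ¬ (α = 0 ∧ β = 0 ∧ γ = 0) ∧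
      ∀ e ∈ Ψ₂, α * (e.1 ⬝ᵥ b₁.2) + β * (e.1 ⬝ᵥ b₂.2) + γ * (e.1 ⬝ᵥ b₃.2) = 0 := by
  obtain ⟨M, m1, m2⟩ := Z2.Rk47.fac T₀ h1 T
  obtain ⟨a₁, -, e1, -⟩ := T₀.dn b₁ (h2 k1)
  obtain ⟨a₂, -, e2, -⟩ := T₀.dn b₂ (h2 k2)
  obtain ⟨a₃, -, e3, -⟩ := T₀.dn b₃ (h2 k3)
  obtain ⟨v, v1, v2⟩ : ∃ v : Fin 6 ⊕ Fin 3 → ℤ, fromCols M (of ![a₁.2, a₂.2, a₃.2])ᵀ *ᵥ v = 0 ∧ v ≠ 0 := by
    by_contra k
    have := Z2.Rk47.card_le (fromCols M (of ![a₁.2, a₂.2, a₃.2])ᵀ) fun v hv => by_contra fun k' => k ⟨v, hv, k'⟩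
    rw [Fintype.card_sum, Fintype.card_fin, Fintype.card_fin] at this
    omega
  have h3 : (of ![a₁.2, a₂.2, a₃.2])ᵀ *ᵥ (v ∘ .inr) = v (.inr 0) • a₁.2 + v (.inr 1) • a₂.2 + v (.inr 2) • a₃.2 := by
    funext i
    simp [mulVec, dotProduct, Fin.sum_univ_three, mul_comm]
  rw [fromCols_mulVec, h3] at v1
  refine ⟨v (.inr 0), v (.inr 1), v (.inr 2), fun ⟨z1, z2, z3⟩ => v2 ?_, fun e he => ?_⟩
  · rw [z1, z2, z3, zero_smul, zero_smul, zero_smul, add_zero, add_zero, add_zero] at v1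
    funext i
    rcases i with i | i
    · exact congrFun (m2 _ v1) i
    · fin_cases i
      exacts [z1, z2, z3]
  · have h4 : e.1 ᵥ* P = 0 := funext fun i => by
      obtain ⟨b, hb, b1, -⟩ := T.up _ (RsP.mem i)
      have := (s e (h2 he) b (h1 hb)).trans (o b hb e he)
      rwa [← b1, dotProduct_mulVec, show (sp E6 i).2 = Pi.single i 1 from rfl, dotProduct_single, mul_one] at this
    have h5 := congrArg (fun x => e.1 ⬝ᵥ Q *ᵥ x) v1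
    simp only [mulVec_add, mulVec_smul, mulVec_mulVec, ← m1, e1, e2, e3, dotProduct_add, dotProduct_smul, mulVec_zero, dotProduct_zero,
      smul_eq_mul] at h5
    rwa [dotProduct_mulVec, h4, zero_dotProduct, zero_add] at h5

end LtA

open LtA in
theorem lt_three {R : Type} [Fintype R] [DecidableEq R] {Ψ Ψ₁ Ψ₂ : RS R} {P : Matrix R (Fin 6) ℤ} (h : Z2.Bs 8 Ψ)
    (s : ∀ a ∈ Ψ, ∀ b ∈ Ψ, a.1 ⬝ᵥ b.2 = b.1 ⬝ᵥ a.2) (T : Tr P (Rc E6) Ψ₁) (h1 : Ψ₁ ⊆ Ψ) (h2 : Ψ₂ ⊆ Ψ)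
    (o : ∀ a ∈ Ψ₁, ∀ b ∈ Ψ₂, a.1 ⬝ᵥ b.2 = 0) : (rfm '' Ψ₂).ncard ≤ 3 := by
  obtain ⟨m, C, d, Q, h8, hC, T₀⟩ := h
  by_contra k
  rw [not_le] at k
  obtain ⟨_, ⟨a, ha, rfl⟩, _, ⟨b, hb, rfl⟩, _, ⟨c, hc, rfl⟩, _, ⟨e, he, rfl⟩, ab, ac, ae, bc, be, ce⟩ :=
    (Set.three_lt_ncard (Set.finite_of_ncard_pos (by omega))).1 k
  have key : ∀ a ∈ Ψ₂, ∀ b ∈ Ψ₂, ∀ c ∈ Ψ₂, rfm a ≠ rfm b → rfm a ≠ rfm c → rfm b ≠ rfm c →
      (a.1 ⬝ᵥ b.2) * (a.1 ⬝ᵥ c.2) * (b.1 ⬝ᵥ c.2) = -1 ∧ ∃ α : ℤ, α ≠ 0 ∧ ∀ e ∈ Ψ₂,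
        α * (e.1 ⬝ᵥ a.2) + -(a.1 ⬝ᵥ b.2) * α * (e.1 ⬝ᵥ b.2) + -(a.1 ⬝ᵥ c.2) * α * (e.1 ⬝ᵥ c.2) = 0 := fun a ha b hb c hc ab ac bc => by
    obtain ⟨α, β, γ, h0, r⟩ := rel (by simpa using h8) T₀ s T h1 h2 o ha hb hc
    have r1 := r a ha
    have r2 := r b hb
    have r3 := r c hc
    rw [two hC T₀ (h2 ha)] at r1
    rw [two hC T₀ (h2 hb), s b (h2 hb) a (h2 ha)] at r2
    rw [two hC T₀ (h2 hc), s c (h2 hc) a (h2 ha), s c (h2 hc) b (h2 hb)] at r3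
    obtain ⟨t1, t2, rfl, rfl⟩ := tri (le_one hC T₀ (h2 ha) (h2 hb) (s _ (h2 ha) _ (h2 hb)) ab)
      (le_one hC T₀ (h2 ha) (h2 hc) (s _ (h2 ha) _ (h2 hc)) ac) (le_one hC T₀ (h2 hb) (h2 hc) (s _ (h2 hb) _ (h2 hc)) bc) h0 r1 r2 r3
    exact ⟨t1, α, t2, r⟩
  obtain ⟨-, α, h0, r⟩ := key a ha b hb c hc ab ac bc
  have r1 := r e he
  rw [s e (h2 he) a (h2 ha), s e (h2 he) b (h2 hb), s e (h2 he) c (h2 hc)] at r1
  exact four h0 (key a ha b hb e he ab ae be).1 (key a ha c hc e he ac ae ce).1 r1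

theorem boxLt : BoxLt := fun _ _ _ _ h s T h1 h2 o => (lt_three h s T h1 h2 o).trans_lt (by decide)

end Cfsg.Agent.BZ.RT.Co3
end

-- part: BZ/RT/Cx/Main
section
prune_inst 0x224407c0574400200001c800272207ee2fe0004b2104b8000c1060a44078d8c6029c12e616240111a123a084d0831000813000020c27000000e844400411f048188a24400e3c9011da4009f810a0e410002200080000000000000000000000004214010000
set_option linter.all false
open scoped Cfsg.Agent.FastGrp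

/-!
# BZ / RT : the types `E₆`, `E₇`, `E₈` at the prime three, the glue (helper28)
-/

set_option autoImplicit false
set_option linter.unusedSectionVars false

namespace Cfsg.Agent.BZ.RT.Cx

open Cfsg Matrix Cfsg.Agent.DL Cfsg.Agent.DL.PP Cfsg.Agent.KZ.Lie Cfsg.Agent.HZ.L Cfsg.Agent.BZ.TA Cfsg.Agent.BZ.TA.Cl
  Cfsg.Agent.OM.Cu Cfsg.Agent.OM Cfsg.Agent.BZ.RT.Z2
open Cfsg.Agent.HZ.L.X (Zc Cen)

namespace Mn

theorem car {n : ℕ} (h : R3 n) : Car (En n) fun _ => 1 := by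
  rcases h with rfl | rfl | rfl
  · convert Eng.carE6 using 1
    funext i; fin_cases i <;> rfl
  · convert Eng.carE7 using 1
    funext i; fin_cases i <;> rfl
  · convert Eng.carE8 using 1
    funext i; fin_cases i <;> rfl

section Comb

variable {R I : Type} [Fintype R] [DecidableEq R] [Fintype I] [DecidableEq I] {C X : Mat I} {μ : Vec I} {G : Submonoid (Mat I)}
  {Φ L : RS I} {Ψ : RS R} {q : ℤ} {c s t : Lb I}

theorem pm1 : pm (1 : Equiv.Perm I) = 1 := Matrix.ext fun _ _ => by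
  rw [one_apply]
  rfl

theorem one_of {u : ℂˣ} {k : ℤ} {i : ℕ} (hk : ¬ 3 ∣ k) (h1 : u ^ k = 1) (h2 : u ^ 3 ^ i = 1) : u = 1 := by
  have h8 : IsCoprime ((3 ^ i : ℕ) : ℤ) k := by
    rw [Nat.cast_pow]
    exact IsCoprime.pow_left ((Prime.coprime_iff_not_dvd Int.prime_three).2 hk)
  obtain ⟨a, b, e⟩ := h8
  rw [← _root_.zpow_one u, ← e, _root_.zpow_add, mul_comm a, mul_comm b, _root_.zpow_mul, _root_.zpow_mul, h1,
    _root_.zpow_natCast, h2, _root_.one_zpow, _root_.one_zpow, mul_one]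

theorem neg_zc {c : Lb R} (h : ∀ a ∈ Ψ, -a ∈ Ψ) : ∀ a ∈ Zc Ψ c, -a ∈ Zc Ψ c := fun a ha =>
  ⟨h a ha.1, by rw [Prod.snd_neg, chr_neg, ha.2, inv_one]⟩

theorem cl_zc {c : Lb R} (h : ∀ a ∈ Ψ, Nm (rfm a) Ψ) : ∀ a ∈ Zc Ψ c, Nm (rfm a) (Zc Ψ c) := fun a ha b hb => by
  obtain ⟨b', k1, k2, k3⟩ := h a ha.1 b hb.1
  refine ⟨b', ⟨k1, ?_⟩, k2, k3⟩
  rw [← k2, RsP.rfm_mulVec, chr_sub, chr_zsmul, ha.2, hb.2, _root_.one_zpow, inv_one, mul_one]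

/-- fixed labels of order a power of three are central -/
theorem cen_of (H : BoxAnI) (hC : Car C fun _ => 1) (hL : L ⊆ Rc C) (h1 : Nm X (Rc C)) (h2 : Nm X L) (h3 : An L 3 1 X)
    (hq : 3 ∣ q - 1) {i : ℕ} (ht : t ^ 3 ^ i = 1) (hT : Tl (q • X) t t) : Cen L t := fun a ha => by
  obtain ⟨k, u, k1, -, k2⟩ := H C _ L X q hC hL h1 h2 h3 hq a.2 (Submodule.subset_span ⟨a, ha, rfl⟩)
  refine one_of k1 (i := i) ?_ (by rw [← map_pow, ht, map_one])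
  rw [← chr_zsmul, ← k2, sub_mulVec, one_mulVec, chr_sub, hT, mul_inv_cancel]

theorem nm_lv (h : Nm X Φ) (fx : X *ᵥ μ = μ) : Nm X (lev Φ μ) := fun a ha =>
  let ⟨c, c1, c2, c3⟩ := h a ha.1
  ⟨c, ⟨c1, by rw [← fx, dotProduct_mulVec, c3]; exact ha.2⟩, c2, c3⟩

theorem ft (h : Md C μ X G q c s t) : Tl (q • X) t t := fun v => by
  have k1 := h.fc v
  rw [h.cs, map_mul, map_mul, h.fs v] at k1
  exact mul_left_cancel k1

theorem zc_le (h : Md C μ X G q c s t) : Zc (Rc C) c ⊆ Zc (Rc C) s := fun a ha => by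
  obtain ⟨i, hi⟩ := h.tp
  obtain ⟨n, n1, n2⟩ := h.od
  have k1 : chr a.2 s * chr a.2 t = 1 := by rw [← map_mul, ← h.cs]; exact ha.2
  have k2 : chr a.2 t ^ 3 ^ i = 1 := by rw [← map_pow, hi, map_one]
  refine ⟨ha.1, one_of (k := n) (i := i) (fun e => n1 (by exact_mod_cast e)) (by rw [_root_.zpow_natCast, ← map_pow, n2, map_one]) ?_⟩
  rw [eq_inv_of_mul_eq_one_left k1, inv_pow, k2, inv_one]

theorem nx (hC : Car C fun _ => 1) (h : Nm X (Rc C)) (hs : Tl (q • X) s s) : Nm X (Zc (Rc C) s) :=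
  let ⟨_, h1, h2⟩ := fin_ord (boxRs C _ hC) h
  nm_zc h1 h2 h hs

theorem lev_eq (H : BoxAnI) (hC : Car C fun _ => 1) (h : Md C μ X G q c s t) : lev (Zc (Rc C) c) μ = lev (Zc (Rc C) s) μ := by
  obtain ⟨i, hi⟩ := h.tp
  have k := cen_of H hC (fun _ ha => ha.1.1) h.nm (nm_lv (nx hC h.nm h.fs) h.fx) h.an h.q3 hi (ft h)
  refine Set.ext fun a => ⟨fun ha => ⟨zc_le h ha.1, ha.2⟩, fun ha => ⟨⟨ha.1.1, ?_⟩, ha.2⟩⟩
  rw [h.cs, map_mul, ha.1.2, k a ha, mul_one]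

theorem msc (H : BoxAnI) (hC : Car C fun _ => 1) (h : Md C μ X G q c s t) : Ms C μ X G (Zc (Rc C) c) where
  toMg := h.toMg
  sub := fun _ ha => ha.1
  ng := neg_zc (boxRs C _ hC).neg
  cl := cl_zc (nm_rc (boxRs C _ hC))
  nx := nx hC h.nm h.fc
  vc := h.vc
  hy := h.hy
  an := lev_eq H hC h ▸ h.an

theorem mss (H : BoxAnI) (hC : Car C fun _ => 1) (h : Md C μ X G q c s t) : Ms C μ X G (Zc (Rc C) s) where
  toMg := h.toMg
  sub := fun _ ha => ha.1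
  ng := neg_zc (boxRs C _ hC).neg
  cl := cl_zc (nm_rc (boxRs C _ hC))
  nx := nx hC h.nm h.fs
  vc := fun g hg => (h.vc g hg).imp fun _ k => ⟨k.1, WW_mono (zc_le h) k.2⟩
  hy := lev_eq H hC h ▸ h.hy
  an := h.an

theorem nm_of (h : lev Φ μ = ∅) : NM Φ μ := fun _ ⟨_, _, b, hb, _⟩ => by
  rw [h] at hb
  exact hb

theorem zx_zero : Zx Φ 0 = Φ := Set.ext fun _ => ⟨fun h => h.1, fun h => ⟨h, by rw [dotProduct_zero]; exact dvd_zero _⟩⟩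

theorem gd_of {x : Vec I} (e : lev Φ μ = L) (h : F6 (Zx Φ x) L (lev (Rc C) μ) X) : Gd C μ X (Zx Φ x) := by
  have k : lev (Zx Φ x) μ = L := by
    obtain ⟨_, _, _, _, k1, k2, _⟩ := h
    exact Set.ext fun a => ⟨fun ha => e ▸ ⟨ha.1.1, ha.2⟩, fun ha => ⟨k1 ((k2 a).1 ha).1, (e ▸ ha : a ∈ lev Φ μ).2⟩⟩
  exact Or.inr (k ▸ h)

/-- the form is the pairing -/
theorem fm1 (H : Rs C fun _ => 1) {a : Vec I × Vec I} (ha : a ∈ Rc C) (v : Vec I) : fm C (fun _ => 1) a.2 v = a.1 ⬝ᵥ v := by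
  obtain ⟨w, hw, i, k1, k2⟩ := ha
  obtain ⟨u, -, -, k3⟩ := H.inv w hw
  have k4 : v = w *ᵥ (u *ᵥ v) := by rw [mulVec_mulVec, k3, one_mulVec]
  rw [k4, ← k1, H.iso w hw, dotProduct_mulVec a.1, k2]
  simp [fm, sp, Pi.single_apply, vecMul, dotProduct, mul_comm]

theorem sym {P : Matrix R I ℤ} (H : Rs C fun _ => 1) (T : Tr P (Rc C) Ψ) : ∀ a ∈ Ψ, ∀ b ∈ Ψ, a.1 ⬝ᵥ b.2 = b.1 ⬝ᵥ a.2 := fun a ha b hb => by
  obtain ⟨a', a1, a2, -⟩ := T.dn a ha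
  obtain ⟨b', b1, b2, -⟩ := T.dn b hb
  rw [tr_dot T a1 ha a2 b2, tr_dot T b1 hb b2 a2, ← fm1 H a1, ← fm1 H b1, H.comm]

end Comb

variable {n : ℕ} {μ : Vec (Fin n)} {X : Mat (Fin n)} {G : Submonoid (Mat (Fin n))} {q : ℤ} {c s t : Lb (Fin n)}

theorem inner (hn : R3 n) (h6 : n ≠ 6) (h : Nm X (Rc (En n))) : X ∈ Wc (En n) := by
  obtain ⟨w, hw, π, h1, h2⟩ := boxCh boxRs _ _ X (car hn) h
  have : π = 1 := by
    rcases hn with rfl | rfl | rfl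
    · exact absurd rfl h6
    · exact Eng.autE7 π h1
    · exact Eng.autE8 π h1
  rw [h2, this, pm1, mul_one]
  exact hw

theorem co6 {μ : Vec (Fin 6)} (h : JD 6 μ) : co (En 6) μ ≤ 2 := by
  refine le_trans (Set.ncard_le_ncard (t := {0, 4}) (fun i hi => ?_) (Set.toFinite _)) (Set.ncard_pair (by decide)).le
  by_contra k
  refine hi (h i ?_)
  revert k
  simp only [Set.mem_insert_iff, Set.mem_singleton_iff, Dn]
  clear hi
  revert i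
  decide

/-- the second case -/
theorem big (H : Bc) (hn : R3 n) (h : Md (En n) μ X G q c s t) (hX : X ∈ Wc (En n)) (hJ : JD n μ) (h3 : 2 < co (En n) μ)
    (k : ∃ x, Ad X G x ∧ Gd (En n) μ X (Zx (Zc (Rc (En n)) s) x)) : Out (n = 6) (En n) μ X G c s t := by
  obtain ⟨i, hi⟩ := h.tp
  refine Or.inr ⟨?_, cen_of H.ani (car hn) (fun _ ha => ha.1) h.nm (nm_lv h.nm h.fx) (H.anj n hn μ X G h.toMg hX hJ ?_) h.q3 hi (ft h), k⟩
  · rintro rfl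
    exact absurd (co6 hJ) h3.not_ge
  · rcases hn with rfl | rfl | rfl <;> omega

theorem j4 (H : Bc) (hn : R3 n) (h : Md (En n) μ X G q c s t) (hX : X ∈ Wc (En n)) (hJ : J4 n μ) : Out (n = 6) (En n) μ X G c s t := by
  have hC := car hn
  rcases le_or_gt (co (En n) μ) 2 with h2 | h2
  · have m := msc H.ani hC h
    refine Or.inl ?_
    have k : Ot (En n) μ X _ → Gd (En n) μ X (Zc (Rc (En n)) c) := fun o => Or.inl ((H.tw _ μ X G _ hC m o).2 h2)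
    rcases H.sh n hn μ X G _ m hX hJ with e | o
    · rcases H.om n hn μ X G _ m hX hJ e with o | ⟨x, -, k1, k2⟩
      · exact k o
      · have := gd_of e k1
        rwa [k2 h2, zx_zero] at this
    · exact k o
  · have m := mss H.ani hC h
    refine big H hn h hX hJ.1 h2 ?_
    have k : Ot (En n) μ X _ → ∃ x, Ad X G x ∧ Gd (En n) μ X (Zx (Zc (Rc (En n)) s) x) := fun o =>
      (H.tw _ μ X G _ hC m o).1.imp fun _ e => ⟨e.1, Or.inl e.2⟩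
    rcases H.sh n hn μ X G _ m hX hJ with e | o
    · rcases H.om n hn μ X G _ m hX hJ e with o | ⟨x, k0, k1, -⟩
      · exact k o
      · exact ⟨x, k0, gd_of e k1⟩
    · exact k o

/-- **the result in the standard system** -/
theorem out (H : Bc) (hn : R3 n) (h : Md (En n) μ X G q c s t) : Out (n = 6) (En n) μ X G c s t := by
  have hC := car hn
  have m := msc H.ani hC h
  by_cases hX : X ∈ Wc (En n)
  swap
  · obtain rfl : n = 6 := by_contra fun e => hX (inner hn e h.nm)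
    exact Or.inl (Or.inl (nm_of (H.tw6 μ X G _ m hX)))
  by_cases hJ : JD n μ
  swap
  · exact Or.inl (Or.inl (nm_of (H.ta n hn μ X G _ m hX hJ)))
  rcases id hn with rfl | rfl | rfl
  · exact j4 H hn h hX (H.tab.e6 μ X G h.toMg hJ)
  · exact j4 H hn h hX (H.tab.e7 μ X G h.toMg hJ)
  rcases H.tab.e8 μ X G h.toMg hJ with h4 | ⟨h5, h6⟩
  · exact j4 H hn h hX h4
  have k : ∀ i : Fin 8, ¬ Jz (En 8) μ i → i ≠ 5 → i ≠ 6 → (Jz (En 8) μ 0 ↔ ¬ Jz (En 8) μ 4) → Out (8 = 6) (En 8) μ X G c s t :=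
    fun i i1 i2 i3 e =>
      big H hn h hX hJ ((Set.two_lt_ncard_iff (Set.toFinite _)).2 ⟨i, 5, 6, i1, h5, h6, i2, i3, by decide⟩)
        ((H.tw _ μ X G _ hC (mss H.ani hC h) (H.s5 μ X G _ (mss H.ani hC h) hX hJ h5 h6 e)).1.imp fun _ e => ⟨e.1, Or.inl e.2⟩)
  by_cases h0 : Jz (En 8) μ 0 <;> by_cases h4 : Jz (En 8) μ 4
  · exact Or.inl (Or.inl (H.s6 μ X G _ m hX hJ h5 h6 h0 h4))
  · exact k 4 h4 (by decide) (by decide) (iff_of_true h0 h4)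
  · exact k 0 h0 (by decide) (by decide) (iff_of_false h0 (not_not.2 h4))
  · refine j4 H hn h hX ⟨hJ, fun i hi => Or.inl ?_⟩
    have : i ≠ 0 ∧ i ≠ 4 ∧ i ≠ 5 ∧ i ≠ 6 :=
      ⟨fun e => h0 (e ▸ hi), fun e => h4 (e ▸ hi), fun e => h5 (e ▸ hi), fun e => h6 (e ▸ hi)⟩
    revert this
    simp only [Dn]
    clear hi
    revert i
    decide

theorem d4_eq : D4 6 = Co3.P4 := Set.ext fun a => and_congr_right fun _ =>
  ⟨fun h => ⟨h 0 (by simp only [Dn]; decide), h 4 (by simp only [Dn]; decide)⟩, fun h i hi => by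
    have : i = 0 ∨ i = 4 := by
      revert hi
      simp only [Dn]
      revert i
      decide
    rcases this with rfl | rfl
    · exact h.1
    · exact h.2⟩

/-- the two forms of the terminal labels -/
theorem t6_of {R : Type} [Fintype R] [DecidableEq R] {Ψ ΨL : RS R} {A : Mat R} {c : Lb R} {P₀ : Matrix R (Fin n) ℤ} (hn : R3 n)
    (T : Tr P₀ (Rc (En n)) Ψ) (hA : Nm A Ψ) (h : T6 Ψ A ΨL c) : Co3.T6 Ψ A ΨL c := by
  obtain ⟨ε, lam, -, -, P, Ψ₁, h, k1, k2, k3, k4, k5, k6⟩ := h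
  have H := boxRs _ _ (car hn)
  have H6 := boxRs _ _ (car (n := 6) (Or.inl rfl))
  have n1 := tr_neg H6 k1
  have n0 := neg_zc (c := c) (tr_neg H T)
  have hP : A * P = P * ((ε : ℤ) • h) := by
    rw [Matrix.mul_smul, ← k5, ← Matrix.smul_mul, smul_smul, Int.units_coe_mul_self, one_smul]
  have sg : ∀ {Θ : RS R}, (∀ b ∈ Θ, -b ∈ Θ) → ∀ b ∈ Θ, (ε : ℤ) • b ∈ Θ := fun k b hb => by
    rcases Int.units_eq_one_or ε with rfl | rfl
    · rwa [Units.val_one, one_smul]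
    · rw [Units.val_neg, Units.val_one, neg_one_smul]
      exact k b hb
  refine ⟨P, Ψ₁, Zc Ψ c \ Ψ₁, ε, h, k1, ⟨(Set.union_sdiff_cancel k2).symm, fun a ha b hb => (k6 b hb.1 hb.2).2.2.2 a ha, fun b hb => ?_,
    fun b hb => ?_⟩, d4_eq ▸ k3, d4_eq ▸ k4, hP, Co3.boxLt Ψ Ψ₁ _ P ⟨n, _, _, P₀, ?_, car hn, T⟩ (sym H T) k1 (fun _ e => (k2 e).1)
      (fun _ e => e.1.1) fun a ha b hb => ((k6 b hb.1 hb.2).2.2.2 a ha).1⟩
  · obtain ⟨a, a1, a2, -⟩ := k1.dn b hb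
    obtain ⟨a', b1, b2, -⟩ := H6.nm h (H6.ww ▸ WW_mono (fun _ e => e.1) k4) a a1
    obtain ⟨b', c1, c2, -⟩ := k1.up a' b1
    obtain ⟨e, e1, e2, e3⟩ := hA b (k2 hb).1
    have e4 : e = (ε : ℤ) • b' := T.ext _ e1 _ (k2 (sg n1 b' c1)).1 (by
      rw [← e2, ← a2, mulVec_mulVec, hP, ← mulVec_mulVec, smul_mulVec, b2, mulVec_smul, c2, Prod.smul_snd])
    exact ⟨e, e4 ▸ sg n1 b' c1, e2, e3⟩
  · obtain ⟨-, b1, b2, -⟩ := k6 b hb.1 hb.2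
    refine ⟨(ε : ℤ) • b, sg (Θ := Zc Ψ c \ Ψ₁) (fun a ha => ⟨n0 a ha.1, fun e => ha.2 (neg_neg a ▸ n1 _ e)⟩) b hb, ?_, ?_⟩
    · rw [smul_mulVec] at b1
      rw [Prod.smul_snd]
      conv_rhs => rw [← b1, smul_smul, Int.units_coe_mul_self, one_smul]
    · rw [Prod.smul_fst, smul_vecMul, ← vecMul_smul, b2]
  · rcases hn with rfl | rfl | rfl <;> omega

end Mn

variable {p : ℕ} [Fact p.Prime] {k : Type} [Field k] [CharP k p] [IsAlgClosed k] {Y : Type} [Group Y] {N : Type}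
  [Fintype N] [DecidableEq N] {ρ : Y →* GL N k} {F : MulAut Y} {G : Subgroup Y} (D : Datum p ρ F G)

open Mn

theorem c3_of (H : Bc) : BoxC3 D := fun n hn ⟨P₀, T⟩ hs B q d w ΨL V c s h => by
  obtain ⟨ε, lam, P, μ, X, G, t, i, k1, k2, k3, k4⟩ := H.dn _ P₀ _ ΨL q d _ V c s (car hn) T hs h
  exact H.up _ _ ΨL q d _ V c s t i ε lam P μ X G _ (car hn) h k1 k2 k3 k4 (out H hn k4)

/-- **the aim with the terminal labels of `Co3`** -/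
theorem c3 (H : Bc) {n : ℕ} (hn : R3 n) (hS : C5.Sb D n (cT 2 n)) (hs : Lie.SC 3 (rts D)) (B : Mat D.R) :
    Cmb D B 3 (n = 6) (Co3.T6 (rts D)) := fun q d w ΨL V c s h =>
  (c3_of D H n hn hS hs B q d w ΨL V c s h).imp fun _ e => ⟨e.1, e.2.1, e.2.2.imp id (t6_of hn hS.choose_spec h.nm)⟩

variable {j : ℕ} {B : Mat D.R}

theorem c3e6 (H : Bc) (h : Lie.Cq D j B 3) (hi : Iso (rts D) U.PE6) : Cmb D B 3 True (Co3.T6 (rts D)) := fun q d w ΨL V c s e =>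
  (c3 D H (Or.inl rfl) ((C5.boxFr D).e6 hi) h.sc B q d w ΨL V c s e).imp fun _ e => ⟨e.1, fun _ => e.2.1 rfl, e.2.2⟩

theorem c3e7 (H : Bc) (h : Lie.Cq D j B 3)
    (hi : Iso (rts D) (U.Ph Lie.chevE7 7 (ChevalleyStructure.CoxeterGeomTypes.cartanOf Lie.chevE7 7))) :
    Cmb D B 3 False (Co3.T6 (rts D)) := fun q d w ΨL V c s e =>
  (c3 D H (Or.inr (Or.inl rfl)) ((C5.boxFr D).e7 hi) h.sc B q d w ΨL V c s e).imp fun _ e => ⟨e.1, False.elim, e.2.2⟩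

theorem c3e8 (H : Bc) (h : Lie.Cq D j B 3) (hi : Iso (rts D) U.PE8) : Cmb D B 3 False (Co3.T6 (rts D)) := fun q d w ΨL V c s e =>
  (c3 D H (Or.inr (Or.inr rfl)) ((C5.boxFr D).e8 hi) h.sc B q d w ΨL V c s e).imp fun _ e => ⟨e.1, False.elim, e.2.2⟩

end Cfsg.Agent.BZ.RT.Cx

private theorem dce_1e3cf5b5fc9d : _root_.True := by
  try have : _root_.True := by simp only [_root_.Cfsg.Agent.BZ.RT.Cx.Dn.eq_1]
  exact _root_.True.intro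
end

-- part: BZ/RT/Co2/N
section
set_option linter.all false
open scoped Cfsg.Agent.FastGrp

/-!
# BZ / RT (S4853) : the component `E₇` is stable (helper31)
-/

set_option autoImplicit false

namespace Cfsg.Agent.BZ.RT.Co2

open Cfsg Matrix Cfsg.Agent.DL Cfsg.Agent.HZ.L Cfsg.Agent.OM.Cu Cfsg.Agent.BZ.RT.Z2

/-- **[N]** -/
theorem boxN : BoxN := by
  intro R _ _ P Ψ₁ β A T h2 h0 hA
  have c7 := boxRk.c7
  have H := boxRs _ _ c7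
  have k0 : ∀ b ∈ Ψ₁, b.1 ⬝ᵥ b.2 = 2 := fun b hb => by
    obtain ⟨a, ha, a1, a2⟩ := T.dn b hb
    rw [← a1, dotProduct_mulVec, a2, H.two a ha]
  have k1 : ∀ b ∈ Ψ₁, ∃ b' ∈ Ψ₁, b.1 ⬝ᵥ b'.2 = -1 := fun b hb => by
    obtain ⟨a, ⟨w, hw, i, -, e⟩, -, a2⟩ := T.dn b hb
    obtain ⟨j, hj⟩ := (by decide : ∀ i, ∃ j, E7 j i = -1) i
    obtain ⟨x, hx, x1, -⟩ := H.nm w hw _ (H.mem j)
    obtain ⟨b', hb', e', -⟩ := T.up x hx
    refine ⟨b', hb', ?_⟩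
    rw [← e', dotProduct_mulVec, a2, ← x1, dotProduct_mulVec, e, ← hj]
    simp [sp]
  have k2 : ∀ x ∈ Ψ₁ ∪ {β, -β}, β.1 ⬝ᵥ x.2 = 0 ∨ β.1 ⬝ᵥ x.2 = 2 ∨ β.1 ⬝ᵥ x.2 = -2 := by
    rintro x (h | rfl | rfl)
    exacts [.inl (h0 x h).2, .inr (.inl h2), .inr (.inr (by rw [Prod.snd_neg, dotProduct_neg, h2]))]
  have n1 : Nm A Ψ₁ := fun a ha => by
    obtain ⟨a', h1, h3, h4⟩ := hA a (.inl ha)
    refine ⟨a', h1.resolve_right fun h5 => ?_, h3, h4⟩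
    obtain ⟨b, hb, e⟩ := k1 a ha
    obtain ⟨b', h6, h7, -⟩ := hA b (.inl hb)
    rw [← h4, ← dotProduct_mulVec, h7] at e
    have := k2 b' h6
    rcases h5 with rfl | rfl
    · omega
    · rw [Prod.fst_neg, neg_dotProduct] at e
      omega
  refine ⟨n1, fun a ha => ?_⟩
  obtain ⟨a', h1, h3, h4⟩ := hA a (.inr ha)
  refine ⟨a', h1.resolve_left fun h5 => ?_, h3, h4⟩
  obtain ⟨b, hb, -, e⟩ := E8q.surj T c7 n1 h5
  have h6 := k0 b hb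
  have h7 := (h0 b hb).2
  rw [← e, h4] at h6
  rcases ha with rfl | rfl
  · omega
  · rw [Prod.fst_neg, neg_dotProduct] at h6
    omega

end Cfsg.Agent.BZ.RT.Co2
end

-- part: BZ/RT/At1
section
set_option linter.all false

/-!
# BZ / RT (S4853) : the atom in the situation (helper57)
-/

set_option autoImplicit false
set_option linter.unusedSectionVars false

namespace Cfsg.Agent.BZ.RT

open Cfsg Subgroup Cfsg.Agent.DL Cfsg.Agent.KZ.Lie Cfsg.Agent.HZ.Gen Cfsg.Agent.HZ.L Cfsg.Agent.OM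

variable {p : ℕ} [Fact p.Prime] {k : Type} [Field k] [CharP k p] [IsAlgClosed k] {Y : Type} [Group Y] {N : Type}
  [Fintype N] [DecidableEq N] {ρ : Y →* GL N k} {F : MulAut Y} {G : Subgroup Y} {D : Datum p ρ F G} [Fintype ↥(GF F G)]

/-- **[At1]** -/
theorem boxAt1_of (h : BoxAtom D) : BoxAt1 D := by
  intro j B l r m n n' M α 𝔅 P s _ β lam b S ψ hψ f u c h1 h2
  have C := S.cls f
  obtain ⟨h3, ξ₀, h4, h5, -⟩ := L.boxOs.all S.fr S.hM S.top ψ hψ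
  obtain ⟨ξ, a1, ξ', a2, a, a', J, a3, a4, a5, a6, a7⟩ := h j B f r P s lam _ ψ u c S.cq.st S.cq.cz S.tp.hu S.tp.fo S.tp.rt S.on C
    h3 ⟨ξ₀, S.top.sB ξ₀ h4, h5⟩ h1 h2
  have k1 : ∀ x : ℤ, x ^ 2 = 1 → ¬ (l : ℤ) ∣ x := fun x e e' =>
    S.cq.lp.one_lt.ne' (Nat.dvd_one.1 (Int.natCast_dvd_natCast.1 (e ▸ e'.pow two_ne_zero : (l : ℤ) ∣ 1)))
  have k2 : ∀ x : ℤ, x ^ 2 = 1 → (x : ℂ) ≠ 0 := fun x e => Int.cast_ne_zero.2 (by rintro rfl; exact absurd e (by norm_num))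
  exact ⟨ξ, S.tp.all ξ (C.rat ξ a1) ψ hψ (a5 ▸ k2 a a3), ξ', S.tp.all ξ' (C.rat ξ' a2) ψ hψ (a6 ▸ k2 a' a4), a, a', J, k1 a a3,
    k1 a' a4, a5, a6, a7⟩

end Cfsg.Agent.BZ.RT
end

-- part: BZ/RT/FinK
section
prune_inst 0x34407104064002000000801650207e76ee0005b0106b8801c8a402440e80a72349802f6184801318027e22cd00318048110000790240000004844600011c04818882140461d1081d80009f01820c410002200080000000000000000000000004214010000
set_option linter.all false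
open scoped Cfsg.Agent.FastGrp

-- part: BZ/RT/RegK
section
/-!
# BZ / RT (S4853) : descent along the regular embedding, the sharp form (helper17)

* `EqK`, `EqKM` : the degrees in height zero are `k δ` with `k ∣ n` (up to a sign, modulo `m`); `BTk`, `BTsK`;
* `bt_downK`, `btK_fix`, `downK`, `idx_z`, `regK`; `EqKM.eqM`, `EqKM.not_sq`, `Rat.btsK`; `BoxK`, `BoxK.bt`, `bt_of_k`;
* `Rat4`, `card_gf`, `lg_four`, `BoxRat4`, `BoxRat4.boxK`.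
-/

set_option autoImplicit false
set_option linter.unusedSectionVars false
set_option maxHeartbeats 400000

namespace Cfsg.Agent.BZ.RT

open Cfsg Subgroup Cfsg.Agent.HZ.Gen Cfsg.Agent.KM Cfsg.Agent.BZ.Lab Cfsg.Agent.BZ.L Cfsg.Agent.BZ.L.Bz Cfsg.Agent.Characters.Core
  Cfsg.Agent.Blocks Cfsg.Agent.DL Cfsg.Agent.KM.Ht Cfsg.Agent.KM.Tor Cfsg.Agent.HZ.L.Reg Cfsg.Lie Cfsg.Agent.KZ.DatX
  Cfsg.Agent.Nodes.RGDChev

/-- the degrees of the members of height zero which are trivial on `Z` are `k δ` with `k ∣ n` -/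
def EqK (l n : ℕ) {K : Type} [Group K] (Z : Subgroup K) (B : Set (IrrCharacter K)) : Prop :=
  ∃ δ, ∀ χ ∈ B, Ov Z (χ : K → ℂ) → blockHeight l B (χ : K → ℂ) = 0 → ∃ k, k ∣ n ∧ charDegree (χ : K → ℂ) = k * δ

/-- the same up to a sign, modulo `m` -/
def EqKM (l n m : ℕ) {K : Type} [Group K] (Z : Subgroup K) (B : Set (IrrCharacter K)) : Prop :=
  ∃ δ, ∀ χ ∈ B, Ov Z (χ : K → ℂ) → blockHeight l B (χ : K → ℂ) = 0 → ∃ k, k ∣ n ∧ charDegree (χ : K → ℂ) ^ 2 ≡ (k * δ) ^ 2 [MOD m]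

/-- such blocks have abelian defect groups -/
def BTk (l n : ℕ) (M : Ideal AlgInt) (H : Type) [Group H] (Z : Subgroup H) : Prop :=
  ∀ (B : Set (IrrCharacter H)) (D : Subgroup H), IsPBlock M B → IsDefectGroup l M B D → EqK l n Z B → BK.Ab D

/-- the same for the stable blocks in the frame -/
def BTsK (l n m : ℕ) (M : Ideal AlgInt) {K : Type} [Group K] (α : MulAut K) (Z : Subgroup K) : Prop :=
  ∀ B : Set (IrrCharacter K), IsPBlock M B → StB α B → EqKM l n m Z B → ∃ D, IsDefectGroup l M B D ∧ BK.Ab D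

/-- **the output of the engine**, fourth powers -/
def Rat4 (l Q : ℕ) (M : Ideal AlgInt) {K : Type} [Group K] (α : MulAut K) (Z : Subgroup K) : Prop :=
  ∀ B : Set (IrrCharacter K), IsPBlock M B → StB α B → (∃ D, IsDefectGroup l M B D ∧ BK.Ab D) ∨
    ∃ χ ∈ B, ∃ ψ ∈ B, Ov Z (χ : K → ℂ) ∧ Ov Z (ψ : K → ℂ) ∧ blockHeight l B (χ : K → ℂ) = 0 ∧ blockHeight l B (ψ : K → ℂ) = 0 ∧
      ∃ J, 0 < J ∧ charDegree (ψ : K → ℂ) ^ 4 = Q ^ J * charDegree (χ : K → ℂ) ^ 4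

section grp

variable {l m n N Q c : ℕ} {M : Ideal AlgInt} {K H : Type} [Group K] [Group H] {α : MulAut K} {Z Z' : Subgroup K}
  {B : Set (IrrCharacter K)}

theorem EqKM.mono (h : EqKM l n m Z B) (hZ : Z ≤ Z') {n' : ℕ} (hn : n ∣ n') : EqKM l n' m Z' B :=
  h.imp fun _ h χ h1 h2 h3 => (h χ h1 (fun z hz => h2 z (hZ hz)) h3).imp fun _ e => ⟨e.1.trans hn, e.2⟩

theorem BTsK.mono {n' : ℕ} (h : BTsK l n' m M α Z') (hZ : Z ≤ Z') (hn : n ∣ n') : BTsK l n m M α Z :=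
  fun B h1 h2 h3 => h B h1 h2 (h3.mono hZ hn)

theorem Rat4.mono (h : Rat4 l Q M α Z') (hZ : Z ≤ Z') : Rat4 l Q M α Z :=
  fun B h1 h2 => (h B h1 h2).imp_right fun ⟨χ, a1, ψ, a2, a3, a4, a5⟩ =>
    ⟨χ, a1, ψ, a2, fun z hz => a3 z (hZ hz), fun z hz => a4 z (hZ hz), a5⟩

/-- a ratio whose fourth power is a power of `q ^ m` -/
theorem EqKM.not_four [Finite K] (h : EqKM l n m Z B) {p q j : ℕ} (hp : p.Prime) (hq : p ∣ q) (hq0 : 0 < q) (hn : ¬ p ∣ n)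
    (hm : m.Prime) (hK : ¬ m ∣ Nat.card K) (hj : 0 < j) (hb : n ^ 4 * q ^ j < m) {χ ψ : IrrCharacter K} (h1 : χ ∈ B) (h2 : ψ ∈ B)
    (o1 : Ov Z (χ : K → ℂ)) (o2 : Ov Z (ψ : K → ℂ)) (e1 : blockHeight l B (χ : K → ℂ) = 0) (e2 : blockHeight l B (ψ : K → ℂ) = 0) :
    charDegree (ψ : K → ℂ) ^ 4 ≠ (q ^ m) ^ j * charDegree (χ : K → ℂ) ^ 4 := fun e => by
  have := Fact.mk hm
  obtain ⟨δ, h⟩ := h
  obtain ⟨k, a1, a2⟩ := h χ h1 o1 e1
  obtain ⟨k', b1, b2⟩ := h ψ h2 o2 e2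
  have h0 : 0 < n := Nat.pos_of_ne_zero fun e => hn (e ▸ dvd_zero p)
  have h3 : (δ : ZMod m) ≠ 0 := fun h3 => hK ((hm.dvd_of_dvd_pow ((a2.dvd_iff dvd_rfl).2
    (dvd_pow (((ZMod.natCast_eq_zero_iff δ m).1 h3).mul_left k) two_ne_zero))).trans (H596.charDegree_dvd_card χ.2))
  have a3 := a2.pow 2
  have b3 := b2.pow 2
  rw [← pow_mul, ← pow_mul] at a3 b3
  have h4 : (k' * δ) ^ 4 ≡ (q ^ m) ^ j * (k * δ) ^ 4 [MOD m] := b3.symm.trans (e ▸ a3.mul_left _)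
  rw [← ZMod.natCast_eq_natCast_iff] at h4
  push_cast at h4
  rw [ZMod.pow_card, mul_pow, mul_pow, ← mul_assoc, mul_left_inj' (pow_ne_zero 4 h3)] at h4
  have h5 : k' ^ 4 ≡ k ^ 4 * q ^ j [MOD m] := by
    rw [← ZMod.natCast_eq_natCast_iff]
    push_cast
    exact h4.trans (mul_comm _ _)
  have h6 : k' ^ 4 = k ^ 4 * q ^ j := h5.eq_of_lt_of_lt
    (lt_of_le_of_lt ((Nat.pow_le_pow_left (Nat.le_of_dvd h0 b1) 4).trans (Nat.le_mul_of_pos_right _ (Nat.pow_pos hq0))) hb)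
    (lt_of_le_of_lt (Nat.mul_le_mul_right _ (Nat.pow_le_pow_left (Nat.le_of_dvd h0 a1) 4)) hb)
  exact hn ((hp.dvd_of_dvd_pow (h6 ▸ (hq.trans (dvd_pow_self q hj.ne')).mul_left _ : p ∣ k' ^ 4)).trans b1)

/-- the ratio of the degrees divides the index of `Y Z(K)` -/
theorem deg_cen [Finite K] (Y : Subgroup K) [Y.Normal] (χ : IrrCharacter K) : ∃ θ : IrrCharacter Y,
    TID.Red.Ov Y.subtype (χ : K → ℂ) (θ : Y → ℂ) ∧
      ∃ k, k ∣ (Y ⊔ center K).index ∧ charDegree (χ : K → ℂ) = charDegree (θ : Y → ℂ) * k := by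
  have := Fintype.ofFinite K
  have := Fintype.ofFinite Y
  have := Fintype.ofFinite (Y ⊔ center K : Subgroup K)
  obtain ⟨η, h1⟩ := TID.Red.exists_ov (Y ⊔ center K).subtype χ.2
  have h2 := K3.Rp.irr_cen (j := inclusion (le_sup_left : Y ≤ Y ⊔ center K)) (fun y => by
    obtain ⟨a, ha, z, hz, e⟩ := mem_sup_of_normal_left.1 y.2
    exact ⟨⟨a, ha⟩, ⟨z, mem_sup_right hz⟩, mem_center_iff.2 fun g => Subtype.ext (mem_center_iff.1 hz g), Subtype.ext e.symm⟩) η.2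
  obtain ⟨⟨k, a3⟩, a4⟩ := H596.charDegree_dvd_of_over _ χ.2 η.2 ((TID.Red.ov_subtype_iff _ _ _).1 h1)
  rw [a3, Nat.mul_div_cancel_left _ (Basic.charDegree_pos η.2)] at a4
  refine ⟨⟨_, h2⟩, TID.Red.Ov.trans (fun _ => rfl) (isIrr_isCharacter χ.2) η.2 h2 h1
    ((TID.Red.ov_iff _ _ _).2 ((classInner_irr_self h2).trans_ne one_ne_zero)), k, a4, a3.trans ?_⟩
  exact congrArg (fun x => ⌊((η : _ → ℂ) x).re⌋₊ * k) (map_one (inclusion (le_sup_left : Y ≤ Y ⊔ center K))).symm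

/-- a conjugate lies in the covered block -/
theorem under2 [Finite K] {Y : Subgroup K} [Y.Normal] (hM : IsPModular l M) {b : Set (IrrCharacter Y)}
    (hB : IsPBlock M B) (hb : IsPBlock M b) {χ₀ χ : IrrCharacter K} {θ₀ η : IrrCharacter Y} (h1 : χ₀ ∈ B) (h2 : θ₀ ∈ b)
    (h3 : TID.Red.Ov Y.subtype (χ₀ : K → ℂ) (θ₀ : Y → ℂ)) (h4 : χ ∈ B) (h5 : TID.Red.Ov Y.subtype (χ : K → ℂ) (η : Y → ℂ)) :
    ∃ θ ∈ b, TID.Red.Ov Y.subtype (χ : K → ℂ) (θ : Y → ℂ) ∧ charDegree (η : Y → ℂ) = charDegree (θ : Y → ℂ) := by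
  have : Fact l.Prime := ⟨hM.1⟩
  have := Fintype.ofFinite K
  have := Fintype.ofFinite Y
  obtain ⟨g, θ, h6, h7⟩ := S0964.result l M hM Y B hB b hb χ₀ h1 θ₀ h2 ((TID.Red.ov_subtype_iff _ _ _).1 h3) χ h4 η
    ((TID.Red.ov_subtype_iff _ _ _).1 h5)
  have h8 : H592.Transport.tr (MulAut.conjNormal g) θ = η := Subtype.ext (funext fun n => (h7 n).symm)
  refine ⟨θ, h6, (TID.Red.ov_src_iff (MulAut.conjNormal g) (ι' := Y.subtype.comp (MulAut.conjNormal g).toMonoidHom)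
    (fun _ => rfl) _ θ).1 ?_, ?_⟩
  · rw [h8]
    exact TID.Red.Ov.congr (ι := Y.subtype) (χ := (χ : K → ℂ)) (fun a => isIrr_isClassFunction χ.2 a g) h5
  · unfold charDegree
    rw [← h8, H592.Transport.tr_apply, map_one]

/-- **normal subgroups** -/
theorem bt_downK [Finite K] (hM : IsPModular l M) (ι : H →* K) (hι : Function.Injective ι) (hn : ι.range.Normal)
    {Z' : Subgroup H} (hc : Z ≤ center K) (hZ : Z'.map ι ≤ Z)
    (h : BTk l ((ι.range ⊔ center K).index / l ^ (ι.range ⊔ center K).index.factorization l) M K Z) : BTr l M H Z' := by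
  intro B D hB hD hE
  have : Fact l.Prime := ⟨hM.1⟩
  have := hM.2.1.isPrime
  have := Fintype.ofFinite K
  have := Fintype.ofFinite ι.range
  let e := MonoidHom.ofInjective hι
  have hb := H649.isPBlock_blkMap (e := e) hB
  obtain ⟨B', P, hB', hP, h5, h6⟩ := KM.up_norm hM ι.range hb (H649.isDefectGroup_blkMap hD)
  obtain ⟨θ₀, h7⟩ := Basic.isPBlock_nonempty hb
  obtain ⟨χ₀, h8, h9⟩ := h6 θ₀ h7
  have key : ∀ χ ∈ B', Ov Z (χ : K → ℂ) → blockHeight l B' (χ : K → ℂ) = 0 → ∃ ψ ∈ B, Ov Z' (ψ : H → ℂ) ∧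
      blockHeight l B (ψ : H → ℂ) = 0 ∧ ∃ k, k ∣ (ι.range ⊔ center K).index ∧
        charDegree (χ : K → ℂ) = charDegree (ψ : H → ℂ) * k := fun χ k1 k2 k3 => by
    obtain ⟨η, a0, k, a4, a3⟩ := deg_cen ι.range χ
    obtain ⟨_, ⟨ψ, a1, rfl⟩, a2, a6⟩ := under2 hM hB' hb h8 h7 h9 k1 a0
    have a5 := Reg.mur hM hB' k1 k3 hb ⟨ψ, a1, rfl⟩ a2
    rw [H649.blockHeight_blkMap] at a5
    rw [a6, H649.charDegree_irrMap] at a3
    refine ⟨ψ, a1, fun z hz' => ?_, a5, k, a4, a3⟩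
    have b1 := hZ (mem_map_of_mem ι hz')
    have b3 := H625.PHZ.central_eq ι.range χ.2 (H649.irrMap e ψ).2 ((TID.Red.ov_subtype_iff _ _ _).1 a2) (hc b1) ⟨z, rfl⟩
    rw [k2 _ b1, mul_right_inj' (isIrr_apply_one_ne_zero χ.2), H649.irrMap_one] at b3
    exact (H649.irrMap_apply' e ψ z).symm.trans b3.symm
  have hA := h B' P hB' hP (by
    by_cases h0 : ∃ χ ∈ B', Ov Z (χ : K → ℂ) ∧ blockHeight l B' (χ : K → ℂ) = 0
    · obtain ⟨χ, h1, o1, e1⟩ := h0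
      obtain ⟨ψ, a1, a2, a3, k, -, a5⟩ := key χ h1 o1 e1
      refine ⟨charDegree (ψ : H → ℂ) * l ^ k.factorization l, fun χ' h2 o2 e2 => ?_⟩
      obtain ⟨ψ', b1, b2, b3, k', b4, b5⟩ := key χ' h2 o2 e2
      rw [← hE ψ a1 ψ' b1 a2 b2 a3 b3] at b5
      have c1 := Mu.fac_mul (p := l) a5.symm (Basic.charDegree_pos χ.2).ne'
      have c2 := Mu.fac_mul (p := l) b5.symm (Basic.charDegree_pos χ'.2).ne'
      have c3 := Mu.df_add (p := l) χ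
      have c4 := Mu.df_add (p := l) χ'
      rw [Reg.df_ht hM hB' hP h1 e1] at c3
      rw [Reg.df_ht hM hB' hP h2 e2] at c4
      unfold BK.nu at c3 c4
      refine ⟨_, Nat.ordCompl_dvd_ordCompl_of_dvd b4 l, ?_⟩
      rw [show k.factorization l = k'.factorization l by omega, mul_left_comm, mul_comm _ (l ^ _), Nat.ordProj_mul_ordCompl_eq_self, b5]
    · exact ⟨0, fun χ h1 o1 e1 => (h0 ⟨χ, h1, o1, e1⟩).elim⟩)
  have a1 : ∀ a ∈ D, ι a ∈ P := fun a ha => (h5.ge ⟨e a, ⟨a, ha, rfl⟩, rfl⟩).1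
  exact fun x hx y hy => hι (by rw [map_mul, map_mul, hA _ (a1 x hx) _ (a1 y hy)])

/-- **the group of fixed points** -/
theorem btK_fix [Fintype K] [Fintype H] (h : _root_.Cfsg.Agent.BZ.Lab.Gl l m N K α) (hM : IsPModular l M) (j : H →* K) (hj : Function.Injective j)
    (hf : ∀ g, α g = g ↔ g ∈ j.range) {Z : Subgroup H} (hZ : Z.map j ≤ center K) (hK : BTsK l n m M α (Z.map j)) : BTk l n M H Z :=
  fun B D hB hD ⟨δ, hz⟩ => by
  have : Fact l.Prime := ⟨hM.1⟩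
  obtain ⟨e, -, k1, k2, k3, k4⟩ := boxW_of boxSt j h hM hj hf B D hB hD
  have k5 : ∀ ξ ∈ B, W.Gc m α j (e ξ) ξ := fun ξ hξ => ⟨k2 _ ⟨ξ, hξ, rfl⟩, (k4 ξ hξ).2⟩
  have k6 : ∀ ξ ∈ B, Ov (Z.map j) (e ξ : K → ℂ) → Ov Z (ξ : H → ℂ) := fun ξ hξ => ov_gc hj hZ (by
    obtain ⟨k, k6, k7⟩ := (k4 ξ hξ).2
    rw [k7]
    exact Nat.cast_ne_zero.2 fun e0 => k6 (e0 ▸ dvd_zero m))
  obtain ⟨E, h1, h2⟩ := hK _ k1 k2 ⟨δ, by
    rintro _ ⟨χ, hχ, rfl⟩ o1 e1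
    obtain ⟨k, h3, h4⟩ := hz χ hχ (k6 χ hχ o1) ((k4 χ hχ).1 ▸ e1)
    exact ⟨k, h3, h4 ▸ deg_gc ⟨h, hj, hf⟩ (k5 χ hχ)⟩⟩
  exact BK.Ab.of_map hj (BK.ab_of_defect hM k1 h1 h2 k3)

end grp

variable {p : ℕ} [Fact p.Prime] {k : Type} [Field k] [CharP k p] {Y : Type} [Group Y] {I : Type} [Fintype I]
  [DecidableEq I] {ρ : Y →* GL I k} {F : MulAut Y} {G : Subgroup Y} [IsAlgClosed k] (X : Datum p ρ F G)

/-- **Glauberman - Watanabe descent** -/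
theorem downK {q d l n : ℕ} {M : Ideal AlgInt} {Z : Subgroup Y} (hq : Nq p q d l) (hM : IsPModular l M)
    (hZ : Z ≤ _root_.Cfsg.Agent.KM.Tor.Zc X {a | X.Rt a})
    (h : Lg fun m => ∀ r, Nr q d r m → ∀ [Fintype ↥(GF (F ^ m) G)] (n' N' : ℕ) (α : MulAut ↥(GF (F ^ m) G)), Fm F G l m n' N' α →
      m.Prime → BTsK l n m M α (Pt F G m l Z)) : BTk l n M ↥(GF (F ^ 1) G) (Pt F G 1 l Z) := by
  obtain ⟨N', hN⟩ := boxGeo X l hM.1 hq.ne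
  obtain ⟨m, hm, ⟨α, k1, k2⟩, ⟨r, k3⟩, k4⟩ := (Lg.prime.and (hN.and ((exists_nr Fact.out hq).and h))).ex
  have := (X.pow one_pos).amb.finite_GF G
  have := (X.pow hm.pos).amb.finite_GF G
  have := Fintype.ofFinite (GF (F ^ 1) G)
  have := Fintype.ofFinite (GF (F ^ m) G)
  have k5 : GF (F ^ 1) G ≤ GF (F ^ m) G := (gf_one F G).le.trans (gf_le F G m)
  have k6 := (k2 r k3.rp k3.mr).toGl
  have k7 : ∀ g, α g = g ↔ g ∈ (inclusion k5).range := fun g =>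
    ⟨fun e => ⟨⟨g, (gf_one F G).ge ⟨g.2.1, (k1 g).symm.trans (congrArg Subtype.val e)⟩⟩, rfl⟩, by
      rintro ⟨x, rfl⟩
      exact Subtype.ext ((k1 _).trans ((gf_one F G).le x.2).2)⟩
  have k8 : (Pt F G 1 l Z).map (inclusion k5) ≤ Pt F G m l Z := by
    rintro _ ⟨z, hz, rfl⟩
    obtain ⟨h1, -, i, h2⟩ := (pt_eq hZ 1 l).le hz
    exact subset_closure ⟨h1, i, by rw [← map_pow, h2, map_one]⟩
  exact btK_fix k6 hM _ (inclusion_injective k5) k7 (k8.trans (pt_cen hZ m l)) ((k4 r k3 _ N' α ⟨k1, k2⟩ hm).mono k8 dvd_rfl)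

/-- the number of diagonal automorphisms divides the order of the centre -/
theorem idx_z (m : ℕ) : ((TA.T2.iK X m).range ⊔ center _).index ∣ Nat.card (Zc X {a | X.Rt a}) := by
  let δ : (X.R → kˣ) →* (X.R → kˣ) := mon (X.Mx ^ m) / MonoidHom.id _
  have h1 : (δ.ker.map (al X)).comap (TA.T2.nK X m) ≤ (TA.T2.iK X m).range ⊔ center _ := by
    rintro g ⟨s, hs, e⟩
    have h2 : (FF X ^ m) (zz X s) = zz X s := by rw [TA.T2.FF_pow_zz, div_eq_one.1 (show mon (X.Mx ^ m) s / s = 1 from hs)]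
    rw [← inv_mul_cancel_right g ⟨zz X s, trivial, h2⟩]
    refine mul_mem (mem_sup_left (TA.T2.mem_iK.2 ?_)) (mem_sup_right (mem_center_iff.2 fun y => Subtype.ext (zz_comm X s y).eq.symm))
    rw [coe_mul, coe_inv, map_mul, map_inv]
    exact mul_inv_eq_one.2 (Eq.symm e)
  refine (index_dvd_of_le h1).trans ?_
  rw [index_comap, ← map_comap_eq_self_of_surjective (al_surj X) (TA.T2.nK X m).range, ← relIndex_comap]
  refine (relIndex_dvd_of_le_left _ (le_comap_map _ _)).trans ?_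
  rw [relIndex_ker, ← card_map_of_injective X.τ_inj]
  refine card_dvd_of_le ?_
  rintro _ ⟨_, ⟨s, ⟨g, e⟩, rfl⟩, rfl⟩
  have h2 : al X (δ s) = 1 := by
    show al X (mon (X.Mx ^ m) s / s) = 1
    rw [map_div, ← TA.T2.nu_pow m (y := g) e, show (FF X ^ m) (g : YY X) = g from g.2.2, div_eq_one]
    exact e
  exact ⟨X.τ_mem _, fun a _ => by rw [X.χ_τ, ← chr_al, h2, map_one, Units.val_one]⟩

/-- **from the regular embedding to `X`** -/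
theorem regK {q d l : ℕ} {M : Ideal AlgInt} (hq : Nq p q d l) (hM : IsPModular l M)
    (h : ∀ n, n ∣ Nat.card (Zc X {a | X.Rt a}) → ¬ p ∣ n → ¬ l ∣ n → Lg fun m => ∀ r, Nr q d r m →
      ∀ [Fintype ↥(GF (FF X ^ m) ⊤)] (n' N' : ℕ) (α : MulAut ↥(GF (FF X ^ m) ⊤)), Fm (FF X) ⊤ l m n' N' α → m.Prime →
        BTsK l n m M α (Pt (FF X) ⊤ m l (ZD X))) : BTr l M ↥(GF (F ^ 1) G) (Zl X 1 l) := by
  have : Finite ↥(GF (FF X ^ 1) ⊤) := ((amb X).pow one_pos).finite_GF ⊤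
  refine bt_downK hM (TA.T2.iK X 1) TA.T2.iK_inj TA.T2.iK_normal (pt_cen (zd_le X) 1 l) ?_
    (downK (DD X) hq hM (zd_le X) (h _ ((Nat.ordCompl_dvd _ l).trans (idx_z X 1))
      (fun e => idx_p X 1 ((e.trans (Nat.ordCompl_dvd _ l)).trans (index_dvd_of_le le_sup_left)))
      (Nat.not_dvd_ordCompl hM.1 index_ne_zero_of_finite)))
  rintro _ ⟨z, hz, rfl⟩
  obtain ⟨h1, -, i, h2⟩ := (pt_eq (X := X) le_rfl 1 l).le hz
  exact _root_.Subgroup.subset_closure ⟨(iY_mem_up z.2.1).2 h1, i, by rw [← map_pow, h2, map_one]⟩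

/-- **the target in the frame** of the regular embedding, the sharp form -/
def BoxK (T : PD) (l : ℕ) : Prop := AllD fun {p} _ _ _ _ _ _ _ _ _ _ _ _ _ X => T X → ∀ (e f d n : ℕ) (M : Ideal AlgInt), Gd X e f →
  Nq p (p ^ e) d l → IsPModular l M → n ∣ Nat.card (Zc X {a | X.Rt a}) → ¬ p ∣ n → ¬ l ∣ n → Lg fun m => ∀ r, Nr (p ^ e) d r m →
    ∀ [Fintype ↥(GF (FF X ^ m) ⊤)] (n' N' : ℕ) (α : MulAut ↥(GF (FF X ^ m) ⊤)), Fm (FF X) ⊤ l m n' N' α → m.Prime →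
      BTsK l n m M α (Pt (FF X) ⊤ m l (ZD X))

theorem BoxK.bt {T : PD} {l : ℕ} (h : BoxK T l) (hT : AllD fun X => T X → ∃ e f, Gd X e f) : BoxBT T l :=
  fun X h1 h2 M hM =>
    let ⟨e, f, h3⟩ := hT X h1
    have hq : Nq _ _ _ l := ⟨hM.1, h2, ⟨e, h3.e0, rfl⟩, rfl⟩
    regK X hq hM fun n => h X h1 e f _ n M h3 hq hM

include X in
/-- the order is bounded -/
theorem card_gf : ∃ c, ∀ m, 0 < m → Nat.card ↥(GF (F ^ m) G) ≤ (p ^ m) ^ c := by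
  obtain ⟨d, e, -, he, h⟩ := X.amb.frob
  refine ⟨e * Nat.card (I × I), fun m hm => ?_⟩
  have h0 := Nat.mul_pos he hm
  have h1 : Finite {a : k // a ^ p ^ (e * m) = a} := Nat.finite_of_card_ne_zero (by
    rw [card_pow_eq h0]
    exact pow_ne_zero _ (Fact.out : p.Prime).ne_zero)
  have h2 : ∀ y : GF (F ^ m) G, LangThm.frob p (e * m) (ρ y) = ρ y := fun y => by
    rw [← Amb.pow_frob h, mul_comm d, pow_mul, mem_fix.1 (fix_le_fix_pow d y.2.2)]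
  rw [pow_mul, ← pow_mul p, mul_comm m, ← card_pow_eq (k := k) h0, ← Nat.card_fun]
  refine Nat.card_le_card_of_injective (fun y ij => ⟨(ρ y : Matrix I I k) ij.1 ij.2, frob_eq_iff.1 (h2 y) _ _⟩) fun y y' h3 =>
    Subtype.ext (X.amb.inj (Units.ext (Matrix.ext fun i j => congrArg Subtype.val (congrFun h3 (i, j)))))

include X in
/-- **no ratio whose fourth power is a power of `q ^ m`** -/
theorem lg_four {q n : ℕ} (l : ℕ) (hq : ∃ f, 0 < f ∧ q = p ^ f) (hn : ¬ p ∣ n) : Lg fun m => ¬ m ∣ Nat.card ↥(GF (F ^ m) G) →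
    ∀ (Z : Subgroup ↥(GF (F ^ m) G)) (B : Set (IrrCharacter ↥(GF (F ^ m) G))), EqKM l n m Z B → ∀ χ ∈ B, ∀ ψ ∈ B,
      Ov Z (χ : GF (F ^ m) G → ℂ) → Ov Z (ψ : GF (F ^ m) G → ℂ) → blockHeight l B (χ : GF (F ^ m) G → ℂ) = 0 →
      blockHeight l B (ψ : GF (F ^ m) G → ℂ) = 0 → ∀ J, 0 < J →
        charDegree (ψ : GF (F ^ m) G → ℂ) ^ 4 ≠ (q ^ m) ^ J * charDegree (χ : GF (F ^ m) G → ℂ) ^ 4 := by
  obtain ⟨f, hf, rfl⟩ := hq
  obtain ⟨c, hc⟩ := card_gf X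
  have hp : p.Prime := Fact.out
  refine (Lg.prime.and (Lg.gt (n ^ 4 * (p ^ f) ^ (c * 4)))).mono fun m ⟨hm, hb⟩ hK Z B h χ h1 ψ h2 o1 o2 e1 e2 J hJ e => ?_
  have := (X.pow hm.pos).amb.finite_GF G
  have h3 : (p ^ m) ^ J ≤ (p ^ m) ^ (c * 4) :=
    calc (p ^ m) ^ J ≤ ((p ^ f) ^ m) ^ J := Nat.pow_le_pow_left (Nat.pow_le_pow_left (Nat.le_self_pow hf.ne' p) m) J
      _ ≤ charDegree (ψ : GF (F ^ m) G → ℂ) ^ 4 := e ▸ Nat.le_mul_of_pos_right _ (Nat.pow_pos (Basic.charDegree_pos χ.2))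
      _ ≤ ((p ^ m) ^ c) ^ 4 :=
        Nat.pow_le_pow_left ((Nat.le_of_dvd Nat.card_pos (H596.charDegree_dvd_card ψ.2)).trans (hc m hm.pos)) 4
      _ = _ := (pow_mul _ _ _).symm
  exact h.not_four hp (dvd_pow_self p hf.ne') (Nat.pow_pos hp.pos) hn hm hK hJ (lt_of_le_of_lt (Nat.mul_le_mul_left _
    (Nat.pow_le_pow_right (Nat.pow_pos hp.pos) ((Nat.pow_le_pow_iff_right (Nat.one_lt_pow hm.ne_zero hp.one_lt)).1 h3))) hb)
    h1 h2 o1 o2 e1 e2 e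

end Cfsg.Agent.BZ.RT
end

-- part: BZ/RT/FinK
section
/-!
# BZ / RT (S4853) : the glue for one datum, weak form of the terminal cases (helper56)

`EqP` : the members over `ψ` with a multiplicity prime to `l` have equal degrees modulo `m`; `TmK`, `AimK`, `finK_of`, `boxK_of`.
-/

set_option autoImplicit false
set_option linter.unusedSectionVars false
set_option maxHeartbeats 400000

namespace Cfsg.Agent.BZ.RT

open Cfsg Subgroup Matrix Cfsg.Agent.DL Cfsg.Agent.DL.PP Cfsg.Agent.KZ.Lie Cfsg.Agent.HZ.Gen Cfsg.Agent.HZ.L Cfsg.Agent.OM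
  Cfsg.Agent.Blocks

variable {p : ℕ} [Fact p.Prime] {k : Type} [Field k] [CharP k p] [IsAlgClosed k] {Y : Type} [Group Y] {N : Type}
  [Fintype N] [DecidableEq N] {ρ : Y →* GL N k} {F : MulAut Y} {G : Subgroup Y} {D : Datum p ρ F G}

/-- the members over `ψ` with a multiplicity prime to `l` have equal degrees modulo `m`, up to a sign and a divisor of `n` -/
def EqP [Fintype ↥(GF F G)] (l n m r : ℕ) (𝔅 : Set (IrrCharacter ↥(GF F G))) (P : Subgroup ↥(GF F G)) (s : Sb D)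
    [Fintype ↥(GF F s.K)] (ψ : IrrCharacter ↥(GF F s.K)) : Prop :=
  ∃ δ : ℕ, ∀ ξ ∈ 𝔅, ∀ a : ℤ, ¬ (l : ℤ) ∣ a → classInner (s.rs r P ξ) ψ = a →
    ∃ i, i ∣ n ∧ charDegree (ξ : GF F G → ℂ) ^ 2 ≡ (i * δ) ^ 2 [MOD m]

variable (D) in
/-- **the terminal cases**, weak form -/
def TmK (j : ℕ) (B : Mat D.R) (l n : ℕ) (T : Mat D.R → RS D.R → _root_.Cfsg.Agent.HZ.L.Lb D.R → Prop) : Prop :=
  ∀ M, IsPModular l M → Lg fun m => ∀ r, L.Nr (p ^ j) (Lie.dl l (p ^ j)) r m → ∀ (hm : 0 < m) [Fintype ↥(GF (F ^ m) G)] (n₁ n₂ : ℕ)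
    (α : MulAut ↥(GF (F ^ m) G)) 𝔅 P (s : Sb (D.pow hm)) [Fintype ↥(GF (F ^ m) s.K)] β lam b, L.Fm F G l m n₁ n₂ α → m.Prime →
    Sit (D := D.pow hm) (j * m) B l r m n₁ n₂ M α 𝔅 P s β lam b → ∀ ψ ∈ b,
    ∀ (f : Fr (D.pow hm)) u c, Has (s.fr f) (ψ : GF (F ^ m) s.K → ℂ) u c →
      T ((D.pow hm).Wm (s.sw u * s.w) * B) (rts s.E) c → EqP l n m r 𝔅 P s ψ → Pair l (p ^ (j * m)) r 𝔅 P s ψ

/-- **the aim for one datum**, weak form -/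
def AimK (p : ℕ) {Y : Type} [Group Y] (F : MulAut Y) (G : Subgroup Y) (j l n : ℕ) (Z₀ : Subgroup Y) : Prop :=
  ∀ M, IsPModular l M → Lg fun m => ∀ r, L.Nr (p ^ j) (Lie.dl l (p ^ j)) r m →
  ∀ [Fintype ↥(GF (F ^ m) G)] (n₁ n₂ : ℕ) (α : MulAut ↥(GF (F ^ m) G)), L.Fm F G l m n₁ n₂ α → m.Prime →
    BTsK l n m M α (L.Pt F G m l Z₀)

variable {j l n : ℕ} {B : Mat D.R} {T T' : Mat D.R → RS D.R → _root_.Cfsg.Agent.HZ.L.Lb D.R → Prop}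

theorem Tm.tmK (h : Tm D j B l T) : TmK D j B l n T := fun M hM =>
  (h M hM).mono fun _ h1 r hr hm _ n₁ n₂ α 𝔅 P s _ β lam b hF _ h2 ψ h3 f u c h4 h5 _ =>
    h1 r hr hm n₁ n₂ α 𝔅 P s β lam b hF h2 ψ h3 f u c h4 h5

theorem TmK.mono (h : TmK D j B l n T) (hT : ∀ A Ψ c, T' A Ψ c → T A Ψ c) : TmK D j B l n T' := fun M hM =>
  (h M hM).mono fun _ h1 r hr hm _ n₁ n₂ α 𝔅 P s _ β lam b hF h0 h2 ψ h3 f u c h4 h5 =>
    h1 r hr hm n₁ n₂ α 𝔅 P s β lam b hF h0 h2 ψ h3 f u c h4 (hT _ _ _ h5)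

theorem tmK_false : TmK D j B l n fun _ _ _ => False := fun _ _ =>
  Lg.of_forall fun _ _ _ _ _ _ _ _ _ _ _ _ _ _ _ _ _ _ _ _ _ _ _ _ _ h => False.elim h

theorem Cmb.mono {z z' : Prop} (h : Cmb D B l z T) (hz : z' → z) (hT : ∀ A Ψ c, T A Ψ c → T' A Ψ c) : Cmb D B l z' T' :=
  fun q d w Ψ V c s h1 =>
    let ⟨t, h2, h3, h4⟩ := h q d w Ψ V c s h1
    ⟨t, h2, fun e => h3 (hz e), h4.imp_right (hT _ _ _)⟩

namespace Fn

variable [Fintype ↥(GF F G)] {r m n' Q : ℕ} {M : Ideal AlgInt} {α : MulAut ↥(GF F G)}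
  {𝔅 : Set (IrrCharacter ↥(GF F G))} {P Z : Subgroup ↥(GF F G)} {s : Sb D} [Fintype ↥(GF F s.K)] {β : MulAut ↥(GF F s.K)} {lam : Vec D.R}
  {b : Set (IrrCharacter ↥(GF F s.K))}

/-- a member over `ψ` with a multiplicity prime to `l` -/
theorem crit (h : Sit j B l r m n n' M α 𝔅 P s β lam b) (hZ : Z ≤ center _) {ψ : IrrCharacter ↥(GF F s.K)} (hψ : ψ ∈ b)
    (h0 : blockHeight l b (ψ : GF F s.K → ℂ) = 0) (ho : ¬ l ∣ (Lab.Orb s.ι P (ψ : GF F s.K → ℂ) ∩ b).ncard)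
    (hz : Lab.Ov (Z.comap s.ι) (ψ : GF F s.K → ℂ)) {η : IrrCharacter ↥(GF F G)} (k1 : η ∈ 𝔅) {e : ℤ} (k2 : ¬ (l : ℤ) ∣ e)
    (k3 : classInner (s.rs r P η) ψ = e) : Lab.Ov Z (η : GF F G → ℂ) ∧ blockHeight l 𝔅 (η : GF F G → ℂ) = 0 := by
  obtain ⟨Q₀, q1, q2, q3⟩ := h.dq
  refine ⟨fun z hz' => ?_, critE h.fr h.hM h.top q1 q2 q3 k1 hψ k3 k2 h0 ho⟩
  obtain ⟨y, rfl⟩ : z ∈ s.ι.range := h.top.rg ▸ center_le_centralizer _ (hZ hz')
  have k4 := Lab.cen_rs Lab.boxSt h.fr h.top.rp h.top.emb h.top.rg (h.top.sB η k1)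
    (show classInner (s.rs r P η) ψ ≠ 0 from k3 ▸ Int.cast_ne_zero.2 fun e0 => k2 (e0 ▸ dvd_zero _)) (hZ hz')
  rw [hz y hz', div_self (irr_one_ne ψ.2)] at k4
  exact (div_eq_one_iff_eq (irr_one_ne η.2)).1 k4

end Fn

open Fn in
/-- **the glue** -/
theorem finK_of (H : Bx p) (D : Datum p ρ F G) {j l n : ℕ} {B : Mat D.R} {Z₀ : Subgroup Y} {z : Prop}
    {T : Mat D.R → RS D.R → _root_.Cfsg.Agent.HZ.L.Lb D.R → Prop} (hq : Lie.Cq D j B l) (hj : 0 < j) (hn : ¬ p ∣ n) (hZ : ∀ x ∈ Z₀, ∀ y ∈ G, y * x = x * y)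
    (hz : z ∨ ∀ x ∈ Z₀, ∀ i : ℕ, x ^ l ^ i = 1 → x = 1) (hC : Cmb D B l z T) (hT : TmK D j B l n T) : AimK p F G j l n Z₀ :=
  fun M hM => by
  have := @Fintype.ofFinite _ (D.amb.finite_GF G)
  refine (((H.sit D j B l M hq hM).and (hT M hM)).and (lg_four D l ⟨j, hj, rfl⟩ hn)).mono
    fun m ⟨⟨h1, h2⟩, h3⟩ r hr _ n₁ n₂ α hF mp 𝔅 hB sB hE => ?_
  by_contra e
  have hm : 0 < m := mp.pos
  obtain ⟨P, s, _, β, lam, b, h⟩ := h1 r hr hm n₁ n₂ α 𝔅 hF hB sB fun E k1 k2 => e ⟨E, k1, k2⟩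
  obtain ⟨Q, q1, q2, q3⟩ := h.dq
  obtain ⟨S, hS, ψ, k1, k2, k3, k4⟩ := H.hz0 h.fr hM h.top q1 q2 q3 h.nab (pt_cen hZ m l)
    fun g => (pt_mem hZ g.2).2.imp fun _ hi => Subtype.ext hi
  obtain ⟨f⟩ := nonempty_fr (D.pow hm)
  obtain ⟨u, c, c₀, k5, k6⟩ := H.cb (D.pow hm) _ _ _ _ _ _ _ _ _ _ _ s β lam b h S hS ψ k1 k2 f
  obtain ⟨t, k7, k8, k9⟩ := hC _ _ _ _ _ _ _ k6
  obtain ⟨φ, g1, g2, g3, g4, g5⟩ := H.twi (D.pow hm) _ _ _ _ _ _ _ _ _ _ _ s β lam b h S hS.sn ψ k1 k2 f u c t k5 k7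
  have a1 : blockHeight l b (φ : GF (F ^ m) s.K → ℂ) = 0 := by rw [blockHeight, g3]; exact k3
  have a2 : Lab.Ov ((L.Pt F G m l Z₀).comap s.ι) (φ : GF (F ^ m) s.K → ℂ) := by
    rcases hz with hz | hz
    · exact g4 (k8 hz) ▸ k4
    · intro y hy
      obtain ⟨g6, i, g7⟩ := pt_mem hZ hy
      rw [show y = 1 from s.ι_injective (Subtype.ext ((hz _ g6 i (congrArg Subtype.val g7)).trans (by rw [map_one]; rfl)))]
  obtain ⟨χ, b1, χ', b2, b3, b4, b5, b6, J, b7, -, b8⟩ := two4 (Q := p ^ (j * m)) h (pt_cen hZ m l) g1 a1 (hS.orb φ g1 g2) a2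
    (k9.elim (fun k10 => H.at1 (D.pow hm) _ _ _ _ _ _ _ _ _ _ _ s β lam b h φ g1 f u _ g5
      ⟨k10, ne (fun a ha => two (s.rts_sub ha)) k6 k7⟩) fun k10 => h2 r hr hm n₁ n₂ α 𝔅 P s β lam b hF mp h φ g1 f u _ g5 k10
        (hE.imp fun δ hδ ξ c1 a c2 c3 =>
          let ⟨c4, c5⟩ := crit h (pt_cen hZ m l) g1 a1 (hS.orb φ g1 g2) a2 c1 c2 c3
          hδ ξ c1 c4 c5))
  exact h3 h.fr.cop _ 𝔅 hE χ b1 χ' b2 b3 b4 b5 b6 J b7 (by rw [← pow_mul p]; exact b8)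

/-- what a type proves for the regular embedding of `X` -/
def Ty (X : Datum p ρ F G) (e l n : ℕ) : Prop := ∃ (B : Mat (Reg.DD X).R) (z : Prop) (T : Mat (Reg.DD X).R → RS (Reg.DD X).R → _root_.Cfsg.Agent.HZ.L.Lb (Reg.DD X).R → Prop),
  Lie.Cq (Reg.DD X) e B l ∧ (z ∨ ∀ x ∈ ZD X, ∀ i : ℕ, x ^ l ^ i = 1 → x = 1) ∧ Cmb (Reg.DD X) B l z T ∧ TmK (Reg.DD X) e B l n T

/-- the same for all the data with the tag `T` -/
def BoxTy (T : PD) (l : ℕ) : Prop := KM.Tor.AllD fun {p} _ _ _ _ _ _ _ _ _ _ _ _ _ X => T X → l.Prime → l ≠ p → ∀ e f n, Gd X e f →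
  n ∣ Nat.card (KM.Tor.Zc X {a | X.Rt a}) → ¬ p ∣ n → ¬ l ∣ n → Ty X e l n

theorem boxK_of (H : ∀ (p : ℕ) [Fact p.Prime], Bx p) {T : PD} {l : ℕ} (h : BoxTy T l) : BoxK T l :=
  fun X h1 e f d n M h2 hq hM h3 h4 h5 => by
  obtain rfl : OM.Lie.dl l _ = d := hq.dl
  obtain ⟨B, z, T, k1, k2, k3, k4⟩ := h X h1 hq.lp hq.ne e f n h2 h3 h4 h5
  exact finK_of (H _) (Reg.DD X) k1 h2.e0 h4 (fun _ hx y hy => L.Bz.Zc_cen (zd_le X hx) y hy) k2 k3 k4 M hM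

end Cfsg.Agent.BZ.RT
end
end

-- part: BZ/RT/C5S
section
prune_inst 0x214005d0176000200001c0010b20042f3b90000001000080020a603060b0c6400c04280014a00051a100210881800000002000020c00000000a84740000070521988044004281011d04008f81020b190c02200080000000000000000000000000214010000
set_option linter.all false
open scoped Cfsg.Agent.FastGrp

-- part: BZ/RT/C5R
section
/-!
# BZ / RT / C5 : the rank of the moved lattice (helper2)
-/

set_option autoImplicit false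
set_option linter.unusedSectionVars false

namespace Cfsg.Agent.BZ.RT.C5

open Polynomial Module

namespace Rk

theorem bez {N : ℕ} (hN : 0 < N) {f : ℤ[X]} (h0 : f ≠ 0) (h8 : f.natDegree < N.totient) :
    ∃ (c : ℤ) (a b : ℤ[X]), c ≠ 0 ∧ C c = a * cyclotomic N ℤ + b * f := by
  have hm := cyclotomic.monic N ℤ
  have : IsDomain (AdjoinRoot (cyclotomic N ℤ)) := AdjoinRoot.isDomain_of_prime (cyclotomic.irreducible hN).prime
  have : Module.Finite ℤ (AdjoinRoot (cyclotomic N ℤ)) := hm.finite_adjoinRoot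
  have h1 : AdjoinRoot.mk (cyclotomic N ℤ) f ≠ 0 :=
    AdjoinRoot.mk_ne_zero_of_natDegree_lt hm h0 (by rwa [natDegree_cyclotomic])
  obtain ⟨c, hc, s, hs⟩ := (Algebra.IsIntegral.isIntegral (R := ℤ) _).isAlgebraic.exists_nonzero_dvd
    (mem_nonZeroDivisors_of_ne_zero h1)
  obtain ⟨b, rfl⟩ := AdjoinRoot.mk_surjective s
  rw [← map_mul, AdjoinRoot.algebraMap_eq, ← AdjoinRoot.mk_C, AdjoinRoot.mk_eq_mk] at hs
  obtain ⟨a, ha⟩ := hs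
  exact ⟨c, a, b, hc, by linear_combination ha⟩

variable {M : Type} [AddCommGroup M] [IsTorsionFree ℤ M]

theorem zero_of {N : ℕ} (hN : 0 < N) {B : End ℤ M} {f : ℤ[X]} (h0 : f ≠ 0) (h8 : f.natDegree < N.totient) {v : M}
    (h1 : aeval B (cyclotomic N ℤ) v = 0) (h2 : aeval B f v = 0) : v = 0 := by
  obtain ⟨c, a, b, hc, h⟩ := bez hN h0 h8
  have h3 := congrArg (fun g => aeval B g v) h
  simp only [map_add, map_mul, LinearMap.add_apply, End.mul_apply, h1, h2, map_zero, add_zero, aeval_C, algebraMap_end_apply] at h3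
  exact (smul_eq_zero.1 h3).resolve_left hc

theorem comm {a b : End ℤ M} (h : Commute a b) (f g : ℤ[X]) : Commute (aeval a f) (aeval b g) := by
  have k : ∀ {a b : End ℤ M}, Commute a b → ∀ f : ℤ[X], Commute (aeval a f) b := fun h f => by
    induction f using Polynomial.induction_on' with
    | add p q hp hq =>
      rw [map_add]
      exact hp.add_left hq
    | monomial n c =>
      rw [aeval_monomial]
      exact (Algebra.commute_algebraMap_left c _).mul_left (h.pow_left n)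
  exact (k (k h f).symm g).symm

theorem pow_fix {a : End ℤ M} {d : ℕ} {y : M} (h : aeval a (cyclotomic d ℤ) y = 0) : (a ^ d) y = y := by
  obtain ⟨g, hg⟩ := cyclotomic.dvd_X_pow_sub_one d ℤ
  have := congrArg (fun g => aeval a g y) hg
  simp only [mul_comm (cyclotomic d ℤ), map_mul, End.mul_apply, h, map_zero, map_sub, map_pow, aeval_X, map_one, LinearMap.sub_apply,
    End.one_apply] at this
  exact sub_eq_zero.1 this

theorem nrm {w : End ℤ M} {l : ℕ} (hl : l.Prime) {y : M} (h : w y = y) : aeval w (cyclotomic l ℤ) y = l • y := by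
  have := Fact.mk hl
  have k : ∀ i : ℕ, (w ^ i) y = y := fun i => by
    induction i with
    | zero => rfl
    | succ i ih => rw [pow_succ, End.mul_apply, h, ih]
  simp only [cyclotomic_prime, map_sum, map_pow, aeval_X, LinearMap.sum_apply, k, Finset.sum_const, Finset.card_range]

/-- a vector which generates a free module over the cyclotomic integers of level `l d` -/
theorem gen {a w : End ℤ M} (hc : Commute a w) {l d : ℕ} (hl : l.Prime) (hd : ¬ l ∣ d) (hw : w ^ l = 1) {μ : M}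
    (h1 : aeval a (cyclotomic d ℤ) μ = 0) (h2 : w μ ≠ μ) :
    ∃ y, y ≠ 0 ∧ aeval (a * w) (cyclotomic (d * l) ℤ) y = 0 ∧ aeval w (cyclotomic l ℤ) y = 0 := by
  have := Fact.mk hl
  have k1 : aeval a (cyclotomic d ℤ) (w μ - μ) = 0 := by
    have := LinearMap.congr_fun (comm hc (cyclotomic d ℤ) X).eq μ
    simp only [aeval_X, End.mul_apply, h1, map_zero] at this
    rw [map_sub, this, h1, sub_zero]
  have k2 : aeval w (cyclotomic l ℤ) (w μ - μ) = 0 := by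
    have := congrArg (fun g => aeval w g μ) (cyclotomic_prime_mul_X_sub_one ℤ l)
    simpa only [map_mul, End.mul_apply, map_sub, map_pow, aeval_X, map_one, LinearMap.sub_apply, End.one_apply, hw, sub_self,
      LinearMap.zero_apply] using this
  have k3 := sub_ne_zero.2 h2
  generalize w μ - μ = y at k1 k2 k3
  refine ⟨aeval (a * w) (cyclotomic d ℤ) y, fun e => k3 ?_, ?_, ?_⟩
  · have k4 := pow_fix e
    rw [hc.mul_pow, (hc.pow_pow d d).eq, End.mul_apply, pow_fix k1] at k4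
    obtain ⟨m, -, k5⟩ := Nat.exists_mul_mod_eq_one_of_coprime ((hl.coprime_iff_not_dvd.2 hd).symm) hl.one_lt
    have k6 : ∀ i : ℕ, ((w ^ d) ^ i) y = y := fun i => by
      induction i with
      | zero => rfl
      | succ i ih => rw [pow_succ, End.mul_apply, k4, ih]
    have k7 := k6 m
    rw [← pow_mul, ← Nat.div_add_mod (d * m) l, k5, pow_add, pow_mul, hw, one_pow, one_mul, pow_one] at k7
    rw [nrm hl k7, ← natCast_zsmul] at k2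
    exact (smul_eq_zero.1 k2).resolve_left (Int.natCast_ne_zero.2 hl.ne_zero)
  · rw [← End.mul_apply, ← map_mul, ← cyclotomic_expand_eq_cyclotomic_mul hl hd, expand_aeval, hc.mul_pow, hw, mul_one, ← expand_aeval,
      cyclotomic_expand_eq_cyclotomic_mul hl hd, map_mul, End.mul_apply, k1, map_zero]
  · rw [← End.mul_apply, (comm (hc.symm.mul_right (.refl w)) _ _).eq, End.mul_apply, k2, map_zero]

/-- the count -/
theorem cnt {N J : Type} [AddCommGroup N] [Module.Finite ℤ N] [IsTorsionFree ℤ N] [Fintype J] {a w : End ℤ M} (hc : Commute a w)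
    {l d : ℕ} (hl : l.Prime) (hd : ¬ l ∣ d) (hw : w ^ l = 1) {μ : M} (h1 : aeval a (cyclotomic d ℤ) μ = 0) (h2 : w μ ≠ μ)
    (ι : M →ₗ[ℤ] N) (hι : Function.Injective ι) {v : End ℤ N} (hv : ∀ (g : ℤ[X]) y, aeval v g (ι y) = ι (aeval w g y)) (u : (J → ℤ) →ₗ[ℤ] N)
    (hu : ∀ β, u β = 0 → β = 0) (h3 : ∀ β, v (u β) = u β) : d.totient * (l - 1) + Fintype.card J ≤ finrank ℤ N := by
  obtain ⟨y, y0, y1, y2⟩ := gen hc hl hd hw h1 h2
  have d0 : 0 < d * l := Nat.mul_pos (Nat.pos_of_ne_zero fun e => hd (e ▸ dvd_zero l)) hl.pos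
  let φ : (degreeLT ℤ (d * l).totient × (J → ℤ)) →ₗ[ℤ] N :=
    (ι ∘ₗ LinearMap.applyₗ y ∘ₗ (aeval (a * w)).toLinearMap ∘ₗ (degreeLT ℤ _).subtype).coprod u
  have h4 : Function.Injective φ := (injective_iff_map_eq_zero φ).2 fun ⟨f, β⟩ hf => by
    have k1 : ι (aeval (a * w) f.1 y) + u β = 0 := hf
    have k2 := congrArg (aeval v (cyclotomic l ℤ)) k1
    rw [map_add, hv, ← End.mul_apply, (comm (hc.symm.mul_right (.refl w)) _ _).eq, End.mul_apply, y2, map_zero, map_zero, zero_add,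
      map_zero, nrm hl (h3 β), ← natCast_zsmul] at k2
    have k3 := (smul_eq_zero.1 k2).resolve_left (Int.natCast_ne_zero.2 hl.ne_zero)
    rw [k3, add_zero] at k1
    refine Prod.ext (Subtype.ext (by_contra fun e => y0 ?_)) (hu β k3)
    exact zero_of d0 e ((natDegree_lt_iff_degree_lt e).2 (mem_degreeLT.1 f.2)) y1 (hι (k1.trans (map_zero ι).symm))
  have h5 := LinearMap.finrank_le_finrank_of_injective h4
  have := Module.Free.of_equiv (degreeLTEquiv ℤ (d * l).totient).symm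
  have := Module.Finite.equiv (degreeLTEquiv ℤ (d * l).totient).symm
  rwa [finrank_prod, (degreeLTEquiv ℤ _).finrank_eq, finrank_fin_fun, finrank_fintype_fun_eq_card,
    Nat.totient_mul (hl.coprime_iff_not_dvd.2 hd).symm, Nat.totient_prime hl] at h5

theorem res {N : Type} [AddCommGroup N] {a : End ℤ M} {v : End ℤ N} (ι : M →ₗ[ℤ] N) (h : ∀ y, v (ι y) = ι (a y)) (g : ℤ[X]) (y : M) :
    aeval v g (ι y) = ι (aeval a g y) := by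
  have k : ∀ (i : ℕ) y, (v ^ i) (ι y) = ι ((a ^ i) y) := fun i => by
    induction i with
    | zero => exact fun _ => rfl
    | succ i ih => exact fun y => by rw [pow_succ, pow_succ, End.mul_apply, End.mul_apply, h, ih]
  induction g using Polynomial.induction_on' with
  | add p q hp hq => rw [map_add, map_add, LinearMap.add_apply, LinearMap.add_apply, map_add, hp, hq]
  | monomial n c => simp only [aeval_monomial, End.mul_apply, algebraMap_end_apply, k, map_smul]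

open Matrix in
theorem lin {I : Type} [Fintype I] [DecidableEq I] (A : Matrix I I ℤ) (g : ℤ[X]) (y : I → ℤ) :
    aeval (toLin' A) g y = aeval A g *ᵥ y := by
  rw [← toLin'_apply (aeval A g)]
  exact LinearMap.congr_fun (aeval_algHom_apply (toLinAlgEquiv' (R := ℤ) (n := I)).toAlgHom A g) y

end Rk

open Rk Matrix Cfsg.Agent.HZ.L in
/-- **[Rk]** -/
theorem boxRk : BoxRk := by
  intro I J _ _ _ _ L X v l d μ u hl hd hv h h1 h2 h3 h4 h5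
  let M : Submodule ℤ (I → ℤ) :=
    { carrier := {y | Perp L y}
      add_mem' := fun hx hy a ha => by rw [dotProduct_add, hx a ha, hy a ha, add_zero]
      zero_mem' := fun a _ => dotProduct_zero _
      smul_mem' := fun c _ hx a ha => by rw [dotProduct_smul, hx a ha, smul_zero] }
  let a : End ℤ M := (toLin' X).restrict fun y hy => (h y hy).1
  let w : End ℤ M := (toLin' v).restrict fun y hy => (h y hy).2.1
  have k1 := res (a := a) (v := toLin' X) M.subtype fun _ => rfl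
  have k2 := res (a := w) (v := toLin' v) M.subtype fun _ => rfl
  have k3 := cnt (a := a) (w := w) (LinearMap.ext fun y => Subtype.ext (h y.1 y.2).2.2) hl hd (LinearMap.ext fun y => Subtype.ext (by
      have := k2 (Polynomial.X ^ l) y
      rw [lin, map_pow, map_pow, aeval_X, aeval_X, hv, one_mulVec] at this
      exact this.symm)) (μ := ⟨μ, h1⟩) (Subtype.ext ((k1 _ _).symm.trans ((lin _ _ _).trans h2)))
    (fun e => h3 (congrArg Subtype.val e)) M.subtype M.injective_subtype k2 (toLin' u) h4 fun β => by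
      rw [toLin'_apply, toLin'_apply, mulVec_mulVec, h5]
  rwa [finrank_fintype_fun_eq_card] at k3

end Cfsg.Agent.BZ.RT.C5
end

-- part: BZ/RT/C5S
section
/-!
# BZ / RT / C5 : standard parabolic subsystems and their normalisers (helper2)
-/

set_option autoImplicit false
set_option linter.unusedSectionVars false

namespace Cfsg.Agent.BZ.RT.C5

open Cfsg Matrix Polynomial Cfsg.Agent.DL Cfsg.Agent.HZ.L Cfsg.Agent.BZ.TA Cfsg.Agent.BZ.TA.Cl Cfsg.Agent.OM.Cu Cfsg.Agent.BZ.RT.Z2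

variable {R I : Type} [Fintype R] [DecidableEq R] [Fintype I] [DecidableEq I] {P : Matrix R I ℤ} {Ψ : RS R} {C X g : Mat I} {A : Mat R}
  {D : I → ℤ} {μ : Vec I} {lam : Vec R} {L : RS I}

/-- `μ` is the projection of `lam` -/
def Rl (C : Mat I) (P : Matrix R I ℤ) (Ψ : RS R) (μ : Vec I) (lam : Vec R) : Prop :=
  ∀ a ∈ Rc C, ∀ b ∈ Ψ, P *ᵥ a.2 = b.2 → a.1 ⬝ᵥ μ = C.det * (b.1 ⬝ᵥ lam)

theorem ad (h : Car C D) (T : Tr P (Rc C) Ψ) (lam : Vec R) :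
    ∃ (P' : Matrix R I ℤ) (μ : Vec I), Tr P' (Rc C) Ψ ∧ Dom C μ ∧ Rl C P' Ψ μ lam := by
  have H := boxRs C D h
  obtain ⟨v, hv⟩ := Ad.exists_dn h T lam
  obtain ⟨u, hu, h2⟩ := Ad.exists_dom H v
  obtain ⟨u', hu', h3, -⟩ := H.inv u hu
  refine ⟨P * u', u *ᵥ v, (Ad.tr_w H hu').comp T, h2, fun a ha b hb e => ?_⟩
  obtain ⟨a', a1, a2, a3⟩ := H.nm u' hu' a ha
  rw [← a3, ← dotProduct_mulVec, mulVec_mulVec, h3, one_mulVec, hv a' a1 b hb (by rw [← a2, mulVec_mulVec, e])]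

theorem Rl.poly (H : Rs C D) (T : Tr P (Rc C) Ψ) (hX : A * P = P * X) (hA : Nm A Ψ) (h : Rl C P Ψ μ lam) (f : ℤ[X]) :
    Rl C P Ψ (aeval X f *ᵥ μ) (aeval A f *ᵥ lam) := by
  have k : ∀ i : ℕ, Rl C P Ψ (X ^ i *ᵥ μ) (A ^ i *ᵥ lam) := fun i => by
    induction i with
    | zero => rwa [pow_zero, pow_zero, one_mulVec, one_mulVec]
    | succ i ih =>
      intro a ha b hb e
      obtain ⟨a', a1, a2, a3⟩ := TrL.nm_surj H (T.nm_dn hX hA) a ha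
      obtain ⟨b', b1, b2, -⟩ := T.up a' a1
      obtain ⟨c, c1, c2, c3⟩ := hA b' b1
      obtain rfl := T.ext c c1 b hb (by rw [← c2, ← b2, mulVec_mulVec, hX, ← mulVec_mulVec, a2, e])
      rw [pow_succ', pow_succ', ← mulVec_mulVec, ← mulVec_mulVec, dotProduct_mulVec, a3, ih a' a1 b' b1 b2, dotProduct_mulVec c.1, c3]
  induction f using Polynomial.induction_on' with
  | add p q hp hq =>
    intro a ha b hb e
    rw [map_add, map_add, add_mulVec, add_mulVec, dotProduct_add, dotProduct_add, hp a ha b hb e, hq a ha b hb e, mul_add]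
  | monomial n c =>
    intro a ha b hb e
    rw [aeval_monomial, aeval_monomial, ← Algebra.smul_def, ← Algebra.smul_def, smul_mulVec, smul_mulVec, dotProduct_smul,
      dotProduct_smul, k n a ha b hb e, smul_eq_mul, smul_eq_mul, mul_left_comm]

theorem Rl.zero (H : Rs C D) (T : Tr P (Rc C) Ψ) (h : Rl C P Ψ μ 0) : μ = 0 := H.top _ fun a ha =>
  let ⟨b, hb, e, _⟩ := T.up a ha
  (h a ha b hb e).trans (by rw [dotProduct_zero, mul_zero])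

theorem perp (H : Rs C D) (h : Nm g (Rc C)) (hL : Nm g L) {y : Vec I} (hy : Perp L y) : Perp L (g *ᵥ y) := fun a ha => by
  obtain ⟨n, h1, h2⟩ := fin_ord H h
  obtain ⟨b, hb, -, e⟩ := Nm.pow hL (n - 1) a ha
  rw [← e, ← dotProduct_mulVec, mulVec_mulVec, ← pow_succ, Nat.sub_add_cancel h1, h2, one_mulVec, hy b hb]

theorem inc_single {J : I → Prop} [DecidablePred J] (j : {i // J i}) : inc J *ᵥ Pi.single j 1 = Pi.single (j : I) 1 := by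
  rw [mulVec_single_one]
  funext i
  simp [inc, one_apply, Pi.single_apply]

theorem inc_out {J : I → Prop} [DecidablePred J] (β : Vec {i // J i}) {i : I} (hi : ¬ J i) : (inc J *ᵥ β) i = 0 :=
  Finset.sum_eq_zero fun x _ => mul_eq_zero_of_left (one_apply_ne fun e => hi ((show i = x from e) ▸ x.2)) _

/-- the base of the Levi subsystem is kept after a correction -/
theorem adj (h : Car C D) (hd : Dom C μ) (hL : Nm g (_root_.Cfsg.Agent.HZ.L.lev (Rc C) μ)) : ∃ u ∈ WW (_root_.Cfsg.Agent.HZ.L.lev (Rc C) μ), ∃ π : Equiv.Perm {i // Jz C μ i},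
    (∀ i j, C (π i) (π j) = C i j) ∧ u * g * inc (Jz C μ) = inc (Jz C μ) * pm π := by
  have T := ParT.tr_lev h hd
  have hJ := ParT.car_res (Jz C μ) h
  have H := boxRs _ _ hJ
  obtain ⟨Y, hY⟩ := Gl.exists_B H T hL
  obtain ⟨w, hw, π, h1, rfl⟩ := boxCh boxRs _ _ Y hJ (T.nm_dn hY hL)
  obtain ⟨w', h2, h3, -⟩ := H.inv w hw
  obtain ⟨u, h4, h5⟩ := T.ww_up (H.ww ▸ h2)
  exact ⟨u, h4, π, h1, by rw [Tr.mul h5 hY, ← mul_assoc, h3, one_mul]⟩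

/-- diagram automorphisms -/
theorem dia (h : Car C D) (hd : Dom C μ) (hg : Nm g (Rc C)) (h1 : g *ᵥ μ = μ) {σ : Equiv.Perm {i // Jz C μ i}}
    (h2 : g * inc (Jz C μ) = inc (Jz C μ) * pm σ) : ∃ π : Equiv.Perm I, (∀ i j, C (π i) (π j) = C i j) ∧ ∀ j : {i // Jz C μ i}, π j = σ j := by
  have H := boxRs C D h
  have k : ∀ j : {i // Jz C μ i}, g *ᵥ Pi.single (j : I) 1 = Pi.single (σ j : I) 1 := fun j => by
    rw [← inc_single, mulVec_mulVec, h2, ← mulVec_mulVec, pm_single, inc_single]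
  obtain ⟨π, h3, rfl⟩ := Ch.of_pos H hg fun i => by
    by_cases hi : Jz C μ i
    · exact (k ⟨i, hi⟩).symm ▸ Pi.single_nonneg.2 zero_le_one
    obtain ⟨b, hb, b1, b2⟩ := hg _ (H.mem i)
    refine b1 ▸ (H.pn b hb).resolve_right fun h0 => hi (le_antisymm ?_ (hd i))
    have := ParT.nonneg h hd (H.neg b hb) (neg_nonneg.2 h0)
    rwa [Prod.fst_neg, neg_dotProduct, neg_nonneg, ← h1, dotProduct_mulVec, b2] at this
  refine ⟨π, h3, fun j => by_contra fun e => ?_⟩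
  have := congrFun (k j) (π j)
  rw [pm_single, Pi.single_eq_same, Pi.single_eq_of_ne e] at this
  exact one_ne_zero this

/-- the Weyl group contains no diagram automorphism -/
theorem pm_eq (h : Car C D) {π : Equiv.Perm I} (h1 : ∀ i j, C (π i) (π j) = C i j) (h2 : pm π ∈ Wc C) : pm π = 1 := by
  have H := boxRs C D h
  have k0 : ((fun _ => C.det) ᵥ* adjugate C) ᵥ* C = fun _ => C.det * C.det := by
    rw [vecMul_vecMul, adjugate_mul, vecMul_smul, vecMul_one]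
    rfl
  generalize (fun _ => C.det) ᵥ* adjugate C = ν at k0
  have k1 : ∀ i, (sp C i).1 ⬝ᵥ ν = C.det * C.det := fun i => by rw [RsP.sp_dot, k0]
  have k2 : Dom C ν := fun i => k1 i ▸ mul_self_nonneg _
  have k3 : pm π *ᵥ ν = ν := sub_eq_zero.1 (RsP.top₀ h (_root_.funext <| π.surjective.forall.2 fun i => by
    rw [sub_vecMul, k0, Pi.sub_apply, Pi.zero_apply, sub_eq_zero, ← congrFun k0 i, vecMul, vecMul, dotProduct, dotProduct,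
      ← Equiv.sum_comp π]
    exact Finset.sum_congr rfl fun j _ => by rw [pm_mulVec, h1]))
  have k4 : _root_.Cfsg.Agent.HZ.L.lev (Rc C) ν = ∅ := Set.eq_empty_of_forall_notMem fun a ha => BaseA.ne_zero H ha.1 (_root_.funext fun i =>
    (ParT.zero_iff h k2 ha.1).1 ha.2 i fun e => mul_self_ne_zero.2 (RsP.det_ne h) ((k1 i).symm.trans e))
  have k5 := ParT.stab h k2 h2 k3
  rwa [k4, WW, Set.image_empty, Submonoid.closure_empty, Submonoid.mem_bot] at k5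

theorem pm_pow (π : Equiv.Perm I) (n : ℕ) : pm (π ^ n) = pm π ^ n := by
  induction n with
  | zero => rw [pow_zero, pow_zero, pm_one]
  | succ n ih => rw [pow_succ, pow_succ, pm_mul, ih]

theorem pm_inj {π : Equiv.Perm I} (h : pm π = 1) : π = 1 := Equiv.ext fun j => by_contra fun e => by
  have := congrFun (pm_single π j) (π j)
  rw [h, one_mulVec, Pi.single_eq_same, Pi.single_eq_of_ne (show π j ≠ j from e)] at this
  exact zero_ne_one this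

theorem tr_pow {S : Type} [Fintype S] [DecidableEq S] {Q : Matrix I S ℤ} {Y : Mat S} (h : g * Q = Q * Y) (n : ℕ) : g ^ n * Q = Q * Y ^ n := by
  induction n with
  | zero => rw [pow_zero, pow_zero, Matrix.one_mul, Matrix.mul_one]
  | succ n ih => rw [pow_succ, pow_succ, Tr.mul ih h]

/-- an element of the parabolic subgroup which keeps the base -/
theorem one_of (h : Car C D) (hd : Dom C μ) (hg : g ∈ WW (_root_.Cfsg.Agent.HZ.L.lev (Rc C) μ)) {σ : Equiv.Perm {i // Jz C μ i}}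
    (h1 : ∀ i j, C (σ i) (σ j) = C i j) (h2 : g * inc (Jz C μ) = inc (Jz C μ) * pm σ) : g = 1 ∧ σ = 1 := by
  have T := ParT.tr_lev h hd
  have hJ := ParT.car_res (Jz C μ) h
  have H := boxRs _ _ hJ
  obtain ⟨w, hw, e⟩ := T.ww_dn hg
  have k := pm_eq hJ h1 (T.cancel (e.symm.trans h2) ▸ H.ww ▸ hw)
  exact ⟨T.eq_of H hg (one_mem _) (by rw [h2, k, Matrix.mul_one, Matrix.one_mul]), pm_inj k⟩

theorem fix_of {α : Type} {σ : Equiv.Perm α} {x : α} {a b : ℕ} (h : a.Coprime b) (h1 : (σ ^ a) x = x) (h2 : σ ^ b = 1) : σ x = x := by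
  have := Function.IsPeriodicPt.gcd (f := σ) (x := x) (m := a) (n := b) (by rwa [Function.IsPeriodicPt, ← Equiv.Perm.coe_pow])
    (by rw [Function.IsPeriodicPt, ← Equiv.Perm.coe_pow, h2]; rfl)
  rwa [h.gcd_eq_one] at this

/-- no cycles of length `l` -/
theorem cyc {n l i : ℕ} {C g : Mat (Fin n)} (O : Ok C l) (hl : l.Prime) {J : Fin n → Prop} [DecidablePred J] (hg : g ∈ Wc C)
    {σ : Equiv.Perm {i // J i}} (h1 : ∀ i j, C (σ i) (σ j) = C i j) (h2 : g * inc J = inc J * pm σ) (h3 : σ ^ l ^ i = 1) : σ = 1 := by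
  obtain ⟨col, m, mt, hm, c1, c2⟩ := O.cyc
  have ho : Odd l := hl.odd_of_ne_two O.two
  refine Equiv.ext fun j => by_contra fun e => ?_
  have key : ∀ (x : {i // J i}) (c : ℕ), σ x ≠ x → 0 < c → c < l → mt x ≠ mt ((σ ^ c) x) := fun x c hx c0 cl e1 => by
    have k0 : c.Coprime (l ^ i) := ((Nat.coprime_of_lt_prime c0.ne' cl hl).symm).pow_right i
    have k1 : (σ ^ c) x ≠ x := fun k => hx (fix_of k0 k h3)
    have k2 : ∀ (k : ℕ) a b, C ((σ ^ k) a) ((σ ^ k) b) = C a b := fun k => by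
      induction k with
      | zero => exact fun _ _ => rfl
      | succ k ih => exact fun a b => by rw [pow_succ, Equiv.Perm.mul_apply, Equiv.Perm.mul_apply, ih, h1]
    rcases c2 _ _ e1 (fun k => k1 (Subtype.ext k).symm) with k3 | k3
    · have k4 : ∀ k : ℕ, col (((σ ^ c) ^ k) x) = col x ↔ Even k := fun k => by
        induction k with
        | zero => simp only [_root_.pow_zero, _root_.Equiv.Perm.coe_one, _root_.id_eq, _root_.Even.zero]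
        | succ k ih =>
          have := c1 (((σ ^ c) ^ k) x) (((σ ^ c) ^ (k + 1)) x) (fun k => k1 (Equiv.injective _ (Subtype.ext k)).symm)
            (by rwa [pow_succ, Equiv.Perm.mul_apply, ← pow_mul, k2])
          rw [Nat.even_add_one, ← ih]
          revert this
          cases col (((σ ^ c) ^ k) x) <;> cases col (((σ ^ c) ^ (k + 1)) x) <;> cases col x <;> simp
      have k5 := (k4 (l ^ i)).1 (by rw [← pow_mul, mul_comm, pow_mul, h3, one_pow]; rfl)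
      exact Nat.not_even_iff_odd.2 ho.pow k5
    · obtain ⟨u, hu⟩ := fix_two (C := C) (v := Pi.single (x : Fin n) 1 + Pi.single ((σ ^ c) x : Fin n) 1)
        (fun i => by simpa only [sp, _root_.dotProduct_add, _root_.dotProduct_single, _root_.mul_one] using k3 i) (pow_mem hg c)
      rw [← inc_single, ← inc_single, mulVec_add, mulVec_mulVec, mulVec_mulVec, tr_pow h2, ← pm_pow, ← mulVec_mulVec, ← mulVec_mulVec,
        pm_single, pm_single, inc_single, inc_single, inc_single, add_comm, add_right_comm, add_left_inj] at hu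
      have k4 : (σ ^ (c + c)) x = x := by_contra fun k => by
        have := congrFun hu x
        rw [Pi.add_apply, Pi.single_eq_same, Pi.single_eq_of_ne (fun k' => k (Subtype.ext (by rw [pow_add]; exact k'.symm))),
          Pi.smul_apply, smul_eq_mul] at this
        omega
      exact hx (fix_of (by rw [← two_mul]; exact Nat.Coprime.mul_left (Nat.coprime_two_left.2 ho.pow) k0) k4 h3)
  have k : ∀ a b : Fin (m + 1), a < b → mt ((σ ^ (a : ℕ)) j) ≠ mt ((σ ^ (b : ℕ)) j) := fun a b hab => by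
    have := key ((σ ^ (a : ℕ)) j) (b - a) (fun k => e ((σ ^ (a : ℕ)).injective (by
      rw [← Equiv.Perm.mul_apply, ← pow_succ, pow_succ', Equiv.Perm.mul_apply, k]; rfl))) (Nat.sub_pos_of_lt hab) (by omega)
    rwa [← Equiv.Perm.mul_apply, ← pow_add, Nat.sub_add_cancel hab.le] at this
  obtain ⟨a, b, h4, h5⟩ := Fintype.exists_ne_map_eq_of_card_lt (fun a : Fin (m + 1) => mt ((σ ^ (a : ℕ)) j)) (by simp only [_root_.Fintype.card_fin, _root_.lt_add_iff_pos_right, _root_.Order.lt_one_iff])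
  rcases lt_or_gt_of_ne h4 with h6 | h6
  exacts [k a b h6 h5, k b a h6 h5.symm]

theorem exists_ord {M : Type} [Monoid M] {l : ℕ} (i : ℕ) : ∀ x : M, x ≠ 1 → x ^ l ^ i = 1 → ∃ k, x ^ k ≠ 1 ∧ (x ^ k) ^ l = 1 := by
  induction i with
  | zero => exact fun x h1 h2 => absurd (by simpa using h2) h1
  | succ i ih =>
    intro x h1 h2
    by_cases e : x ^ l = 1
    · exact ⟨1, by rwa [pow_one], by rwa [pow_one]⟩
    · obtain ⟨k, k1, k2⟩ := ih _ e (by rwa [← pow_mul, ← pow_succ'])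
      exact ⟨l * k, by rwa [pow_mul], by rwa [pow_mul]⟩

/-- **an element of order `l` which fixes the Levi subsystem** -/
theorem exists_fix {n l : ℕ} {C : Mat (Fin n)} {D : Fin n → ℤ} {μ : Vec (Fin n)} (h : Car C D) (O : Ok C l) (hl : l.Prime) (hd : Dom C μ)
    {V : Submonoid (Mat (Fin n))} (vw : V ≤ Wc C) (wv : WW (_root_.Cfsg.Agent.HZ.L.lev (Rc C) μ) ≤ V) (vn : ∀ v ∈ V, Nm v (_root_.Cfsg.Agent.HZ.L.lev (Rc C) μ))
    (vl : ∀ v ∈ V, ∃ i : ℕ, v ^ l ^ i ∈ WW (_root_.Cfsg.Agent.HZ.L.lev (Rc C) μ)) (ne : ∃ v ∈ V, v ∉ WW (_root_.Cfsg.Agent.HZ.L.lev (Rc C) μ)) :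
    ∃ v ∈ V, v ^ l = 1 ∧ v * inc (Jz C μ) = inc (Jz C μ) ∧ v *ᵥ μ ≠ μ := by
  obtain ⟨v, v1, v2⟩ := ne
  obtain ⟨u, u1, σ, s1, s2⟩ := adj h hd (vn v v1)
  have k1 := mul_mem (wv u1) v1
  obtain ⟨i, k2⟩ := vl _ k1
  have k3 : ∀ (k : ℕ) a b, C ((σ ^ k) a) ((σ ^ k) b) = C a b := fun k => by
    induction k with
    | zero => exact fun _ _ => rfl
    | succ k ih => exact fun a b => by rw [pow_succ, Equiv.Perm.mul_apply, Equiv.Perm.mul_apply, ih, s1]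
  obtain ⟨k4, k5⟩ := one_of h hd k2 (k3 _) (by rw [tr_pow s2, pm_pow])
  obtain rfl := cyc O hl (vw k1) s1 s2 k5
  obtain ⟨k, k6, k7⟩ := exists_ord i (u * v) (fun e => by
    obtain ⟨u', a1, a2, -⟩ := WW_inv (fun a ha => (boxRs C D h).two a ha.1) u1
    rw [← one_mul v, ← a2, mul_assoc, e, mul_one] at v2
    exact v2 a1) k4
  have k8 := tr_pow s2 k
  rw [← pm_pow, one_pow] at k8
  exact ⟨_, pow_mem k1 k, k7, by rw [k8, pm_one, Matrix.mul_one], fun e =>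
    k6 (one_of h hd (ParT.stab h hd (vw (pow_mem k1 k)) e) (σ := 1) (fun _ _ => rfl) k8).1⟩

/-- **the rank** -/
theorem rank (h : Car C D) (hd : Dom C μ) {l d : ℕ} (hl : l.Prime) (h0 : ¬ l ∣ d) (hX : Nm X (Rc C)) (hX' : Nm X (_root_.Cfsg.Agent.HZ.L.lev (Rc C) μ))
    (h1 : aeval X (cyclotomic d ℤ) *ᵥ μ = 0) (hg : g ∈ Wc C) (hg' : Nm g (_root_.Cfsg.Agent.HZ.L.lev (Rc C) μ))
    (h2 : ∃ u ∈ WW (_root_.Cfsg.Agent.HZ.L.lev (Rc C) μ), g * X = u * X * g) (h3 : g ^ l = 1) (h4 : g * inc (Jz C μ) = inc (Jz C μ)) (h5 : g *ᵥ μ ≠ μ) :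
    d.totient * (l - 1) + Fintype.card {i // Jz C μ i} ≤ Fintype.card I ∧
      (Fintype.card {i // Jz C μ i} + (l - 1) = Fintype.card I → ∀ x, ∃ y : Vec I, (∀ i, ¬ Jz C μ i → y i = 0) ∧
        ∀ j, Jz C μ j → ∑ i, C i j * y i = l * C x j) := by
  have H := boxRs C D h
  have := Fact.mk hl
  obtain ⟨u, u1, u2⟩ := h2
  have key := fun {J : Type} [Fintype J] [DecidableEq J] (Q : Matrix I J ℤ) => boxRk (_root_.Cfsg.Agent.HZ.L.lev (Rc C) μ) X g l d μ Q hl h0 h3 (fun y hy =>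
    ⟨perp H hX hX' hy, perp H (H.nm g hg) hg' hy, by
      rw [mulVec_mulVec y g, u2, ← mulVec_mulVec, ← mulVec_mulVec, Ad.fix (perp H hX hX' (perp H (H.nm g hg) hg' hy)) u1]⟩)
    (fun _ ha => ha.2) h1 h5
  have T := ParT.tr_lev h hd
  refine ⟨key _ T.inj h4, fun e x => ⟨(∑ k ∈ Finset.range l, g ^ k) *ᵥ Pi.single x 1, fun i hi => by_contra fun h6 => ?_, fun j hj => ?_⟩⟩
  · have h7 : g *ᵥ ((∑ k ∈ Finset.range l, g ^ k) *ᵥ Pi.single x 1) = (∑ k ∈ Finset.range l, g ^ k) *ᵥ Pi.single x 1 := by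
      have := mul_geom_sum g l
      rw [h3, sub_self, sub_mul, one_mul, sub_eq_zero] at this
      rw [mulVec_mulVec, this]
    generalize (∑ k ∈ Finset.range l, g ^ k) *ᵥ Pi.single x 1 = y at h6 h7
    have h8 := key (fromCols (inc (Jz C μ)) (replicateCol Unit y)) (fun β hβ => by
      rw [fromCols_mulVec] at hβ
      have k1 := congrFun hβ i
      rw [Pi.add_apply, inc_out _ hi, zero_add] at k1
      have k2 : β ∘ Sum.inr = 0 := _root_.funext fun _ => by simpa [mulVec, dotProduct, h6] using k1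
      rw [k2, mulVec_zero, add_zero] at hβ
      exact _root_.funext fun z => z.casesOn (congrFun (T.inj _ hβ)) (congrFun k2)) (by rw [mul_fromCols, h4, ← replicateCol_mulVec, h7])
    have h9 := Nat.le_mul_of_pos_left (l - 1) (Nat.totient_pos.2 (Nat.pos_of_ne_zero fun e : d = 0 => h0 (e ▸ dvd_zero l)))
    rw [Fintype.card_sum, Fintype.card_unit] at h8
    omega
  · obtain ⟨b, hb, b1, b2⟩ := H.nm g hg _ (H.mem j)
    obtain rfl := H.ext b hb _ (H.mem j) (by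
      rw [← b1]
      exact (congrArg _ (inc_single ⟨j, hj⟩).symm).trans (by rw [mulVec_mulVec, h4, inc_single]; rfl))
    have k : ∀ k : ℕ, (sp C j).1 ᵥ* g ^ k = (sp C j).1 := fun k => by
      induction k with
      | zero => rw [pow_zero, vecMul_one]
      | succ k ih => rw [pow_succ, ← vecMul_vecMul, ih, b2]
    show (sp C j).1 ⬝ᵥ _ = _
    simp only [sum_mulVec, dotProduct_sum, dotProduct_mulVec, k, dotProduct_single, mul_one, Finset.sum_const, Finset.card_range,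
      nsmul_eq_mul]
    rfl

end Cfsg.Agent.BZ.RT.C5
end

private theorem dce_c2c11f22dec1 : _root_.True := by
  try have : _root_.True := by simp only [_root_.Cfsg.Agent.HZ.L.WW.eq_1]
  exact _root_.True.intro
end

-- part: BZ/RT/Cx/Rk3
section
prune_inst 0x234606d0576400200001c8014b22042b13d0004b21040080028a60146094dc060e9c2a8414a20051a122e98891801004002000020c05000000e8474000007052198804602e3c9031dac009f80220f190c02200080000000000000000000000004214010000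
set_option linter.all false
open scoped Cfsg.Agent.FastGrp

/-!
# BZ / RT / Cx : the group needs two dimensions (helper88)
-/

set_option autoImplicit false
set_option linter.unusedSectionVars false

namespace Cfsg.Agent.BZ.RT.Cx

open Cfsg Matrix Cfsg.Agent.DL Cfsg.Agent.HZ.L Cfsg.Agent.BZ.TA Cfsg.Agent.BZ.TA.Cl Cfsg.Agent.OM.Cu Cfsg.Agent.OM Cfsg.Agent.BZ.RT.Z2

namespace Rk88

variable {I : Type} [Fintype I] [DecidableEq I] {C X : Mat I} {d : I → ℤ} {μ : Vec I} {G : Submonoid (Mat I)}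

theorem fm_eq (β γ : Vec I) : fm C d β γ = ∑ i, β i * d i * ((sp C i).1 ⬝ᵥ γ) :=
  Finset.sum_congr rfl fun _ _ => congrArg _ (dotProduct_comm _ _)

theorem fm_add (β γ γ' : Vec I) : fm C d β (γ + γ') = fm C d β γ + fm C d β γ' := by
  simp only [fm_eq, dotProduct_add, mul_add, Finset.sum_add_distrib]

theorem fm_zero (β : Vec I) : fm C d β 0 = 0 := by simp only [fm_eq, dotProduct_zero, mul_zero, Finset.sum_const_zero]

theorem zero_of (h : Car C d) {y : Vec I} (hy : ∀ i, (sp C i).1 ⬝ᵥ y = 0) : y = 0 := by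
  by_contra h0
  have h1 : 0 < fm C d y y := h.pos y h0
  simp only [fm_eq, hy, mul_zero, Finset.sum_const_zero, lt_irrefl] at h1

/-- the vectors which are orthogonal to the Levi subsystem -/
theorem perp_iff (h : Car C d) (hd : Dom C μ) {y : Vec I} : Perp (_root_.Cfsg.Agent.HZ.L.lev (Rc C) μ) y ↔ ∀ i, Jz C μ i → (sp C i).1 ⬝ᵥ y = 0 := by
  refine ⟨fun hy i hi => hy _ ⟨(boxRs C d h).mem i, hi⟩, fun hy a ha => ?_⟩
  obtain ⟨m, h1, h2⟩ := ParT.key h ha.1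
  refine (mul_eq_zero.1 ((h2 y).trans (Finset.sum_eq_zero fun i _ => ?_))).resolve_left h1.ne'
  by_cases hi : Jz C μ i
  · rw [hy i hi, mul_zero]
  · rw [(ParT.zero_iff h hd ha.1).1 ha.2 i hi, zero_mul, zero_mul]

/-- independent vectors -/
theorem le_co (h : Car C d) (hd : Dom C μ) {k : ℕ} (u : Fin k → Vec I) (hu : ∀ j, Perp (_root_.Cfsg.Agent.HZ.L.lev (Rc C) μ) (u j))
    (hi : ∀ c : Fin k → ℤ, ∑ j, c j • u j = 0 → ∀ j, c j = 0) : k ≤ co C μ := by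
  classical
  have h1 : LinearIndependent ℤ fun j (i : {i // ¬ Jz C μ i}) => (sp C i).1 ⬝ᵥ u j :=
    Fintype.linearIndependent_iff.2 fun c hc => hi c (zero_of h fun i => by
      rw [dotProduct_sum]
      by_cases h2 : Jz C μ i
      · exact Finset.sum_eq_zero fun j _ => by rw [dotProduct_smul, (perp_iff h hd).1 (hu j) i h2, smul_zero]
      · have h3 := congrFun hc ⟨i, h2⟩
        rw [Finset.sum_apply] at h3
        exact (Finset.sum_congr rfl fun j _ => dotProduct_smul _ _ _).trans h3)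
  have h2 := h1.fintype_card_le_finrank
  rwa [Fintype.card_fin, Module.finrank_fintype_fun_eq_card, ← Nat.card_eq_fintype_card] at h2

/-- an element of order three on the orthogonal space -/
theorem exists_g (h : Car C d) (H : Mg C μ X G) : ∃ g ∈ G, g *ᵥ μ ≠ μ ∧
    ∀ y, Perp (_root_.Cfsg.Agent.HZ.L.lev (Rc C) μ) y → Perp (_root_.Cfsg.Agent.HZ.L.lev (Rc C) μ) (g *ᵥ y) ∧ g *ᵥ (g *ᵥ (g *ᵥ y)) = y := by
  classical
  obtain ⟨g, h1, h2⟩ := H.ne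
  have h3 := H.gl g h1
  obtain ⟨i, hi⟩ : ∃ i, Nat.find h3 = i + 1 := Nat.exists_eq_succ_of_ne_zero fun e => h2 (by
    have := Nat.find_spec h3
    rwa [e, pow_zero, pow_one] at this)
  have h4 := G.pow_mem h1 (3 ^ i)
  refine ⟨_, h4, fun e => Nat.find_min h3 (hi ▸ i.lt_succ_self) (ParT.stab h H.dom (H.gw h4) e), fun y hy =>
    ⟨C5.perp (boxRs C d h) ((boxRs C d h).nm _ (H.gw h4)) (H.gn _ h4).1 hy, ?_⟩⟩
  rw [mulVec_mulVec, mulVec_mulVec, ← pow_three', ← pow_mul, ← pow_succ, ← hi]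
  exact hy.fix (Nat.find_spec h3)

theorem two_three (h : Car C d) (hd : Dom C μ) {g : Mat I} (h1 : g *ᵥ μ ≠ μ)
    (h2 : ∀ y, Perp (_root_.Cfsg.Agent.HZ.L.lev (Rc C) μ) y → Perp (_root_.Cfsg.Agent.HZ.L.lev (Rc C) μ) (g *ᵥ y) ∧ g *ᵥ (g *ᵥ (g *ᵥ y)) = y) :
    2 ≤ co C μ ∧ ∀ y, y ≠ 0 → Perp (_root_.Cfsg.Agent.HZ.L.lev (Rc C) μ) y → g *ᵥ y = y → 3 ≤ co C μ := by
  have p0 : Perp (_root_.Cfsg.Agent.HZ.L.lev (Rc C) μ) μ := fun a ha => ha.2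
  obtain ⟨v, hv⟩ : ∃ v, v = g *ᵥ μ - μ := ⟨_, rfl⟩
  have p1 : Perp (_root_.Cfsg.Agent.HZ.L.lev (Rc C) μ) v := fun a ha => by rw [hv, dotProduct_sub, (h2 μ p0).1 a ha, p0 a ha, sub_zero]
  have h3 : g *ᵥ (g *ᵥ v) = -v - g *ᵥ v := by
    rw [hv, mulVec_sub, mulVec_sub, (h2 μ p0).2]
    abel
  have h4 : ∀ a b : ℤ, a • v + b • g *ᵥ v = 0 → a = 0 ∧ b = 0 := fun a b e => by
    have e1 := congrArg (g *ᵥ ·) e
    simp only [mulVec_add, mulVec_smul, mulVec_zero, h3] at e1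
    have e2 : (a ^ 2 - a * b + b ^ 2) • v = 0 := by
      rw [show (a ^ 2 - a * b + b ^ 2) • v = (a - b) • (a • v + b • g *ᵥ v) - b • (a • g *ᵥ v + b • (-v - g *ᵥ v)) by module, e, e1,
        smul_zero, smul_zero, sub_zero]
    have e3 := (smul_eq_zero.1 e2).resolve_right (hv ▸ sub_ne_zero.2 h1)
    constructor <;> nlinarith only [e3, sq_nonneg (a - b), sq_nonneg a, sq_nonneg b]
  refine ⟨le_co h hd ![v, g *ᵥ v] (fun j => by fin_cases j; exacts [p1, (h2 v p1).1]) fun c hc j => ?_, fun y y0 y1 y2 =>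
    le_co h hd ![y, v, g *ᵥ v] (fun j => by fin_cases j; exacts [y1, p1, (h2 v p1).1]) fun c hc j => ?_⟩
  · rw [Fin.sum_univ_two] at hc
    obtain ⟨e1, e2⟩ := h4 _ _ hc
    fin_cases j
    exacts [e1, e2]
  · rw [Fin.sum_univ_three] at hc
    change c 0 • y + c 1 • v + c 2 • g *ᵥ v = 0 at hc
    have e1 := congrArg (g *ᵥ ·) hc
    simp only [mulVec_add, mulVec_smul, mulVec_zero, h3, y2] at e1
    have e2 := congrArg (g *ᵥ ·) e1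
    simp only [mulVec_add, mulVec_smul, mulVec_zero, mulVec_sub, mulVec_neg, h3, y2] at e2
    have e3 : (3 * c 0) • y = 0 := by
      linear_combination (exp := 1) hc + e1 + e2
    have e4 : c 0 = 0 := by
      have := (smul_eq_zero.1 e3).resolve_right y0
      omega
    rw [e4, zero_smul, zero_add] at hc
    obtain ⟨e5, e6⟩ := h4 _ _ hc
    fin_cases j
    exacts [e4, e5, e6]

theorem co_one {a : I} (h : ∀ i, i ≠ a → Jz C μ i) : co C μ ≤ 1 :=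
  (Set.ncard_le_ncard (s := {i | ¬ Jz C μ i}) (t := {a}) (fun i (hi : ¬ Jz C μ i) => by_contra fun e => hi (h i e)) (Set.toFinite _)).trans (Set.ncard_singleton a).le

theorem co_two {a b : I} (h : ∀ i, i ≠ a → i ≠ b → Jz C μ i) : co C μ ≤ 2 :=
  (Set.ncard_le_ncard (s := {i | ¬ Jz C μ i}) (t := {a, b}) (fun i (hi : ¬ Jz C μ i) => by_contra fun e =>
    hi (h i (fun e' => e (Or.inl e')) fun e' => e (Or.inr e'))) (Set.toFinite _)).trans ((Set.ncard_insert_le _ _).trans (by rw [Set.ncard_singleton]))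

/-- **dimension two** : the orthogonal lattice is hexagonal -/
theorem par (h : Car C d) (H : Mg C μ X G) {a b : I} (hJ : ∀ i, i ≠ a → i ≠ b → Jz C μ i) (y : Vec I)
    (h0 : ∀ i, i ≠ a → i ≠ b → (sp C i).1 ⬝ᵥ y = 0) :
    ∃ z : Vec I, (∀ i, i ≠ a → i ≠ b → (sp C i).1 ⬝ᵥ z = 0) ∧ 2 * fm C d y z = -fm C d y y := by
  obtain ⟨g, h1, h2, h3⟩ := exists_g h H
  obtain ⟨h4, h5⟩ := two_three h H.dom h2 h3
  have R := boxRs C d h
  have p0 : Perp (_root_.Cfsg.Agent.HZ.L.lev (Rc C) μ) y := (perp_iff h H.dom).2 fun i hi => h0 i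
    (fun e => absurd (co_one (a := b) fun k hk => (em (k = a)).elim (fun e' => e' ▸ e ▸ hi) fun e' => hJ k e' hk) (by omega))
    fun e => absurd (co_one (a := a) fun k hk => (em (k = b)).elim (fun e' => e' ▸ e ▸ hi) fun e' => hJ k hk e') (by omega)
  have p1 := (h3 y p0).1
  have h6 : y + g *ᵥ y + g *ᵥ (g *ᵥ y) = 0 := by
    by_contra e
    refine absurd (h5 _ e (fun c hc => ?_) ?_) (by have := co_two hJ; omega)
    · rw [dotProduct_add, dotProduct_add, p0 c hc, p1 c hc, (h3 _ p1).1 c hc, add_zero, add_zero]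
    · rw [mulVec_add, mulVec_add, (h3 y p0).2]
      abel
  refine ⟨g *ᵥ y, fun i e e' => (perp_iff h H.dom).1 p1 i (hJ i e e'), ?_⟩
  have h7 := fm_zero (C := C) (d := d) y
  rw [← h6, fm_add, fm_add, ← R.iso g (H.gw h1) y (g *ᵥ (g *ᵥ y)), (h3 y p0).2, R.comm (g *ᵥ y) y] at h7
  omega

end Rk88

/-- **[Rk]** -/
theorem boxRk3 : BoxRk3 := fun _ _ _ _ _ h H =>
  let ⟨g, h1, h2, h3⟩ := Rk88.exists_g h H
  ⟨(Rk88.two_three h H.dom h2 h3).1, fun y y0 y1 y2 => (Rk88.two_three h H.dom h2 h3).2 y y0 y1 (y2 g h1)⟩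

end Cfsg.Agent.BZ.RT.Cx
end

-- part: BZ/RT/Cx/Tab_mg
section
prune_inst 0x234405d007640020000180014f2205c32be0004b0104b8800a0a20342074d8c60c9c2ae404a200518122810411831004813000020c24000000e847000000705219800440043c1031dac009981220b580c02200080000000000000000000000004210000000
set_option linter.all false
open scoped Cfsg.Agent.FastGrp

-- part: BZ/RT/Cx/Tab
section
/-!
# BZ / RT / Cx : the Levi subsystems which contain `D₄` (helper88)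
-/

set_option autoImplicit false
set_option linter.unusedSectionVars false

namespace Cfsg.Agent.BZ.RT.Cx

open Cfsg Matrix Cfsg.Agent.DL Cfsg.Agent.HZ.L Cfsg.Agent.BZ.TA Cfsg.Agent.BZ.TA.Cl Cfsg.Agent.OM.Cu Cfsg.Agent.OM Cfsg.Agent.BZ.RT.Z2

namespace Rk88

theorem dot7 (z : Vec (Fin 7)) : (sp (En 7) 0).1 ⬝ᵥ z = 2 * z 0 - z 1 ∧ (sp (En 7) 1).1 ⬝ᵥ z = 2 * z 1 - z 0 - z 2 ∧
    (sp (En 7) 2).1 ⬝ᵥ z = 2 * z 2 - z 1 - z 3 - z 6 ∧ (sp (En 7) 3).1 ⬝ᵥ z = 2 * z 3 - z 2 - z 4 ∧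
    (sp (En 7) 4).1 ⬝ᵥ z = 2 * z 4 - z 3 - z 5 ∧ (sp (En 7) 5).1 ⬝ᵥ z = 2 * z 5 - z 4 ∧ (sp (En 7) 6).1 ⬝ᵥ z = 2 * z 6 - z 2 := by
  refine ⟨?_, ?_, ?_, ?_, ?_, ?_, ?_⟩ <;> simp only [sp, dotProduct, Fin.sum_univ_succ, cm, cT, _root_.Fin.isValue, _root_.Nat.reduceEqDiff, _root_.Int.reduceNeg, _root_.Matrix.of_apply, _root_.Fin.coe_ofNat_eq_mod, _root_.Nat.zero_mod, _root_.Fin.val_eq_zero_iff, _root_.Nat.add_eq_zero_iff, _root_.one_ne_zero, _root_.and_false, _root_.zero_add, _root_.Nat.one_lt_ofNat, _root_.and_true, _root_.OfNat.zero_ne_ofNat, _root_.false_and, _root_.or_self, _root_.or_false, _root_.false_or, _root_.ite_mul, _root_.neg_mul, _root_.one_mul, _root_.MulZeroClass.zero_mul, ↓ _root_.reduceIte, _root_.Fin.succ_ne_zero, _root_.Fin.val_succ, _root_.Nat.right_eq_add, _root_.Nat.reduceAdd, _root_.Nat.reduceLT, _root_.and_self, _root_.Fin.succ_zero_eq_one,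 _root_.Finset.sum_const_zero, _root_.add_zero, _root_.Nat.one_mod, _root_.Nat.add_eq_right, _root_.OfNat.one_ne_ofNat, _root_.zero_ne_one, _root_.OfNat.ofNat_ne_zero, _root_.Fin.succ_one_eq_two, _root_.Nat.reduceMod, _root_.true_and, _root_.Fin.reduceSucc, _root_.Finset.univ_unique, _root_.Fin.default_eq_zero, _root_.Fin.val_eq_zero, _root_.Finset.sum_neg_distrib, _root_.Finset.sum_singleton, _root_.Nat.succ_ne_self, _root_.Nat.lt_add_one, _root_.lt_self_iff_false, _root_.Nat.mod_succ, _root_.OfNat.ofNat_eq_ofNat, _root_.or_true] <;> ring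

theorem dot8 (z : Vec (Fin 8)) : (sp (En 8) 0).1 ⬝ᵥ z = 2 * z 0 - z 1 ∧ (sp (En 8) 1).1 ⬝ᵥ z = 2 * z 1 - z 0 - z 2 ∧
    (sp (En 8) 2).1 ⬝ᵥ z = 2 * z 2 - z 1 - z 3 - z 7 ∧ (sp (En 8) 3).1 ⬝ᵥ z = 2 * z 3 - z 2 - z 4 ∧
    (sp (En 8) 4).1 ⬝ᵥ z = 2 * z 4 - z 3 - z 5 ∧ (sp (En 8) 5).1 ⬝ᵥ z = 2 * z 5 - z 4 - z 6 ∧
    (sp (En 8) 6).1 ⬝ᵥ z = 2 * z 6 - z 5 ∧ (sp (En 8) 7).1 ⬝ᵥ z = 2 * z 7 - z 2 := by
  refine ⟨?_, ?_, ?_, ?_, ?_, ?_, ?_, ?_⟩ <;> simp only [sp, dotProduct, Fin.sum_univ_succ, cm, cT, _root_.Fin.isValue, _root_.Nat.reduceEqDiff, _root_.Int.reduceNeg, _root_.Matrix.of_apply, _root_.Fin.coe_ofNat_eq_mod, _root_.Nat.zero_mod, _root_.Fin.val_eq_zero_iff, _root_.Nat.add_eq_zero_iff, _root_.one_ne_zero, _root_.and_false, _root_.zero_add, _root_.Nat.one_lt_ofNat, _root_.and_true, _root_.OfNat.zero_ne_ofNat, _root_.false_and, _root_.or_self, _root_.or_false,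 _root_.false_or, _root_.ite_mul, _root_.neg_mul, _root_.one_mul, _root_.MulZeroClass.zero_mul, ↓ _root_.reduceIte, _root_.Fin.succ_ne_zero, _root_.Fin.val_succ, _root_.Nat.right_eq_add, _root_.Nat.reduceAdd, _root_.Nat.reduceLT, _root_.and_self, _root_.Fin.succ_zero_eq_one, _root_.Finset.sum_const_zero, _root_.add_zero, _root_.Nat.one_mod, _root_.Nat.add_eq_right, _root_.OfNat.one_ne_ofNat, _root_.zero_ne_one, _root_.OfNat.ofNat_ne_zero, _root_.Fin.succ_one_eq_two, _root_.Nat.reduceMod, _root_.true_and, _root_.Fin.reduceSucc, _root_.Finset.univ_unique, _root_.Fin.default_eq_zero, _root_.Fin.val_eq_zero, _root_.Finset.sum_neg_distrib, _root_.Finset.sum_singleton, _root_.Nat.succ_ne_self, _root_.Nat.lt_add_one, _root_.lt_self_iff_false, _root_.Nat.mod_succ, _root_.OfNat.ofNat_eq_ofNat, _root_.or_true] <;> ring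

/-- the form of `par` for a vector of norm two -/
theorem par2 {n : ℕ} {c : ℕ → ℕ → ℤ} {d μ : Vec (Fin n)} {X : Mat (Fin n)} {G : Submonoid (Mat (Fin n))} (h : Car (cm n c) d)
    (H : Mg (cm n c) μ X G) {a b : Fin n} (hJ : ∀ i, i ≠ a → i ≠ b → Jz (cm n c) μ i) (y : Vec (Fin n)) (u v : ℤ)
    (h0 : (∀ i, i ≠ a → i ≠ b → (sp (cm n c) i).1 ⬝ᵥ y = 0) ∧ fm (cm n c) d y y = 2 ∧ a ≠ b ∧ y a * d a = u ∧ y b * d b = v) :
    ∃ z : Vec (Fin n), (∀ i, i ≠ a → i ≠ b → (sp (cm n c) i).1 ⬝ᵥ z = 0) ∧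
      u * ((sp (cm n c) a).1 ⬝ᵥ z) + v * ((sp (cm n c) b).1 ⬝ᵥ z) = -1 := by
  obtain ⟨h1, h2, h3, rfl, rfl⟩ := h0
  obtain ⟨z, h4, h5⟩ := par h H hJ y h1
  rw [h2, fm_eq, Fintype.sum_eq_add a b h3 fun i hi => by rw [h4 i hi.1 hi.2, mul_zero]] at h5
  exact ⟨z, h4, by omega⟩

theorem no7_45 {μ : Vec (Fin 7)} {X : Mat (Fin 7)} {G : Submonoid (Mat (Fin 7))} (H : Mg (En 7) μ X G)
    (hJ : ∀ i, i ≠ 4 → i ≠ 5 → Jz (En 7) μ i) : False := by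
  obtain ⟨z, h1, h2⟩ := par2 Eng.carE7 H hJ ![0, 0, 0, 0, 0, 1, 0] 0 1 (by decide +kernel)
  have k0 : (sp (En 7) 0).1 ⬝ᵥ z = 0 := h1 0 (by decide) (by decide)
  have k1 : (sp (En 7) 1).1 ⬝ᵥ z = 0 := h1 1 (by decide) (by decide)
  have k2 : (sp (En 7) 2).1 ⬝ᵥ z = 0 := h1 2 (by decide) (by decide)
  have k3 : (sp (En 7) 3).1 ⬝ᵥ z = 0 := h1 3 (by decide) (by decide)
  have k6 : (sp (En 7) 6).1 ⬝ᵥ z = 0 := h1 6 (by decide) (by decide)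
  obtain ⟨e0, e1, e2, e3, e4, e5, e6⟩ := dot7 z
  rw [show (sp (cm 7 (cT 2 7)) 4).1 ⬝ᵥ z = _ from e4, show (sp (cm 7 (cT 2 7)) 5).1 ⬝ᵥ z = _ from e5] at h2
  rw [e0] at k0
  rw [e1] at k1
  rw [e2] at k2
  rw [e3] at k3
  rw [e6] at k6
  clear e0 e1 e2 e3 e4 e5 e6 h1
  (clear * - h2 k3 k6; omega)

theorem no7_05 {μ : Vec (Fin 7)} {X : Mat (Fin 7)} {G : Submonoid (Mat (Fin 7))} (H : Mg (En 7) μ X G)
    (hJ : ∀ i, i ≠ 0 → i ≠ 5 → Jz (En 7) μ i) : False := by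
  obtain ⟨z, h1, h2⟩ := par2 Eng.carE7 H hJ ![2, 3, 4, 3, 2, 1, 2] 2 1 (by decide +kernel)
  have k1 : (sp (En 7) 1).1 ⬝ᵥ z = 0 := h1 1 (by decide) (by decide)
  have k2 : (sp (En 7) 2).1 ⬝ᵥ z = 0 := h1 2 (by decide) (by decide)
  have k3 : (sp (En 7) 3).1 ⬝ᵥ z = 0 := h1 3 (by decide) (by decide)
  have k4 : (sp (En 7) 4).1 ⬝ᵥ z = 0 := h1 4 (by decide) (by decide)
  have k6 : (sp (En 7) 6).1 ⬝ᵥ z = 0 := h1 6 (by decide) (by decide)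
  obtain ⟨e0, e1, e2, e3, e4, e5, e6⟩ := dot7 z
  rw [show (sp (cm 7 (cT 2 7)) 0).1 ⬝ᵥ z = _ from e0, show (sp (cm 7 (cT 2 7)) 5).1 ⬝ᵥ z = _ from e5] at h2
  rw [e1] at k1
  rw [e2] at k2
  rw [e3] at k3
  rw [e4] at k4
  rw [e6] at k6
  clear e0 e1 e2 e3 e4 e5 e6 h1
  (clear * - h2 k3 k6; omega)

theorem no7_04 {μ : Vec (Fin 7)} {X : Mat (Fin 7)} {G : Submonoid (Mat (Fin 7))} (H : Mg (En 7) μ X G)
    (hJ : ∀ i, i ≠ 0 → i ≠ 4 → Jz (En 7) μ i) : False := by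
  obtain ⟨z, h1, h2⟩ := par2 Eng.carE7 H hJ ![2, 3, 4, 3, 2, 1, 2] 2 2 (by decide +kernel)
  have k1 : (sp (En 7) 1).1 ⬝ᵥ z = 0 := h1 1 (by decide) (by decide)
  have k2 : (sp (En 7) 2).1 ⬝ᵥ z = 0 := h1 2 (by decide) (by decide)
  have k3 : (sp (En 7) 3).1 ⬝ᵥ z = 0 := h1 3 (by decide) (by decide)
  have k5 : (sp (En 7) 5).1 ⬝ᵥ z = 0 := h1 5 (by decide) (by decide)
  have k6 : (sp (En 7) 6).1 ⬝ᵥ z = 0 := h1 6 (by decide) (by decide)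
  obtain ⟨e0, e1, e2, e3, e4, e5, e6⟩ := dot7 z
  rw [show (sp (cm 7 (cT 2 7)) 0).1 ⬝ᵥ z = _ from e0, show (sp (cm 7 (cT 2 7)) 4).1 ⬝ᵥ z = _ from e4] at h2
  rw [e1] at k1
  rw [e2] at k2
  rw [e3] at k3
  rw [e5] at k5
  rw [e6] at k6
  clear e0 e1 e2 e3 e4 e5 e6 h1
  omega

theorem no8_46 {μ : Vec (Fin 8)} {X : Mat (Fin 8)} {G : Submonoid (Mat (Fin 8))} (H : Mg (En 8) μ X G)
    (hJ : ∀ i, i ≠ 4 → i ≠ 6 → Jz (En 8) μ i) : False := by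
  obtain ⟨z, h1, h2⟩ := par2 Eng.carE8 H hJ ![2, 4, 6, 5, 4, 3, 2, 3] 4 2 (by decide +kernel)
  have k0 : (sp (En 8) 0).1 ⬝ᵥ z = 0 := h1 0 (by decide) (by decide)
  have k1 : (sp (En 8) 1).1 ⬝ᵥ z = 0 := h1 1 (by decide) (by decide)
  have k2 : (sp (En 8) 2).1 ⬝ᵥ z = 0 := h1 2 (by decide) (by decide)
  have k3 : (sp (En 8) 3).1 ⬝ᵥ z = 0 := h1 3 (by decide) (by decide)
  have k5 : (sp (En 8) 5).1 ⬝ᵥ z = 0 := h1 5 (by decide) (by decide)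
  have k7 : (sp (En 8) 7).1 ⬝ᵥ z = 0 := h1 7 (by decide) (by decide)
  obtain ⟨e0, e1, e2, e3, e4, e5, e6, e7⟩ := dot8 z
  rw [show (sp (cm 8 (cT 2 8)) 4).1 ⬝ᵥ z = _ from e4, show (sp (cm 8 (cT 2 8)) 6).1 ⬝ᵥ z = _ from e6] at h2
  rw [e0] at k0
  rw [e1] at k1
  rw [e2] at k2
  rw [e3] at k3
  rw [e5] at k5
  rw [e7] at k7
  clear e0 e1 e2 e3 e4 e5 e6 e7 h1
  omega

theorem no8_45 {μ : Vec (Fin 8)} {X : Mat (Fin 8)} {G : Submonoid (Mat (Fin 8))} (H : Mg (En 8) μ X G)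
    (hJ : ∀ i, i ≠ 4 → i ≠ 5 → Jz (En 8) μ i) : False := by
  obtain ⟨z, h1, h2⟩ := par2 Eng.carE8 H hJ ![2, 4, 6, 5, 4, 2, 1, 3] 4 2 (by decide +kernel)
  have k0 : (sp (En 8) 0).1 ⬝ᵥ z = 0 := h1 0 (by decide) (by decide)
  have k1 : (sp (En 8) 1).1 ⬝ᵥ z = 0 := h1 1 (by decide) (by decide)
  have k2 : (sp (En 8) 2).1 ⬝ᵥ z = 0 := h1 2 (by decide) (by decide)
  have k3 : (sp (En 8) 3).1 ⬝ᵥ z = 0 := h1 3 (by decide) (by decide)
  have k6 : (sp (En 8) 6).1 ⬝ᵥ z = 0 := h1 6 (by decide) (by decide)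
  have k7 : (sp (En 8) 7).1 ⬝ᵥ z = 0 := h1 7 (by decide) (by decide)
  obtain ⟨e0, e1, e2, e3, e4, e5, e6, e7⟩ := dot8 z
  rw [show (sp (cm 8 (cT 2 8)) 4).1 ⬝ᵥ z = _ from e4, show (sp (cm 8 (cT 2 8)) 5).1 ⬝ᵥ z = _ from e5] at h2
  rw [e0] at k0
  rw [e1] at k1
  rw [e2] at k2
  rw [e3] at k3
  rw [e6] at k6
  rw [e7] at k7
  clear e0 e1 e2 e3 e4 e5 e6 e7 h1
  omega

theorem no8_06 {μ : Vec (Fin 8)} {X : Mat (Fin 8)} {G : Submonoid (Mat (Fin 8))} (H : Mg (En 8) μ X G)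
    (hJ : ∀ i, i ≠ 0 → i ≠ 6 → Jz (En 8) μ i) : False := by
  obtain ⟨z, h1, h2⟩ := par2 Eng.carE8 H hJ ![2, 4, 6, 5, 4, 3, 2, 3] 2 2 (by decide +kernel)
  have k1 : (sp (En 8) 1).1 ⬝ᵥ z = 0 := h1 1 (by decide) (by decide)
  have k2 : (sp (En 8) 2).1 ⬝ᵥ z = 0 := h1 2 (by decide) (by decide)
  have k3 : (sp (En 8) 3).1 ⬝ᵥ z = 0 := h1 3 (by decide) (by decide)
  have k4 : (sp (En 8) 4).1 ⬝ᵥ z = 0 := h1 4 (by decide) (by decide)
  have k5 : (sp (En 8) 5).1 ⬝ᵥ z = 0 := h1 5 (by decide) (by decide)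
  have k7 : (sp (En 8) 7).1 ⬝ᵥ z = 0 := h1 7 (by decide) (by decide)
  obtain ⟨e0, e1, e2, e3, e4, e5, e6, e7⟩ := dot8 z
  rw [show (sp (cm 8 (cT 2 8)) 0).1 ⬝ᵥ z = _ from e0, show (sp (cm 8 (cT 2 8)) 6).1 ⬝ᵥ z = _ from e6] at h2
  rw [e1] at k1
  rw [e2] at k2
  rw [e3] at k3
  rw [e4] at k4
  rw [e5] at k5
  rw [e7] at k7
  clear e0 e1 e2 e3 e4 e5 e6 e7 h1
  omega

theorem no8_05 {μ : Vec (Fin 8)} {X : Mat (Fin 8)} {G : Submonoid (Mat (Fin 8))} (H : Mg (En 8) μ X G)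
    (hJ : ∀ i, i ≠ 0 → i ≠ 5 → Jz (En 8) μ i) : False := by
  obtain ⟨z, h1, h2⟩ := par2 Eng.carE8 H hJ ![0, 1, 2, 2, 2, 2, 1, 1] 0 2 (by decide +kernel)
  have k1 : (sp (En 8) 1).1 ⬝ᵥ z = 0 := h1 1 (by decide) (by decide)
  have k2 : (sp (En 8) 2).1 ⬝ᵥ z = 0 := h1 2 (by decide) (by decide)
  have k3 : (sp (En 8) 3).1 ⬝ᵥ z = 0 := h1 3 (by decide) (by decide)
  have k4 : (sp (En 8) 4).1 ⬝ᵥ z = 0 := h1 4 (by decide) (by decide)
  have k6 : (sp (En 8) 6).1 ⬝ᵥ z = 0 := h1 6 (by decide) (by decide)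
  have k7 : (sp (En 8) 7).1 ⬝ᵥ z = 0 := h1 7 (by decide) (by decide)
  obtain ⟨e0, e1, e2, e3, e4, e5, e6, e7⟩ := dot8 z
  rw [show (sp (cm 8 (cT 2 8)) 0).1 ⬝ᵥ z = _ from e0, show (sp (cm 8 (cT 2 8)) 5).1 ⬝ᵥ z = _ from e5] at h2
  rw [e1] at k1
  rw [e2] at k2
  rw [e3] at k3
  rw [e4] at k4
  rw [e6] at k6
  rw [e7] at k7
  clear e0 e1 e2 e3 e4 e5 e6 e7 h1
  omega

end Rk88

open Rk88 in
/-- **[Tab]** -/
theorem boxTab : BoxTab := by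
  refine ⟨fun μ X G H hD => ⟨hD, fun i hi => ?_⟩, fun μ X G H hD => ⟨hD, fun i hi => ?_⟩, fun μ X G H hD => ?_⟩
  · have h1 : 2 ≤ co (En 6) μ := (boxRk3 _ _ μ X G Eng.carE6 H).1
    have h2 : ∀ i j : Fin 6, Dn 6 i ∨ i = 0 ∨ i = 4 := by unfold Dn; decide
    rcases h2 i i with e | rfl | rfl
    · exact Or.inl e
    · exact absurd (co_one (a := 4) fun k hk => (h2 k k).elim (hD k) fun e => e.resolve_right hk ▸ hi) (by omega)
    · exact absurd (co_one (a := 0) fun k hk => (h2 k k).elim (hD k) fun e => e.resolve_left hk ▸ hi) (by omega)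
  · have h2 : ∀ i : Fin 7, Dn 7 i ∨ i = 0 ∨ i = 4 ∨ i = 5 := by unfold Dn; decide
    rcases h2 i with e | rfl | rfl | rfl
    · exact Or.inl e
    · exact (no7_45 H fun k a b => (h2 k).elim (hD k) fun e => (show k = 0 by tauto) ▸ hi).elim
    · exact (no7_05 H fun k a b => (h2 k).elim (hD k) fun e => (show k = 4 by tauto) ▸ hi).elim
    · exact (no7_04 H fun k a b => (h2 k).elim (hD k) fun e => (show k = 5 by tauto) ▸ hi).elim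
  · have h2 : ∀ i : Fin 8, Dn 8 i ∨ i = 0 ∨ i = 4 ∨ i = 5 ∨ i = 6 := by unfold Dn; decide
    refine or_iff_not_imp_right.2 fun h => ⟨hD, fun i hi => ?_⟩
    rw [not_and_or, not_not, not_not] at h
    rcases h2 i with e | rfl | rfl | rfl | rfl
    · exact Or.inl e
    · exact (h.elim (fun h => no8_46 H fun k a b => (h2 k).elim (hD k) fun e => (show k = 0 ∨ k = 5 by (clear * - a b e; tauto)).elim (· ▸ hi) (· ▸ h))
        fun h => no8_45 H fun k a b => (h2 k).elim (hD k) fun e => (show k = 0 ∨ k = 6 by (clear * - a b e; tauto)).elim (· ▸ hi) (· ▸ h)).elim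
    · exact (h.elim (fun h => no8_06 H fun k a b => (h2 k).elim (hD k) fun e => (show k = 4 ∨ k = 5 by (clear * - a b e; tauto)).elim (· ▸ hi) (· ▸ h))
        fun h => no8_05 H fun k a b => (h2 k).elim (hD k) fun e => (show k = 4 ∨ k = 6 by (clear * - a b e; tauto)).elim (· ▸ hi) (· ▸ h)).elim
    · exact Or.inr ⟨rfl, by decide⟩
    · exact Or.inr ⟨rfl, by decide⟩

end Cfsg.Agent.BZ.RT.Cx
end

-- part: BZ/RT/Cx/AnJ
section
/-!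
# BZ / RT : `boxAnJ`, elliptic elements of `W(D₄)`, `W(D₄ A₁)`, `W(D₅)` have no eigenvalue of order a power of three (helper22)
-/

set_option autoImplicit false
set_option linter.unusedSectionVars false

namespace Cfsg.Agent.BZ.RT.Cx

open Cfsg Matrix Cfsg.Agent.DL Cfsg.Agent.HZ.L Cfsg.Agent.BZ.TA Cfsg.Agent.BZ.TA.Cl Cfsg.Agent.OM.Cu Cfsg.Agent.BZ.RT.Z2

namespace AnJ

section Gen

variable {I : Type} [Fintype I] [DecidableEq I] {C X w : Mat I} {μ u : Vec I} {η : ℂ} {y : I → ℂ}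

/-- the vectors which vanish outside of the Levi subsystem -/
def Sp (C : Mat I) (μ v : Vec I) : Prop := ∀ i, ¬ Jz C μ i → v i = 0

/-- short vectors with even roots -/
structure Ev (C : Mat I) (μ u : Vec I) : Prop where
  sp : Sp C μ u
  ev : ∀ j, Jz C μ j → (2 : ℤ) ∣ (u ᵥ* C) j
  nr : u ⬝ᵥ (u ᵥ* C) = 2 ∨ u ⬝ᵥ (u ᵥ* C) = 4

theorem sym (h : Car C fun _ => 1) (u v : Vec I) : u ⬝ᵥ (v ᵥ* C) = v ⬝ᵥ (u ᵥ* C) := by rw [← E8q.fm1, RsP.fm_comm h, E8q.fm1]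

theorem Ev.dvd (e : Ev C μ u) {z : Vec I} (hz : Sp C μ z) : (2 : ℤ) ∣ z ⬝ᵥ (u ᵥ* C) :=
  Finset.dvd_sum fun i _ => by
    by_cases k : Jz C μ i
    · exact (e.ev i k).mul_left _
    · rw [hz i k, zero_mul]
      exact dvd_zero _

theorem Ev.ww (h : Car C fun _ => 1) (hd : Dom C μ) (e : Ev C μ u) (hw : w ∈ WW (_root_.Cfsg.Agent.HZ.L.lev (Rc C) μ)) :
    ∀ z, Sp C μ z → ∃ z', Sp C μ z' ∧ w *ᵥ (u + (2 : ℤ) • z) = u + (2 : ℤ) • z' := by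
  induction hw using Submonoid.closure_induction with
  | mem _ hx =>
    obtain ⟨a, ha, rfl⟩ := hx
    intro z hz
    have h1 : Sp C μ a.2 := (ParT.zero_iff h hd ha.1).1 ha.2
    obtain ⟨m, hm⟩ := e.dvd h1
    refine ⟨z - (m + a.1 ⬝ᵥ z) • a.2, fun i k => by simp only [hz i k, h1 i k, _root_.zsmul_eq_mul, _root_.Int.cast_add, _root_.Pi.sub_apply, _root_.Pi.mul_apply, _root_.Pi.add_apply, _root_.Pi.intCast_apply, _root_.Int.cast_eq, _root_.MulZeroClass.mul_zero, _root_.sub_self], ?_⟩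
    rw [RsP.rfm_mulVec, dotProduct_add, dotProduct_smul, E8q.dot' h ha.1 u, hm, smul_eq_mul]
    module
  | one => exact fun z hz => ⟨z, hz, one_mulVec _⟩
  | mul _ _ _ _ h1 h2 =>
    intro z hz
    obtain ⟨z', k1, k2⟩ := h2 z hz
    obtain ⟨z'', k3, k4⟩ := h1 z' k1
    exact ⟨z'', k3, by rw [← mulVec_mulVec, k2, k4]⟩

/-- no fixed vector -/
theorem fix_zero (h : Car C fun _ => 1) (ell : ¬ Eig (_root_.Cfsg.Agent.HZ.L.lev (Rc C) μ) X 1) {v : Vec I} (hv : Sp C μ v) (e : X *ᵥ v = v) : v = 0 := by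
  by_contra h0
  obtain ⟨i, -, hi⟩ := Finset.exists_ne_zero_of_sum_ne_zero (h.pos v h0).ne'
  refine ell ⟨fun i => (v i : ℂ), (LamA.cast_vec X v).trans (by rw [e, one_smul]), sp C i, ⟨RsP.mem i, by_contra fun k => hi ?_⟩, ?_⟩
  · rw [hv i k, zero_mul, zero_mul]
  · rw [LamA.ev_cast, Int.cast_ne_zero, dotProduct_comm]
    exact right_ne_zero_of_mul hi

/-- the orbit of `u` contains `-u` -/
theorem Ev.neg (h : Car C fun _ => 1) (hd : Dom C μ) (hX : X ∈ Wc C) (fx : X *ᵥ μ = μ) (ell : ¬ Eig (_root_.Cfsg.Agent.HZ.L.lev (Rc C) μ) X 1)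
    (e : Ev C μ u) : ∃ k, X ^ k *ᵥ u = -u := by
  obtain ⟨n, h1, h2⟩ := fin_ord (boxRs C _ h) ((boxRs C _ h).nm X hX)
  have h3 : ∀ k, ∃ z, Sp C μ z ∧ X ^ k *ᵥ u = u + (2 : ℤ) • z := fun k => by
    simpa only [smul_zero, add_zero] using e.ww h hd (pow_mem (ParT.stab h hd hX fx) k) 0 fun _ _ => rfl
  have h4 : ∑ k ∈ Finset.range n, X ^ k *ᵥ u = 0 := fix_zero h ell (fun i hi => by
      rw [Finset.sum_apply]
      refine Finset.sum_eq_zero fun k _ => ?_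
      obtain ⟨z, z1, z2⟩ := h3 k
      rw [z2, Pi.add_apply, Pi.smul_apply, e.sp i hi, z1 i hi, smul_zero, add_zero]) (by
      have := mul_geom_sum X n
      rw [h2, sub_self, sub_mul, one_mul, sub_eq_zero] at this
      rw [← sum_mulVec, mulVec_mulVec, this])
  by_contra k
  have h5 := congrArg (· ⬝ᵥ (u ᵥ* C)) h4
  simp only [sum_dotProduct, zero_dotProduct] at h5
  refine (Finset.sum_pos' (fun j _ => ?_) ⟨0, Finset.mem_range.2 h1, ?_⟩).ne' h5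
  · obtain ⟨z, z1, z2⟩ := h3 j
    obtain ⟨m, hm⟩ := e.dvd z1
    have h6 : 0 < fm C (fun _ => 1) (X ^ j *ᵥ u + u) (X ^ j *ᵥ u + u) := h.pos _ fun k' => k ⟨j, eq_neg_of_add_eq_zero_left k'⟩
    have h7 := RsP.iso h (pow_mem hX j) u u
    rw [E8q.fm1, E8q.fm1] at h7
    rw [E8q.fm1, add_vecMul, dotProduct_add, add_dotProduct, add_dotProduct, h7, sym h u (X ^ j *ᵥ u)] at h6
    rw [z2, add_dotProduct, smul_dotProduct, hm, smul_eq_mul] at h6 ⊢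
    have := e.nr
    omega
  · rw [pow_zero, one_mulVec]
    have := e.nr
    omega

theorem isE_pow (h : IsE X η y) (k : ℕ) : IsE (X ^ k) (η ^ k) y := by
  induction k with
  | zero => simp [IsE]
  | succ j ih => rw [IsE, pow_succ, TrL.map_mul', ← mulVec_mulVec, h, mulVec_smul, ih, smul_smul, pow_succ']

/-- the functional of a vector at `y` -/
noncomputable def fn (C : Mat I) (y : I → ℂ) : Vec I →+ ℂ where
  toFun v := ev (v ᵥ* C) y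
  map_zero' := by simp only [ev, _root_.Matrix.zero_vecMul, _root_.Pi.zero_apply, _root_.Int.cast_zero, _root_.zero_dotProduct']
  map_add' a b := by simp only [ev, add_vecMul, dotProduct, add_mul, Finset.sum_add_distrib, _root_.Pi.add_apply, _root_.Int.cast_add]

theorem kill (h : Car C fun _ => 1) (hX : X ∈ Wc C) {k : ℕ} (e : X ^ k *ᵥ u = -u) (hη : Lv 3 1 η) (hy : IsE X η y) : fn C y u = 0 := by
  obtain ⟨j, hj⟩ := hη
  rw [IsPrimitiveRoot.one_right_iff] at hj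
  have h1 : (u ᵥ* C) ᵥ* X ^ k = (-u) ᵥ* C := dotProduct_eq _ _ fun v => by
    have := RsP.iso h (pow_mem hX k) v u
    rw [E8q.fm1, E8q.fm1, e, neg_vecMul, dotProduct_neg] at this
    rw [← dotProduct_mulVec, dotProduct_comm, neg_vecMul, neg_dotProduct, dotProduct_comm _ v, ← this, neg_neg]
  have h2 := TrL.ev_rect (u ᵥ* C) (X ^ k) y
  rw [h1, show (X ^ k).map (Int.cast : ℤ → ℂ) *ᵥ y = _ from isE_pow hy k, TrL.ev_smul] at h2
  have h3 : (η ^ k + 1) * fn C y u = 0 := by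
    have : fn C y (-u) = - fn C y u := map_neg _ _
    rw [add_mul, one_mul, add_eq_zero_iff_eq_neg, ← this]
    exact h2
  refine (mul_eq_zero.1 h3).resolve_left fun k' => ?_
  have h4 := congrArg (· ^ 3 ^ j) (eq_neg_of_add_eq_zero_left k')
  beta_reduce at h4
  rw [← pow_mul, mul_comm k, pow_mul, hj, one_pow, Odd.neg_one_pow (Odd.pow (by decide))] at h4
  norm_num at h4

theorem an_of (h : Car C fun _ => 1) (hd : Dom C μ) (hX : X ∈ Wc C) (fx : X *ᵥ μ = μ) (ell : ¬ Eig (_root_.Cfsg.Agent.HZ.L.lev (Rc C) μ) X 1)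
    (hU : ∀ j, Jz C μ j → ∃ u u', Ev C μ u ∧ Ev C μ u' ∧ (2 : ℤ) • Pi.single j 1 = u + u') : An (_root_.Cfsg.Agent.HZ.L.lev (Rc C) μ) 3 1 X := by
  rintro η hη ⟨y, hy, a, ha, h0⟩
  have h1 : ∀ u, Ev C μ u → fn C y u = 0 := fun u e =>
    let ⟨_, hk⟩ := e.neg h hd hX fx ell
    kill h hX hk hη hy
  have h2 : a.1 = a.2 ᵥ* C := dotProduct_eq _ _ fun v => by rw [E8q.dot h ha.1, dotProduct_comm]
  refine h0 (h2 ▸ show fn C y a.2 = 0 from ?_)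
  rw [← Finset.univ_sum_single a.2, map_sum]
  refine Finset.sum_eq_zero fun j _ => ?_
  by_cases k : Jz C μ j
  · obtain ⟨u, u', e, e', h3⟩ := hU j k
    have h4 := congrArg (fn C y) h3
    rw [map_zsmul, map_add, h1 u e, h1 u' e', add_zero, smul_eq_zero] at h4
    rw [← mul_one (a.2 j), ← smul_eq_mul, Pi.single_smul, map_zsmul, h4.resolve_left two_ne_zero, smul_zero]
  · rw [(ParT.zero_iff h hd ha.1).1 ha.2 j k, Pi.single_zero, map_zero]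

end Gen

/-- the nodes -/
abbrev Kn (n j i : ℕ) : Prop := (i = 1 ∨ i = 2 ∨ i = 3 ∨ i + 1 = n) ∨ i = j

/-- the vectors `± 2 eᵢ` and the isolated root -/
def uu (n j : ℕ) (k : Fin 6) (i : Fin n) : ℤ :=
  let q := if j = 4 then 1 else 3
  let p := if j = 4 then 3 else 1
  let b : ℕ → ℤ := fun x => if (i : ℕ) = x then 1 else 0
  let s := b q + b (n - 1)
  if k = 0 then b q - b (n - 1) else if k = 1 then s else if k = 2 then 2 * b 2 + s else if k = 3 then 2 * b p + 2 * b 2 + s else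
    if j = 0 ∨ j = 4 then 2 * b j + 2 * b p + 2 * b 2 + s else if (j = 5 ∨ j = 6) ∧ j + 1 < n then b j else s

/-- the check -/
abbrev Ok (n : ℕ) : Prop := ∀ j : Fin n, (∀ k, (∀ i : Fin n, ¬ Kn n j i → uu n j k i = 0) ∧
  (∀ i : Fin n, Kn n j i → (uu n j k ᵥ* En n) i % 2 = 0) ∧ (uu n j k ⬝ᵥ (uu n j k ᵥ* En n) = 2 ∨ uu n j k ⬝ᵥ (uu n j k ᵥ* En n) = 4)) ∧
  ∀ i : Fin n, Kn n j i → ∃ k k', (∀ x, (if x = i then 2 else 0) = uu n j k x + uu n j k' x) ∨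
    ∀ x, (if x = i then 2 else 0) = uu n j k x - uu n j k' x

private noncomputable def _root_.Cfsg.Agent.LsF.f9e01f5_0 : {f // @Cfsg.Agent.BZ.RT.Cx.AnJ.uu = f} := ⟨_, by first | (delta Cfsg.Agent.BZ.RT.Cx.AnJ.uu; rewrite [Cfsg.Agent.LsF.nadd_pat, Cfsg.Agent.LsF.nsub_pat, Cfsg.Agent.LsF.iadd_pat, Cfsg.Agent.LsF.imul_pat, Cfsg.Agent.LsF.isub_pat, Cfsg.Agent.LsF.instDecEq_eq, Cfsg.Agent.LsF.decLt_eq, Cfsg.Agent.LsF.dAnd_eq, Cfsg.Agent.LsF.dOr_eq, Cfsg.Agent.LsF.dFinEq_eq, Cfsg.Agent.LsF.ite_eq]; exact rfl) | exact rfl⟩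
private noncomputable def _root_.Cfsg.Agent.LsF.f9e01f5_1 : {f // @Cfsg.Agent.BZ.TA.cT = f} := ⟨_, by first | (delta Cfsg.Agent.BZ.TA.cT; rewrite [Cfsg.Agent.LsF.nadd_pat, Cfsg.Agent.LsF.ineg_pat, Cfsg.Agent.LsF.instDecEq_eq, Cfsg.Agent.LsF.decLt_eq, Cfsg.Agent.LsF.dAnd_eq, Cfsg.Agent.LsF.dOr_eq, Cfsg.Agent.LsF.ite_eq]; exact rfl) | exact rfl⟩
private noncomputable def _root_.Cfsg.Agent.LsF.f9e01f5_2 : {f // @Cfsg.Agent.BZ.RT.Cx.En = f} := ⟨_, by first | (delta Cfsg.Agent.BZ.RT.Cx.En; rewrite [Cfsg.Agent.LsF.f9e01f5_1.2]; exact rfl) | exact rfl⟩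
theorem ok6 : Ok 6 := by (refine of_decide_eq_true ?_; (try (delta Cfsg.Agent.BZ.RT.Cx.AnJ.Kn Cfsg.Agent.BZ.RT.Cx.AnJ.Ok; rewrite [Cfsg.Agent.LsF.vecMulF_pat, Cfsg.Agent.LsF.dotF_pat, Cfsg.Agent.LsF.f9e01f5_0.2, Cfsg.Agent.LsF.f9e01f5_2.2, Cfsg.Agent.LsF.nadd_pat, Cfsg.Agent.LsF.iadd_pat, Cfsg.Agent.LsF.imul_pat, Cfsg.Agent.LsF.isub_pat, Cfsg.Agent.LsF.imod_pat, Cfsg.Agent.LsF.iACM_eq, Cfsg.Agent.LsF.instDecEq_eq, Cfsg.Agent.LsF.instIDecEq_eq, Cfsg.Agent.LsF.dAnd_eq, Cfsg.Agent.LsF.dOr_eq, Cfsg.Agent.LsF.dNot_eq, Cfsg.Agent.LsF.dFinEq_eq, Cfsg.Agent.LsF.dForallFin_eq, Cfsg.Agent.LsF.dExistsFin_eq, Cfsg.Agent.LsF.dAllP_eq, Cfsg.Agent.LsF.ite_eq, Cfsg.Agent.LsF.decide_eq])); decide +kernel)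
theorem ok7 : Ok 7 := by (refine of_decide_eq_true ?_; (try (delta Cfsg.Agent.BZ.RT.Cx.AnJ.Kn Cfsg.Agent.BZ.RT.Cx.AnJ.Ok; rewrite [Cfsg.Agent.LsF.vecMulF_pat, Cfsg.Agent.LsF.dotF_pat, Cfsg.Agent.LsF.f9e01f5_0.2, Cfsg.Agent.LsF.f9e01f5_2.2, Cfsg.Agent.LsF.nadd_pat, Cfsg.Agent.LsF.iadd_pat, Cfsg.Agent.LsF.imul_pat, Cfsg.Agent.LsF.isub_pat, Cfsg.Agent.LsF.imod_pat, Cfsg.Agent.LsF.iACM_eq, Cfsg.Agent.LsF.instDecEq_eq, Cfsg.Agent.LsF.instIDecEq_eq, Cfsg.Agent.LsF.dAnd_eq, Cfsg.Agent.LsF.dOr_eq, Cfsg.Agent.LsF.dNot_eq, Cfsg.Agent.LsF.dFinEq_eq, Cfsg.Agent.LsF.dForallFin_eq, Cfsg.Agent.LsF.dExistsFin_eq, Cfsg.Agent.LsF.dAllP_eq, Cfsg.Agent.LsF.ite_eq, Cfsg.Agent.LsF.decide_eq])); decide +kernel)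
theorem ok8 : Ok 8 := by (refine of_decide_eq_true ?_; (try (delta Cfsg.Agent.BZ.RT.Cx.AnJ.Kn Cfsg.Agent.BZ.RT.Cx.AnJ.Ok; rewrite [Cfsg.Agent.LsF.vecMulF_pat, Cfsg.Agent.LsF.dotF_pat, Cfsg.Agent.LsF.f9e01f5_0.2, Cfsg.Agent.LsF.f9e01f5_2.2, Cfsg.Agent.LsF.nadd_pat, Cfsg.Agent.LsF.iadd_pat, Cfsg.Agent.LsF.imul_pat, Cfsg.Agent.LsF.isub_pat, Cfsg.Agent.LsF.imod_pat, Cfsg.Agent.LsF.iACM_eq, Cfsg.Agent.LsF.instDecEq_eq, Cfsg.Agent.LsF.instIDecEq_eq, Cfsg.Agent.LsF.dAnd_eq, Cfsg.Agent.LsF.dOr_eq, Cfsg.Agent.LsF.dNot_eq, Cfsg.Agent.LsF.dFinEq_eq, Cfsg.Agent.LsF.dForallFin_eq, Cfsg.Agent.LsF.dExistsFin_eq, Cfsg.Agent.LsF.dAllP_eq, Cfsg.Agent.LsF.ite_eq, Cfsg.Agent.LsF.decide_eq])); decide +kernel)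

theorem car {n : ℕ} (h : R3 n) : Car (En n) fun _ => 1 := by
  rcases h with rfl | rfl | rfl
  · exact (show ![1, 1, 1, 1, 1, 1] = fun _ => (1 : ℤ) by decide) ▸ Eng.carE6
  · exact (show ![1, 1, 1, 1, 1, 1, 1] = fun _ => (1 : ℤ) by decide) ▸ Eng.carE7
  · exact (show ![1, 1, 1, 1, 1, 1, 1, 1] = fun _ => (1 : ℤ) by decide) ▸ Eng.carE8

/-- at most one more node -/
theorem node {n : ℕ} (h : R3 n) {μ : Vec (Fin n)} (hJ : JD n μ) (hc : n ≤ co (En n) μ + 5) :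
    ∃ j : Fin n, ∀ i, Jz (En n) μ i ↔ Kn n j i := by
  classical
  have h6 : 6 ≤ n := by rcases h with rfl | rfl | rfl <;> omega
  by_cases k : ∃ j, Jz (En n) μ j ∧ ¬ Dn n j
  · obtain ⟨j, j1, j2⟩ := k
    refine ⟨j, fun i => ⟨fun hi => by_contra fun k => ?_, fun hi => hi.elim (hJ i) fun e => (Fin.ext e : i = j) ▸ j1⟩⟩
    have h1 := Set.ncard_add_ncard_compl {i | Jz (En n) μ i}
    have h2 : (insert i (insert j {x : Fin n | Dn n x})).ncard ≤ {i | Jz (En n) μ i}.ncard := Set.ncard_le_ncard (by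
      rintro x (rfl | rfl | hx)
      exacts [hi, j1, hJ x hx])
    have h3 : {x : Fin n | Dn n x}.ncard = 4 := by
      rw [show {x : Fin n | Dn n x} = (Finset.univ.filter fun x : Fin n => Kn n 1 x : Finset (Fin n)) from
        Set.ext fun x => by simp only [Set.mem_ofPred_eq, Finset.coe_filter, Finset.mem_univ, true_and, Dn, Kn]; (clear * -; omega),
        Set.ncard_coe_finset]
      rcases h with rfl | rfl | rfl <;> decide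
    rw [Set.ncard_insert_of_notMem (fun e => k (e.elim (fun e => .inr (congrArg Fin.val e)) .inl)),
      Set.ncard_insert_of_notMem (show j ∉ {x : Fin n | Dn n x} from j2), h3] at h2
    rw [Nat.card_fin] at h1
    have h4 : co (En n) μ = {i | Jz (En n) μ i}ᶜ.ncard := rfl
    omega
  · exact ⟨⟨1, by omega⟩, fun i => ⟨fun hi => .inl (by_contra fun e => k ⟨i, hi, e⟩), fun hi => hJ i (hi.elim id .inl)⟩⟩

end AnJ

open AnJ in
/-- **[AnJ]** -/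
theorem boxAnJ : BoxAnJ := fun n hn μ X G H hX hJ hc => by
  obtain ⟨j, hj⟩ := node hn hJ hc
  obtain ⟨h1, h2⟩ := (show Ok n by rcases hn with rfl | rfl | rfl; exacts [ok6, ok7, ok8]) j
  have h3 : ∀ k, Ev (En n) μ (uu n j k) := fun k =>
    ⟨fun i hi => (h1 k).1 i fun e => hi ((hj i).2 e), fun i hi => Int.dvd_of_emod_eq_zero ((h1 k).2.1 i ((hj i).1 hi)), (h1 k).2.2⟩
  refine an_of (car hn) H.dom hX H.fx H.ell fun i hi => ?_
  have h4 : ∀ x, ((2 : ℤ) • Pi.single i 1 : Vec (Fin n)) x = if x = i then 2 else 0 := fun x => by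
    rw [Pi.smul_apply, Pi.single_apply, smul_ite, smul_zero, smul_eq_mul, mul_one]
  obtain ⟨k, k', e | e⟩ := h2 i ((hj i).1 hi)
  · exact ⟨_, _, h3 k, h3 k', funext fun x => (h4 x).trans (e x)⟩
  · refine ⟨_, -uu n j k', h3 k, ⟨fun x hx => neg_eq_zero.2 ((h3 k').sp x hx), fun x hx => ?_, ?_⟩,
      funext fun x => (h4 x).trans ((e x).trans (sub_eq_add_neg _ _))⟩
    · rw [neg_vecMul, Pi.neg_apply, dvd_neg]
      exact (h3 k').ev x hx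
    · rw [neg_vecMul, neg_dotProduct_neg]
      exact (h3 k').nr

end Cfsg.Agent.BZ.RT.Cx
end

private theorem dce_a89e412abf77 : _root_.True := by
  try have : _root_.True := by simp only [_root_.Cfsg.Agent.BZ.TA.cT.eq_1]
  try have : _root_.True := by simp only [_root_.Cfsg.Agent.OM.Cu.cm.eq_1]
  try have : _root_.True := by simp only [_root_.Cfsg.Agent.BZ.RT.Cx.AnJ.Sp.congr_simp]
  try have : _root_.True := by simp only [_root_.Cfsg.Agent.BZ.RT.Cx.Dn.eq_1]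
  exact _root_.True.intro
end

-- part: BZ/RT/Cx/ShA
section
prune_inst 0x234407d047640020000188014b2204230340004b01040880060a20b460b49a060e9c2a8410a20050a122e98813801004002000020c04000000e847000000705219808440043c1031dac009981020b490c02200080000000000000000000000004214010000
set_option linter.all false
open scoped Cfsg.Agent.FastGrp

/-!
# BZ / RT / Cx : tools for the shapes over `D₄`, `D₄ A₁`, `D₄ A₂` (helper44)
-/

set_option autoImplicit false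
set_option linter.unusedSectionVars false

namespace Cfsg.Agent.BZ.RT.Cx.Sh44

open Cfsg Matrix Cfsg.Agent.DL Cfsg.Agent.HZ.L Cfsg.Agent.BZ.TA Cfsg.Agent.BZ.TA.Cl Cfsg.Agent.OM.Cu Cfsg.Agent.OM Cfsg.Agent.BZ.RT.Z2

section Gen

variable {I : Type} [Fintype I] [DecidableEq I] {C X : Mat I} {u v w : Vec I} {L : RS I} {a : Vec I × Vec I}

/-- the form -/
def B (C : Mat I) (u v : Vec I) : ℤ := u ⬝ᵥ (v ᵥ* C)

theorem b_add (u v w : Vec I) : B C (u + v) w = B C u w + B C v w := add_dotProduct _ _ _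

theorem b_sub (u v w : Vec I) : B C (u - v) w = B C u w - B C v w := sub_dotProduct _ _ _

theorem b_smul (m : ℤ) (u w : Vec I) : B C (m • u) w = m * B C u w := smul_dotProduct _ _ _

theorem b_add' (u v w : Vec I) : B C w (u + v) = B C w u + B C w v := by simp only [B, add_vecMul, dotProduct_add]

theorem b_sub' (u v w : Vec I) : B C w (u - v) = B C w u - B C w v := by simp only [B, sub_vecMul, dotProduct_sub]

theorem b_smul' (m : ℤ) (u w : Vec I) : B C w (m • u) = m * B C w u := by simp only [B, smul_vecMul, dotProduct_smul, smul_eq_mul]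

theorem b_neg' (u w : Vec I) : B C w (-u) = -B C w u := by simp only [B, neg_vecMul, dotProduct_neg]

theorem b_sym (h : Car C fun _ => 1) (u v : Vec I) : B C u v = B C v u := AnJ.sym h u v

theorem b_iso (h : Car C fun _ => 1) (hX : X ∈ Wc C) (u v : Vec I) : B C (X *ᵥ u) (X *ᵥ v) = B C u v := by
  rw [B, B, ← E8q.fm1, ← E8q.fm1, RsP.iso h hX]

theorem b_nn (h : Car C fun _ => 1) (v : Vec I) : 0 ≤ B C v v := by
  rw [B, ← E8q.fm1]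
  exact E7P.fm_nonneg h v

theorem b_zero (h : Car C fun _ => 1) (hv : B C v v ≤ 0) : v = 0 := RsP.fm_zero h (by rwa [E8q.fm1])

theorem b_dot (h : Car C fun _ => 1) (ha : a ∈ Rc C) (v : Vec I) : a.1 ⬝ᵥ v = B C a.2 v := E8q.dot' h ha v

theorem b_two (h : Car C fun _ => 1) (ha : a ∈ Rc C) : B C a.2 a.2 = 2 := by rw [← b_dot h ha, RsP.two h ha]

theorem even (h1 : ∀ u v, B C u v = B C v u) (h2 : ∀ i, 2 ∣ C i i) (v : Vec I) : 2 ∣ B C v v := by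
  induction v using Pi.single_induction with
  | zero => simp [B]
  | add u v hu hv =>
    rw [b_add, b_add', b_add', h1 v u]
    omega
  | single i m =>
    rw [B, single_dotProduct, single_vecMul]
    simpa only [Pi.smul_apply, row_apply, smul_eq_mul] using ((h2 i).mul_left m).mul_left m

theorem sym_of (h : Cᵀ = C) (u v : Vec I) : B C u v = B C v u := by
  rw [B, B, dotProduct_comm, ← dotProduct_mulVec, ← vecMul_transpose, h]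

/-- the Weyl group fixes the vector modulo three -/
theorem mod3 {g : Mat I} (hg : g ∈ WW L) (hu : ∀ b ∈ L, (3 : ℤ) ∣ b.1 ⬝ᵥ u) : ∀ z, ∃ z', g *ᵥ (u + (3 : ℤ) • z) = u + (3 : ℤ) • z' := by
  induction hg using Submonoid.closure_induction with
  | mem _ hx =>
    obtain ⟨b, hb, rfl⟩ := hx
    obtain ⟨m, hm⟩ := hu b hb
    refine fun z => ⟨z - (m + b.1 ⬝ᵥ z) • b.2, ?_⟩
    rw [RsP.rfm_mulVec, dotProduct_add, dotProduct_smul, hm, smul_eq_mul]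
    module
  | one => exact fun z => ⟨z, one_mulVec _⟩
  | mul _ _ _ _ h1 h2 =>
    intro z
    obtain ⟨z', k1⟩ := h2 z
    obtain ⟨z'', k2⟩ := h1 z'
    exact ⟨z'', by rw [← mulVec_mulVec, k1, k2]⟩

/-- an eigenvalue of order three -/
theorem eig3 (hA : An L 3 1 X) (h : X *ᵥ (X *ᵥ v) = -v - X *ᵥ v) (ha : a ∈ L) : a.1 ⬝ᵥ v = 0 := by
  obtain ⟨η, hη⟩ : ∃ η : ℂ, IsPrimitiveRoot η 3 := ⟨_, Complex.isPrimitiveRoot_exp 3 (by decide)⟩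
  have h1 : η ^ 2 + η + 1 = 0 := by
    have := hη.geom_sum_eq_zero (by decide)
    simp only [Finset.sum_range_succ, Finset.sum_range_zero] at this
    linear_combination this
  have h2 : IsE X (η ^ 2) ((fun i => ((X *ᵥ v) i : ℂ)) - η • fun i => (v i : ℂ)) := by
    rw [IsE, mulVec_sub, mulVec_smul, LamA.cast_vec, LamA.cast_vec, h]
    funext i
    simp only [Pi.sub_apply, Pi.smul_apply, Pi.neg_apply, smul_eq_mul, Int.cast_sub, Int.cast_neg]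
    linear_combination (-((X *ᵥ v) i : ℂ) + (η - 1) * (v i : ℂ)) * h1
  have h3 : ev a.1 ((fun i => ((X *ᵥ v) i : ℂ)) - η • fun i => (v i : ℂ)) = 0 := by
    by_contra k
    refine hA _ ⟨1, ?_⟩ ⟨_, h2, a, ha, k⟩
    rw [pow_one, ← pow_mul, mul_comm, pow_mul, hη.pow_eq_one, one_pow]
    exact .one
  rw [ev, dotProduct_sub, dotProduct_smul, ← ev, ← ev, LamA.ev_cast, LamA.ev_cast, smul_eq_mul] at h3
  generalize a.1 ⬝ᵥ X *ᵥ v = s at h3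
  generalize a.1 ⬝ᵥ v = t at h3 ⊢
  have h4 : s ^ 2 + s * t + t ^ 2 = 0 := by
    have : ((s ^ 2 + s * t + t ^ 2 : ℤ) : ℂ) = 0 := by
      push_cast
      linear_combination ((s : ℂ) + η * t + t) * h3 + (t : ℂ) ^ 2 * h1
    exact_mod_cast this
  nlinarith [sq_nonneg (2 * s + t), sq_nonneg t]

end Gen

variable {n : ℕ} {μ u v w : Vec (Fin n)} {X g : Mat (Fin n)} {G : Submonoid (Mat (Fin n))} {Φ : RS (Fin n)} {a b : Vec (Fin n) × Vec (Fin n)}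

instance decDn (n : ℕ) : DecidablePred (Dn n) := fun _ => by unfold Dn; infer_instance

/-- twice the inverse of the Cartan matrix of `D₄` -/
def Pj (n : ℕ) : Mat (Fin n) := of fun i j =>
  if Dn n i ∧ Dn n j then if (i : ℕ) = 2 ∧ (j : ℕ) = 2 then 4 else if (i : ℕ) = 2 ∨ (j : ℕ) = 2 ∨ i = j then 2 else 1 else 0

/-- the check -/
abbrev Ok (n : ℕ) : Prop := (∀ i j, Pj n j i - Pj n i j = 0) ∧ (∀ i, Pj n i i % 2 = 0) ∧ (∀ j i, ¬ Dn n i → Pj n j i + 0 = 0) ∧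
  (∀ j i, Dn n i → (Pj n * En n) j i = if j = i then 2 else 0) ∧ ∀ j i, Dn n i → ¬ Dn n j → 5 ≤ (j : ℕ) → n = 8 → En n j i + 0 = 0

theorem ok (hn : R3 n) : Ok n := by rcases hn with rfl | rfl | rfl <;> refine ⟨?_, ?_, ?_, ?_, ?_⟩ <;> decide +kernel

/-- support in `D₄` -/
def Sd (v : Vec (Fin n)) : Prop := ∀ i, ¬ Dn n i → v i = 0

/-- orthogonal to `D₄` -/
def Od (v : Vec (Fin n)) : Prop := ∀ i, Dn n i → (v ᵥ* En n) i = 0

/-- support in the other nodes of the Levi subsystem -/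
def Sn (μ v : Vec (Fin n)) : Prop := ∀ i, Dn n i ∨ ¬ Jz (En n) μ i → v i = 0

theorem so (h1 : Sd u) (h2 : Od v) : B (En n) u v = 0 :=
  show ∑ i, u i * (v ᵥ* En n) i = 0 from Finset.sum_eq_zero fun i _ => by
    by_cases k : Dn n i
    · rw [h2 i k, mul_zero]
    · rw [h1 i k, zero_mul]

theorem no (hn : R3 n) (hJ : J4 n μ) (h : Sn μ v) : Od v := fun i hi =>
  show ∑ j, v j * En n j i = 0 from Finset.sum_eq_zero fun j _ => by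
    by_cases k : Dn n j ∨ ¬ Jz (En n) μ j
    · rw [h j k, zero_mul]
    · rw [not_or, not_not] at k
      obtain ⟨k1, k2⟩ := (hJ.2 j k.2).resolve_left k.1
      rw [(add_zero _).symm.trans ((ok hn).2.2.2.2 j i hi k.1 k2 k1), mul_zero]

theorem Od.add (h1 : Od u) (h2 : Od v) : Od (u + v) := fun i hi => by rw [add_vecMul, Pi.add_apply, h1 i hi, h2 i hi, add_zero]

theorem Od.sub (h1 : Od u) (h2 : Od v) : Od (u - v) := fun i hi => by rw [sub_vecMul, Pi.sub_apply, h1 i hi, h2 i hi, sub_zero]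

/-- twice the projection -/
theorem proj (hn : R3 n) (v : Vec (Fin n)) : ∃ u, Sd u ∧ Od ((2 : ℤ) • v - u) ∧ 2 ∣ B (En n) u v := by
  obtain ⟨h1, h2, h3, h4, -⟩ := ok hn
  refine ⟨(v ᵥ* En n) ᵥ* Pj n, fun i hi => show ∑ j, (v ᵥ* En n) j * Pj n j i = 0 from
    Finset.sum_eq_zero fun j _ => by rw [(add_zero _).symm.trans (h3 j i hi), mul_zero], fun i hi => ?_, ?_⟩
  · rw [sub_vecMul, smul_vecMul, vecMul_vecMul (v ᵥ* En n), Pi.sub_apply, Pi.smul_apply, sub_eq_zero]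
    generalize v ᵥ* En n = w
    rw [vecMul, dotProduct, Finset.sum_congr rfl fun j _ => congrArg (w j * ·) (h4 j i hi)]
    simp [mul_comm]
  · rw [B, dotProduct_comm]
    exact even (sym_of (ext fun i j => sub_eq_zero.1 (h1 i j))) (fun i => Int.dvd_of_emod_eq_zero (h2 i)) _

/-- the roots of the Levi subsystem -/
theorem dich (hn : R3 n) (hJ : J4 n μ) (hd : Dom (En n) μ) (ha : a ∈ lev (Rc (En n)) μ) : Sd a.2 ∨ Sn μ a.2 := by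
  have hC := AnJ.car hn
  have h0 := (ParT.zero_iff hC hd ha.1).1 ha.2
  obtain ⟨x, x1⟩ : ∃ x : Vec (Fin n), ∀ i, x i = if Dn n i then a.2 i else 0 := ⟨_, fun _ => rfl⟩
  have h1 : Sd x := fun i hi => by rw [x1, if_neg hi]
  have h2 : Sn μ (a.2 - x) := fun i hi => by
    by_cases k : Dn n i
    · rw [Pi.sub_apply, x1, if_pos k, sub_self]
    · rw [Pi.sub_apply, x1, if_neg k, h0 i (hi.resolve_left k), sub_zero]
  have h3 := so h1 (no hn hJ h2)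
  have h4 := b_two hC ha.1
  have h5 := b_nn hC x
  have h6 := b_nn hC (a.2 - x)
  have h7 := even (b_sym hC) (fun i => hC.diag i ▸ dvd_rfl) x
  by_cases k : B (En n) x x ≤ 0
  · exact .inr (by rwa [b_zero hC k, sub_zero] at h2)
  refine .inl ((sub_eq_zero.1 (b_zero hC (v := a.2 - x) ?_)) ▸ h1)
  rw [b_sub'] at h3
  rw [b_sub, b_sub', b_sub', b_sym hC a.2 x]
  omega

/-- the vectors which are orthogonal to `D₄` -/
theorem inv (hn : R3 n) (hJ : J4 n μ) (hd : Dom (En n) μ) (hg : g ∈ WW (lev (Rc (En n)) μ)) : ∀ v, Od v → Sn μ (g *ᵥ v - v) := by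
  induction hg using Submonoid.closure_induction with
  | mem _ hx =>
    obtain ⟨b, hb, rfl⟩ := hx
    intro v hv i hi
    rw [RsP.rfm_mulVec, sub_sub_cancel_left, Pi.neg_apply, Pi.smul_apply, b_dot (AnJ.car hn) hb.1]
    rcases dich hn hJ hd hb with k | k
    · rw [so k hv, zero_smul, neg_zero]
    · rw [k i hi, smul_zero, neg_zero]
  | one => exact fun v _ i _ => by rw [one_mulVec, sub_self, Pi.zero_apply]
  | mul g g' _ _ h1 h2 =>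
    intro v hv i hi
    have k := h1 _ (hv.add (no hn hJ (h2 v hv))) i hi
    rw [add_sub_cancel] at k
    rw [← mulVec_mulVec, ← sub_add_sub_cancel _ (g' *ᵥ v), Pi.add_apply, k, h2 v hv i hi, add_zero]

theorem inv' (hn : R3 n) (hJ : J4 n μ) (hd : Dom (En n) μ) (hg : g ∈ WW (lev (Rc (En n)) μ)) (hv : Od v) : Od (g *ᵥ v) := by
  have := hv.add (no hn hJ (inv hn hJ hd hg v hv))
  rwa [add_sub_cancel] at this

theorem eight (hJ : J4 n μ) (h : Sn μ v) (h0 : v ≠ 0) : n = 8 := by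
  by_contra k
  exact h0 (funext fun i => h i (by_contra fun e => by
    rw [not_or, not_not] at e
    exact k ((hJ.2 i e.2).resolve_left e.1).1))

/-- the lattice `A₂` -/
def V (x y : ℤ) : Vec (Fin 8) := x • Pi.single 5 1 + y • Pi.single 6 1

theorem v5 (x y : ℤ) : V x y 5 = x := by simp [V]

theorem v6 (x y : ℤ) : V x y 6 = y := by simp [V]

theorem b_V (x y : ℤ) (w : Vec (Fin 8)) : B (En 8) (V x y) w = x * (w ᵥ* En 8) 5 + y * (w ᵥ* En 8) 6 := by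
  rw [V, b_add, b_smul, b_smul, B, B, single_dotProduct, single_dotProduct, one_mul, one_mul]

theorem b_VV (x y x' y' : ℤ) : B (En 8) (V x y) (V x' y') = x * (2 * x' - y') + y * (2 * y' - x') := by
  rw [b_V, ← RsP.sp_dot, ← RsP.sp_dot, (Rk88.dot8 _).2.2.2.2.2.1, (Rk88.dot8 _).2.2.2.2.2.2.1, v5, v6, show V x' y' 4 = 0 by simp [V],
    sub_zero]

theorem eq_V {μ v : Vec (Fin 8)} (hJ : J4 8 μ) (h : Sn μ v) : v = V (v 5) (v 6) := funext fun i => by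
  by_cases k5 : i = 5
  · rw [k5, v5]
  by_cases k6 : i = 6
  · rw [k6, v6]
  rw [show V (v 5) (v 6) i = 0 by simp [V, k5, k6]]
  refine h i (by_contra fun e => ?_)
  rw [not_or, not_not] at e
  have := ((hJ.2 i e.2).resolve_left e.1).2
  have := e.1
  unfold Dn at this
  omega

theorem sn_V {μ : Vec (Fin 8)} (h5 : Jz (En 8) μ 5) (h6 : Jz (En 8) μ 6) (x y : ℤ) : Sn μ (V x y) := fun i hi => by
  have k5 : i ≠ 5 := by
    rintro rfl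
    exact hi.elim (by decide) fun e => e h5
  have k6 : i ≠ 6 := by
    rintro rfl
    exact hi.elim (by decide) fun e => e h6
  simp [V, k5, k6]

end Cfsg.Agent.BZ.RT.Cx.Sh44

private theorem dce_98643f61f9f6 : _root_.True := by
  try have : _root_.True := by simp only [_root_.Cfsg.Agent.BZ.RT.Cx.Sh44.B.eq_1]
  try have : _root_.True := by simp only [_root_.Cfsg.Agent.BZ.RT.Cx.Sh44.V.eq_1]
  exact _root_.True.intro
end

-- part: BZ/RT/Cx/TW_mg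
section
prune_inst 0x210406d047640020000008016b22040303c0004b01040000020a20146014cc060c9c2a8404a20150a022010013801000002000000c04000000e8470000007052190004000c3c903152c001981020a480c02200080000000000000000000000000210000000
set_option linter.all false
open scoped Cfsg.Agent.FastGrp

-- part: BZ/RT/Cx/TW
section
/-!
# BZ / RT : the twist for an orthogonal system (helper27)

The vectors `± y a` are permuted by `G`; no orbit contains a vector together with its negative, so a union of orbits is a half system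
and its sum is fixed by `G`.
-/

set_option autoImplicit false
set_option linter.unusedSectionVars false

namespace Cfsg.Agent.BZ.RT.Cx

open Cfsg Matrix Cfsg.Agent.DL Cfsg.Agent.HZ.L Cfsg.Agent.BZ.TA Cfsg.Agent.BZ.TA.Cl Cfsg.Agent.OM.Cu Cfsg.Agent.OM Cfsg.Agent.BZ.RT.Z2

namespace TW27

variable {I : Type} [Fintype I] [DecidableEq I] {C X g w : Mat I} {d : I → ℤ} {μ v : Vec I} {G : Submonoid (Mat I)} {Φ Ψ : RS I}

/-- the orbit -/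
def Ob (G : Submonoid (Mat I)) (s : Vec I) : Set (Vec I) := {t | ∃ g ∈ G, g *ᵥ s = t}

theorem pw_succ (g : Mat I) (i : ℕ) : g ^ (3 ^ i - 1) * g = g ^ 3 ^ i := by
  rw [← pow_succ, Nat.sub_add_cancel (Nat.one_le_pow _ _ (by norm_num))]

theorem pw_succ' (g : Mat I) (i : ℕ) : g * g ^ (3 ^ i - 1) = g ^ 3 ^ i := by
  rw [← pow_succ', Nat.sub_add_cancel (Nat.one_le_pow _ _ (by norm_num))]

theorem ob_eq (hg : g ∈ G) {i : ℕ} (h : g ^ 3 ^ i *ᵥ v = v) : Ob G (g *ᵥ v) = Ob G v := by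
  ext t
  constructor
  · rintro ⟨k, hk, rfl⟩
    exact ⟨k * g, mul_mem hk hg, (mulVec_mulVec _ _ _).symm⟩
  · rintro ⟨k, hk, rfl⟩
    exact ⟨k * g ^ (3 ^ i - 1), mul_mem hk (pow_mem hg _), by rw [mulVec_mulVec, mul_assoc, pw_succ, ← mulVec_mulVec, h]⟩

theorem pow_neg (h : g *ᵥ v = -v) {n : ℕ} (hn : Odd n) : g ^ n *ᵥ v = -v := by
  obtain ⟨m, rfl⟩ := hn
  induction m with
  | zero => simpa using h
  | succ m ih =>
    rw [show 2 * (m + 1) + 1 = (2 * m + 1) + 1 + 1 by ring, pow_succ, pow_succ, ← mulVec_mulVec, ← mulVec_mulVec, h, mulVec_neg, h,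
      neg_neg, ih]

/-- **a stable half system** -/
theorem half {S : Set (Vec I)} (hf : S.Finite) (ng : ∀ s ∈ S, -s ∈ S) (h0 : ∀ s ∈ S, s ≠ 0) (st : ∀ g ∈ G, ∀ s ∈ S, g *ᵥ s ∈ S)
    (pw : ∀ g ∈ G, ∃ i : ℕ, ∀ s ∈ S, g ^ 3 ^ i *ᵥ s = s) : ∃ T : Finset (Vec I), (∀ t ∈ T, t ∈ S) ∧ (∀ s ∈ S, s ∈ T ↔ -s ∉ T) ∧
      ∀ g ∈ G, g *ᵥ ∑ t ∈ T, t = ∑ t ∈ T, t := by
  classical
  let _ : LinearOrder (Set (Vec I)) := IsWellOrder.linearOrder WellOrderingRel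
  let r : Set (Vec I) → Set (Vec I) → Prop := WellOrderingRel
  have ne : ∀ s ∈ S, Ob G s ≠ Ob G (-s) := fun s hs e => by
    obtain ⟨k, hk, e1⟩ : -s ∈ Ob G s := e ▸ ⟨1, one_mem _, one_mulVec _⟩
    obtain ⟨i, hi⟩ := pw k hk
    have h1 := pow_neg e1 (n := 3 ^ i) (Odd.pow (by decide))
    rw [hi s hs] at h1
    refine h0 s hs (funext fun j => ?_)
    have := congrFun h1 j
    rw [Pi.neg_apply] at this
    rw [Pi.zero_apply]
    omega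
  have mem : ∀ t, t ∈ hf.toFinset.filter (fun s => r (Ob G s) (Ob G (-s))) ↔ t ∈ S ∧ r (Ob G t) (Ob G (-t)) := fun t => by
    rw [Finset.mem_filter, Set.Finite.mem_toFinset]
  have mv : ∀ g ∈ G, ∀ t, t ∈ S ∧ r (Ob G t) (Ob G (-t)) → g *ᵥ t ∈ S ∧ r (Ob G (g *ᵥ t)) (Ob G (-(g *ᵥ t))) := fun g hg t ht => by
    obtain ⟨i, hi⟩ := pw g hg
    rw [← mulVec_neg, ob_eq hg (hi t ht.1), ob_eq hg (hi _ (ng t ht.1))]
    exact ⟨st g hg t ht.1, ht.2⟩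
  refine ⟨hf.toFinset.filter fun s => r (Ob G s) (Ob G (-s)), fun t ht => ((mem t).1 ht).1, fun s hs => ?_, fun g hg => ?_⟩
  · rw [mem, mem, neg_neg]
    refine ⟨fun h k => asymm_of r h.2 k.2, fun h => ⟨hs, ?_⟩⟩
    rcases trichotomous_of r (Ob G s) (Ob G (-s)) with k | k | k
    exacts [k, absurd k (ne s hs), absurd ⟨ng s hs, k⟩ h]
  · obtain ⟨i, hi⟩ := pw g hg
    rw [mulVec_sum]
    refine Finset.sum_nbij' (fun t => g *ᵥ t) (fun t => g ^ (3 ^ i - 1) *ᵥ t) (fun t ht => (mem _).2 (mv g hg t ((mem t).1 ht)))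
      (fun t ht => (mem _).2 (mv _ (pow_mem hg _) t ((mem t).1 ht))) (fun t ht => ?_) (fun t ht => ?_) fun _ _ => rfl
    · rw [mulVec_mulVec, pw_succ, hi t ((mem t).1 ht).1]
    · rw [mulVec_mulVec, pw_succ', hi t ((mem t).1 ht).1]

theorem ww_fix (hw : w ∈ WW Ψ) (hv : Perp Ψ v) : w *ᵥ v = v := by
  induction hw using Submonoid.closure_induction with
  | mem x hx => obtain ⟨a, ha, rfl⟩ := hx; rw [Cu.rfm_mulVec, hv a ha, zero_smul, sub_zero]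
  | one => exact one_mulVec _
  | mul x y _ _ hx hy => rw [← mulVec_mulVec, hy, hx]

/-- fixed vectors are central -/
theorem perp (h : ¬ Eig Ψ X 1) (hv : X *ᵥ v = v) : Perp Ψ v := fun a ha => by
  by_contra h0
  refine h ⟨fun i => (v i : ℂ), ?_, a, ha, fun e => h0 ?_⟩
  · unfold IsE
    rw [one_smul]
    funext i
    have := congrArg (Int.cast : ℤ → ℂ) (congrFun hv i)
    simpa only [mulVec, dotProduct, _root_.Matrix.map_apply, _root_.Int.cast_sum, _root_.Int.cast_mul] using this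
  · have : ((a.1 ⬝ᵥ v : ℤ) : ℂ) = 0 := by simpa only [ev, dotProduct, _root_.Int.cast_sum, _root_.Int.cast_mul] using e
    exact_mod_cast this

theorem surj (hC : Car C d) (H : Mg C μ X G) (hg : g ∈ G) : ∀ b ∈ _root_.Cfsg.Agent.HZ.L.lev (Rc C) μ, ∃ a ∈ _root_.Cfsg.Agent.HZ.L.lev (Rc C) μ, b.1 ᵥ* g = a.1 := fun b hb => by
  obtain ⟨i, hi⟩ := H.gl g hg
  obtain ⟨u, hu, u1, -⟩ := WW_inv (fun a ha => RsP.two hC ha.1) hi
  obtain ⟨a, ha, -, a2⟩ := (H.gn _ (mul_mem (H.wg hu) (pow_mem hg (3 ^ i - 1)))).1 b hb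
  exact ⟨a, ha, by rw [← a2, vecMul_vecMul, mul_assoc, pw_succ, u1, vecMul_one]⟩

theorem perp_mv (hC : Car C d) (H : Mg C μ X G) (hg : g ∈ G) (hv : Perp (_root_.Cfsg.Agent.HZ.L.lev (Rc C) μ) v) : Perp (_root_.Cfsg.Agent.HZ.L.lev (Rc C) μ) (g *ᵥ v) :=
  fun b hb => by
    obtain ⟨a, ha, e⟩ := surj hC H hg b hb
    rw [dotProduct_mulVec, e, hv a ha]

/-- the group preserves the fixed vectors -/
theorem fix_mv (hC : Car C d) (H : Mg C μ X G) (hg : g ∈ G) (hv : X *ᵥ v = v) : X *ᵥ (g *ᵥ v) = g *ᵥ v := by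
  obtain ⟨h, hh, e⟩ := (H.gn g hg).2
  obtain ⟨u, hu, u1, -⟩ := WW_inv (fun a ha => RsP.two hC ha.1) hh
  have h1 : g *ᵥ v = h *ᵥ (X *ᵥ (g *ᵥ v)) := by rw [mulVec_mulVec, mulVec_mulVec, ← e, ← mulVec_mulVec, hv]
  have h2 := congrArg (u *ᵥ ·) h1
  simp only [mulVec_mulVec, ← mul_assoc, u1, one_mul] at h2
  rw [mulVec_mulVec, ← h2, ← mulVec_mulVec, ww_fix hu (perp_mv hC H hg (perp H.ell hv))]

/-- the group permutes the mixed roots -/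
theorem mx_mv (hC : Car C d) (H : Ms C μ X G Φ) (hg : g ∈ G) (hw : g ∈ WW Φ) {a : Vec I × Vec I} (ha : Mx Φ μ a) :
    ∃ a', Mx Φ μ a' ∧ a'.1 ᵥ* g = a.1 := by
  have hn := Nm.of_WW H.cl hw
  obtain ⟨a', h1, h2, h3⟩ := hn a ha.1
  obtain ⟨b, hb, h4⟩ := ha.2.2
  obtain ⟨b', k1, k2, k3⟩ := hn b hb.1
  obtain ⟨b'', l1, l2, -⟩ := (H.gn g hg).1 b ⟨H.sub hb.1, hb.2⟩
  obtain rfl : b' = b'' := RsP.ext hC (H.sub k1) l1.1 (k2.symm.trans l2)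
  refine ⟨a', ⟨h1, fun e => ha.2.1 ?_, b', ⟨k1, l1.2⟩, by rwa [← h2, dotProduct_mulVec, k3]⟩, h3⟩
  obtain ⟨c, hc, e'⟩ := surj hC H.toMg hg a' ⟨H.sub h1, e⟩
  rw [← h3, e', hc.2]

end TW27

open TW27 in
/-- **the twist** -/
theorem boxTW_of (Rk : BoxRk3) : BoxTW := by
  intro I _ _ C μ X G Φ hC H ⟨y, hy⟩
  classical
  have pw : ∀ g ∈ G, ∃ i : ℕ, ∀ v, X *ᵥ v = v → g ^ 3 ^ i *ᵥ v = v := fun g hg =>
    let ⟨i, hi⟩ := H.gl g hg
    ⟨i, fun v hv => ww_fix hi (perp H.ell hv)⟩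
  have mv : ∀ g ∈ G, ∀ a, Mx Φ μ a → ∃ a', Mx Φ μ a' ∧ y a' = g *ᵥ y a := fun g hg a ha => by
    obtain ⟨h, hh, hw⟩ := H.vc g hg
    obtain ⟨a', ha', e⟩ := mx_mv hC H (mul_mem (H.wg hh) hg) hw ha
    obtain ⟨i, hi⟩ := pw g hg
    have f1 : X *ᵥ (y a' - g *ᵥ y a) = y a' - g *ᵥ y a := by rw [mulVec_sub, (hy a' ha').1, fix_mv hC H.toMg hg (hy a ha).1]
    have f2 := fix_mv hC H.toMg (pow_mem hg (3 ^ i - 1)) f1
    have f3 : g *ᵥ (g ^ (3 ^ i - 1) *ᵥ (y a' - g *ᵥ y a)) = y a' - g *ᵥ y a := by rw [mulVec_mulVec, pw_succ', hi _ f1]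
    refine ⟨a', ha', sub_eq_zero.1 (RsP.fm_zero hC (le_of_eq ?_))⟩
    generalize g ^ (3 ^ i - 1) *ᵥ (y a' - g *ᵥ y a) = v at f2 f3
    have f4 := fix_mv hC H.toMg hg f2
    nth_rewrite 1 [← f3]
    rw [RsP.fm_sub', RsP.iso hC (H.gw hg), (hy a' ha').2.1 _ f4, (hy a ha).2.1 _ f2, ← e, ← dotProduct_mulVec, ← mulVec_mulVec,
      ww_fix hh (perp H.ell f4), sub_self]
  have fx : ∀ s ∈ {s | ∃ a, Mx Φ μ a ∧ (s = y a ∨ s = -y a)}, X *ᵥ s = s := by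
    rintro s ⟨a, ha, rfl | rfl⟩
    · exact (hy a ha).1
    · rw [mulVec_neg, (hy a ha).1]
  obtain ⟨T, t1, t2, t3⟩ := half (G := G) (S := {s | ∃ a, Mx Φ μ a ∧ (s = y a ∨ s = -y a)})
    ((((RsP.fin hC).image y).union ((RsP.fin hC).image fun a => -y a)).subset (by
      rintro s ⟨a, ha, rfl | rfl⟩
      exacts [Or.inl ⟨a, H.sub ha.1, rfl⟩, Or.inr ⟨a, H.sub ha.1, rfl⟩]))
    (by
      rintro s ⟨a, ha, rfl | rfl⟩
      exacts [⟨a, ha, Or.inr rfl⟩, ⟨a, ha, Or.inl (neg_neg _)⟩])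
    (by
      rintro s ⟨a, ha, rfl | rfl⟩ e
      · exact (hy a ha).2.2.1 (by rw [e, dotProduct_zero]; exact dvd_zero _)
      · exact (hy a ha).2.2.1 (by rw [neg_eq_zero.1 e, dotProduct_zero]; exact dvd_zero _))
    (by
      rintro g hg s ⟨a, ha, rfl | rfl⟩ <;> obtain ⟨a', ha', e⟩ := mv g hg a ha
      exacts [⟨a', ha', Or.inl e.symm⟩, ⟨a', ha', Or.inr (by rw [mulVec_neg, e])⟩])
    (fun g hg => let ⟨i, hi⟩ := pw g hg; ⟨i, fun s hs => hi s (fx s hs)⟩)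
  have hx : X *ᵥ ∑ t ∈ T, t = ∑ t ∈ T, t := by
    rw [mulVec_sum]
    exact Finset.sum_congr rfl fun t ht => fx t (t1 t ht)
  have nd : ∀ a, Mx Φ μ a → ¬ (3 : ℤ) ∣ a.1 ⬝ᵥ ∑ t ∈ T, t := fun a ha => by
    have oth : ∀ t ∈ T, t ≠ y a → t ≠ -y a → a.1 ⬝ᵥ t = 0 := fun t ht n1 n2 => by
      obtain ⟨b, hb, rfl | rfl⟩ := t1 t ht <;> rcases (hy b hb).2.2.2 a ha with e | e | e
      · exact absurd e.symm n1
      · exact absurd (by rw [e, neg_neg]) n2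
      · exact e
      · exact absurd (by rw [e]) n2
      · exact absurd e.symm n1
      · rw [dotProduct_neg, e, neg_zero]
    rw [dotProduct_sum]
    by_cases h1 : y a ∈ T
    · rw [Finset.sum_eq_single_of_mem _ h1 fun t ht n1 => oth t ht n1 fun n2 => (t2 _ ⟨a, ha, Or.inl rfl⟩).1 h1 (n2 ▸ ht)]
      exact (hy a ha).2.2.1
    · have h2 : -y a ∈ T := by
        by_contra h2
        exact h1 ((t2 _ ⟨a, ha, Or.inl rfl⟩).2 h2)
      rw [Finset.sum_eq_single_of_mem _ h2 fun t ht n2 => oth t ht (fun n1 => h1 (n1 ▸ ht)) n2, dotProduct_neg, dvd_neg]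
      exact (hy a ha).2.2.1
  refine ⟨⟨∑ t ∈ T, t, ⟨fun i => by rw [hx, sub_self]; exact dvd_zero _, fun g hg i => by rw [t3 g hg, sub_self]; exact dvd_zero _⟩, ?_⟩,
    fun hco a ha => ?_⟩
  · rintro a ⟨a1, a2, b, hb, a3⟩
    exact nd a ⟨a1.1, a2, b, ⟨hb.1.1, hb.2⟩, a3⟩ a1.2
  · have := (Rk C _ μ X G hC H.toMg).2 _ (fun e => nd a ha (by rw [e, dotProduct_zero]; exact dvd_zero _)) (perp H.ell hx) t3
    omega

end Cfsg.Agent.BZ.RT.Cx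
end

-- part: BZ/RT/Cx/AnI
section
/-!
# BZ / RT : `boxAnI` (helper81)
-/

set_option autoImplicit false
set_option linter.unusedSectionVars false

namespace Cfsg.Agent.BZ.RT.Cx

open Cfsg Matrix Cfsg.Agent.DL Cfsg.Agent.HZ.L Cfsg.Agent.BZ.TA Cfsg.Agent.BZ.TA.Cl Cfsg.Agent.OM.Cu Cfsg.Agent.OM Cfsg.Agent.BZ.RT.Z2

namespace AnA

variable {I : Type} [Fintype I] [DecidableEq I] {C : Mat I} {d : I → ℤ}

/-- a matrix whose columns are a basis -/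
theorem exists_basis (M : Submodule ℤ (Vec I)) : ∃ (m : ℕ) (P : Matrix I (Fin m) ℤ), (∀ u, P *ᵥ u = 0 → u = 0) ∧ (∀ u, P *ᵥ u ∈ M) ∧
    ∀ v ∈ M, ∃ u, P *ᵥ u = v := by
  obtain ⟨m, b⟩ := Submodule.basisOfPid (Pi.basisFun ℤ I) M
  have e : ∀ u : Fin m → ℤ, (Matrix.of fun i j => (b j : Vec I) i) *ᵥ u = (b.equivFun.symm u : M) := fun u => by
    rw [Module.Basis.equivFun_symm_apply]
    funext i
    simp only [mulVec, dotProduct, mul_comm, _root_.Matrix.of_apply, _root_.AddSubmonoidClass.coe_finsetSum, _root_.SetLike.val_smul, _root_.zsmul_eq_mul, _root_.Finset.sum_apply, _root_.Pi.mul_apply, _root_.Pi.intCast_apply, _root_.Int.cast_eq]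
  refine ⟨m, Matrix.of fun i j => (b j : Vec I) i, fun u hu => ?_, fun u => e u ▸ Subtype.prop _, fun v hv => ?_⟩
  · exact b.equivFun.symm.map_eq_zero_iff.1 (Subtype.ext ((e u).symm.trans hu))
  · exact ⟨b.equivFun ⟨v, hv⟩, by rw [e, LinearEquiv.symm_apply_apply]⟩

/-- the matrix of the form -/
def nf (C : Mat I) (d : I → ℤ) : Mat I := Matrix.of fun i j => d i * C j i

theorem fm_nf (β γ : Vec I) : fm C d β γ = (β ᵥ* nf C d) ⬝ᵥ γ := by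
  rw [← dotProduct_mulVec]
  simp only [fm, nf, vecMul, mulVec, dotProduct, of_apply, Finset.mul_sum]
  exact Finset.sum_congr rfl fun _ _ => Finset.sum_congr rfl fun _ _ => by ring

theorem ev_span (H : Rs C d) {L : RS I} (hL : L ⊆ Rc C) {y : I → ℂ} (h : ∀ a ∈ L, ev a.1 y = 0) {β : Vec I}
    (hβ : β ∈ Submodule.span ℤ (Prod.snd '' L)) : ev (β ᵥ* nf C d) y = 0 := by
  induction hβ using Submodule.span_induction with
  | mem x hx =>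
    obtain ⟨a, ha, rfl⟩ := hx
    obtain ⟨m, -, h1⟩ := H.len a (hL ha)
    have h2 : a.2 ᵥ* nf C d = m • a.1 := funext fun i => by
      have := h1 (Pi.single i 1)
      rwa [fm_nf, dotProduct_single, dotProduct_single, mul_one, mul_one] at this
    have h3 := h a ha
    simp only [ev, dotProduct] at h3 ⊢
    simp only [h2, mul_assoc, ← Finset.mul_sum, h3, _root_.Pi.smul_apply, _root_.Int.zsmul_eq_mul, _root_.Int.cast_mul, _root_.MulZeroClass.mul_zero]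
  | zero => simp only [ev, _root_.Matrix.zero_vecMul, _root_.Pi.zero_apply, _root_.Int.cast_zero, _root_.zero_dotProduct']
  | add x z _ _ h1 h2 =>
    simp only [ev, dotProduct] at h1 h2 ⊢
    simp only [add_vecMul, add_mul, Finset.sum_add_distrib, h1, h2, _root_.Pi.add_apply, _root_.Int.cast_add, _root_.add_zero]
  | smul m x _ h1 =>
    rw [smul_vecMul]
    simp only [ev, dotProduct] at h1 ⊢
    simp only [Pi.smul_apply, smul_eq_mul, Int.cast_mul, mul_assoc, ← Finset.mul_sum, h1, mul_zero]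

/-- the roots of `L` separate the points of the span of the coroots -/
theorem sep (hC : Car C d) {L : RS I} (hL : L ⊆ Rc C) {J : Type} [Fintype J] [DecidableEq J] {P : Matrix I J ℤ}
    (p1 : ∀ u, P *ᵥ u = 0 → u = 0) (p2 : ∀ u, P *ᵥ u ∈ Submodule.span ℤ (Prod.snd '' L)) {y : J → ℂ}
    (h : ∀ a ∈ L, ev a.1 (P.map (Int.cast : ℤ → ℂ) *ᵥ y) = 0) : y = 0 := by
  have h1 : (Pᵀ * nf C d * P).det ≠ 0 := fun k => by
    obtain ⟨u, u1, u2⟩ := Matrix.exists_mulVec_eq_zero_iff.2 k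
    refine u1 (p1 u (by_contra fun k' => (hC.pos _ k').ne' ?_))
    refine (fm_nf (P *ᵥ u) (P *ᵥ u)).trans ?_
    rw [← dotProduct_mulVec, ← vecMul_transpose, ← dotProduct_mulVec, vecMul_transpose, mulVec_mulVec, mulVec_mulVec, u2,
      dotProduct_zero]
  refine Matrix.eq_zero_of_mulVec_eq_zero (M := (Pᵀ * nf C d * P).map (Int.cast : ℤ → ℂ)) ?_ (funext fun j => ?_)
  · rw [show (Pᵀ * nf C d * P).map (Int.cast : ℤ → ℂ) = (Int.castRingHom ℂ).mapMatrix _ from rfl, ← RingHom.map_det]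
    exact Int.cast_ne_zero.2 h1
  · have h2 := ev_span (boxRs C d hC) hL h (p2 (Pi.single j 1))
    rw [TrL.ev_rect, ← vecMul_transpose, vecMul_vecMul, vecMul_vecMul, single_one_vecMul, ← Matrix.mul_assoc] at h2
    exact h2

end AnA

open AnA in
theorem boxAnI : BoxAnI := by
  intro I _ _ C d L X q hC hL hX hN ha hq v hv
  obtain ⟨m, P, p1, p2, p3⟩ := exists_basis (Submodule.span ℤ (Prod.snd '' L))
  have h1 : ∀ u ∈ Submodule.span ℤ (Prod.snd '' L), X *ᵥ u ∈ Submodule.span ℤ (Prod.snd '' L) := fun u hu => by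
    induction hu using Submodule.span_induction with
    | mem x hx =>
      obtain ⟨a, ha, rfl⟩ := hx
      obtain ⟨b, hb, e, -⟩ := hN a ha
      exact Submodule.subset_span ⟨b, hb, e.symm⟩
    | zero => rw [mulVec_zero]; exact zero_mem _
    | add x z _ _ h1 h2 => rw [mulVec_add]; exact add_mem h1 h2
    | smul m x _ h1 => rw [mulVec_smul]; exact Submodule.smul_mem _ _ h1
  choose c hc using fun j : Fin m => p3 _ (h1 _ (p2 (Pi.single j 1)))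
  have h2 : X * P = P * (Matrix.of c)ᵀ := Matrix.ext fun i j => by
    have := congrFun (hc j) i
    rw [mulVec_mulVec, mulVec_single_one] at this
    exact this.symm
  generalize (Matrix.of c)ᵀ = Y at h2
  obtain ⟨n, n1, n2⟩ := fin_ord (boxRs C d hC) hX
  have h3 : ∀ k : ℕ, X ^ k * P = P * Y ^ k := fun k => by
    induction k with
    | zero => rw [pow_zero, pow_zero, Matrix.one_mul, Matrix.mul_one]
    | succ k ih => rw [pow_succ, Matrix.mul_assoc, h2, ← Matrix.mul_assoc, ih, Matrix.mul_assoc, ← pow_succ]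
  have h4 : Y ^ n = 1 := Matrix.ext fun i j => by
    have := p1 ((Y ^ n - 1) *ᵥ Pi.single j 1) (by
      rw [mulVec_mulVec, Matrix.mul_sub, ← h3, n2, Matrix.one_mul, Matrix.mul_one, sub_self, zero_mulVec])
    rw [mulVec_single_one] at this
    exact sub_eq_zero.1 (congrFun this i)
  have h5 : (q : ZMod 3) = 1 := by
    have := (ZMod.intCast_zmod_eq_zero_iff_dvd (q - 1) 3).2 hq
    rwa [Int.cast_sub, Int.cast_one, sub_eq_zero] at this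
  have h6 : ¬ ((3 : ℕ) : ℤ) ∣ (q • Y - 1).det := fun k => by
    obtain ⟨μ, y, y1, y2, y3⟩ := eig_two Y q 3 _ 1 n ⟨Nat.prime_three, fun k => by omega, rfl, by rw [h5, orderOf_one]⟩ n1 h4 k
    refine ha μ y1 ⟨P.map (Int.cast : ℤ → ℂ) *ᵥ y, ?_, by_contra fun k' => y2 (sep hC hL p1 p2 fun a h => by_contra fun k'' => k' ⟨a, h, k''⟩)⟩
    rw [IsE, mulVec_mulVec, ← TrL.map_mul', h2, TrL.map_mul', ← mulVec_mulVec, show _ *ᵥ y = _ from y3, mulVec_smul]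
  obtain ⟨u, rfl⟩ := p3 v hv
  refine ⟨_, P *ᵥ (adjugate (q • Y - 1) *ᵥ u), h6, p2 _, ?_⟩
  rw [mulVec_mulVec, Matrix.sub_mul, Matrix.smul_mul, h2, Matrix.one_mul, ← Matrix.mul_smul,
    show P * (q • Y) - P = P * (q • Y - 1) by rw [Matrix.mul_sub, Matrix.mul_one], ← mulVec_mulVec, mulVec_mulVec u, mul_adjugate,
    smul_mulVec, one_mulVec, mulVec_smul]

end Cfsg.Agent.BZ.RT.Cx
end

-- part: BZ/RT/Cx/S6
section
/-!
# BZ / RT / Cx : the shapes over `E₆` in `E₈`, `boxS6` (helper53)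
-/

set_option autoImplicit false
set_option linter.unusedSectionVars false

namespace Cfsg.Agent.BZ.RT.Cx

open Cfsg Matrix Cfsg.Agent.DL Cfsg.Agent.HZ.L Cfsg.Agent.BZ.TA Cfsg.Agent.BZ.TA.Cl Cfsg.Agent.OM.Cu Cfsg.Agent.OM Cfsg.Agent.BZ.RT.Z2

namespace S53

theorem car8 : Car (En 8) fun _ => 1 := by
  have e : (![1, 1, 1, 1, 1, 1, 1, 1] : Fin 8 → ℤ) = fun _ => 1 := by decide
  exact e ▸ Eng.carE8

/-- the form -/
def bf (u v : Vec (Fin 8)) : ℤ := fm (En 8) (fun _ => 1) u v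

theorem bf_comm (u v : Vec (Fin 8)) : bf u v = bf v u := RsP.fm_comm car8 u v
theorem bf_add (u v w : Vec (Fin 8)) : bf u (v + w) = bf u v + bf u w := Rk88.fm_add u v w
theorem bf_add' (u v w : Vec (Fin 8)) : bf (v + w) u = bf v u + bf w u := by rw [bf_comm, bf_add, bf_comm u, bf_comm u]
theorem bf_sub (u v w : Vec (Fin 8)) : bf u (v - w) = bf u v - bf u w := RsP.fm_sub' u v w
theorem bf_sub' (u v w : Vec (Fin 8)) : bf (v - w) u = bf v u - bf w u := RsP.fm_sub v w u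
theorem bf_smul (m : ℤ) (u v : Vec (Fin 8)) : bf u (m • v) = m * bf u v := RsP.fm_smul' m u v
theorem bf_smul' (m : ℤ) (u v : Vec (Fin 8)) : bf (m • u) v = m * bf u v := RsP.fm_smul m u v
theorem bf_nonneg (u : Vec (Fin 8)) : 0 ≤ bf u u := E7P.fm_nonneg car8 u
theorem bf_zero {u : Vec (Fin 8)} (h : bf u u ≤ 0) : u = 0 := RsP.fm_zero car8 h
theorem bf_two {a : Vec (Fin 8) × Vec (Fin 8)} (ha : a ∈ Rc (En 8)) : bf a.2 a.2 = 2 := E7P.fm_two car8 ha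

theorem bf_root {a : Vec (Fin 8) × Vec (Fin 8)} (ha : a ∈ Rc (En 8)) (v : Vec (Fin 8)) : bf a.2 v = a.1 ⬝ᵥ v := by
  obtain ⟨m, -, h⟩ := (boxRs _ _ car8).len a ha
  have h1 : bf a.2 a.2 = _ := h a.2
  rw [bf_two ha, (boxRs _ _ car8).two a ha] at h1
  have h2 : bf a.2 v = _ := h v
  rw [h2, show m = 1 by omega, one_mul]

/-- three times the projection -/
def yv (s t : ℤ) : Vec (Fin 8) := (2 * s - 3 * t) • ![4, 8, 12, 10, 8, 6, 3, 6] + (6 * t - 3 * s) • ![2, 4, 6, 5, 4, 3, 2, 3]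

theorem bf_one {w : Vec (Fin 8)} {i : Fin 8} (h : w ᵥ* En 8 = Pi.single i 1) (v : Vec (Fin 8)) : bf v w = v i := by
  show ∑ j, v j * 1 * (w ᵥ* En 8) j = _
  rw [h, Finset.sum_eq_single i]
  · rw [Pi.single_eq_same]; ring
  · intro j _ hj
    rw [Pi.single_eq_of_ne hj, mul_zero]
  · exact fun hi => (hi (Finset.mem_univ _)).elim

theorem bf_y (s t : ℤ) (v : Vec (Fin 8)) : bf v (yv s t) = (2 * s - 3 * t) * v 5 + (6 * t - 3 * s) * v 6 := by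
  rw [yv, bf_add, bf_smul, bf_smul, bf_one (i := 5) (by decide +kernel), bf_one (i := 6) (by decide +kernel)]

theorem bf_yy (s t : ℤ) : bf (yv s t) (yv s t) = 6 * (s ^ 2 - 3 * s * t + 3 * t ^ 2) := by
  rw [bf_y]
  show (2 * s - 3 * t) * ((2 * s - 3 * t) * 6 + (6 * t - 3 * s) * 3) + (6 * t - 3 * s) * ((2 * s - 3 * t) * 3 + (6 * t - 3 * s) * 2) = _
  ring

/-- the roots over a fixed vector -/
def Ov (s t : ℤ) (v : Vec (Fin 8)) : Prop := bf v v = 2 ∧ v 5 = s ∧ v 6 = t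

variable {s t : ℤ} {u v w : Vec (Fin 8)}

theorem Ov.y (h : Ov s t v) : bf v (yv s t) = 2 * (s ^ 2 - 3 * s * t + 3 * t ^ 2) := by
  rw [bf_y, h.2.1, h.2.2]; ring

theorem q_one (h : Ov s t v) (h0 : ¬ (s = 0 ∧ t = 0)) (h5 : u 5 = 0) (h6 : u 6 = 0) (hu : bf u v ≠ 0) :
    s ^ 2 - 3 * s * t + 3 * t ^ 2 = 1 := by
  have e : bf ((3 : ℤ) • v - yv s t) ((3 : ℤ) • v - yv s t) = 18 - 6 * (s ^ 2 - 3 * s * t + 3 * t ^ 2) := by
    simp only [bf_sub, bf_sub', bf_smul, bf_smul', bf_comm (yv s t) v, h.1, h.y, bf_yy]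
    ring
  have h1 : 0 < 18 - 6 * (s ^ 2 - 3 * s * t + 3 * t ^ 2) := by
    rw [← e]
    by_contra k
    have k1 := congrArg (bf u) (sub_eq_zero.1 (bf_zero (not_lt.1 k)))
    rw [bf_smul, bf_y, h5, h6] at k1
    omega
  have h2 : 0 < s ^ 2 - 3 * s * t + 3 * t ^ 2 := by
    by_contra k
    have k1 : t = 0 := by nlinarith only [k, sq_nonneg (2 * s - 3 * t)]
    have k2 : s = 0 := by rw [k1] at k; nlinarith only [k]
    exact h0 ⟨k2, k1⟩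
  have h3 : s ^ 2 % 3 ≠ 2 := by
    rw [sq, Int.mul_emod]
    have : s % 3 = 0 ∨ s % 3 = 1 ∨ s % 3 = 2 := by omega
    rcases this with k | k | k <;> rw [k] <;> decide
  rw [mul_assoc] at h1 h2 ⊢
  omega

theorem pair (hq : s ^ 2 - 3 * s * t + 3 * t ^ 2 = 1) (hu : Ov s t u) (hv : Ov s t v) : 0 ≤ bf u v := by
  have e := bf_nonneg ((3 : ℤ) • (u + v) - (2 : ℤ) • yv s t)
  simp only [bf_sub, bf_sub', bf_add, bf_add', bf_smul, bf_smul', bf_comm (yv s t) u, bf_comm (yv s t) v, bf_comm v u, hu.1, hv.1,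
    hu.y, hv.y, bf_yy, hq] at e
  omega

theorem triple (hq : s ^ 2 - 3 * s * t + 3 * t ^ 2 = 1) (hu : Ov s t u) (hv : Ov s t v) (hw : Ov s t w) (h1 : bf u v = 0)
    (h2 : bf u w = 0) (h3 : bf v w = 0) : u + v + w = yv s t := by
  refine sub_eq_zero.1 (bf_zero ?_)
  simp only [bf_sub, bf_sub', bf_add, bf_add', bf_comm (yv s t) u, bf_comm (yv s t) v, bf_comm (yv s t) w, bf_comm v u, bf_comm w u,
    bf_comm w v, hu.1, hv.1, hw.1, hu.y, hv.y, hw.y, bf_yy, hq, h1, h2, h3]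
  omega

theorem three (h : ∀ i : Fin 8, i ≠ 5 → i ≠ 6 → (sp (En 8) i).1 ⬝ᵥ v = 0) : 3 ∣ v 5 := by
  have e : ∀ (i : Fin 8) (r : Vec (Fin 8)), (sp (En 8) i).1 = r → i ≠ 5 → i ≠ 6 → r ⬝ᵥ v = 0 := fun i r e a b => e ▸ h i a b
  have h0 := e 0 ![2, -1, 0, 0, 0, 0, 0, 0] (by decide +kernel) (by decide) (by decide)
  have h1 := e 1 ![-1, 2, -1, 0, 0, 0, 0, 0] (by decide +kernel) (by decide) (by decide)
  have h2 := e 2 ![0, -1, 2, -1, 0, 0, 0, -1] (by decide +kernel) (by decide) (by decide)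
  have h3 := e 3 ![0, 0, -1, 2, -1, 0, 0, 0] (by decide +kernel) (by decide) (by decide)
  have h4 := e 4 ![0, 0, 0, -1, 2, -1, 0, 0] (by decide +kernel) (by decide) (by decide)
  have h7 := e 7 ![0, 0, -1, 0, 0, 0, 0, 2] (by decide +kernel) (by decide) (by decide)
  simp only [dotProduct, Fin.sum_univ_eight] at h0 h1 h2 h3 h4 h7
  change 2 * v 0 + -1 * v 1 + 0 * v 2 + 0 * v 3 + 0 * v 4 + 0 * v 5 + 0 * v 6 + 0 * v 7 = 0 at h0
  change -1 * v 0 + 2 * v 1 + -1 * v 2 + 0 * v 3 + 0 * v 4 + 0 * v 5 + 0 * v 6 + 0 * v 7 = 0 at h1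
  change 0 * v 0 + -1 * v 1 + 2 * v 2 + -1 * v 3 + 0 * v 4 + 0 * v 5 + 0 * v 6 + -1 * v 7 = 0 at h2
  change 0 * v 0 + 0 * v 1 + -1 * v 2 + 2 * v 3 + -1 * v 4 + 0 * v 5 + 0 * v 6 + 0 * v 7 = 0 at h3
  change 0 * v 0 + 0 * v 1 + 0 * v 2 + -1 * v 3 + 2 * v 4 + -1 * v 5 + 0 * v 6 + 0 * v 7 = 0 at h4
  change 0 * v 0 + 0 * v 1 + -1 * v 2 + 0 * v 3 + 0 * v 4 + 0 * v 5 + 0 * v 6 + 2 * v 7 = 0 at h7
  (clear * - h0 h1 h3 h4; omega)

end S53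

open S53 in
theorem boxS6 : BoxS6 := by
  intro μ X G Φ H hX hD n5 n6 j0 j4 a ⟨ha, a0, b, hb, ab⟩
  have R := boxRs _ _ car8
  have hJ : ∀ i : Fin 8, i ≠ 5 → i ≠ 6 → Jz (En 8) μ i := fun i h5 h6 => by
    fin_cases i
    exacts [j0, hD _ (Or.inl rfl), hD _ (Or.inr (Or.inl rfl)), hD _ (Or.inr (Or.inr (Or.inl rfl))), j4, (h5 rfl).elim, (h6 rfl).elim,
      hD _ (Or.inr (Or.inr (Or.inr rfl)))]
  have hz : ∀ c ∈ Rc (En 8), c.1 ⬝ᵥ μ = 0 ↔ c.2 5 = 0 ∧ c.2 6 = 0 := fun c hc => (ParT.zero_iff car8 H.dom hc).trans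
    ⟨fun h => ⟨h 5 n5, h 6 n6⟩, fun h i hi => by
      by_cases h5 : i = 5
      · exact h5 ▸ h.1
      · by_cases h6 : i = 6
        · exact h6 ▸ h.2
        · exact (hi (hJ i h5 h6)).elim⟩
  have hw : ∀ w ∈ WW (_root_.Cfsg.Agent.HZ.L.lev (Rc (En 8)) μ), ∀ v : Vec (Fin 8), (w *ᵥ v) 5 = v 5 ∧ (w *ᵥ v) 6 = v 6 := fun w hw => by
    induction hw using Submonoid.closure_induction with
    | mem x hx =>
      obtain ⟨c, hc, rfl⟩ := hx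
      intro v
      have := (hz c hc.1).1 hc.2
      simp only [RsP.rfm_mulVec, Pi.sub_apply, Pi.smul_apply, this.1, this.2, smul_zero, sub_zero, and_self]
    | one => intro v; simp only [one_mulVec, and_self]
    | mul x y _ _ h1 h2 => intro v; rw [← mulVec_mulVec, (h1 _).1, (h1 _).2]; exact h2 v
  have hx := hw X (ParT.stab car8 H.dom hX H.fx)
  generalize hM : Submodule.span ℤ (Prod.snd '' _root_.Cfsg.Agent.HZ.L.lev Φ μ) = M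
  have m1 : ∀ c ∈ Φ, c.2 5 = 0 → c.2 6 = 0 → c.2 ∈ M := fun c hc h5 h6 =>
    hM ▸ Submodule.subset_span ⟨c, ⟨hc, (hz c (H.sub hc)).2 ⟨h5, h6⟩⟩, rfl⟩
  have m5 : ∀ u ∈ M, u 5 = 0 := fun u hu => by
    rw [← hM] at hu
    induction hu using Submodule.span_induction with
    | mem x hx =>
      obtain ⟨c, hc, rfl⟩ := hx
      exact ((hz c (H.sub hc.1)).1 hc.2).1
    | zero => rfl
    | add x z _ _ h1 h2 => rw [Pi.add_apply, h1, h2, add_zero]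
    | smul m x _ h1 => rw [Pi.smul_apply, h1, smul_zero]
  have kill : ∀ v : Vec (Fin 8), X *ᵥ v - v ∈ M → 3 ∣ v 5 := fun v hv => by
    obtain ⟨k, u, k3, hu, e⟩ := boxAnI (En 8) _ (lev Φ μ) X 1 car8 (fun c hc => H.sub hc.1) H.nm (ParT.nm_lev H.nx H.fx) H.an
      (by decide) _ (hM ▸ hv)
    rw [one_smul, sub_mulVec, one_mulVec, smul_sub] at e
    have e1 : X *ᵥ (k • v - u) = k • v - u := by
      rw [mulVec_sub, mulVec_smul, sub_eq_iff_eq_add.1 e]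
      abel
    have e2 : Perp (_root_.Cfsg.Agent.HZ.L.lev (Rc (En 8)) μ) (k • v - u) := fun c hc => by
      by_contra k0
      refine H.ell ⟨fun i => ((k • v - u) i : ℂ), ?_, c, hc, by rw [ev_int]; exact Int.cast_ne_zero.2 k0⟩
      rw [IsE, one_smul]
      funext i
      exact ((RingHom.map_mulVec (Int.castRingHom ℂ) X (k • v - u) i).symm.trans (by rw [e1]; rfl))
    have e3 := three fun i h5 h6 => (Rk88.perp_iff car8 H.dom).1 e2 i (hJ i h5 h6)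
    rw [Pi.sub_apply, m5 u (hM ▸ hu), sub_zero, Pi.smul_apply, smul_eq_mul] at e3
    exact (Int.prime_three.dvd_or_dvd e3).resolve_left k3
  have b0 := (hz b (H.sub hb.1)).1 hb.2
  have o0 : Ov (a.2 5) (a.2 6) a.2 := ⟨bf_two (H.sub ha), rfl, rfl⟩
  have hq := q_one o0 (fun h => a0 ((hz a (H.sub ha)).2 h)) b0.1 b0.2 (by rw [bf_root (H.sub hb.1)]; exact ab)
  generalize hs : a.2 5 = s at o0 hq
  generalize a.2 6 = t at o0 hq
  have s3 : ¬ 3 ∣ s := fun ⟨m, hm⟩ => by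
    rw [hm, show (3 * m) ^ 2 - 3 * (3 * m) * t + 3 * t ^ 2 = 3 * (3 * m ^ 2 - 3 * m * t + t ^ 2) by ring] at hq
    omega
  have orth : ∀ c ∈ Φ, ∀ c' ∈ Φ, Ov s t c.2 → Ov s t c'.2 → c'.2 - c.2 ∉ M → bf c.2 c'.2 = 0 := fun c hc c' hc' o o' hn => by
    have p0 := pair hq o o'
    have p1 : 0 < bf (c'.2 - c.2) (c'.2 - c.2) := not_le.1 fun k => hn (by rw [bf_zero k]; exact zero_mem _)
    simp only [bf_sub, bf_sub', bf_comm c'.2 c.2, o.1, o'.1] at p1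
    by_contra k
    obtain ⟨e, he, e1, -⟩ := H.cl c hc c' hc'
    rw [RsP.rfm_mulVec, ← bf_root (H.sub hc), show bf c.2 c'.2 = 1 by omega, one_smul] at e1
    refine hn (e1 ▸ m1 e he ?_ ?_)
    · rw [← e1, Pi.sub_apply, o.2.1, o'.2.1, sub_self]
    · rw [← e1, Pi.sub_apply, o.2.2, o'.2.2, sub_self]
  obtain ⟨a1, h1, e1, -⟩ := H.nx a ha
  obtain ⟨a2, h2, e2, -⟩ := H.nx a1 h1
  obtain ⟨a', h', e', -⟩ := H.cl b hb.1 a ha
  rw [RsP.rfm_mulVec] at e'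
  have o1 : Ov s t a1.2 := ⟨bf_two (H.sub h1), by rw [← e1, (hx _).1, o0.2.1], by rw [← e1, (hx _).2, o0.2.2]⟩
  have o2 : Ov s t a2.2 := ⟨bf_two (H.sub h2), by rw [← e2, (hx _).1, o1.2.1], by rw [← e2, (hx _).2, o1.2.2]⟩
  have o' : Ov s t a'.2 := ⟨bf_two (H.sub h'), by rw [← e', Pi.sub_apply, Pi.smul_apply, b0.1, smul_zero, sub_zero, o0.2.1],
    by rw [← e', Pi.sub_apply, Pi.smul_apply, b0.2, smul_zero, sub_zero, o0.2.2]⟩
  have n01 : a1.2 - a.2 ∉ M := fun k => s3 (o0.2.1 ▸ kill a.2 (e1 ▸ k))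
  have n12 : a2.2 - a1.2 ∉ M := fun k => s3 (o1.2.1 ▸ kill a1.2 (e2 ▸ k))
  have n02 : a2.2 - a.2 ∉ M := fun k => by
    have := kill (a.2 + a1.2) (by rw [mulVec_add, e1, e2, show a1.2 + a2.2 - (a.2 + a1.2) = a2.2 - a.2 by abel]; exact k)
    rw [Pi.add_apply, o0.2.1, o1.2.1] at this
    omega
  have mb : (b.1 ⬝ᵥ a.2) • b.2 ∈ M := M.smul_mem _ (m1 b hb.1 b0.1 b0.2)
  have n' : ∀ v, v - a.2 ∉ M → v - a'.2 ∉ M := fun v hv k => hv (by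
    have := M.sub_mem k mb
    rwa [← e', show v - (a.2 - (b.1 ⬝ᵥ a.2) • b.2) - (b.1 ⬝ᵥ a.2) • b.2 = v - a.2 by abel] at this)
  have t1 := triple hq o0 o1 o2 (orth a ha a1 h1 o0 o1 n01) (orth a ha a2 h2 o0 o2 n02) (orth a1 h1 a2 h2 o1 o2 n12)
  have t2 := triple hq o' o1 o2 (orth a' h' a1 h1 o' o1 (n' _ n01)) (orth a' h' a2 h2 o' o2 (n' _ n02)) (orth a1 h1 a2 h2 o1 o2 n12)
  have t3 : a'.2 = a.2 := add_right_cancel (add_right_cancel (t2.trans t1.symm))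
  rw [← e', sub_eq_self, smul_eq_zero] at t3
  have t4 := R.two b (H.sub hb.1)
  rw [t3.resolve_left ab, dotProduct_zero] at t4
  omega

end Cfsg.Agent.BZ.RT.Cx
end

private theorem dce_40ab21008e43 : _root_.True := by
  try have : _root_.True := by simp only [_root_.Cfsg.Agent.BZ.RT.Cx.AnA.nf.eq_1]
  try have : _root_.True := by simp only [_root_.Cfsg.Agent.BZ.RT.Cx.S53.yv.eq_1]
  exact _root_.True.intro
end

-- part: BZ/RT/Cx/Om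
section
prune_inst 0x210407d0576400200001c8014b22040313c0004b01000880020a603420b0cc060e1c2a8414a20050a023a18093801000813000020c26000000e8474000003012098884400a348031dac001981220a490c02200080000000000000000000000004014010000
set_option linter.all false
open scoped Cfsg.Agent.FastGrp

-- part: BZ/RT/Cx/OmT
section
/-!
# BZ / RT / Cx : coordinates over `D₄`, the tables (helper68)

`Lm n`, `Um n` are twice the projections of the lattice `Eₙ` to the span of `D₄` and to its orthogonal space.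
-/

set_option autoImplicit false
set_option linter.unusedSectionVars false
set_option synthInstance.maxSize 4000
set_option synthInstance.maxHeartbeats 400000

namespace Cfsg.Agent.BZ.RT.Cx.Om68

open Cfsg Matrix Cfsg.Agent.HZ.L

abbrev V4 := Fin 4 → ℤ

abbrev Ix := Bool × Fin 4 × Fin 4

def sv : Fin 4 → V4 := ![![1, -1, -1, -1], ![-1, 1, -1, -1], ![-1, -1, 1, -1], ![-1, -1, -1, 1]]

def cv : Fin 4 → V4 := ![![1, 1, 1, 1], ![1, 1, -1, -1], ![1, -1, 1, -1], ![1, -1, -1, 1]]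

def vv : Fin 4 → V4 := ![![2, 0, 0, 0], ![0, 2, 0, 0], ![0, 0, 2, 0], ![0, 0, 0, 2]]

def kk : Fin 4 → Fin 4 → Fin 4 := ![![0, 1, 2, 3], ![1, 0, 3, 2], ![2, 3, 0, 1], ![3, 2, 1, 0]]

def ff : Fin 4 → V4 := ![![2, 0, 0, 0], ![3, 1, 1, 1], ![2, 1, 1, 0], ![1, 1, 0, 0]]

/-- the short vectors -/
def S : List V4 := [![2, 0, 0, 0], ![0, 2, 0, 0], ![0, 0, 2, 0], ![0, 0, 0, 2], ![-2, 0, 0, 0], ![0, -2, 0, 0], ![0, 0, -2, 0],
  ![0, 0, 0, -2], ![1, 1, 1, 1], ![1, 1, 1, -1], ![1, 1, -1, 1], ![1, 1, -1, -1], ![1, -1, 1, 1], ![1, -1, 1, -1], ![1, -1, -1, 1],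
  ![1, -1, -1, -1], ![-1, 1, 1, 1], ![-1, 1, 1, -1], ![-1, 1, -1, 1], ![-1, 1, -1, -1], ![-1, -1, 1, 1], ![-1, -1, 1, -1],
  ![-1, -1, -1, 1], ![-1, -1, -1, -1]]

/-- the long vectors -/
def Lg : List V4 := [![2, 2, 0, 0], ![2, -2, 0, 0], ![-2, 2, 0, 0], ![-2, -2, 0, 0], ![2, 0, 2, 0], ![2, 0, -2, 0], ![-2, 0, 2, 0],
  ![-2, 0, -2, 0], ![2, 0, 0, 2], ![2, 0, 0, -2], ![-2, 0, 0, 2], ![-2, 0, 0, -2], ![0, 2, 2, 0], ![0, 2, -2, 0], ![0, -2, 2, 0],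
  ![0, -2, -2, 0], ![0, 2, 0, 2], ![0, 2, 0, -2], ![0, -2, 0, 2], ![0, -2, 0, -2], ![0, 0, 2, 2], ![0, 0, 2, -2], ![0, 0, -2, 2],
  ![0, 0, -2, -2]]

/-- the hexagon of two vectors -/
abbrev InK (u v w : V4) : Prop := w = u ∨ w = -u ∨ w = v ∨ w = -v ∨ w = u + v ∨ w = -(u + v)

abbrev InK' (u v w : V4) : Prop := (u ⬝ᵥ v = -2 ∧ InK u v w) ∨ (u ⬝ᵥ -v = -2 ∧ InK u (-v) w)

def u1 (t : Ix) : V4 := (if t.1 then 1 else -1 : ℤ) • sv t.2.1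

def u2 (t : Ix) : V4 := (-(u1 t t.2.2)) • vv t.2.2

def sm4 (u : V4) : ℤ := u 0 + u 1 + u 2 + u 3

private noncomputable def _root_.Cfsg.Agent.LsF.f33f8c3_0 : {f // @Cfsg.Agent.BZ.RT.Cx.Om68.S = f} := ⟨_, by first | (delta Cfsg.Agent.BZ.RT.Cx.Om68.S; rewrite [Cfsg.Agent.LsF.ineg_pat, Cfsg.Agent.LsF.vecCons_eq]; exact rfl) | exact rfl⟩
private noncomputable def _root_.Cfsg.Agent.LsF.f33f8c3_1 : {f // @Cfsg.Agent.BZ.RT.Cx.Om68.Lg = f} := ⟨_, by first | (delta Cfsg.Agent.BZ.RT.Cx.Om68.Lg; rewrite [Cfsg.Agent.LsF.ineg_pat, Cfsg.Agent.LsF.vecCons_eq]; exact rfl) | exact rfl⟩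
theorem tA : ∀ a ∈ [(-2 : ℤ), -1, 0, 1, 2], ∀ b ∈ [(-2 : ℤ), -1, 0, 1, 2], ∀ c ∈ [(-2 : ℤ), -1, 0, 1, 2], ∀ d ∈ [(-2 : ℤ), -1, 0, 1, 2],
    (a * a + b * b + c * c + d * d = 4 → ![a, b, c, d] ∈ S) ∧ (a * a + b * b + c * c + d * d = 8 → ![a, b, c, d] ∈ Lg) := by
  (refine of_decide_eq_true ?_; (try (rewrite [Cfsg.Agent.LsF.dPiF_pat, Cfsg.Agent.LsF.dMemE_pat, Cfsg.Agent.LsF.f33f8c3_0.2, Cfsg.Agent.LsF.f33f8c3_1.2, Cfsg.Agent.LsF.iadd_pat, Cfsg.Agent.LsF.imul_pat, Cfsg.Agent.LsF.ineg_pat, Cfsg.Agent.LsF.vecCons_eq, Cfsg.Agent.LsF.instIDecEq_eq, Cfsg.Agent.LsF.dAnd_eq, Cfsg.Agent.LsF.dBAll_eq, Cfsg.Agent.LsF.dAllP_eq, Cfsg.Agent.LsF.decide_eq])); decide +kernel)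

private noncomputable def _root_.Cfsg.Agent.LsF.f33f8c3_2 : {f // @Cfsg.Agent.BZ.RT.Cx.Om68.sv = f} := ⟨_, by first | (delta Cfsg.Agent.BZ.RT.Cx.Om68.sv; rewrite [Cfsg.Agent.LsF.ineg_pat, Cfsg.Agent.LsF.vecCons_eq]; exact rfl) | exact rfl⟩
private noncomputable def _root_.Cfsg.Agent.LsF.f33f8c3_3 : {f // @Cfsg.Agent.BZ.RT.Cx.Om68.vv = f} := ⟨_, by first | (delta Cfsg.Agent.BZ.RT.Cx.Om68.vv; rewrite [Cfsg.Agent.LsF.vecCons_eq]; exact rfl) | exact rfl⟩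
private noncomputable def _root_.Cfsg.Agent.LsF.f33f8c3_4 : {f // @Cfsg.Agent.BZ.RT.Cx.Om68.u1 = f} := ⟨_, by first | (delta Cfsg.Agent.BZ.RT.Cx.Om68.u1; rewrite [Cfsg.Agent.LsF.f33f8c3_2.2, Cfsg.Agent.LsF.ineg_pat, Cfsg.Agent.LsF.dBoolEq_eq, Cfsg.Agent.LsF.ite_eq]; exact rfl) | exact rfl⟩
private noncomputable def _root_.Cfsg.Agent.LsF.f33f8c3_5 : {f // @Cfsg.Agent.BZ.RT.Cx.Om68.u2 = f} := ⟨_, by first | (delta Cfsg.Agent.BZ.RT.Cx.Om68.u2; rewrite [Cfsg.Agent.LsF.f33f8c3_4.2, Cfsg.Agent.LsF.f33f8c3_3.2, Cfsg.Agent.LsF.ineg_pat]; exact rfl) | exact rfl⟩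
theorem tB : ∀ u ∈ S, ∀ v ∈ S, u ⬝ᵥ v = -2 → ∃ t : Ix, InK u v (sv t.2.1) ∧ InK u v (vv t.2.2) ∧ InK u v (u1 t) ∧ InK u v (u2 t) ∧
    ∀ r, (u - v - (u1 t - u2 t)) r % 3 = 0 := by (refine of_decide_eq_true ?_; (try (delta Cfsg.Agent.BZ.RT.Cx.Om68.InK; rewrite [Cfsg.Agent.LsF.dotF_pat, Cfsg.Agent.LsF.padd_pat, Cfsg.Agent.LsF.psub_pat, Cfsg.Agent.LsF.pneg_pat, Cfsg.Agent.LsF.dPiF_pat, Cfsg.Agent.LsF.f33f8c3_0.2, Cfsg.Agent.LsF.f33f8c3_2.2, Cfsg.Agent.LsF.f33f8c3_3.2, Cfsg.Agent.LsF.f33f8c3_4.2, Cfsg.Agent.LsF.f33f8c3_5.2, Cfsg.Agent.LsF.iadd_pat, Cfsg.Agent.LsF.imul_pat, Cfsg.Agent.LsF.isub_pat, Cfsg.Agent.LsF.imod_pat, Cfsg.Agent.LsF.ineg_pat, Cfsg.Agent.LsF.finFintype_eq, Cfsg.Agent.LsF.prodFintype_eq, Cfsg.Agent.LsF.dExists_eq, Cfsg.Agent.LsF.iACM_eq, Cfsg.Agent.LsF.instIDecEq_eq, Cfsg.Agent.LsF.dAnd_eq, Cfsg.Agent.LsF.dOr_eq, Cfsg.Agent.LsF.dBAll_eq,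 Cfsg.Agent.LsF.dForallFin_eq, Cfsg.Agent.LsF.dAllP_eq, Cfsg.Agent.LsF.decide_eq])); decide +kernel)

private noncomputable def _root_.Cfsg.Agent.LsF.f33f8c3_6 : {f // @Cfsg.Agent.BZ.RT.Cx.Om68.sm4 = f} := ⟨_, by first | (delta Cfsg.Agent.BZ.RT.Cx.Om68.sm4; rewrite [Cfsg.Agent.LsF.iadd_pat]; exact rfl) | exact rfl⟩
theorem tC : ∀ t : Ix, u1 t ⬝ᵥ u1 t = 4 ∧ u2 t ⬝ᵥ u2 t = 4 ∧ u1 t ⬝ᵥ u2 t = -2 ∧ u1 t 0 % 2 = 1 ∧ u2 t 0 % 2 = 0 ∧ sm4 (u1 t) % 4 = 2 ∧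
    sm4 (u2 t) % 4 = 2 ∧ (u1 t = sv t.2.1 ∨ u1 t = -sv t.2.1) ∧ (u2 t = vv t.2.2 ∨ u2 t = -vv t.2.2) ∧
    ∀ u ∈ S, (u ⬝ᵥ u1 t - u ⬝ᵥ u2 t) % 3 = 0 → InK (u1 t) (u2 t) u := by (refine of_decide_eq_true ?_; (try (delta Cfsg.Agent.BZ.RT.Cx.Om68.InK; rewrite [Cfsg.Agent.LsF.dotF_pat, Cfsg.Agent.LsF.padd_pat, Cfsg.Agent.LsF.pneg_pat, Cfsg.Agent.LsF.dPiF_pat, Cfsg.Agent.LsF.f33f8c3_4.2, Cfsg.Agent.LsF.f33f8c3_5.2, Cfsg.Agent.LsF.f33f8c3_6.2, Cfsg.Agent.LsF.f33f8c3_2.2, Cfsg.Agent.LsF.f33f8c3_3.2, Cfsg.Agent.LsF.f33f8c3_0.2, Cfsg.Agent.LsF.iadd_pat, Cfsg.Agent.LsF.imul_pat, Cfsg.Agent.LsF.isub_pat, Cfsg.Agent.LsF.imod_pat, Cfsg.Agent.LsF.ineg_pat, Cfsg.Agent.LsF.finFintype_eq, Cfsg.Agent.LsF.prodFintype_eq, Cfsg.Agent.LsF.dForall_eq, Cfsg.Agent.LsF.iACM_eq, Cfsg.Agent.LsF.instIDecEq_eq, Cfsg.Agent.LsF.dAnd_eq, Cfsg.Agent.LsF.dOr_eq, Cfsg.Agent.LsF.dBAll_eq,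 Cfsg.Agent.LsF.dAllP_eq, Cfsg.Agent.LsF.decide_eq])); decide +kernel)

theorem tD : ∀ t t' : Ix, (∀ r, (u1 t - u2 t - (u1 t' - u2 t')) r % 3 = 0) → t = t' := by (refine of_decide_eq_true ?_; (try (rewrite [Cfsg.Agent.LsF.psub_pat, Cfsg.Agent.LsF.f33f8c3_4.2, Cfsg.Agent.LsF.f33f8c3_5.2, Cfsg.Agent.LsF.isub_pat, Cfsg.Agent.LsF.imod_pat, Cfsg.Agent.LsF.dProdEq_eq, Cfsg.Agent.LsF.finFintype_eq, Cfsg.Agent.LsF.prodFintype_eq, Cfsg.Agent.LsF.dForall_eq, Cfsg.Agent.LsF.instIDecEq_eq, Cfsg.Agent.LsF.dFinEq_eq, Cfsg.Agent.LsF.dBoolEq_eq, Cfsg.Agent.LsF.dForallFin_eq, Cfsg.Agent.LsF.dAllP_eq, Cfsg.Agent.LsF.decide_eq])); decide +kernel)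

private noncomputable def _root_.Cfsg.Agent.LsF.f33f8c3_7 : {f // @Cfsg.Agent.BZ.RT.Cx.Om68.kk = f} := ⟨_, by first | (delta Cfsg.Agent.BZ.RT.Cx.Om68.kk; rewrite [Cfsg.Agent.LsF.vecCons_eq]; exact rfl) | exact rfl⟩
theorem tE : ∀ a0 a1 a2 a3 b0 b1 b2 b3 c0 c1 c2 c3 : Bool, (∀ i j, ((![a0, a1, a2, a3] i ∧ ![b0, b1, b2, b3] j → ![c0, c1, c2, c3] (kk i j)) ∧
      (![a0, a1, a2, a3] i ∧ ![c0, c1, c2, c3] (kk i j) → ![b0, b1, b2, b3] j)) ∧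
      (![b0, b1, b2, b3] j ∧ ![c0, c1, c2, c3] (kk i j) → ![a0, a1, a2, a3] i)) →
    (Finset.univ.filter fun t : Ix => ![a0, a1, a2, a3] t.2.1 ∧ ![b0, b1, b2, b3] t.2.2).card ∈ [0, 2, 8, 32] := by (refine of_decide_eq_true ?_; (try (rewrite [Cfsg.Agent.LsF.dMemE_pat, Cfsg.Agent.LsF.f33f8c3_7.2, Cfsg.Agent.LsF.vecCons_eq, Cfsg.Agent.LsF.finFintype_eq, Cfsg.Agent.LsF.prodFintype_eq, Cfsg.Agent.LsF.fcard_eq, Cfsg.Agent.LsF.ffilter_eq, Cfsg.Agent.LsF.instDecEq_eq, Cfsg.Agent.LsF.dAnd_eq, Cfsg.Agent.LsF.dBoolEq_eq, Cfsg.Agent.LsF.dForallFin_eq, Cfsg.Agent.LsF.dAllP_eq, Cfsg.Agent.LsF.decide_eq])); decide +kernel)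

theorem tF : ∀ i j, InK' (sv i) (vv j) (cv (kk i j)) ∧ InK' (sv i) (cv (kk i j)) (vv j) ∧ InK' (vv j) (cv (kk i j)) (sv i) := by
  decide +kernel

theorem tG : ∀ u ∈ S, ∀ v ∈ S, v = u ∨ v = -u ∨ u ⬝ᵥ v = 0 ∨ u ⬝ᵥ v = -2 ∨ u ⬝ᵥ v = 2 := by (refine of_decide_eq_true ?_; (try (rewrite [Cfsg.Agent.LsF.dotF_pat, Cfsg.Agent.LsF.pneg_pat, Cfsg.Agent.LsF.dPiF_pat, Cfsg.Agent.LsF.f33f8c3_0.2, Cfsg.Agent.LsF.iadd_pat, Cfsg.Agent.LsF.imul_pat, Cfsg.Agent.LsF.ineg_pat, Cfsg.Agent.LsF.iACM_eq, Cfsg.Agent.LsF.instIDecEq_eq, Cfsg.Agent.LsF.dOr_eq, Cfsg.Agent.LsF.dBAll_eq, Cfsg.Agent.LsF.decide_eq])); decide +kernel)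

theorem tH : ∀ u ∈ S, ∀ v ∈ S, u ⬝ᵥ v = -2 → ∀ w ∈ S, InK u v w ∨
    (u ⬝ᵥ w, v ⬝ᵥ w) ∈ [((0 : ℤ), (2 : ℤ)), (0, -2), (2, 0), (-2, 0), (2, -2), (-2, 2)] := by (refine of_decide_eq_true ?_; (try (delta Cfsg.Agent.BZ.RT.Cx.Om68.InK; rewrite [Cfsg.Agent.LsF.dotF_pat, Cfsg.Agent.LsF.padd_pat, Cfsg.Agent.LsF.pneg_pat, Cfsg.Agent.LsF.dPiF_pat, Cfsg.Agent.LsF.dMemP_pat, Cfsg.Agent.LsF.f33f8c3_0.2, Cfsg.Agent.LsF.iadd_pat, Cfsg.Agent.LsF.imul_pat, Cfsg.Agent.LsF.ineg_pat, Cfsg.Agent.LsF.dProdEq_eq, Cfsg.Agent.LsF.iACM_eq, Cfsg.Agent.LsF.instIDecEq_eq, Cfsg.Agent.LsF.dOr_eq, Cfsg.Agent.LsF.dBAll_eq, Cfsg.Agent.LsF.dAllP_eq, Cfsg.Agent.LsF.decide_eq])); decide +kernel)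

private noncomputable def _root_.Cfsg.Agent.LsF.f33f8c3_9 : {f // @Cfsg.Agent.BZ.RT.Cx.Om68.ff = f} := ⟨_, by first | (delta Cfsg.Agent.BZ.RT.Cx.Om68.ff; rewrite [Cfsg.Agent.LsF.vecCons_eq]; exact rfl) | exact rfl⟩
theorem tL : ∀ u ∈ Lg, ∀ v ∈ Lg, ff 0 ⬝ᵥ u = ff 0 ⬝ᵥ v → ff 1 ⬝ᵥ u = ff 1 ⬝ᵥ v → v = u ∨ u ⬝ᵥ v = 4 ∨
    ∀ m, ff m ⬝ᵥ u = ff m ⬝ᵥ v → ff m ⬝ᵥ u = 0 := by (refine of_decide_eq_true ?_; (try (rewrite [Cfsg.Agent.LsF.dotF_pat, Cfsg.Agent.LsF.dPiF_pat, Cfsg.Agent.LsF.f33f8c3_1.2, Cfsg.Agent.LsF.f33f8c3_9.2, Cfsg.Agent.LsF.iadd_pat, Cfsg.Agent.LsF.imul_pat, Cfsg.Agent.LsF.iACM_eq, Cfsg.Agent.LsF.instIDecEq_eq, Cfsg.Agent.LsF.dOr_eq, Cfsg.Agent.LsF.dBAll_eq, Cfsg.Agent.LsF.dForallFin_eq, Cfsg.Agent.LsF.dAllP_eq, Cfsg.Agent.LsF.decide_eq])); decide +kernel)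

theorem tM : ∀ u ∈ S, ∀ v ∈ S, (u 0 - v 0) % 2 = 0 → (sm4 u - sm4 v) % 4 = 0 →
    ∃ w ∈ Lg, u ⬝ᵥ w = -4 ∧ (u + w) ⬝ᵥ (v - u - w) = -4 ∧ v - u - w ∈ Lg := by (refine of_decide_eq_true ?_; (try (rewrite [Cfsg.Agent.LsF.dotF_pat, Cfsg.Agent.LsF.padd_pat, Cfsg.Agent.LsF.psub_pat, Cfsg.Agent.LsF.dPiF_pat, Cfsg.Agent.LsF.dMemE_pat, Cfsg.Agent.LsF.f33f8c3_0.2, Cfsg.Agent.LsF.f33f8c3_6.2, Cfsg.Agent.LsF.f33f8c3_1.2, Cfsg.Agent.LsF.iadd_pat, Cfsg.Agent.LsF.imul_pat, Cfsg.Agent.LsF.isub_pat, Cfsg.Agent.LsF.imod_pat, Cfsg.Agent.LsF.ineg_pat, Cfsg.Agent.LsF.iACM_eq, Cfsg.Agent.LsF.instIDecEq_eq, Cfsg.Agent.LsF.dAnd_eq, Cfsg.Agent.LsF.dBAll_eq, Cfsg.Agent.LsF.dBEx_eq, Cfsg.Agent.LsF.dAllP_eq, Cfsg.Agent.LsF.decide_eq])); decide +kernel)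

theorem tN : (∀ u ∈ S, ff 0 ⬝ᵥ u ≠ 0 ∨ ff 1 ⬝ᵥ u ≠ 0) ∧ (∀ u ∈ S, -u ∈ S ∧ (u 0 - (-u) 0) % 2 = 0 ∧ (sm4 u - sm4 (-u)) % 4 = 0) ∧
    ∀ w ∈ Lg, w ⬝ᵥ w = 8 := by (refine of_decide_eq_true ?_; (try (rewrite [Cfsg.Agent.LsF.dotF_pat, Cfsg.Agent.LsF.pneg_pat, Cfsg.Agent.LsF.dPiF_pat, Cfsg.Agent.LsF.dMemE_pat, Cfsg.Agent.LsF.f33f8c3_0.2, Cfsg.Agent.LsF.f33f8c3_9.2, Cfsg.Agent.LsF.f33f8c3_6.2, Cfsg.Agent.LsF.f33f8c3_1.2, Cfsg.Agent.LsF.iadd_pat, Cfsg.Agent.LsF.imul_pat, Cfsg.Agent.LsF.isub_pat, Cfsg.Agent.LsF.imod_pat, Cfsg.Agent.LsF.ineg_pat, Cfsg.Agent.LsF.iACM_eq, Cfsg.Agent.LsF.instIDecEq_eq, Cfsg.Agent.LsF.dAnd_eq, Cfsg.Agent.LsF.dOr_eq, Cfsg.Agent.LsF.dNot_eq, Cfsg.Agent.LsF.dBAll_eq, Cfsg.Agent.LsF.decide_eq])); decide +kernel)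

/-- the node of `E₈` -/
def nd (n : ℕ) (i : Fin n) : Fin 8 := if (i : ℕ) + 1 = n then 7 else Fin.ofNat 8 i

def Lm (n : ℕ) : Matrix (Fin 4) (Fin n) ℤ := of fun r j => (![![-1, -1, -1, 1], ![0, 0, 2, -2], ![0, 2, -2, 0], ![2, -2, 0, 0],
  ![-2, 0, 0, 0], 0, 0, ![0, 0, 2, 2]] : Fin 8 → V4) (nd n j) r

def Um (n : ℕ) : Matrix (Fin 4) (Fin n) ℤ := of fun r j => (![![1, -1, -1, -1], 0, 0, 0, ![0, 0, 0, 2], ![0, 0, 2, -2], ![0, 2, -2, 0],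
  0] : Fin 8 → V4) (nd n j) r

def M1 (n : ℕ) : Matrix (Fin n) (Fin 4) ℤ := of fun i r => (![0, ![1, 1, 1, -1], ![2, 2, 0, 0], ![2, 0, 0, 0], 0, 0, 0,
  ![1, 1, 1, 1]] : Fin 8 → V4) (nd n i) r

def M2 (n : ℕ) : Matrix (Fin n) (Fin 4) ℤ := of fun i r => (![![4, 0, 0, 0], ![7, 1, 1, 1], ![10, 2, 2, 2], ![8, 2, 2, 2], ![6, 2, 2, 2],
  ![4, 2, 2, 0], ![2, 2, 0, 0], ![5, 1, 1, 1]] : Fin 8 → V4) (nd n i) r

/-- twice the projection -/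
def Ym (n : ℕ) : Mat (Fin n) := of fun i j => (M2 n * Um n) i j / 2

def dl (n : ℕ) (w : V4) : Vec (Fin n) := fun i => (M1 n *ᵥ w) i / 4

instance (n : ℕ) (i : Fin n) : Decidable (Dn n i) := by unfold Dn; infer_instance

/-- the facts -/
abbrev Kt (n : ℕ) : Prop :=
  (Lm n)ᵀ * Lm n + (Um n)ᵀ * Um n = (4 : ℤ) • (En n)ᵀ ∧ (∀ j, (∀ r, (Um n r j - Um n 0 j) % 2 = 0) ∧ (Lm n 0 j - Um n 0 j) % 2 = 0 ∧
    (sm4 (fun r => Lm n r j) + sm4 fun r => Um n r j) % 4 = 0) ∧ Lm n * Ym n = 0 ∧ Um n * Ym n = (2 : ℤ) • Um n ∧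
    (2 : ℤ) • Ym n = M2 n * Um n ∧ (∀ w ∈ Lg, Lm n *ᵥ dl n w = w ∧ Um n *ᵥ dl n w = 0) ∧ (∀ i, Dn n i → ∀ r, Um n r i = 0) ∧
    (∀ i, ¬ Dn n i → ∃ m, ff m ᵥ* Um n = Pi.single i 2) ∧
    (∀ m : Fin 4, (m : ℕ) < 2 → ∃ i, ¬ Dn n i ∧ (i : ℕ) < 5 ∧ ff m ᵥ* Um n = Pi.single i 2) ∧
    ∀ i, Dn n i → (![-1, -1, -1, 1] ᵥ* Lm n) i = 4 * (if (i : ℕ) = 1 then -1 else 0) ∧
      (![-2, 0, 0, 0] ᵥ* Lm n) i = 4 * if (i : ℕ) = 3 then -1 else 0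

private noncomputable def _root_.Cfsg.Agent.LsF.f33f8c3_10 : {f // @Cfsg.Agent.BZ.RT.Cx.Om68.nd = f} := ⟨_, by first | (delta Cfsg.Agent.BZ.RT.Cx.Om68.nd; rewrite [Cfsg.Agent.LsF.nadd_pat, Cfsg.Agent.LsF.instDecEq_eq, Cfsg.Agent.LsF.ite_eq]; exact rfl) | exact rfl⟩
private noncomputable def _root_.Cfsg.Agent.LsF.f33f8c3_11 : {f // @Cfsg.Agent.BZ.RT.Cx.Om68.Lm = f} := ⟨_, by first | (delta Cfsg.Agent.BZ.RT.Cx.Om68.Lm; rewrite [Cfsg.Agent.LsF.f33f8c3_10.2, Cfsg.Agent.LsF.ineg_pat, Cfsg.Agent.LsF.vecCons_eq]; exact rfl) | exact rfl⟩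
private noncomputable def _root_.Cfsg.Agent.LsF.f33f8c3_12 : {f // @Cfsg.Agent.BZ.RT.Cx.Om68.Um = f} := ⟨_, by first | (delta Cfsg.Agent.BZ.RT.Cx.Om68.Um; rewrite [Cfsg.Agent.LsF.f33f8c3_10.2, Cfsg.Agent.LsF.ineg_pat, Cfsg.Agent.LsF.vecCons_eq]; exact rfl) | exact rfl⟩
private noncomputable def _root_.Cfsg.Agent.LsF.f33f8c3_13 : {f // @Cfsg.Agent.BZ.TA.cT = f} := ⟨_, by first | (delta Cfsg.Agent.BZ.TA.cT; rewrite [Cfsg.Agent.LsF.nadd_pat, Cfsg.Agent.LsF.ineg_pat, Cfsg.Agent.LsF.instDecEq_eq, Cfsg.Agent.LsF.decLt_eq, Cfsg.Agent.LsF.dAnd_eq, Cfsg.Agent.LsF.dOr_eq, Cfsg.Agent.LsF.ite_eq]; exact rfl) | exact rfl⟩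
private noncomputable def _root_.Cfsg.Agent.LsF.f33f8c3_14 : {f // @Cfsg.Agent.BZ.RT.Cx.En = f} := ⟨_, by first | (delta Cfsg.Agent.BZ.RT.Cx.En; rewrite [Cfsg.Agent.LsF.f33f8c3_13.2]; exact rfl) | exact rfl⟩
private noncomputable def _root_.Cfsg.Agent.LsF.f33f8c3_15 : {f // @Cfsg.Agent.BZ.RT.Cx.Om68.M2 = f} := ⟨_, by first | (delta Cfsg.Agent.BZ.RT.Cx.Om68.M2; rewrite [Cfsg.Agent.LsF.f33f8c3_10.2, Cfsg.Agent.LsF.vecCons_eq]; exact rfl) | exact rfl⟩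
private noncomputable def _root_.Cfsg.Agent.LsF.f33f8c3_16 : {f // @Cfsg.Agent.BZ.RT.Cx.Om68.Ym = f} := ⟨_, by first | (delta Cfsg.Agent.BZ.RT.Cx.Om68.Ym; rewrite [Cfsg.Agent.LsF.f33f8c3_15.2, Cfsg.Agent.LsF.f33f8c3_12.2, Cfsg.Agent.LsF.finFintype_eq, Cfsg.Agent.LsF.instMHMul_eq, Cfsg.Agent.LsF.iACM_eq, Cfsg.Agent.LsF.instIMul_eq]; exact rfl) | exact rfl⟩
private noncomputable def _root_.Cfsg.Agent.LsF.f33f8c3_17 : {f // @Cfsg.Agent.BZ.RT.Cx.Om68.M1 = f} := ⟨_, by first | (delta Cfsg.Agent.BZ.RT.Cx.Om68.M1; rewrite [Cfsg.Agent.LsF.f33f8c3_10.2, Cfsg.Agent.LsF.ineg_pat, Cfsg.Agent.LsF.vecCons_eq]; exact rfl) | exact rfl⟩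
private noncomputable def _root_.Cfsg.Agent.LsF.f33f8c3_18 : {f // @Cfsg.Agent.BZ.RT.Cx.Om68.dl = f} := ⟨_, by first | (delta Cfsg.Agent.BZ.RT.Cx.Om68.dl; rewrite [Cfsg.Agent.LsF.f33f8c3_17.2, Cfsg.Agent.LsF.finFintype_eq, Cfsg.Agent.LsF.mulVec_eq]; exact rfl) | exact rfl⟩
theorem kt6 : Kt 6 := by (refine of_decide_eq_true ?_; (try (delta Cfsg.Agent.BZ.RT.Cx.Dn Cfsg.Agent.BZ.RT.Cx.Om68.Kt Cfsg.Agent.BZ.RT.Cx.Om68.instDecidableDn Function.update Pi.single; rewrite [Cfsg.Agent.LsF.mmulF_pat, Cfsg.Agent.LsF.mmulF_pat, Cfsg.Agent.LsF.mulVecF_pat, Cfsg.Agent.LsF.vecMulF_pat, Cfsg.Agent.LsF.madd_pat, Cfsg.Agent.LsF.dPiF_pat, Cfsg.Agent.LsF.dPiF_pat, Cfsg.Agent.LsF.f33f8c3_11.2, Cfsg.Agent.LsF.f33f8c3_12.2, Cfsg.Agent.LsF.f33f8c3_14.2, Cfsg.Agent.LsF.f33f8c3_6.2, Cfsg.Agent.LsF.f33f8c3_16.2, Cfsg.Agent.LsF.f33f8c3_15.2, Cfsg.Agent.LsF.f33f8c3_1.2, Cfsg.Agent.LsF.f33f8c3_18.2,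 Cfsg.Agent.LsF.f33f8c3_9.2, Cfsg.Agent.LsF.nadd_pat, Cfsg.Agent.LsF.iadd_pat, Cfsg.Agent.LsF.imul_pat, Cfsg.Agent.LsF.isub_pat, Cfsg.Agent.LsF.imod_pat, Cfsg.Agent.LsF.ineg_pat, Cfsg.Agent.LsF.vecCons_eq, Cfsg.Agent.LsF.finFintype_eq, Cfsg.Agent.LsF.dMat_eq, Cfsg.Agent.LsF.transpose_eq, Cfsg.Agent.LsF.iACM_eq, Cfsg.Agent.LsF.instDecEq_eq, Cfsg.Agent.LsF.decLt_eq, Cfsg.Agent.LsF.instIDecEq_eq, Cfsg.Agent.LsF.dAnd_eq, Cfsg.Agent.LsF.dOr_eq, Cfsg.Agent.LsF.dNot_eq, Cfsg.Agent.LsF.dFinEq_eq, Cfsg.Agent.LsF.dBAll_eq, Cfsg.Agent.LsF.dForallFin_eq, Cfsg.Agent.LsF.dExistsFin_eq, Cfsg.Agent.LsF.dAllP_eq, Cfsg.Agent.LsF.ite_eq, Cfsg.Agent.LsF.dite_eq, Cfsg.Agent.LsF.decide_eq])); decide +kernel)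

theorem kt7 : Kt 7 := by (refine of_decide_eq_true ?_; (try (delta Cfsg.Agent.BZ.RT.Cx.Dn Cfsg.Agent.BZ.RT.Cx.Om68.Kt Cfsg.Agent.BZ.RT.Cx.Om68.instDecidableDn Function.update Pi.single; rewrite [Cfsg.Agent.LsF.mmulF_pat, Cfsg.Agent.LsF.mmulF_pat, Cfsg.Agent.LsF.mulVecF_pat, Cfsg.Agent.LsF.vecMulF_pat, Cfsg.Agent.LsF.madd_pat, Cfsg.Agent.LsF.dPiF_pat, Cfsg.Agent.LsF.dPiF_pat, Cfsg.Agent.LsF.f33f8c3_11.2, Cfsg.Agent.LsF.f33f8c3_12.2, Cfsg.Agent.LsF.f33f8c3_14.2, Cfsg.Agent.LsF.f33f8c3_6.2, Cfsg.Agent.LsF.f33f8c3_16.2, Cfsg.Agent.LsF.f33f8c3_15.2, Cfsg.Agent.LsF.f33f8c3_1.2, Cfsg.Agent.LsF.f33f8c3_18.2, Cfsg.Agent.LsF.f33f8c3_9.2, Cfsg.Agent.LsF.nadd_pat, Cfsg.Agent.LsF.iadd_pat, Cfsg.Agent.LsF.imul_pat, Cfsg.Agent.LsF.isub_pat, Cfsg.Agent.LsF.imod_pat, Cfsg.Agent.LsF.ineg_pat, Cfsg.Agent.LsF.vecCons_eq, Cfsg.Agent.LsF.finFintype_eq, Cfsg.Agent.LsF.dMat_eq,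 Cfsg.Agent.LsF.transpose_eq, Cfsg.Agent.LsF.iACM_eq, Cfsg.Agent.LsF.instDecEq_eq, Cfsg.Agent.LsF.decLt_eq, Cfsg.Agent.LsF.instIDecEq_eq, Cfsg.Agent.LsF.dAnd_eq, Cfsg.Agent.LsF.dOr_eq, Cfsg.Agent.LsF.dNot_eq, Cfsg.Agent.LsF.dFinEq_eq, Cfsg.Agent.LsF.dBAll_eq, Cfsg.Agent.LsF.dForallFin_eq, Cfsg.Agent.LsF.dExistsFin_eq, Cfsg.Agent.LsF.dAllP_eq, Cfsg.Agent.LsF.ite_eq, Cfsg.Agent.LsF.dite_eq, Cfsg.Agent.LsF.decide_eq])); decide +kernel)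

theorem kt8 : Kt 8 := by (refine of_decide_eq_true ?_; (try (delta Cfsg.Agent.BZ.RT.Cx.Dn Cfsg.Agent.BZ.RT.Cx.Om68.Kt Cfsg.Agent.BZ.RT.Cx.Om68.instDecidableDn Function.update Pi.single; rewrite [Cfsg.Agent.LsF.mmulF_pat, Cfsg.Agent.LsF.mmulF_pat, Cfsg.Agent.LsF.mulVecF_pat, Cfsg.Agent.LsF.vecMulF_pat, Cfsg.Agent.LsF.madd_pat, Cfsg.Agent.LsF.dPiF_pat, Cfsg.Agent.LsF.dPiF_pat, Cfsg.Agent.LsF.f33f8c3_11.2, Cfsg.Agent.LsF.f33f8c3_12.2, Cfsg.Agent.LsF.f33f8c3_14.2, Cfsg.Agent.LsF.f33f8c3_6.2, Cfsg.Agent.LsF.f33f8c3_16.2, Cfsg.Agent.LsF.f33f8c3_15.2, Cfsg.Agent.LsF.f33f8c3_1.2, Cfsg.Agent.LsF.f33f8c3_18.2, Cfsg.Agent.LsF.f33f8c3_9.2, Cfsg.Agent.LsF.nadd_pat, Cfsg.Agent.LsF.iadd_pat, Cfsg.Agent.LsF.imul_pat, Cfsg.Agent.LsF.isub_pat, Cfsg.Agent.LsF.imod_pat, Cfsg.Agent.LsF.ineg_pat, Cfsg.Agent.LsF.vecCons_eq, Cfsg.Agent.LsF.finFintype_eq, Cfsg.Agent.LsF.dMat_eq,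 Cfsg.Agent.LsF.transpose_eq, Cfsg.Agent.LsF.iACM_eq, Cfsg.Agent.LsF.instDecEq_eq, Cfsg.Agent.LsF.decLt_eq, Cfsg.Agent.LsF.instIDecEq_eq, Cfsg.Agent.LsF.dAnd_eq, Cfsg.Agent.LsF.dOr_eq, Cfsg.Agent.LsF.dNot_eq, Cfsg.Agent.LsF.dFinEq_eq, Cfsg.Agent.LsF.dBAll_eq, Cfsg.Agent.LsF.dForallFin_eq, Cfsg.Agent.LsF.dExistsFin_eq, Cfsg.Agent.LsF.dAllP_eq, Cfsg.Agent.LsF.ite_eq, Cfsg.Agent.LsF.dite_eq, Cfsg.Agent.LsF.decide_eq])); decide +kernel)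

theorem kt {n : ℕ} (h : R3 n) : Kt n := by
  rcases h with rfl | rfl | rfl
  exacts [kt6, kt7, kt8]

end Cfsg.Agent.BZ.RT.Cx.Om68
end

-- part: BZ/RT/Cx/Om
section
/-!
# BZ / RT / Cx : the systems over `D₄` (helper68)
-/

set_option autoImplicit false
set_option linter.unusedSectionVars false

namespace Cfsg.Agent.BZ.RT.Cx

open Cfsg Matrix Cfsg.Agent.DL Cfsg.Agent.HZ.L Cfsg.Agent.BZ.TA Cfsg.Agent.BZ.TA.Cl Cfsg.Agent.OM.Cu Cfsg.Agent.BZ.RT.Z2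

namespace Om68

theorem d4 (u v : V4) : u ⬝ᵥ v = u 0 * v 0 + u 1 * v 1 + u 2 * v 2 + u 3 * v 3 := by simp [dotProduct, Fin.sum_univ_four]

theorem nn (u : V4) : 0 ≤ u ⬝ᵥ u := Finset.sum_nonneg fun _ _ => mul_self_nonneg _

theorem lst {u : V4} (h : u ⬝ᵥ u ≤ 8) : (u ⬝ᵥ u = 4 → u ∈ S) ∧ (u ⬝ᵥ u = 8 → u ∈ Lg) := by
  rw [d4] at h ⊢
  have k : ∀ a b c d : ℤ, a * a + b * b + c * c + d * d ≤ 8 → a ∈ [(-2 : ℤ), -1, 0, 1, 2] := fun a b c d h => by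
    have h1 : -3 < a := by nlinarith only [h, mul_self_nonneg b, mul_self_nonneg c, mul_self_nonneg d]
    have h2 : a < 3 := by nlinarith only [h, mul_self_nonneg b, mul_self_nonneg c, mul_self_nonneg d]
    simp only [List.mem_cons, List.not_mem_nil, or_false]
    omega
  have e : ![u 0, u 1, u 2, u 3] = u := funext fun i => by fin_cases i <;> rfl
  have := tA _ (k (u 0) (u 1) (u 2) (u 3) h) _ (k (u 1) (u 0) (u 2) (u 3) (by linarith)) _ (k (u 2) (u 1) (u 0) (u 3) (by linarith)) _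
    (k (u 3) (u 1) (u 2) (u 0) (by linarith))
  rwa [e] at this

theorem short {u : V4} (h : u ⬝ᵥ u = 4) : u ∈ S := (lst (by omega)).1 h

theorem long {u : V4} (h : u ⬝ᵥ u = 8) : u ∈ Lg := (lst (by omega)).2 h

theorem hex {u v w : V4} (h : InK u v w) : ∃ x y : ℤ, w = x • u + y • v := by
  rcases h with rfl | rfl | rfl | rfl | rfl | rfl
  exacts [⟨1, 0, by module⟩, ⟨-1, 0, by module⟩, ⟨0, 1, by module⟩, ⟨0, -1, by module⟩, ⟨1, 1, by module⟩, ⟨-1, -1, by module⟩]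

theorem not8 {u v w w' : V4} (h1 : u ⬝ᵥ u = 4) (h2 : v ⬝ᵥ v = 4) (h3 : u ⬝ᵥ v = -2) (h : InK u v w) (h' : InK u v w') :
    (w - w') ⬝ᵥ (w - w') ≠ 8 := by
  have h4 : v ⬝ᵥ u = -2 := (dotProduct_comm _ _).trans h3
  rcases h with rfl | rfl | rfl | rfl | rfl | rfl <;> rcases h' with rfl | rfl | rfl | rfl | rfl | rfl <;>
    simp only [sub_dotProduct, dotProduct_sub, add_dotProduct, dotProduct_add, neg_dotProduct, dotProduct_neg, h1, h2, h3, h4] <;> decide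

variable {n : ℕ} {Φ : RS (Fin n)} {μ v w : Vec (Fin n)} {X g h : Mat (Fin n)} {G : Submonoid (Mat (Fin n))}
  {a b c : Vec (Fin n) × Vec (Fin n)}

local notation "Λ" => Matrix.mulVec (Lm n)
local notation "U" => Matrix.mulVec (Um n)
local notation "Y" => Matrix.mulVec (Ym n)
local notation "B" => fm (En n) fun _ => 1

section Kit

variable (hn : R3 n)
include hn

theorem form (v w : Vec (Fin n)) : 4 * B v w = Λ v ⬝ᵥ Λ w + U v ⬝ᵥ U w := by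
  have h := congrArg (fun M => v ⬝ᵥ M *ᵥ w) (kt hn).1
  simp only [add_mulVec, dotProduct_add, ← mulVec_mulVec, smul_mulVec, dotProduct_smul, smul_eq_mul, mulVec_transpose] at h
  rw [E8q.fm1, ← h, dotProduct_comm v, dotProduct_comm v, ← dotProduct_mulVec, ← dotProduct_mulVec, dotProduct_comm (Λ v),
    dotProduct_comm (U v)]

theorem rt (ha : a ∈ Rc (En n)) (v : Vec (Fin n)) : 4 * (a.1 ⬝ᵥ v) = Λ a.2 ⬝ᵥ Λ v + U a.2 ⬝ᵥ U v := by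
  rw [← form hn, E8q.fm1, E8q.dot' (F6c.car hn) ha]

theorem inj (h1 : Λ v = Λ w) (h2 : U v = U w) : v = w := sub_eq_zero.1 (RsP.fm_zero (F6c.car hn) (by
  have := form hn (v - w) (v - w)
  rw [mulVec_sub, mulVec_sub, h1, h2, sub_self, sub_self, dotProduct_zero] at this
  omega))

theorem par (v : Vec (Fin n)) : (∀ r, (U v r - U v 0) % 2 = 0) ∧ (Λ v 0 - U v 0) % 2 = 0 ∧ (sm4 (Λ v) + sm4 (U v)) % 4 = 0 := by
  have h := (kt hn).2.1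
  have k : ∀ (m : ℤ) (f : Fin n → ℤ), (∀ j, f j % m = 0) → (∑ j, f j * v j) % m = 0 := fun m f h =>
    Int.emod_eq_zero_of_dvd (Finset.dvd_sum fun j _ => (Int.dvd_of_emod_eq_zero (h j)).mul_right _)
  refine ⟨fun r => ?_, ?_, ?_⟩
  · simpa only [sub_mul, Finset.sum_sub_distrib, mulVec, dotProduct] using k 2 _ fun j => (h j).1 r
  · simpa only [sub_mul, Finset.sum_sub_distrib, mulVec, dotProduct] using k 2 _ fun j => (h j).2.1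
  · simpa only [sm4, add_mul, Finset.sum_add_distrib, mulVec, dotProduct] using k 4 _ fun j => (h j).2.2

theorem tri (ha : a ∈ Rc (En n)) : (U a.2 = 0 ∧ Λ a.2 ⬝ᵥ Λ a.2 = 8) ∨ (Λ a.2 = 0 ∧ U a.2 ⬝ᵥ U a.2 = 8) ∨
    (U a.2 ⬝ᵥ U a.2 = 4 ∧ Λ a.2 ⬝ᵥ Λ a.2 = 4) := by
  have h1 := rt hn ha a.2
  rw [RsP.two (F6c.car hn) ha] at h1
  obtain ⟨m, h2⟩ : 4 ∣ U a.2 ⬝ᵥ U a.2 := by
    have k := (par hn a.2).1
    obtain ⟨x, hx⟩ := Int.dvd_of_emod_eq_zero (k 1)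
    obtain ⟨y, hy⟩ := Int.dvd_of_emod_eq_zero (k 2)
    obtain ⟨z, hz⟩ := Int.dvd_of_emod_eq_zero (k 3)
    rw [sub_eq_iff_eq_add] at hx hy hz
    exact ⟨U a.2 0 * U a.2 0 + U a.2 0 * (x + y + z) + x * x + y * y + z * z, by rw [d4, hx, hy, hz]; ring⟩
  have h3 := nn (U a.2)
  have h4 := nn (Λ a.2)
  rw [← dotProduct_self_eq_zero, ← dotProduct_self_eq_zero (v := Λ a.2)]
  omega

theorem u_off (h : ∀ i, ¬ Dn n i → v i = w i) : U v = U w := funext fun r => by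
  show ∑ i, Um n r i * v i = ∑ i, Um n r i * w i
  refine Finset.sum_congr rfl fun i _ => ?_
  by_cases k : Dn n i
  · rw [(kt hn).2.2.2.2.2.2.1 i k r, zero_mul, zero_mul]
  · rw [h i k]

theorem off_u (h : U v = U w) {i : Fin n} (hi : ¬ Dn n i) : v i = w i := by
  obtain ⟨m, e⟩ := (kt hn).2.2.2.2.2.2.2.1 i hi
  have := congrArg (ff m ⬝ᵥ ·) h
  simp only [dotProduct_mulVec, e, single_dotProduct] at this
  omega

theorem mem_d4 : a ∈ D4 n ↔ a ∈ Rc (En n) ∧ U a.2 = 0 := and_congr_right fun _ =>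
  ⟨fun h => (u_off hn (w := 0) h).trans (mulVec_zero _), fun h _ hi => off_u hn (w := 0) (h.trans (mulVec_zero _).symm) hi⟩

theorem ex_d {x : V4} (hx : x ∈ Lg) : ∃ d ∈ D4 n, Λ d.2 = x ∧ U d.2 = 0 := by
  obtain ⟨h1, h2⟩ := (kt hn).2.2.2.2.2.1 x hx
  obtain ⟨d, hd, e⟩ := F6c.root_of (F6c.car hn) (v := dl n x) (by
    have := form hn (dl n x) (dl n x)
    rw [h1, h2, tN.2.2 x hx, dotProduct_zero] at this
    omega)
  exact ⟨d, (mem_d4 hn).2 ⟨hd, e ▸ h2⟩, e ▸ h1, e ▸ h2⟩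

theorem perp : Perp (D4 n) v ↔ Λ v = 0 := by
  refine ⟨fun h => ?_, fun h a ha => ?_⟩
  · have k : ∀ x ∈ Lg, x ⬝ᵥ Λ v = 0 := fun x hx => by
      obtain ⟨d, hd, e1, e2⟩ := ex_d hn hx
      have := rt hn hd.1 v
      rw [h d hd, e1, e2, zero_dotProduct] at this
      omega
    have k1 := k ![2, 2, 0, 0] (by decide)
    have k2 := k ![2, -2, 0, 0] (by decide)
    have k3 := k ![0, 0, 2, 2] (by decide)
    have k4 := k ![0, 0, 2, -2] (by decide)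
    simp only [d4, cons_val] at k1 k2 k3 k4
    exact funext fun i => by fin_cases i <;> simp <;> omega
  · have := rt hn ha.1 v
    rw [h, ((mem_d4 hn).1 ha).2, dotProduct_zero, zero_dotProduct] at this
    omega

theorem ly (v : Vec (Fin n)) : Λ (Y v) = 0 := by rw [mulVec_mulVec, (kt hn).2.2.1, zero_mulVec]

theorem uy (v : Vec (Fin n)) : U (Y v) = (2 : ℤ) • U v := by rw [mulVec_mulVec, (kt hn).2.2.2.1, smul_mulVec]

theorem y_eq (h1 : Λ v = 0) (h2 : U v = (2 : ℤ) • U w) : v = Y w := inj hn (h1.trans (ly hn w).symm) (h2.trans (uy hn w).symm)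

theorem ry (ha : a ∈ Rc (En n)) (v : Vec (Fin n)) : 2 * (a.1 ⬝ᵥ Y v) = U a.2 ⬝ᵥ U v := by
  have := rt hn ha (Y v)
  rw [ly hn, uy hn, dotProduct_zero, dotProduct_smul, smul_eq_mul] at this
  omega

theorem yy (v w : Vec (Fin n)) : B (Y v) (Y w) = U v ⬝ᵥ U w := by
  have := form hn (Y v) (Y w)
  rw [ly hn, uy hn, uy hn, zero_dotProduct, dotProduct_smul, smul_dotProduct, smul_eq_mul, smul_eq_mul] at this
  omega

theorem u_ww (hh : h ∈ WW (D4 n)) (v : Vec (Fin n)) : U (h *ᵥ v) = U v := by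
  induction hh using Submonoid.closure_induction generalizing v with
  | mem x hx =>
    obtain ⟨d, hd, rfl⟩ := hx
    rw [OM.Cu.rfm_mulVec, mulVec_sub, mulVec_smul, ((mem_d4 hn).1 hd).2, smul_zero, sub_zero]
  | one => rw [one_mulVec]
  | mul x y _ _ hx hy => rw [← mulVec_mulVec, hx, hy]

end Kit

omit n in
theorem fix_ww {R : Type} [Fintype R] [DecidableEq R] {L : RS R} {h : Mat R} {v : Vec R} (hh : h ∈ WW L) (hv : Perp L v) : h *ᵥ v = v := by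
  induction hh using Submonoid.closure_induction with
  | mem x hx =>
    obtain ⟨d, hd, rfl⟩ := hx
    rw [OM.Cu.rfm_mulVec, hv d hd, zero_smul, sub_zero]
  | one => rw [one_mulVec]
  | mul x y _ _ hx hy => rw [← mulVec_mulVec, hy, hx]

/-- closed systems over `D₄` -/
structure Cl (Φ : RS (Fin n)) : Prop where
  hn : R3 n
  sub : Φ ⊆ Rc (En n)
  ng : ∀ a ∈ Φ, -a ∈ Φ
  cl : ∀ a ∈ Φ, Nm (rfm a) Φ
  dd : D4 n ⊆ Φ

/-- the short vectors of a system -/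
def Sh (Φ : RS (Fin n)) (u : V4) : Prop := u ⬝ᵥ u = 4 ∧ ∃ a ∈ Φ, U a.2 = u

namespace Cl

variable (H : Cl Φ)
include H

theorem rf (ha : a ∈ Φ) (hb : b ∈ Φ) : ∃ c ∈ Φ, c.2 = b.2 - (a.1 ⬝ᵥ b.2) • a.2 :=
  let ⟨c, hc, e, _⟩ := H.cl a ha b hb
  ⟨c, hc, by rw [← e, OM.Cu.rfm_mulVec]⟩

theorem step (ha : a ∈ Φ) {x : V4} (hx : x ∈ Lg) (e : Λ a.2 ⬝ᵥ x = -4) : ∃ c ∈ Φ, Λ c.2 = Λ a.2 + x ∧ U c.2 = U a.2 := by
  obtain ⟨d, hd, e1, e2⟩ := ex_d H.hn hx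
  obtain ⟨c, hc, e3⟩ := H.rf (H.dd hd) ha
  have := rt H.hn hd.1 a.2
  rw [e1, e2, zero_dotProduct, dotProduct_comm x, e] at this
  rw [show d.1 ⬝ᵥ a.2 = -1 by omega, neg_smul, one_smul, sub_neg_eq_add] at e3
  exact ⟨c, hc, by rw [e3, mulVec_add, e1], by rw [e3, mulVec_add, e2, add_zero]⟩

theorem lam (ha : a ∈ Φ) (h : U a.2 ⬝ᵥ U a.2 = 4) : Λ a.2 ⬝ᵥ Λ a.2 = 4 := by
  rcases tri H.hn (H.sub ha) with k | k | k
  · rw [k.1, dotProduct_zero] at h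
    omega
  · omega
  · exact k.2

theorem mov (ha : a ∈ Φ) (h : U a.2 ⬝ᵥ U a.2 = 4) {x : V4} (hx : x ∈ S) (h1 : (Λ a.2 0 - x 0) % 2 = 0) (h2 : (sm4 (Λ a.2) - sm4 x) % 4 = 0) :
    ∃ c ∈ Φ, Λ c.2 = x ∧ U c.2 = U a.2 := by
  obtain ⟨y, hy, k1, k2, k3⟩ := tM _ (short (H.lam ha h)) x hx h1 h2
  obtain ⟨b, hb, b1, b2⟩ := H.step ha hy k1
  obtain ⟨c, hc, c1, c2⟩ := H.step hb k3 (b1 ▸ k2)
  exact ⟨c, hc, by rw [c1, b1]; abel, c2.trans b2⟩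

theorem neg {u : V4} (h : Sh Φ u) : Sh Φ (-u) :=
  let ⟨h1, a, ha, e⟩ := h
  ⟨by rw [neg_dotProduct_neg, h1], -a, H.ng a ha, by rw [Prod.snd_neg, mulVec_neg, e]⟩

theorem add {u u' : V4} (h : Sh Φ u) (h' : Sh Φ u') (e : u ⬝ᵥ u' = -2) : Sh Φ (u + u') := by
  obtain ⟨h1, a, ha, rfl⟩ := h
  obtain ⟨h2, b, hb, rfl⟩ := h'
  refine ⟨by simp only [add_dotProduct, dotProduct_add, h1, h2, e, dotProduct_comm (U b.2) (U a.2)]; rfl, ?_⟩
  have key : ∀ b ∈ Φ, U a.2 ⬝ᵥ U b.2 = -2 → Λ a.2 ⬝ᵥ Λ b.2 = -2 → ∃ c ∈ Φ, U c.2 = U a.2 + U b.2 := fun b hb e e' => by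
    obtain ⟨c, hc, e3⟩ := H.rf ha hb
    have := rt H.hn (H.sub ha) b.2
    rw [show a.1 ⬝ᵥ b.2 = -1 by omega, neg_smul, one_smul, sub_neg_eq_add] at e3
    exact ⟨c, hc, by rw [e3, mulVec_add, add_comm]⟩
  have k1 := rt H.hn (H.sub ha) b.2
  have k2 := H.lam ha h1
  have k3 := short (H.lam hb h2)
  rcases tG _ (short k2) _ k3 with k | k | k | k | k
  · rw [k] at k1
    omega
  · rw [k, dotProduct_neg] at k1
    omega
  · omega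
  · exact key b hb e k
  · obtain ⟨c, hc, c1, c2⟩ := H.mov hb h2 (tN.2.1 _ k3).1 (tN.2.1 _ k3).2.1 (tN.2.1 _ k3).2.2
    exact c2 ▸ key c hc (c2 ▸ e) (by rw [c1, dotProduct_neg, k])

theorem ink {u u' x : V4} (h : Sh Φ u) (h' : Sh Φ u') (e : u ⬝ᵥ u' = -2) (k : InK u u' x) : Sh Φ x := by
  rcases k with rfl | rfl | rfl | rfl | rfl | rfl
  exacts [h, H.neg h, h', H.neg h', H.add h h' e, H.neg (H.add h h' e)]

theorem ink' {u u' x : V4} (h : Sh Φ u) (h' : Sh Φ u') (k : InK' u u' x) : Sh Φ x :=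
  k.elim (fun k => H.ink h h' k.1 k.2) fun k => H.ink h (H.neg h') k.1 k.2

open Classical in
theorem cnt : (Finset.univ.filter fun t : Ix => Sh Φ (sv t.2.1) ∧ Sh Φ (vv t.2.2)).card ∈ [0, 2, 8, 32] := by
  have e : ∀ p : Fin 4 → Prop, ![decide (p 0), decide (p 1), decide (p 2), decide (p 3)] = fun i => decide (p i) := fun p =>
    funext fun i => by fin_cases i <;> rfl
  have := tE (Sh Φ (sv 0)) (Sh Φ (sv 1)) (Sh Φ (sv 2)) (Sh Φ (sv 3)) (Sh Φ (vv 0)) (Sh Φ (vv 1)) (Sh Φ (vv 2)) (Sh Φ (vv 3))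
    (Sh Φ (cv 0)) (Sh Φ (cv 1)) (Sh Φ (cv 2)) (Sh Φ (cv 3))
  rw [e fun i => Sh Φ (sv i), e fun i => Sh Φ (vv i), e fun i => Sh Φ (cv i)] at this
  simp only [decide_eq_true_eq] at this
  exact this fun i j => ⟨⟨fun k => H.ink' k.1 k.2 (tF i j).1, fun k => H.ink' k.1 k.2 (tF i j).2.1⟩, fun k => H.ink' k.1 k.2 (tF i j).2.2⟩

end Cl

/-- the data -/
structure Dt (μ : Vec (Fin n)) (X : Mat (Fin n)) (G : Submonoid (Mat (Fin n))) (Φ : RS (Fin n)) : Prop where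
  hn : R3 n
  ms : Ms (En n) μ X G Φ
  xw : X ∈ Wc (En n)
  j4 : J4 n μ
  lv : _root_.Cfsg.Agent.HZ.L.lev Φ μ = D4 n

namespace Dt

variable (H : Dt μ X G Φ)
include H

theorem cl : Cl Φ := ⟨H.hn, H.ms.sub, H.ms.ng, H.ms.cl, fun _ h => (H.lv.ge h).1⟩

theorem lμ : Λ μ = 0 := (perp H.hn).1 fun _ h => (H.lv.ge h).2

theorem zero (ha : a ∈ Φ) (h : a.1 ⬝ᵥ μ = 0) : U a.2 = 0 := ((mem_d4 H.hn).1 (H.lv.le ⟨ha, h⟩)).2

theorem ell (h : X *ᵥ v = v) : Perp (_root_.Cfsg.Agent.HZ.L.lev (Rc (En n)) μ) v := fun a ha => by_contra fun k =>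
  H.ms.ell ⟨_, Ck.isE_int h, a, ha, by rw [Ck.ev_int]; exact_mod_cast k⟩

theorem dl : D4 n ⊆ _root_.Cfsg.Agent.HZ.L.lev (Rc (En n)) μ := fun _ h => ⟨h.1, (H.lv.ge h).2⟩

theorem ff_eq (h : ∀ i, ¬ Jz (En n) μ i → v i = w i) {m : Fin 4} (hm : (m : ℕ) < 2) : ff m ⬝ᵥ U v = ff m ⬝ᵥ U w := by
  obtain ⟨i, h1, h2, e⟩ := (kt H.hn).2.2.2.2.2.2.2.2.1 m hm
  rw [dotProduct_mulVec, dotProduct_mulVec, e, single_dotProduct, single_dotProduct,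
    h i fun k => (H.j4.2 i k).elim h1 fun k => by omega]

theorem dich (hb : b ∈ _root_.Cfsg.Agent.HZ.L.lev (Rc (En n)) μ) : b ∈ D4 n ∨ Λ b.2 = 0 := by
  rcases tri H.hn hb.1 with k | k | k
  exacts [.inl ((mem_d4 H.hn).2 ⟨hb.1, k.1⟩), .inr k.1, by
    have e := fun m => H.ff_eq (w := 0) (m := m) ((ParT.zero_iff (F6c.car H.hn) H.ms.dom hb.1).1 hb.2)
    simp only [mulVec_zero, dotProduct_zero] at e
    exact ((tN.1 _ (short k.1)).elim (· (e 0 (by decide))) (· (e 1 (by decide)))).elim]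

theorem dec : (∀ v i, ¬ Jz (En n) μ i → (X *ᵥ v) i = v i) ∧ ∃ h ∈ WW (D4 n), ∀ v w, Λ v = Λ w → Λ (X *ᵥ v) = Λ (h *ᵥ w) := by
  have hX := ParT.stab (F6c.car H.hn) H.ms.dom H.xw H.ms.fx
  generalize X = Z at hX
  induction hX using Submonoid.closure_induction with
  | mem x hx =>
    obtain ⟨b, hb, rfl⟩ := hx
    refine ⟨fun v i hi => by rw [OM.Cu.rfm_mulVec, Pi.sub_apply, Pi.smul_apply,
      (ParT.zero_iff (F6c.car H.hn) H.ms.dom hb.1).1 hb.2 i hi, smul_zero, sub_zero], ?_⟩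
    rcases H.dich hb with k | k
    · refine ⟨_, rfm_mem k, fun v w e => ?_⟩
      have k1 := rt H.hn hb.1 v
      have k2 := rt H.hn hb.1 w
      rw [((mem_d4 H.hn).1 k).2, zero_dotProduct] at k1 k2
      rw [e] at k1
      rw [OM.Cu.rfm_mulVec, OM.Cu.rfm_mulVec, mulVec_sub, mulVec_sub, e, show b.1 ⬝ᵥ v = b.1 ⬝ᵥ w by omega]
    · exact ⟨1, one_mem _, fun v w e => by rw [OM.Cu.rfm_mulVec, mulVec_sub, mulVec_smul, k, smul_zero, sub_zero, one_mulVec, e]⟩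
  | one => exact ⟨fun v i _ => by rw [one_mulVec], 1, one_mem _, fun v w e => by rw [one_mulVec, one_mulVec, e]⟩
  | mul x y _ _ hx hy =>
    obtain ⟨x1, h, h1, h2⟩ := hx
    obtain ⟨y1, h', h3, h4⟩ := hy
    exact ⟨fun v i hi => by rw [← mulVec_mulVec, x1 _ i hi, y1 _ i hi], h * h', mul_mem h1 h3, fun v w e => by
      rw [← mulVec_mulVec, ← mulVec_mulVec]; exact h2 _ _ (h4 v w e)⟩

theorem uμ (ha : a ∈ Φ) : 4 * (a.1 ⬝ᵥ μ) = U a.2 ⬝ᵥ U μ := by rw [rt H.hn (H.ms.sub ha), H.lμ, dotProduct_zero, zero_add]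

/-- two roots with the same value at `μ` and the same part in `D₄` -/
theorem same (ha : a ∈ Φ) (hb : b ∈ Φ) (h1 : Λ a.2 = Λ b.2) (h2 : a.1 ⬝ᵥ μ = b.1 ⬝ᵥ μ) : a.1 ⬝ᵥ b.2 ≠ 1 := fun e => by
  obtain ⟨c, hc, e3⟩ := H.cl.rf ha hb
  rw [e, one_smul] at e3
  have k1 := H.uμ hc
  rw [e3, mulVec_sub, sub_dotProduct, ← H.uμ ha, ← H.uμ hb] at k1
  have k2 := rt H.hn (H.ms.sub hc) c.2
  rw [H.zero hc (by omega), e3, mulVec_sub, h1, sub_self, ← e3, RsP.two (F6c.car H.hn) (H.ms.sub hc)] at k2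
  simp at k2

theorem xu (ha : a ∈ Φ) (h : U a.2 ⬝ᵥ U a.2 = 4) : U (X *ᵥ a.2) = U a.2 := by
  obtain ⟨-, w, hw, e⟩ := H.dec
  obtain ⟨b, hb, b1, b2⟩ := H.ms.nx a ha
  obtain ⟨c, hc, c1, -⟩ := Nm.of_WW H.ms.cl (WW_mono H.cl.dd hw) a ha
  have k1 : U c.2 = U a.2 := c1 ▸ u_ww H.hn hw _
  have k2 : Λ c.2 = Λ b.2 := by rw [← c1, ← b1, e _ _ rfl]
  have k3 : b.1 ⬝ᵥ μ = a.1 ⬝ᵥ μ := by rw [← b2, ← dotProduct_mulVec, H.ms.fx]
  have k4 := H.uμ ha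
  have k5 := H.uμ hb
  have k6 := H.uμ hc
  have k7 := H.cl.lam hc (k1 ▸ h)
  have k8 := rt H.hn (H.ms.sub hc) b.2
  have k9 := rt H.hn (H.ms.sub hb) b.2
  rw [RsP.two (F6c.car H.hn) (H.ms.sub hb), ← k2, k7] at k9
  rw [k1] at k6 k8
  rw [← k2, k7] at k8
  have k10 := H.same hc hb k2 (by omega)
  rw [b1]
  rcases tG _ (short h) _ (short (show U b.2 ⬝ᵥ U b.2 = 4 by omega)) with k | k | k | k | k
  · exact k
  · rw [k, neg_dotProduct] at k5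
    rw [H.zero ha (by omega), dotProduct_zero] at h
    omega
  all_goals omega

theorem xy (ha : a ∈ Φ) (h : U a.2 ⬝ᵥ U a.2 = 4) : X *ᵥ Y a.2 = Y a.2 := by
  obtain ⟨-, w, hw, e⟩ := H.dec
  have k3 := short (H.cl.lam ha h)
  obtain ⟨c, hc, c1, c2⟩ := H.cl.mov ha h (tN.2.1 _ k3).1 (tN.2.1 _ k3).2.1 (tN.2.1 _ k3).2.2
  have k : a.2 + c.2 = Y a.2 := y_eq H.hn (by rw [mulVec_add, c1, add_neg_cancel]) (by rw [mulVec_add, c2, two_smul])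
  refine y_eq H.hn ?_ ?_
  · rw [e _ 0 ((ly H.hn _).trans (mulVec_zero _).symm), mulVec_zero, mulVec_zero]
  · rw [← k, mulVec_add, mulVec_add, H.xu ha h, H.xu hc (c2 ▸ h), c2, two_smul]

theorem gy (hg : g ∈ G) (ha : a ∈ Φ) (h : U a.2 ⬝ᵥ U a.2 = 4) : ∃ b ∈ Φ, U b.2 ⬝ᵥ U b.2 = 4 ∧ g *ᵥ Y a.2 = Y b.2 := by
  have R := boxRs _ _ (F6c.car H.hn)
  obtain ⟨w, hw, h1⟩ := H.ms.vc g hg
  have h2 : w * g ∈ G := mul_mem (H.ms.wg hw) hg
  have h3 := Nm.of_WW H.ms.cl h1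
  have h4 : Nm (w * g) (D4 n) := fun d hd => by
    obtain ⟨b, hb, b1, b2⟩ := h3 d (H.cl.dd hd)
    obtain ⟨c, hc, c1, -⟩ := (H.ms.gn _ h2).1 d (H.dl hd)
    exact ⟨b, H.lv.le ⟨hb, (R.ext b (H.ms.sub hb) c hc.1 (b1.symm.trans c1)) ▸ hc.2⟩, b1, b2⟩
  obtain ⟨m, m1, m2⟩ := fin_ord R (R.nm _ (H.ms.gw h2))
  obtain ⟨b, hb, b1, b2⟩ := h3 a ha
  have k1 : Λ ((w * g) *ᵥ Y a.2) = 0 := (perp H.hn).1 fun d hd => by
    obtain ⟨x, hx, -, x2⟩ := Ck.Mp.surj m1 m2 h4 hd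
    rw [dotProduct_mulVec, x2, (perp H.hn).2 (ly H.hn _) x hx]
  have k2 := form H.hn ((w * g) *ᵥ Y a.2) ((w * g) *ᵥ Y a.2)
  rw [R.iso _ (H.ms.gw h2), yy H.hn, h, k1, dotProduct_zero] at k2
  have k3 := rt H.hn (H.ms.sub hb) ((w * g) *ᵥ Y a.2)
  have k4 := ry H.hn (H.ms.sub ha) a.2
  rw [dotProduct_mulVec b.1, b2, k1, dotProduct_zero] at k3
  generalize e : U ((w * g) *ᵥ Y a.2) = z at k2 k3
  have k5 : (z - (2 : ℤ) • U b.2) ⬝ᵥ (z - (2 : ℤ) • U b.2) = 4 * (U b.2 ⬝ᵥ U b.2) - 16 := by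
    simp only [sub_dotProduct, dotProduct_sub, smul_dotProduct, dotProduct_smul, smul_eq_mul, dotProduct_comm z (U b.2)]
    omega
  have k6 : U b.2 ⬝ᵥ U b.2 = 4 := by
    rcases tri H.hn (H.ms.sub hb) with k | k | k
    · rw [k.1, zero_dotProduct] at k3
      omega
    · have k7 := H.cl.lam ha h
      rw [(perp H.hn).1 fun d hd => by
        obtain ⟨x, hx, -, x2⟩ := h4 d hd
        rw [← x2, ← dotProduct_mulVec, b1, (perp H.hn).2 k.1 x hx], dotProduct_zero] at k7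
      omega
    · exact k.1
  rw [k6] at k5
  have k7 : (w * g) *ᵥ Y a.2 = Y b.2 := y_eq H.hn k1 (e.trans (sub_eq_zero.1 (dotProduct_self_eq_zero.1 k5)))
  obtain ⟨u, u1, u2, -⟩ := WW_inv (fun x hx => R.two x hx.1) hw
  refine ⟨b, hb, k6, ?_⟩
  rw [← fix_ww u1 (H.ell (H.xy hb k6)), ← k7, mulVec_mulVec _ u, ← mul_assoc, u2, one_mul]

theorem mx (h : Mx Φ μ a) : U a.2 ⬝ᵥ U a.2 = 4 := by
  obtain ⟨ha, h1, b, hb, h2⟩ := h
  rcases tri H.hn (H.ms.sub ha) with k | k | k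
  · exact (h1 (H.lv.ge ((mem_d4 H.hn).2 ⟨H.ms.sub ha, k.1⟩)).2).elim
  · exact (h2 ((perp H.hn).2 k.1 b (H.lv.le hb))).elim
  · exact k.1

theorem ot (h : ∀ u u', Sh Φ u → Sh Φ u' → u ⬝ᵥ u' ≠ -2) : Ot (En n) μ X Φ := by
  refine ⟨fun a => Y a.2, fun a ha => ⟨H.xy ha.1 (H.mx ha), fun v hv => ?_, ?_, fun b hb => ?_⟩⟩ <;> beta_reduce
  · have k0 := (perp H.hn).1 fun d hd => H.ell hv d (H.dl hd)
    have k1 := form H.hn v (Y a.2)
    have k2 := rt H.hn (H.ms.sub ha.1) v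
    rw [k0, zero_dotProduct, uy H.hn, dotProduct_smul, smul_eq_mul, dotProduct_comm] at k1
    rw [k0, dotProduct_zero] at k2
    omega
  · have := ry H.hn (H.ms.sub ha.1) a.2
    rw [H.mx ha] at this
    omega
  · have k1 := ry H.hn (H.ms.sub hb.1) a.2
    have s1 : Sh Φ (U a.2) := ⟨H.mx ha, a, ha.1, rfl⟩
    have s2 : Sh Φ (U b.2) := ⟨H.mx hb, b, hb.1, rfl⟩
    rw [dotProduct_comm (U b.2)] at k1
    rcases tG _ (short s1.1) _ (short s2.1) with k | k | k | k | k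
    · exact .inl (y_eq H.hn (ly H.hn _) (by rw [uy H.hn, k]))
    · exact .inr (.inl (y_eq H.hn (by rw [mulVec_neg, ly H.hn, neg_zero]) (by rw [mulVec_neg, uy H.hn, k, smul_neg])).symm)
    · exact .inr (.inr (by omega))
    · exact (h _ _ s1 s2 k).elim
    · exact (h _ _ s1 (H.cl.neg s2) (by rw [dotProduct_neg, k])).elim

/-- the frame -/
theorem f6 {Ψ : RS (Fin n)} (hΨ : Cl Ψ) (hs : Ψ ⊆ Φ) {t : Ix} (h1 : Sh Ψ (u1 t)) (h2 : Sh Ψ (u2 t))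
    (h3 : ∀ u, Sh Ψ u → InK (u1 t) (u2 t) u) : F6 Ψ (D4 n) (_root_.Cfsg.Agent.HZ.L.lev (Rc (En n)) μ) X := by
  obtain ⟨t1, t2, t3, t4, t5, t6, t7, -⟩ := tC t
  obtain ⟨-, a', ha', a1⟩ := h1
  obtain ⟨-, b', hb', b1⟩ := h2
  have p1 := par H.hn a'.2
  have p2 := par H.hn b'.2
  rw [a1] at p1
  rw [b1] at p2
  obtain ⟨a, ha, a2, a3⟩ := hΨ.mov ha' (a1 ▸ t1) (x := ![-1, -1, -1, 1]) (by decide) (by show (_ - -1) % 2 = 0; omega)
    (by show (_ - -2) % 4 = 0; omega)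
  obtain ⟨b, hb, b2, b3⟩ := hΨ.mov hb' (b1 ▸ t2) (x := ![-2, 0, 0, 0]) (by decide) (by show (_ - -2) % 2 = 0; omega)
    (by show (_ - -2) % 4 = 0; omega)
  rw [a1] at a3
  rw [b1] at b3
  obtain ⟨x1, w, hw, e⟩ := H.dec
  have k0 : ∀ c ∈ Ψ, ∀ i, Dn n i → 4 * c.1 i = (Λ c.2 ᵥ* Lm n) i := fun c hc i hi => by
    have := rt H.hn (hΨ.sub hc) (Pi.single i 1)
    rwa [u_off H.hn (v := Pi.single i 1) (w := 0) fun j hj => Pi.single_eq_of_ne (fun e : j = i => hj (e ▸ hi)) _, mulVec_zero,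
      dotProduct_zero, add_zero, dotProduct_mulVec, dotProduct_single, dotProduct_single, mul_one, mul_one] at this
  have k1 : ∀ c ∈ Ψ, U c.2 ⬝ᵥ U c.2 = 4 → X *ᵥ c.2 = w *ᵥ c.2 := fun c hc k =>
    inj H.hn (e _ _ rfl) ((H.xu (hs hc) k).trans (u_ww H.hn hw _).symm)
  refine F6c.f6_of H.hn hΨ.sub hΨ.cl hΨ.dd ha hb (fun i hi => ?_) (fun i hi => ?_) ?_ H.ms.nm hw (fun i hi => ?_) (k1 a ha (a3 ▸ t1))
    (k1 b hb (b3 ▸ t2)) fun β hβ => ?_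
  · have := k0 a ha i hi
    rw [a2, ((kt H.hn).2.2.2.2.2.2.2.2.2 i hi).1] at this
    omega
  · have := k0 b hb i hi
    rw [b2, ((kt H.hn).2.2.2.2.2.2.2.2.2 i hi).2] at this
    omega
  · have := rt H.hn (hΨ.sub ha) b.2
    rw [a2, b2, a3, b3, t3, show (![-1, -1, -1, 1] : V4) ⬝ᵥ ![-2, 0, 0, 0] = 2 by decide] at this
    omega
  · have k : sp (En n) i ∈ D4 n := ⟨RsP.mem i, fun j hj => Pi.single_eq_of_ne (fun e : j = i => hj (e ▸ hi)) _⟩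
    obtain ⟨c, hc, c1, -⟩ := ParT.nm_lev H.ms.nx H.ms.fx _ (H.lv.ge k)
    exact inj H.hn (e _ _ rfl) ((c1 ▸ ((mem_d4 H.hn).1 (H.lv.le hc)).2 : U (X *ᵥ (sp (En n) i).2) = 0).trans
      ((u_ww H.hn hw _).trans ((mem_d4 H.hn).1 k).2).symm)
  rcases tri H.hn (hΨ.sub hβ) with k | k | k
  · exact .inl ⟨0, 0, fun i hi => by rw [((mem_d4 H.hn).2 ⟨hΨ.sub hβ, k.1⟩).2 i hi, zero_mul, zero_mul, add_zero]⟩
  swap
  · obtain ⟨x, y, k1⟩ := hex (h3 _ ⟨k.1, β, hβ, rfl⟩)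
    exact .inl ⟨x, y, fun i hi => off_u H.hn (w := x • a.2 + y • b.2) (by rw [k1, mulVec_add, mulVec_smul, mulVec_smul, a3, b3]) hi⟩
  have n0 : β.1 ⬝ᵥ μ ≠ 0 := fun z => by
    rw [H.zero (hs hβ) z, dotProduct_zero] at k
    omega
  have o : ∀ c ∈ Ψ, U c.2 ⬝ᵥ U c.2 = 4 → β.1 ⬝ᵥ c.2 = 0 := fun c hc k1 => by
    obtain ⟨d, hd, d1⟩ := hΨ.rf hβ hc
    have k2 : U c.2 - U d.2 = (β.1 ⬝ᵥ c.2) • U β.2 := by rw [d1, mulVec_sub, mulVec_smul, sub_sub_cancel]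
    have k3 := rt H.hn (hΨ.sub hd) d.2
    rw [RsP.two (F6c.car H.hn) (hΨ.sub hd), show Λ d.2 = Λ c.2 by rw [d1, mulVec_sub, mulVec_smul, k.1, smul_zero, sub_zero],
      hΨ.lam hc k1] at k3
    have k4 := not8 t1 t2 t3 (h3 _ ⟨k1, c, hc, rfl⟩) (h3 _ ⟨by omega, d, hd, rfl⟩)
    rw [k2, smul_dotProduct, dotProduct_smul, k.2] at k4
    rcases E8q.le_one (F6c.car H.hn) (hΨ.sub hβ) (hΨ.sub hc) with (z | z) | z
    · rw [z] at k
      omega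
    · rw [z, mulVec_neg, mulVec_neg, neg_dotProduct_neg] at k
      omega
    · obtain z | z | z : β.1 ⬝ᵥ c.2 = 0 ∨ β.1 ⬝ᵥ c.2 = 1 ∨ β.1 ⬝ᵥ c.2 = -1 := by omega
      exacts [z, (k4 (by rw [z]; rfl)).elim, (k4 (by rw [z]; rfl)).elim]
  refine .inr ⟨fun z => n0 z.2, ?_, fun i hi => ?_, o a ha (a3 ▸ t1), o b hb (b3 ▸ t2)⟩
  · obtain ⟨c, hc, c1, c2⟩ := H.ms.nx β (hs hβ)
    have z1 : Λ c.2 = 0 := by rw [← c1, e _ 0 (k.1.trans (mulVec_zero _).symm), mulVec_zero, mulVec_zero]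
    have z2 := rt H.hn (H.ms.sub hc) c.2
    rw [RsP.two (F6c.car H.hn) (H.ms.sub hc), z1, dotProduct_zero] at z2
    have z3 : ∀ i, ¬ Jz (En n) μ i → β.2 i = c.2 i := fun i hi => by rw [← c1, x1 _ i hi]
    rcases tL _ (long k.2) _ (long (show U c.2 ⬝ᵥ U c.2 = 8 by omega)) (H.ff_eq z3 (by decide)) (H.ff_eq z3 (by decide)) with z | z | z
    · exact c1.trans (inj H.hn (z1.trans k.1.symm) z)
    · have z4 := rt H.hn (hΨ.sub hβ) c.2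
      rw [z1, dotProduct_zero] at z4
      exact (H.same (hs hβ) hc (k.1.trans z1.symm) (by rw [← c2, ← dotProduct_mulVec, H.ms.fx]) (by omega)).elim
    · refine (n0 ((ParT.zero_iff (F6c.car H.hn) H.ms.dom (hΨ.sub hβ)).2 fun i hi => ?_)).elim
      obtain ⟨m, e⟩ := (kt H.hn).2.2.2.2.2.2.2.1 i fun z => hi (H.j4.1 i z)
      have := z m
      simp only [dotProduct_mulVec, e, single_dotProduct] at this
      have := this (by rw [z3 i hi])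
      omega
  · have := k0 β hβ i hi
    rw [k.1, zero_vecMul, Pi.zero_apply] at this
    omega

theorem three {u u' x : V4} (h : Sh Φ u) (h' : Sh Φ u') (e : u ⬝ᵥ u' = -2) (hx : Sh Φ x) (hc : co (En n) μ ≤ 2) : InK u u' x := by
  refine (tH _ (short h.1) _ (short h'.1) e _ (short hx.1)).resolve_right fun k => ?_
  obtain ⟨h1, a, ha, rfl⟩ := h
  obtain ⟨h2, b, hb, rfl⟩ := h'
  obtain ⟨h3, c, hc', rfl⟩ := hx
  have := Rk88.le_co (F6c.car H.hn) H.ms.dom ![Y a.2, Y b.2, Y c.2] (fun j => by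
    fin_cases j
    exacts [H.ell (H.xy ha h1), H.ell (H.xy hb h2), H.ell (H.xy hc' h3)]) fun z hz => by
      have k0 := congrArg U hz
      simp only [Fin.sum_univ_three, cons_val, mulVec_add, mulVec_smul, uy H.hn, mulVec_zero] at k0
      have k1 := congrArg (U a.2 ⬝ᵥ ·) k0
      have k2 := congrArg (U b.2 ⬝ᵥ ·) k0
      have k3 := congrArg (· ⬝ᵥ U c.2) k0
      simp only [dotProduct_add, add_dotProduct, dotProduct_smul, smul_dotProduct, smul_eq_mul, dotProduct_zero, zero_dotProduct, h1, h2, h3,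
        e, dotProduct_comm (U b.2) (U a.2)] at k1 k2 k3
      simp only [List.mem_cons, List.not_mem_nil, or_false, Prod.mk.injEq] at k
      have : z 0 = 0 ∧ z 1 = 0 ∧ z 2 = 0 := by
        rcases k with k | k | k | k | k | k <;> rw [k.1] at k1 k3 <;> rw [k.2] at k2 k3 <;> omega
      intro j
      fin_cases j
      exacts [this.1, this.2.1, this.2.2]
  omega

end Dt

/-- reduction -/
def rd (v : Vec (Fin n)) : Fin n → ZMod 3 := fun i => (v i : ℤ)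

theorem rd_iff : rd v = rd w ↔ ∀ i, (3 : ℤ) ∣ (v - w) i :=
  funext_iff.trans (forall_congr' fun _ => eq_comm.trans (ZMod.intCast_eq_intCast_iff_dvd_sub _ _ 3))

theorem rd_mul (g : Mat (Fin n)) (v : Vec (Fin n)) : rd (g *ᵥ v) = g.map (Int.castRingHom (ZMod 3)) *ᵥ rd v :=
  funext fun i => RingHom.map_mulVec (Int.castRingHom (ZMod 3)) g v i

theorem dvd_mv {m : ℕ} (M : Matrix (Fin m) (Fin 4) ℤ) {u : V4} (h : ∀ r, u r % 3 = 0) (i : Fin m) : (3 : ℤ) ∣ (M *ᵥ u) i :=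
  show (3 : ℤ) ∣ ∑ r, M i r * u r from Finset.dvd_sum fun r _ => (Int.dvd_of_emod_eq_zero (h r)).mul_left _

theorem Dt.fixed (H : Dt μ X G Φ) {u u' : V4} (h : Sh Φ u) (h' : Sh Φ u') (e : u ⬝ᵥ u' = -2) :
    ∃ (t : Ix), ∃ a ∈ Φ, ∃ b ∈ Φ, U a.2 = u1 t ∧ U b.2 = u2 t ∧ ∀ g ∈ G, ∀ i, (3 : ℤ) ∣ (g *ᵥ (Y a.2 - Y b.2) - (Y a.2 - Y b.2)) i := by
  classical
  let φ : Ix → Fin n → ZMod 3 := fun t => rd ((2 : ℤ) • M2 n *ᵥ (u1 t - u2 t))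
  let F := Finset.univ.filter fun t : Ix => Sh Φ (sv t.2.1) ∧ Sh Φ (vv t.2.2)
  have k0 : ∀ (v w : Vec (Fin n)) (t : Ix), (∀ r, (U v - U w - (u1 t - u2 t)) r % 3 = 0) → rd (Y v - Y w) = φ t := fun v w t k =>
    rd_iff.2 fun i => by
      have k1 := congrFun (congrArg (· *ᵥ (v - w)) (kt H.hn).2.2.2.2.1) i
      have k2 := dvd_mv (M2 n) k i
      simp only [smul_mulVec, ← mulVec_mulVec, mulVec_sub, Pi.smul_apply, Pi.sub_apply, smul_eq_mul] at k1 k2 ⊢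
      omega
  have k1 : ∀ t ∈ F, ∃ a ∈ Φ, ∃ b ∈ Φ, U a.2 = u1 t ∧ U b.2 = u2 t ∧ rd (Y a.2 - Y b.2) = φ t := fun t ht => by
    obtain ⟨-, -, -, -, -, -, -, t1, t2, -⟩ := tC t
    obtain ⟨s1, s2⟩ := (Finset.mem_filter.1 ht).2
    obtain ⟨-, a, ha, a1⟩ : Sh Φ (u1 t) := t1.elim (· ▸ s1) (· ▸ H.cl.neg s1)
    obtain ⟨-, b, hb, b1⟩ : Sh Φ (u2 t) := t2.elim (· ▸ s2) (· ▸ H.cl.neg s2)
    exact ⟨a, ha, b, hb, a1, b1, k0 _ _ t fun r => by rw [a1, b1, sub_self]; rfl⟩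
  have k2 : ∀ a ∈ Φ, ∀ b ∈ Φ, U a.2 ⬝ᵥ U a.2 = 4 → U b.2 ⬝ᵥ U b.2 = 4 → U a.2 ⬝ᵥ U b.2 = -2 → rd (Y a.2 - Y b.2) ∈ φ '' F :=
    fun a ha b hb h1 h2 e => by
      obtain ⟨t, t1, t2, -, -, t3⟩ := tB _ (short h1) _ (short h2) e
      exact ⟨t, Finset.mem_filter.2 ⟨Finset.mem_univ _, H.cl.ink ⟨h1, a, ha, rfl⟩ ⟨h2, b, hb, rfl⟩ e t1,
        H.cl.ink ⟨h1, a, ha, rfl⟩ ⟨h2, b, hb, rfl⟩ e t2⟩, (k0 _ _ t t3).symm⟩
  obtain ⟨z, ⟨t, ht, rfl⟩, hz⟩ := Cg.fix Nat.prime_three G (fun g z => g.map (Int.castRingHom (ZMod 3)) *ᵥ z)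
    (fun a b x => by rw [Matrix.map_mul, mulVec_mulVec]) (Ω := φ '' F) (by
      rintro g hg _ ⟨t, ht, rfl⟩
      obtain ⟨a, ha, b, hb, a1, b1, e⟩ := k1 t ht
      obtain ⟨t1, t2, t3, -⟩ := tC t
      obtain ⟨a', ha', a2, a3⟩ := H.gy hg ha (a1 ▸ t1)
      obtain ⟨b', hb', b2, b3⟩ := H.gy hg hb (b1 ▸ t2)
      rw [← e, ← rd_mul, mulVec_sub, a3, b3]
      exact k2 a' ha' b' hb' a2 b2 (by rw [← yy H.hn, ← a3, ← b3, RsP.iso (F6c.car H.hn) (H.ms.gw hg), yy H.hn, a1, b1, t3]))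
    (fun g hg => (H.ms.gl g hg).imp fun i hi => by
      rintro _ ⟨t, ht, rfl⟩
      obtain ⟨a, ha, b, hb, a1, b1, e⟩ := k1 t ht
      obtain ⟨t1, t2, -⟩ := tC t
      rw [← e, ← rd_mul, mulVec_sub, fix_ww hi (H.ell (H.xy ha (a1 ▸ t1))), fix_ww hi (H.ell (H.xy hb (b1 ▸ t2)))]) (by
      rw [Set.InjOn.ncard_image fun t ht t' ht' e => tD t t' fun r => ?_, Set.ncard_coe_finset]
      · obtain ⟨h1, a, ha, rfl⟩ := h
        obtain ⟨h2, b, hb, rfl⟩ := h'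
        obtain ⟨t, ht, -⟩ := k2 a ha b hb h1 h2 e
        have k3 := Finset.card_pos.2 ⟨t, ht⟩
        have k4 : F.card ∈ [0, 2, 8, 32] := by convert H.cl.cnt
        simp only [List.mem_cons, List.not_mem_nil, or_false] at k4
        omega
      · obtain ⟨a, -, b, -, a1, b1, e1⟩ := k1 t ht
        obtain ⟨a', -, b', -, a2, b2, e2⟩ := k1 t' ht'
        have k3 : (3 : ℤ) ∣ U (Y a.2 - Y b.2 - (Y a'.2 - Y b'.2)) r :=
          show (3 : ℤ) ∣ ∑ i, Um n r i * _ from Finset.dvd_sum fun i _ => (rd_iff.1 (e1.trans (e.trans e2.symm)) i).mul_left _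
        simp only [mulVec_sub, uy H.hn, a1, b1, a2, b2, Pi.sub_apply, Pi.smul_apply, smul_eq_mul] at k3 ⊢
        omega)
  obtain ⟨a, ha, b, hb, a1, b1, e⟩ := k1 t ht
  exact ⟨t, a, ha, b, hb, a1, b1, fun g hg => rd_iff.1 (by rw [rd_mul, e, hz g hg])⟩

theorem Cl.zx (H : Cl Φ) (hx : Λ v = 0) : Cl (Zx Φ v) where
  hn := H.hn
  sub _ h := H.sub h.1
  ng a h := ⟨H.ng a h.1, by rw [Prod.fst_neg, neg_dotProduct]; exact h.2.neg_right⟩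
  cl a h b h' := by
    obtain ⟨c, hc, c1, c2⟩ := H.cl a h.1 b h'.1
    refine ⟨c, ⟨hc, ?_⟩, c1, c2⟩
    have k := h'.2
    rw [← c2, OM.Cu.vecMul_rfm, sub_dotProduct, smul_dotProduct, smul_eq_mul] at k
    exact (dvd_sub_left (h.2.mul_left _)).1 k
  dd a h := ⟨H.dd h, by rw [(perp H.hn).2 hx a h]; exact dvd_zero _⟩

end Om68

open Om68 in
/-- **[Om]** -/
theorem boxOm : BoxOm := fun n hn μ X G Φ h1 h2 h3 h4 => by
  have H : Dt μ X G Φ := ⟨hn, h1, h2, h3, h4⟩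
  refine or_iff_not_imp_left.2 fun k => ?_
  obtain ⟨u, u', s1, s2, e⟩ : ∃ u u', Sh Φ u ∧ Sh Φ u' ∧ u ⬝ᵥ u' = -2 := by
    by_contra k'
    exact k (H.ot fun u u' s1 s2 e => k' ⟨u, u', s1, s2, e⟩)
  obtain ⟨t, a, ha, b, hb, a1, b1, hg⟩ := H.fixed s1 s2 e
  obtain ⟨t1, t2, t3, -, -, -, -, -, -, t4⟩ := tC t
  by_cases hc : co (En n) μ ≤ 2
  · have z : ∀ c ∈ Φ, c ∈ Zx Φ 0 := fun c hc => ⟨hc, by rw [dotProduct_zero]; exact dvd_zero _⟩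
    exact ⟨0, ⟨fun i => by simp, fun g _ i => by simp⟩, H.f6 (H.cl.zx (mulVec_zero _)) (fun _ h => h.1) ⟨t1, a, z a ha, a1⟩
      ⟨t2, b, z b hb, b1⟩ fun x ⟨x1, c, c1, c2⟩ => H.three ⟨t1, a, ha, a1⟩ ⟨t2, b, hb, b1⟩ t3 ⟨x1, c, c1.1, c2⟩ hc, fun _ => rfl⟩
  have z : ∀ c ∈ Φ, 2 * (c.1 ⬝ᵥ (Ym n *ᵥ a.2 - Ym n *ᵥ b.2)) = Um n *ᵥ c.2 ⬝ᵥ u1 t - Um n *ᵥ c.2 ⬝ᵥ u2 t := fun c hc => by
    rw [dotProduct_sub, mul_sub, ry hn (h1.sub hc), ry hn (h1.sub hc), a1, b1]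
  have z1 := z a ha
  have z2 := z b hb
  rw [a1, t1, t3] at z1
  rw [b1, t2, dotProduct_comm (u2 t), t3] at z2
  refine ⟨Ym n *ᵥ a.2 - Ym n *ᵥ b.2, ⟨fun i => ?_, hg⟩, H.f6 (H.cl.zx (by rw [mulVec_sub, ly hn, ly hn, sub_self])) (fun _ h => h.1)
    ⟨t1, a, ⟨ha, by omega⟩, a1⟩ ⟨t2, b, ⟨hb, by omega⟩, b1⟩ fun x ⟨x1, c, c1, c2⟩ => t4 x (short x1) ?_, fun h => (hc h).elim⟩
  · rw [mulVec_sub, H.xy ha (a1 ▸ t1), H.xy hb (b1 ▸ t2), sub_self]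
    exact dvd_zero _
  · have k1 := z c c1.1
    have k2 := c1.2
    rw [c2] at k1
    omega

end Cfsg.Agent.BZ.RT.Cx
end

private theorem dce_9b3537e1efad : _root_.True := by
  try have : _root_.True := by simp only [_root_.Cfsg.Agent.BZ.RT.Cx.Om68.sm4.eq_1]
  exact _root_.True.intro
end

-- part: BZ/RT/C5M
section
prune_inst 0x214407d05764002000018800652007c72be000180104b880080460a44078cac40e9c10e616660151a003a004c0830004813000020c25000000e844400011f048188804000f2c9111524009f81020e010002200080000000000000000000000004214010000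
set_option linter.all false
open scoped Cfsg.Agent.FastGrp

/-!
# BZ / RT / C5 : the glue (helper2)
-/

set_option autoImplicit false
set_option linter.unusedSectionVars false

namespace Cfsg.Agent.BZ.RT.C5

open Cfsg Matrix Polynomial Cfsg.Agent.DL Cfsg.Agent.DL.PP Cfsg.Agent.KZ.Lie Cfsg.Agent.HZ.L Cfsg.Agent.BZ.TA Cfsg.Agent.BZ.TA.Cl
  Cfsg.Agent.OM.Cu Cfsg.Agent.BZ.RT.Z2 Cfsg.Agent.OM
open Cfsg.Agent.HZ.L.X (Zc Cen)

section Comb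

variable {R I : Type} [Fintype R] [DecidableEq R] [Fintype I] [DecidableEq I] {P : Matrix R I ℤ} {Φ : RS I} {Ψ ΨL : RS R} {A : Mat R}
  {q : ℤ} {c s : Lb R} {l d e : ℕ} {V : Submonoid (Mat R)}

theorem not_dvd (h : Pq q l d e) (h2 : l ≠ 2) : ¬ l ∣ d := by
  have := Fact.mk h.lp
  have h1 := ZMod.orderOf_dvd_card_sub_one (a := (q : ZMod l)) fun k => h.nd ((ZMod.intCast_zmod_eq_zero_iff_dvd q l).1 k)
  rw [h.oe, ← h.odd h2] at h1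
  have h3 := h.lp.two_le
  exact fun k => absurd (Nat.le_of_dvd (by omega) (k.trans h1)) (by omega)

theorem nm_rf (h : ∀ b ∈ Ψ, Nm (rfm b) Ψ) (c : Lb R) : ∀ b ∈ Zc Ψ c, Nm (rfm b) (Zc Ψ c) := fun b hb a ha => by
  obtain ⟨x, h1, h2, h3⟩ := h b hb.1 a ha.1
  exact ⟨x, ⟨h1, by rw [← h2, rfm_mulVec, chr_sub, chr_zsmul, ha.2, hb.2, _root_.one_zpow, inv_one, mul_one]⟩, h2, h3⟩

/-- the image of a monoid -/
def dnV (P : Matrix R I ℤ) (V : Submonoid (Mat R)) : Submonoid (Mat I) where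
  carrier := {u | ∃ v ∈ V, v * P = P * u}
  mul_mem' := fun ⟨_, a, b⟩ ⟨_, a', b'⟩ => ⟨_, mul_mem a a', Tr.mul b b'⟩
  one_mem' := ⟨1, one_mem _, by rw [Matrix.one_mul, Matrix.mul_one]⟩

theorem nm_eps (ng : ∀ a ∈ Ψ, -a ∈ Ψ) (h : Nm A Ψ) (ε : ℤˣ) : Nm ((ε : ℤ) • A) Ψ := by
  rcases Int.units_eq_one_or ε with rfl | rfl
  · rwa [Units.val_one, one_smul]
  · rw [Units.val_neg, Units.val_one, neg_one_smul]
    exact Nm.neg ng h

/-- **the pure statement** -/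
theorem pure (hA : BoxA) (hL : BoxLd) {n : ℕ} {C : Mat (Fin n)} {P₀ : Matrix R (Fin n) ℤ} (O : Ok C l) (T₀ : Tr P₀ (Rc C) Ψ)
    (h : Cb Ψ q l d A ΨL V c s) : Zc ΨL c = ∅ := by
  classical
  obtain ⟨D, hC⟩ := O.car
  have H := boxRs C D hC
  obtain ⟨e, hq⟩ := h.pq
  obtain ⟨m, m1, m2⟩ := h.fin
  obtain ⟨f, f1, f2⟩ := h.k1
  have hd := not_dvd hq O.two
  have d0 : 0 < d := Nat.pos_of_ne_zero fun e => hd (e ▸ dvd_zero l)
  obtain ⟨lam, rfl, l1⟩ := hL Ψ ΨL A d m (tr_fin T₀ H.fin) (let ⟨_, e⟩ := h.lev; e ▸ lev_sub _ _) d0 m1 m2 h.ell fun a ha k =>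
    let ⟨y, y1, _, y2⟩ := h.out _ (Complex.isPrimitiveRoot_exp d d0.ne') a ha k
    ⟨_, y, Complex.isPrimitiveRoot_exp d d0.ne', y1, y2⟩
  obtain ⟨P, μ, T, x3, x4⟩ := ad hC T₀ lam
  obtain ⟨X, x1⟩ := Gl.exists_B H T h.nm
  have x2 := Rl.zero H T (l1 ▸ x4.poly H T x1 h.nm (cyclotomic d ℤ))
  have x5 : ∀ a ∈ Rc C, ∀ b ∈ Ψ, P *ᵥ a.2 = b.2 → (b ∈ lev Ψ lam ↔ a ∈ lev (Rc C) μ) := fun a ha b hb k =>
    (and_iff_right hb).trans (Iff.trans (by rw [x4 a ha b hb k, mul_eq_zero, or_iff_right (RsP.det_ne hC)]) (and_iff_right ha).symm)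
  have T1 := tr_res T (fun _ k => k.1 : lev (Rc C) μ ⊆ _) (nm_lev (nm_rc H) μ)
  rw [im_eq T (fun _ k => k.1) x5, show {b | b ∈ Ψ ∧ b ∈ lev Ψ lam} = lev Ψ lam from Set.ext fun _ => and_iff_right_of_imp fun k => k.1]
    at T1
  have n1 := T.nm_dn x1 h.nm
  have n2 := T1.nm_dn x1 h.nmL
  have vw : dnV P V ≤ Wc C := fun u ⟨v, v1, v2⟩ =>
    let ⟨_, a, b⟩ := T.ww_dn (h.vw v1)
    T.cancel (b.symm.trans v2) ▸ H.ww ▸ a
  have vn : ∀ u ∈ dnV P V, Nm u (lev (Rc C) μ) := fun u ⟨v, v1, v2⟩ => T1.nm_dn v2 (h.vn v v1).1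
  obtain ⟨g, g1, g2, g3, g4⟩ := exists_fix hC O hq.lp x3 vw (fun u hu => let ⟨v, a, b⟩ := T1.ww_up hu; ⟨v, h.wv a, b⟩) vn
    (fun u ⟨v, v1, v2⟩ => (h.vl v v1).imp fun i k =>
      let ⟨_, a, b⟩ := T1.ww_dn k
      T.cancel (b.symm.trans (tr_pow v2 _)) ▸ a) (by
      obtain ⟨v, v1, v2⟩ := h.ne
      obtain ⟨u, -, u2⟩ := T.ww_dn (h.vw v1)
      refine ⟨u, ⟨v, v1, u2⟩, fun k => v2 ?_⟩
      obtain ⟨v', a, b⟩ := T1.ww_up k
      exact T.eq_of H (WW_mono (lev_sub _ _) a) (h.vw v1) (b.trans u2.symm) ▸ a)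
  obtain ⟨r1, r2⟩ := rank hC x3 hq.lp hd n1 n2 x2 (vw g1) (vn g g1) (by
    obtain ⟨v, v1, v2⟩ := g1
    obtain ⟨u, u1, u2⟩ := (h.vn v v1).2
    obtain ⟨u', a, b⟩ := T1.ww_dn u1
    exact ⟨u', a, T.cancel ((Tr.mul v2 x1).symm.trans (u2 ▸ Tr.mul (Tr.mul b x1) v2))⟩) g2 g3 g4
  rw [Fintype.card_fin] at r1 r2
  have T2 := (ParT.tr_lev hC x3).comp T1
  by_cases h1 : d.totient = 1
  swap
  · have h2 := Nat.mul_le_mul_right (l - 1) (show 2 ≤ d.totient by have := Nat.totient_pos.2 d0; omega)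
    have h3 := O.rk
    have h4 := Fintype.card_eq_zero_iff.1 (show Fintype.card {i // Jz C μ i} = 0 by omega)
    refine Set.eq_empty_of_forall_notMem fun b hb => ?_
    obtain ⟨a, ha, -⟩ := T1.dn b hb.1
    exact BaseA.ne_zero H ha.1 (funext fun i => (ParT.zero_iff hC x3 ha.1).1 ha.2 i fun k => h4.elim ⟨i, k⟩)
  obtain ⟨ε, e1, e2⟩ : ∃ ε : ℤˣ, IsPrimitiveRoot ((ε : ℤ) : ℂ) d ∧ ((ε : ℤ) • X) *ᵥ μ = μ := by
    rcases Nat.totient_eq_one_iff.1 h1 with rfl | rfl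
    · refine ⟨1, by simp, ?_⟩
      rw [cyclotomic_one, map_sub, aeval_X, map_one, sub_mulVec, one_mulVec, sub_eq_zero] at x2
      rwa [Units.val_one, one_smul]
    · refine ⟨-1, by simpa using IsPrimitiveRoot.neg_one 0 (by decide), ?_⟩
      rw [cyclotomic_two, map_add, aeval_X, map_one, add_mulVec, one_mulVec, add_eq_zero_iff_neg_eq] at x2
      rwa [Units.val_neg, Units.val_one, neg_one_smul, neg_mulVec]
  obtain ⟨u, u1, σ, -, s2⟩ := adj hC x3 (nm_eps (Ψ := lev (Rc C) μ) (fun a ha => ⟨H.neg a ha.1, by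
    rw [Prod.fst_neg, neg_dotProduct, ha.2, neg_zero]⟩) n2 ε)
  obtain ⟨π, p1, p2⟩ := dia hC x3 (Nm.mul (H.nm u (H.ww ▸ WW_mono (lev_sub _ _) u1)) (nm_eps H.neg n1 ε))
    (by rw [← mulVec_mulVec, e2, Ad.fix (fun _ ha => ha.2) u1]) s2
  have hJ : ∀ i, i ∈ Finset.univ.filter (Jz C μ) ↔ Jz C μ i := fun i => by simp
  rw [h1, one_mul, Fintype.card_subtype, add_comm] at r1
  rw [Fintype.card_subtype] at r2
  rcases O.fin _ r1 with ⟨k0, x, t, k1, k2, k3⟩ | ⟨⟨ν, k1⟩, k2⟩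
  · obtain ⟨y, y1, y2⟩ := r2 k0 x
    have k4 : (2 : ℤ) ∣ l * ∑ j ∈ t, C x j := by
      rw [Finset.mul_sum, ← Finset.sum_congr rfl fun j hj => y2 j ((hJ j).1 (k1 hj)), Finset.sum_comm]
      refine Finset.dvd_sum fun i _ => ?_
      rw [← Finset.sum_mul]
      by_cases hi : Jz C μ i
      exacts [(k2 i ((hJ i).2 hi)).mul_right _, by rw [y1 i hi, mul_zero]; exact dvd_zero _]
    exact (k3 ((Int.prime_two.dvd_or_dvd k4).resolve_left fun k => O.two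
      ((Nat.prime_dvd_prime_iff_eq Nat.prime_two hq.lp).1 (Int.natCast_dvd_natCast.1 k)).symm)).elim
  obtain rfl : σ = 1 := Equiv.ext fun j => Subtype.ext ((p2 j).symm.trans (k2 π p1
    (fun j hj => (hJ _).2 ((p2 ⟨j, (hJ j).1 hj⟩).symm ▸ (σ _).2)) j ((hJ j).2 j.2)))
  have hC' := ParT.car_res (Jz C μ) hC
  obtain ⟨u', a1, a2, -⟩ := WW_inv (fun a ha => H.two a ha.1) u1
  obtain ⟨w, w1, w2⟩ := (ParT.tr_lev hC x3).ww_dn a1
  refine hA _ _ _ _ _ A w ε (fun i => ν i) d f hC' T2 (fun i j k => Subtype.ext ((k1 i ((hJ i).2 i.2) j ((hJ j).2 j.2)).2 k))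
    (fun i j => (k1 i ((hJ i).2 i.2) j ((hJ j).2 j.2)).1) ((boxRs _ _ hC').ww ▸ w1) ?_ h.nmL (fun _ k => k.1)
    (nm_zc m1 m2 h.nmL h.fx) (nm_rf T1.nm c) e1 f1 f2
  have k3 := congrArg (fun Y : Matrix (Fin n) {i // Jz C μ i} ℤ => (ε : ℤ) • (u' * Y)) s2
  simp only [pm_one, Matrix.mul_one, ← Matrix.mul_assoc, a2, Matrix.one_mul, w2, Matrix.smul_mul, Matrix.mul_smul, smul_smul,
    Int.units_coe_mul_self, one_smul] at k3
  rw [← Matrix.mul_assoc, x1, Matrix.mul_assoc, k3, Matrix.mul_assoc, Matrix.mul_smul, Matrix.mul_smul, Matrix.mul_smul]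

end Comb

variable {p : ℕ} [Fact p.Prime] {k : Type} [Field k] [CharP k p] [IsAlgClosed k] {Y : Type} [Group Y] {N : Type}
  [Fintype N] [DecidableEq N] {ρ : Y →* GL N k} {F : MulAut Y} {G : Subgroup Y} (D : Datum p ρ F G)

/-- **the glue** -/
theorem c5_of (hA : BoxA) (hL : BoxLd) (hO : BoxOk) (hF : BoxFr D) : BoxC5 D := by
  intro B l z T hT q d w ΨL V c s h
  have key : Zc ΨL c = ∅ := by
    rcases hT with ⟨hl, k | k | k⟩ | ⟨rfl, k | k | k⟩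
    exacts [(hF.e6 k).elim fun _ t => pure hA hL (hO.e6 l hl) t h, (hF.e7 k).elim fun _ t => pure hA hL (hO.e7 l hl) t h,
      (hF.e8 k).elim fun _ t => pure hA hL (hO.e8 l hl) t h, (hF.g2 k).elim fun _ t => pure hA hL hO.g2 t h,
      (hF.f4 k).elim fun _ t => pure hA hL hO.f4 t h, (hF.d4 k).elim fun _ t => pure hA hL hO.d4 t h]
  refine ⟨1, ⟨⟨0, one_pow _⟩, fun _ => by rw [map_one, map_one], fun _ _ => map_one _, fun _ _ _ => by rw [map_one, map_one]⟩,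
    fun _ => rfl, .inl fun a _ _ b hb => ?_⟩
  rw [mul_one, key] at hb
  exact hb.elim

end Cfsg.Agent.BZ.RT.C5

private theorem dce_d537494caca0 : _root_.True := by
  try have : _root_.True := by simp only [_root_.Cfsg.Agent.BZ.RT.Z2.inc.congr_simp]
  exact _root_.True.intro
end

-- part: BZ/RT/C5M_mg
section

end
end
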