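import Cfsg.Agent.OM.Cu.Glue_mg_m3
import Cfsg.Agent.OM.Cu.Asm_m3
import Cfsg.Agent.OM.Cu.E78
import Cfsg.Agent.BZ.RT.RowsC_m3
import Cfsg.Agent.BZ.L.K3.Defs3_m3
import Cfsg.Agent.HZ.L.SL.Defs_m3
import Cfsg.Agent.HZ.L.X.FrB_m3
import Cfsg.Agent.HZ.L.X.Bas
import Cfsg.Agent.BZ.RT.Down_m3
import Cfsg.Agent.BZ.RT.Co.E7_m3
import Cfsg.Agent.OM.Cu.TbE7a_m3
import Cfsg.Agent.BZ.RT.AtR_m3
import Cfsg.Agent.OM.Cu.Orb_mg_m3
import Cfsg.Agent.OM.Lie.UL0_m3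
import Cfsg.Agent.OM.On.E6.Ax
import Cfsg.Agent.BZ.A.Deg2_m3
import Cfsg.Agent.BZ.X.Defs
import Cfsg.Agent.KM.A.Cov_m3
import Cfsg.Agent.BZ.S1.Cert_m3
import Cfsg.Agent.S0908
import Cfsg.Agent.LV.A.Tow
import Cfsg.Agent.H614.Nakayama
import Cfsg.Agent.FastGrp
import Cfsg.Agent.Prune
set_option linter.all false

-- part: OM/Cu/T95
section
set_option linter.all false

/-!
# OM / Cu : `E₇`, `E₈` and the exceptional box (helper95); the tables are those of `OM/Cu/E78`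
-/

set_option autoImplicit false

namespace Cfsg.Agent.OM.Cu.T95

/-- **[X]** -/
theorem boxX : BoxX := Cfsg.Agent.OM.Cu.boxX

end Cfsg.Agent.OM.Cu.T95
end

section
prune_inst 0x7f9db8f87fafa7ffdfff7e3ffed0dffc1380cfffefdff9437fe1619f0f9f03a10bc5fb878de030fe8e56e2b410387813f97eeeffe863dc7ffffdfff41ffbee1fa5e63500519090240f302fff03f07f8a6f3ffffffffffffffffffffffffffffffffdfbfeffff

-- part: BZ/RT/Cl2
section
prune_inst 0x6241050000480020000000002220020003000000000008000c0020204030580408040000040201010100088001004002000100020c000000000000000000604018820820040c1000c840008801000000000000000000000000000000000000000200000000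
set_option linter.all false
open scoped Cfsg.Agent.FastGrp

-- part: BZ/RT/TagC
section
/-!
# BZ / RT (S4853) : the classical tag (helper5)

`tagC : TC X → St (DD X) j B → ClT (DD X) B`; `zdC4`, `zdC` : the exponent of `ZD X` divides four.
-/

set_option autoImplicit false
set_option linter.unusedSectionVars false

namespace Cfsg.Agent.BZ.RT

open Cfsg Matrix Cfsg.Agent.DL Cfsg.Agent.HZ.L Cfsg.Agent.HZ.L.Reg Cfsg.Agent.BZ.Tw
open Cfsg.Agent.HZ.L.X (b0 Fw)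

namespace TgC

section Pure

variable {n : ℕ} {κ : Kd}

theorem std_cases {r : Vec (Fin n) × Vec (Fin n)} (h : r ∈ std κ (b0 n)) :
    (∃ (i j : Fin n) (s t : ℤˣ), i ≠ j ∧ r.1 = Pi.single i (s : ℤ) + Pi.single j (t : ℤ) ∧ r.2 = r.1) ∨
      ∃ (i : Fin n) (s : ℤˣ), κ = .B ∧ r = (Pi.single i (s : ℤ), Pi.single i (2 * s : ℤ)) ∨
        κ = .C ∧ r = (Pi.single i (2 * s : ℤ), Pi.single i (s : ℤ)) := by
  rcases h with h | h | ⟨i, s, -, h⟩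
  · obtain ⟨h1, i, j, s, t, h2, h3⟩ := X.FrB.mem_D.1 (.inl h)
    exact .inl ⟨i, j, s, t, h2, h3, h1⟩
  · obtain ⟨h1, i, j, s, t, h2, h3⟩ := X.FrB.mem_D.1 (.inr (.inl h))
    exact .inl ⟨i, j, s, t, h2, h3, h1⟩
  · exact .inr ⟨i, s, h⟩

theorem mem_two {i j : Fin n} (h : i ≠ j) (s t : ℤˣ) :
    (Pi.single i (s : ℤ) + Pi.single j (t : ℤ), Pi.single i (s : ℤ) + Pi.single j (t : ℤ)) ∈ std κ (b0 n) := by
  rcases (X.FrB.mem_D (r := (Pi.single i (s : ℤ) + Pi.single j (t : ℤ), Pi.single i (s : ℤ) + Pi.single j (t : ℤ)))).2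
    ⟨rfl, i, j, s, t, h, rfl⟩ with k | k | ⟨_, _, -, ⟨k, -⟩ | ⟨k, -⟩⟩
  exacts [.inl k, .inr (.inl k), (by cases k), (by cases k)]

/-- the coroot is determined by the action of the reflection on the weights -/
theorem co_eq {r : Vec (Fin n) × Vec (Fin n)} (h : r ∈ std κ (b0 n)) {c : Vec (Fin n)} (h2 : r.1 ⬝ᵥ c = 2)
    (H : ∀ k x y, x ≠ y → (Pi.single k 1 - c k • r.1 : Vec (Fin n)) x = 0 ∨ (Pi.single k 1 - c k • r.1 : Vec (Fin n)) y = 0) :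
    c = r.2 := by
  have h0 : ∀ k i, k ≠ i → r.1 k = 0 → r.1 i ≠ 0 → c k = 0 := fun k i e a1 a2 => by
    have h1 := H k k i e
    simp only [Pi.sub_apply, Pi.smul_apply, smul_eq_mul, Pi.single_eq_same, Pi.single_eq_of_ne e.symm, a1, mul_zero,
      sub_zero, one_ne_zero, false_or, zero_sub, neg_eq_zero, mul_eq_zero] at h1
    exact h1.resolve_right a2
  funext k
  rcases std_cases h with ⟨i, j, s, t, e, a1, a2⟩ | ⟨i, s, ⟨-, rfl⟩ | ⟨-, rfl⟩⟩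
  · have b1 : r.1 i = s := by rw [a1, Pi.add_apply, Pi.single_eq_same, Pi.single_eq_of_ne e, add_zero]
    have b2 : r.1 j = t := by rw [a1, Pi.add_apply, Pi.single_eq_same, Pi.single_eq_of_ne e.symm, zero_add]
    have b3 := H i i j e
    have b4 := H j j i e.symm
    rw [a1, add_dotProduct, single_dotProduct, single_dotProduct] at h2
    simp only [Pi.sub_apply, Pi.smul_apply, smul_eq_mul, Pi.single_eq_same, Pi.single_eq_of_ne e.symm,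
      Pi.single_eq_of_ne e, b1, b2] at b3 b4
    rw [a2]
    by_cases c1 : k = i
    · rw [c1, b1]
      rcases Int.units_eq_one_or s with rfl | rfl <;> rcases Int.units_eq_one_or t with rfl | rfl <;>
        simp only [Units.val_one, Units.val_neg] at h2 b3 b4 ⊢ <;> omega
    by_cases c2 : k = j
    · rw [c2, b2]
      rcases Int.units_eq_one_or s with rfl | rfl <;> rcases Int.units_eq_one_or t with rfl | rfl <;>
        simp only [Units.val_one, Units.val_neg] at h2 b3 b4 ⊢ <;> omega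
    have b5 : r.1 k = 0 := by rw [a1, Pi.add_apply, Pi.single_eq_of_ne c1, Pi.single_eq_of_ne c2, add_zero]
    rw [b5]
    exact h0 k i c1 b5 (b1 ▸ s.ne_zero)
  all_goals
    by_cases c1 : k = i
    · rw [single_dotProduct] at h2
      rw [c1]
      simp only [Pi.single_eq_same]
      rcases Int.units_eq_one_or s with rfl | rfl <;> simp only [Units.val_one, Units.val_neg] at h2 ⊢ <;> omega
    · simp only [Pi.single_eq_of_ne c1]
      exact h0 k i c1 (Pi.single_eq_of_ne c1 _) (by simp)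

/-- the kind -/
def kap (t : ℕ) : Kd := if t = 0 then .D else if t = 1 then .B else .C

end Pure

variable {p : ℕ} [Fact p.Prime] {k : Type} [Field k] [CharP k p] [IsAlgClosed k] {Y : Type} [Group Y] {N : Type} [Fintype N]
  [DecidableEq N] {ρ : Y →* GL N k} {F : MulAut Y} {G : Subgroup Y} {J : Type} [Fintype J] [DecidableEq J]
  {X : Datum p ρ F G} {θ : Y →* GL J k} {μ : J → X.R → ℤ} {f t : ℕ} {e : ℤ} {b : X.R → J} {σ : Equiv.Perm J}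
  {n : ℕ} (ε : Fin n ≃ X.R)

variable (μ b) in
/-- the matrix of the basic weights -/
def Pm : Matrix (Fin n) X.R ℤ := of fun i => μ (b (ε i))

theorem row (i : Fin n) (s : ℤ) : Pi.single i s ᵥ* Pm μ b ε = s • μ (b (ε i)) := by
  rw [single_vecMul]
  rfl

variable (h : Nt2 X θ μ f e b σ)
include h

theorem inj {x y : Vec (Fin n)} (e1 : x ᵥ* Pm μ b ε = y ᵥ* Pm μ b ε) : x = y := by
  obtain ⟨V, hV⟩ := h.bas
  have h1 : Pm μ b ε * V.submatrix id ε = (2 : ℤ) • 1 := Matrix.ext fun i j => by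
    have h2 := congrFun (congrFun hV (ε i)) (ε j)
    rw [Matrix.smul_apply, one_apply] at h2 ⊢
    simp only [ε.apply_eq_iff_eq] at h2
    exact h2
  have h2 := congrArg (· ᵥ* V.submatrix id ε) e1
  simp only [vecMul_vecMul, h1, vecMul_smul, vecMul_one] at h2
  exact smul_right_injective _ two_ne_zero h2

theorem cov (j : J) : μ j = 0 ∨ ∃ (i : Fin n) (s : ℤˣ), μ j = Pi.single i (s : ℤ) ᵥ* Pm μ b ε :=
  (h.cov j).imp_right fun ⟨i, hi⟩ => hi.elim (fun e1 => ⟨ε.symm i, 1, by rw [row, ε.apply_symm_apply, e1]; simp⟩)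
    fun e1 => ⟨ε.symm i, -1, by rw [row, ε.apply_symm_apply, e1]; simp⟩

theorem exists_j (i : Fin n) (s : ℤˣ) : ∃ j, μ j ≠ 0 ∧ μ j = Pi.single i (s : ℤ) ᵥ* Pm μ b ε := by
  obtain ⟨j, hj⟩ : ∃ j, μ j = Pi.single i (s : ℤ) ᵥ* Pm μ b ε := by
    rcases Int.units_eq_one_or s with rfl | rfl
    · exact ⟨b (ε i), by rw [row]; simp⟩
    · exact (h.neg (b (ε i))).imp fun j hj => by rw [row, hj]; simp
  refine ⟨j, fun e1 => ?_, hj⟩
  have h1 := congrFun (inj ε h (hj.symm.trans (e1.trans (zero_vecMul _).symm))) i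
  rw [Pi.single_eq_same] at h1
  exact s.ne_zero h1

theorem cor_eq {κ : Kd} {r : Vec (Fin n) × Vec (Fin n)} (hr : r ∈ std κ (b0 n)) {a : X.I → ℤ} (ha : X.Rt a)
    (e1 : r.1 ᵥ* Pm μ b ε = X.wt a) : Pm μ b ε *ᵥ X.cor a = r.2 := by
  refine co_eq hr (by rw [dotProduct_mulVec, e1]; exact HZ.L.X.rt_two (rt_mem ha)) fun i x y hxy => ?_
  obtain ⟨τ, hτ⟩ := NtA.wm_perm h (X.rf a)
  have h1 := hτ (b (ε i))
  rw [← rfm_eq ha, rfm, vecMul_sub, vecMul_one, vecMul_vecMulVec] at h1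
  have h2 : (Pi.single i 1 - (Pm μ b ε *ᵥ X.cor a) i • r.1) ᵥ* Pm μ b ε = μ (τ (b (ε i))) := by
    rw [sub_vecMul, smul_vecMul, e1, row, one_smul]
    exact h1
  rcases cov ε h (τ (b (ε i))) with h3 | ⟨m, s, h3⟩
  · rw [inj ε h (h2.trans (h3.trans (zero_vecMul _).symm))]
    exact .inl rfl
  · rw [inj ε h (h2.trans h3)]
    by_cases h4 : x = m
    · exact .inr (Pi.single_eq_of_ne (h4 ▸ hxy.symm) _)
    · exact .inl (Pi.single_eq_of_ne h4 _)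

variable (R : Rts X μ t)
include R

theorem exists_r {a : X.I → ℤ} (ha : X.Rt a) : ∃ r ∈ std (kap t) (b0 n), r.1 ᵥ* Pm μ b ε = X.wt a := by
  obtain ⟨i, j, a1, a2, a3, a4, a5⟩ := R.sub a ha
  obtain ⟨x, s, hx⟩ := (cov ε h i).resolve_left a1
  rcases cov ε h j with hy | ⟨y, u, hy⟩
  · obtain rfl := a4 hy
    exact ⟨_, .inr (.inr ⟨x, s, rfl, .inl ⟨rfl, rfl⟩⟩), by rw [a3, hy, add_zero, hx]⟩
  by_cases e1 : x = y
  · subst e1
    by_cases e2 : u = s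
    · subst e2
      obtain rfl := a5 (hy.trans hx.symm)
      exact ⟨_, .inr (.inr ⟨x, u, rfl, .inr ⟨rfl, rfl⟩⟩), by rw [a3, hy, hx, ← add_vecMul, ← Pi.single_add, two_mul]⟩
    · exact absurd (by rw [hy, hx, Int.units_ne_iff_eq_neg.1 e2, row, row, Units.val_neg, neg_smul]) a2
  · exact ⟨_, mem_two e1 s u, by rw [a3, hy, hx, add_vecMul]⟩

theorem exists_a {r : Vec (Fin n) × Vec (Fin n)} (hr : r ∈ std (kap t) (b0 n)) : ∃ a, X.Rt a ∧ r.1 ᵥ* Pm μ b ε = X.wt a := by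
  rcases std_cases hr with ⟨x, y, s, u, e1, a1, -⟩ | ⟨x, s, a1⟩
  · obtain ⟨i, b1, b2⟩ := exists_j ε h x s
    obtain ⟨j, c1, c2⟩ := exists_j ε h y u
    obtain ⟨a, ha, e2⟩ := R.two i j b1 c1 (fun e2 => by
      have h1 := congrFun (inj ε h (c2.symm.trans (e2.trans b2))) x
      rw [Pi.single_eq_same, Pi.single_eq_of_ne e1] at h1
      exact s.ne_zero h1.symm) fun e2 => by
      rw [b2, ← neg_vecMul] at e2
      have h1 := congrFun (inj ε h (c2.symm.trans e2)) x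
      rw [Pi.neg_apply, Pi.single_eq_same, Pi.single_eq_of_ne e1] at h1
      exact s.ne_zero (neg_eq_zero.1 h1.symm)
    exact ⟨a, ha, by rw [e2, a1, add_vecMul, b2, c2]⟩
  · obtain ⟨i, b1, b2⟩ := exists_j ε h x s
    rcases R.rk with ⟨rfl, -⟩ | ⟨rfl, -⟩ | ⟨rfl, -⟩ <;> rcases a1 with ⟨a1, rfl⟩ | ⟨a1, rfl⟩ <;> try cases a1
    · obtain ⟨a, ha, e2⟩ := R.one one_ne_zero i b1
      exact ⟨a, ha, by rw [e2, b2]; simp⟩
    · obtain ⟨a, ha, e2⟩ := R.one two_ne_zero i b1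
      exact ⟨a, ha, by rw [e2, b2, row, row, smul_smul]; rfl⟩

theorem frame (hn : 2 ≤ n) : ∃ Φ : Fw (DD X) (kap t) (b0 n) 2, Φ.P * Jm X = (2 : ℤ) • Pm μ b ε := by
  choose a a1 a2 using fun r : std (kap t) (b0 n) => exists_a ε h R r.2
  let ψ : std (kap t) (b0 n) → rts (DD X) := fun r => ⟨_, rt_mem (D := DD X) (a1 r)⟩
  have h1 : ∀ c, X.Rt c → ∃ r, a r = c := fun c hc => by
    obtain ⟨r, b1, b2⟩ := exists_r ε h R hc
    exact ⟨⟨r, b1⟩, X.wt_injective ((a2 _).symm.trans b2)⟩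
  have h2 : Function.Bijective ψ := ⟨fun r r' e1 => ?_, fun ⟨x, c, hc, e1⟩ => ?_⟩
  · obtain ⟨Φ, hΦ⟩ := (HZ.L.X.boxFw (DD X)).two _ n (Equiv.ofBijective ψ h2).symm hn fun x y => by
      obtain ⟨r, rfl⟩ := (Equiv.ofBijective ψ h2).surjective x
      obtain ⟨r', rfl⟩ := (Equiv.ofBijective ψ h2).surjective y
      rw [Equiv.symm_apply_apply, Equiv.symm_apply_apply, ← cor_eq ε h r'.2 (a1 r') (a2 r'), dotProduct_mulVec, a2]
      show _ = wt' X (a r) ⬝ᵥ (DD X).cor (a r')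
      rw [cor_DD X (a1 r'), dotProduct_mulVec]
      exact congrArg (· ⬝ᵥ _) (vecMul_Jm X _ _).symm
    refine ⟨Φ, sub_eq_zero.1 (HZ.L.X.FrA.ext_zero (fun x hx => HZ.L.X.rt_two hx) ?_ fun v hv => ?_)⟩
    · rintro _ ⟨c, hc, rfl⟩
      obtain ⟨r, rfl⟩ := h1 c hc
      have h3 := Φ.h2 (Equiv.ofBijective ψ h2 r)
      rw [hΦ, Equiv.symm_apply_apply, ← cor_eq ε h r.2 hc (a2 r)] at h3
      rw [sub_mulVec, smul_mulVec, ← h3, ← mulVec_mulVec, ← cor_DD X hc]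
      exact sub_self _
    · rw [Rc.ss_of h R v fun c hc => hv _ (rt_mem hc), mulVec_zero]
  · have h3 : a r = a r' := neg_injective (funext fun i => congrFun (congrArg (·.1.1) e1) (.inr i))
    refine Subtype.ext (Prod.ext (inj ε h (by rw [a2, a2, h3])) ?_)
    rw [← cor_eq ε h r.2 (a1 r) (a2 r), ← cor_eq ε h r'.2 (a1 r') (a2 r'), h3]
  · obtain ⟨r, rfl⟩ := h1 c hc
    exact ⟨r, Subtype.ext e1.symm⟩

theorem clT {j : ℕ} {B : Mat (DD X).R} (hS : St (DD X) j B) : ClT (DD X) B := by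
  have hn : 2 ≤ Fintype.card X.R := by have := R.rk; omega
  let ε := (Fintype.equivFin X.R).symm
  obtain ⟨Φ, hΦ⟩ := frame ε h R hn
  rcases HZ.L.X.FrB.main Φ hn hS with ⟨τ, hτ⟩ | ⟨-, E, T, -, h1, h2, -⟩
  · exact ⟨_, _, Φ, τ, hn, hτ⟩
  exfalso
  have h3 : ((p : ℤ) ^ j) • (B * Jm X) = Jm X * X.Mx := by
    rw [← Matrix.smul_mul, ← hS.mx]
    exact blocks_Jm X _ _
  have h4 : (((p : ℤ) ^ j) • T) * Pm μ b ε = (2 : ℤ) • (Pm μ b ε * X.Mx) := smul_right_injective _ (two_ne_zero (α := ℤ)) (by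
    show (2 : ℤ) • _ = (2 : ℤ) • _
    rw [← Matrix.mul_smul, ← hΦ, Matrix.smul_mul, ← Matrix.mul_assoc, h1, Matrix.smul_mul, smul_comm, Matrix.mul_assoc,
      ← Matrix.mul_smul, h3, ← Matrix.mul_assoc, hΦ, Matrix.smul_mul])
  let i : Fin (Fintype.card X.R) := ⟨0, by omega⟩
  have h5 : (((p : ℤ) ^ j) • T i) ᵥ* Pm μ b ε = (2 * e) • μ (σ (b (ε i))) := by
    rw [mul_smul, ← h.fr]
    exact congrFun h4 i
  have h6 : ∀ l, T i l ≠ 0 := fun l e1 => by simpa [e1] using h2 i l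
  have : Nontrivial (Fin (Fintype.card X.R)) := Fin.nontrivial_iff_two_le.2 hn
  rcases cov ε h (σ (b (ε i))) with h7 | ⟨m, s, h7⟩
  · rw [h7, smul_zero, ← zero_vecMul (Pm μ b ε)] at h5
    exact mul_ne_zero hS.q_ne (h6 i) (congrFun (inj ε h h5) i)
  · obtain ⟨l, hl⟩ := exists_ne m
    rw [h7, ← smul_vecMul] at h5
    have h8 := congrFun (inj ε h h5) l
    rw [Pi.smul_apply, Pi.smul_apply, Pi.single_eq_of_ne hl, smul_zero] at h8
    exact mul_ne_zero hS.q_ne (h6 l) h8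

theorem zd4 {x : YY X} (hx : x ∈ ZD X) : x ^ 4 = 1 := by
  obtain ⟨g, hg, h1, rfl⟩ := mem_up.1 hx
  obtain ⟨c, rfl⟩ := (X.mem_T g).1 h1.1
  have hn : 2 ≤ Fintype.card X.R := by have := R.rk; omega
  let ε := (Fintype.equivFin X.R).symm
  have : Nontrivial (Fin (Fintype.card X.R)) := Fin.nontrivial_iff_two_le.2 hn
  have h2 : ∀ {x y} (_ : x ≠ y) (s u : ℤˣ), chr ((Pi.single x (s : ℤ) + Pi.single y (u : ℤ)) ᵥ* Pm μ b ε) c = 1 :=
    fun e1 s u => by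
      obtain ⟨a, ha, e2⟩ := exists_a ε h R (mem_two e1 s u)
      exact Units.ext (e2 ▸ (X.χ_τ a c).symm.trans (h1.2 a ha))
  have h3 : (c ^ 2) ^ 2 = 1 := h.nt.sq fun j => by
    rcases cov ε h j with h4 | ⟨x, s, h4⟩
    · rw [h4, chr_zero]
    · obtain ⟨y, hy⟩ := exists_ne x
      have h5 := congrArg₂ (· * ·) (h2 hy.symm s 1) (h2 hy.symm s (-1))
      simp only [add_vecMul, ← h4, chr_add, row, Units.val_neg, neg_smul, chr_neg] at h5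
      rw [map_pow, pow_two, ← one_mul 1, ← h5, mul_mul_mul_comm, mul_inv_cancel, mul_one]
  rw [← ta_elim, ← map_pow]
  refine (congrArg (ta X) (funext fun i => ?_)).trans (map_one _)
  rcases i with i | i
  · exact (pow_mul (c i) 2 2).trans (congrFun h3 i)
  · exact one_pow 4

end TgC

variable {p : ℕ} [Fact p.Prime] {k : Type} [Field k] [CharP k p] [IsAlgClosed k] {Y : Type} [Group Y] {N : Type} [Fintype N]
  [DecidableEq N] {ρ : Y →* GL N k} {F : MulAut Y} {G : Subgroup Y} {X : Datum p ρ F G}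

/-- **the classical tag** -/
theorem tagC (h : TC X) {j : ℕ} {B : Mat (DD X).R} (hS : St (DD X) j B) : ClT (DD X) B :=
  let ⟨_, _, _, _, _, _, _, _, _, _, h1, h2⟩ := h
  TgC.clT h1 h2 hS

theorem zdC4 (h : TC X) {x : YY X} (hx : x ∈ ZD X) : x ^ 4 = 1 :=
  let ⟨_, _, _, _, _, _, _, _, _, _, h1, h2⟩ := h
  TgC.zd4 h1 h2 hx

end Cfsg.Agent.BZ.RT
end

-- part: BZ/RT/Cl2
section
/-!
# BZ / RT (S4853) : classical groups, the prime two (helper24)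

`boxCl2` : the label has no root in the Levi subsystem.
-/

set_option autoImplicit false
set_option linter.unusedSectionVars false
set_option linter.style.haveILetI false
set_option maxHeartbeats 400000

namespace Cfsg.Agent.BZ.RT

open Cfsg Matrix Cfsg.Agent.DL Cfsg.Agent.DL.PP Cfsg.Agent.KZ.Lie Cfsg.Agent.HZ.L Cfsg.Agent.OM Cfsg.Agent.OM.Cu Cfsg.Agent.BZ.TA
  Cfsg.Agent.BZ.TA.Cl
open Cfsg.Agent.HZ.L.X (Zc b0 Fw Qv)
open Cfsg.Agent.LV.Cl (SG sm sm_apply)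

namespace C2

section Pure

variable {n : ℕ} {κ : _root_.Cfsg.Agent.HZ.L.Kd}

theorem eq_single {v : Vec (Fin n)} {c : Fin n} (h : v ⬝ᵥ v = v c * v c) : v = Pi.single c (v c) := by
  rw [dotProduct, ← Finset.add_sum_erase _ _ (Finset.mem_univ c), add_eq_left,
    Finset.sum_eq_zero_iff_of_nonneg fun _ _ => mul_self_nonneg _] at h
  funext j
  by_cases e : j = c
  · rw [e, Pi.single_eq_same]
  · rw [Pi.single_eq_of_ne e]
    exact mul_self_eq_zero.1 (h j (Finset.mem_erase.2 ⟨e, Finset.mem_univ _⟩))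

theorem key {ι : Type} {r : ι → Vec (Fin n) × Vec (Fin n)} (hr : ∀ a, r a ∈ std κ (b0 n))
    (h : (∃ a b, (r a).1 ⬝ᵥ (r b).2 ≠ (r b).1 ⬝ᵥ (r a).2) ∨ ∃ (z : ι) (x : Fin 3 → ι), (∀ k, (r z).1 ⬝ᵥ (r (x k)).2 = -1) ∧
      ∀ k l, k ≠ l → (r (x k)).1 ⬝ᵥ (r (x l)).2 = 0) : ∃ i m a b, m ≠ 0 ∧ (r a).1 + (r b).1 = Pi.single i m := by
  by_contra h0
  have h1 : ∀ a, ∃ (i j : Fin n) (s t : ℤˣ), i ≠ j ∧ (r a).1 = Pi.single i (s : ℤ) + Pi.single j (t : ℤ) ∧ (r a).2 = (r a).1 := fun a =>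
    (TgC.std_cases (hr a)).resolve_right (by
      rintro ⟨i, s, ⟨-, e⟩ | ⟨-, e⟩⟩
      · exact h0 ⟨i, s + s, a, a, by have := s.ne_zero; omega, by rw [e, ← Pi.single_add]⟩
      · exact h0 ⟨i, 2 * s + 2 * s, a, a, by have := s.ne_zero; omega, by rw [e, ← Pi.single_add]⟩)
  have h2 : ∀ a, (r a).2 = (r a).1 := fun a => let ⟨_, _, _, _, _, _, e⟩ := h1 a; e
  have h3 : ∀ a, (r a).1 ⬝ᵥ (r a).1 = 2 := fun a => by rw [← (BD.std_two _ (hr a)).1, h2]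
  simp only [h2] at h
  rcases h with ⟨a, b, h⟩ | ⟨z, x, h4, h5⟩
  · exact h (dotProduct_comm _ _)
  obtain ⟨i, j, s, t, -, e, -⟩ := h1 z
  have h6 : ∀ k l (c : Fin n) (u : ℤˣ), k ≠ l → u * (r (x k)).1 c = -1 → u * (r (x l)).1 c = -1 → False := fun k l c u e e1 e2 => by
    have e3 : ((r (x k)).1 + (r (x l)).1) c = -2 * u := by
      rw [Pi.add_apply]
      rcases Int.units_eq_one_or u with rfl | rfl <;> simp only [Units.val_one, Units.val_neg] at e1 e2 ⊢ <;> omega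
    refine h0 ⟨c, _, x k, x l, by rw [e3]; have := u.ne_zero; omega, eq_single ?_⟩
    rw [e3, add_dotProduct, dotProduct_add, dotProduct_add, h3, h3, h5 k l e, h5 l k e.symm]
    rcases Int.units_eq_one_or u with rfl | rfl <;> simp
  have h7 : ∀ k, s * (r (x k)).1 i = -1 ∨ t * (r (x k)).1 j = -1 := fun k => by
    have e1 := h4 k
    have e2 : ∀ c, (r (x k)).1 c * (r (x k)).1 c ≤ 2 := fun c => h3 (x k) ▸
      Finset.single_le_sum (f := fun c => (r (x k)).1 c * (r (x k)).1 c) (fun _ _ => mul_self_nonneg _) (Finset.mem_univ c)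
    have e3 : ∀ c, -1 ≤ (r (x k)).1 c ∧ (r (x k)).1 c ≤ 1 := fun c => ⟨by nlinarith only [e2 c], by nlinarith only [e2 c]⟩
    rw [e, add_dotProduct, single_dotProduct, single_dotProduct] at e1
    have e4 := e3 i
    have e5 := e3 j
    rcases Int.units_eq_one_or s with rfl | rfl <;> rcases Int.units_eq_one_or t with rfl | rfl <;>
      simp only [Units.val_one, Units.val_neg] at e1 ⊢ <;> omega
  rcases h7 0 with a | a <;> rcases h7 1 with b | b <;> rcases h7 2 with c | c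
  exacts [h6 0 1 _ _ (by decide) a b, h6 0 1 _ _ (by decide) a b, h6 0 2 _ _ (by decide) a c, h6 1 2 _ _ (by decide) b c,
    h6 1 2 _ _ (by decide) b c, h6 0 2 _ _ (by decide) a c, h6 0 1 _ _ (by decide) a b, h6 0 1 _ _ (by decide) a b]

theorem shape {I J : Type} {C : Matrix I I ℤ} {v : J → I} (h : Z2.Sv (C.submatrix v v)) : (∃ a b, C b a ≠ C a b) ∨
    ∃ (z : I) (x : Fin 3 → I), (∀ k, C (x k) z = -1) ∧ ∀ k l, k ≠ l → C (x l) (x k) = 0 := by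
  rcases h with ⟨e, h⟩ | ⟨e, h⟩ | ⟨e, h⟩ | ⟨e, h⟩ | ⟨e, h⟩
  · exact .inr ⟨v (e 1), fun k => v (e (![0, 2, 3] k)), fun k => (h _ _).trans (by revert k; decide),
      fun k l => by rw [show C _ _ = _ from h _ _]; revert k l; decide⟩
  · exact .inr ⟨v (e 2), fun k => v (e (![1, 3, 5] k)), fun k => (h _ _).trans (by revert k; decide),
      fun k l => by rw [show C _ _ = _ from h _ _]; revert k l; decide⟩
  · exact .inr ⟨v (e 2), fun k => v (e (![1, 3, 7] k)), fun k => (h _ _).trans (by revert k; decide),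
      fun k l => by rw [show C _ _ = _ from h _ _]; revert k l; decide⟩
  · exact .inl ⟨v (e 1), v (e 2), by rw [show C _ _ = _ from h _ _, show C _ _ = _ from h _ _]; decide⟩
  · exact .inl ⟨v (e 0), v (e 1), by rw [show C _ _ = _ from h _ _, show C _ _ = _ from h _ _]; decide⟩

/-- every coordinate is met by an eigenvalue of order a power of two -/
theorem exists_ei (g : SG n) (i : Fin n) : ∃ μ, _root_.Cfsg.Agent.OM.Cu.Lv 2 1 μ ∧ Cc.Ei g μ i := by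
  obtain ⟨k, k0, k1, k2⟩ := Cc.exists_per g.π i
  obtain ⟨a, o, ho, rfl⟩ := Nat.exists_eq_pow_mul_and_not_dvd k0.ne' 2 (by norm_num)
  rcases Int.units_eq_one_or ((g ^ (2 ^ a * o)).s i) with e | e
  · exact ⟨1, ⟨0, by simp⟩, Cc.exists_V one_ne_zero k0 k1 k2 (by simp [e])⟩
  · have h := Complex.isPrimitiveRoot_exp (2 ^ (a + 1)) (by positivity)
    refine ⟨_, ⟨a + 1, by rw [h.pow_eq_one]; exact .one⟩, Cc.exists_V (h.ne_zero (by positivity)) k0 k1 k2 ?_⟩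
    rw [pow_mul, (h.pow (by positivity) (pow_succ 2 a)).eq_neg_one_of_two_right,
      (Nat.odd_iff.2 (Nat.two_dvd_ne_zero.1 ho)).neg_one_pow, e]
    simp

theorem nm_Zc {R : Type} [Fintype R] [DecidableEq R] {Ψ : RS R} {A : Mat R} {q : ℤ} {s : _root_.Cfsg.Agent.HZ.L.Lb R} {N : ℕ} (h0 : 0 < N) (h1 : A ^ N = 1)
    (h2 : Nm A Ψ) (h3 : _root_.Cfsg.Agent.HZ.L.Tl (q • A) s s) : Nm A (Zc Ψ s) := fun a ha => by
  obtain ⟨b, hb, e1, e2⟩ := h2 a ha.1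
  refine ⟨b, ⟨hb, ?_⟩, e1, e2⟩
  have h4 : ∀ (k : ℕ) v, chr ((A ^ k) *ᵥ v) s ^ q ^ k = chr v s := fun k v => by
    induction k with
    | zero => rw [pow_zero, pow_zero, one_mulVec, _root_.zpow_one]
    | succ k ih => rw [pow_succ', pow_succ', ← mulVec_mulVec, _root_.zpow_mul, ← chr_zsmul q, ← smul_mulVec, h3, ih]
  obtain ⟨k, rfl⟩ := Nat.exists_eq_succ_of_ne_zero h0.ne'
  rw [← h4 (k + 1), h1, one_mulVec, pow_succ', _root_.zpow_mul, ← chr_zsmul q, ← e1, ← smul_mulVec, h3, ha.2, _root_.one_zpow]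

end Pure

variable {p : ℕ} [Fact p.Prime] {k : Type} [Field k] [CharP k p] [IsAlgClosed k] {Y : Type} [Group Y] {N : Type}
  [Fintype N] [DecidableEq N] {ρ : Y →* GL N k} {F : MulAut Y} {G : Subgroup Y} {D : Datum p ρ F G}

/-- the roots of a label in a Levi subsystem are the roots of a label -/
theorem exists_lab {l : ℕ} (hl : l.Prime) (lam : Vec D.R) {s : Lbl D} (hs : Fo l s) :
    ∃ s', Fo l s' ∧ Zc (_root_.Cfsg.Agent.HZ.L.lev (rts D) lam) s = Zc (rts D) s' := by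
  obtain ⟨n, hn, hs⟩ := hs
  let τ : Vec D.R := ∑ c ∈ Phi D, (D.wt c ⬝ᵥ lam) • D.wt c
  have h1 : ∀ a, D.Rt a → (D.cor a ⬝ᵥ τ = 0 ↔ D.wt a ⬝ᵥ lam = 0) := fun a ha => by
    have h2 := two_sum D (frm 1 lam) ha
    simp only [frm_apply, vecMul_one] at h2
    have h3 : 2 * (D.cor a ⬝ᵥ τ) = (∑ c ∈ Phi D, cp D c a ^ 2) * (D.wt a ⬝ᵥ lam) := by
      rw [dotProduct_sum, Finset.sum_congr rfl fun c _ => show D.cor a ⬝ᵥ (D.wt c ⬝ᵥ lam) • D.wt c = cp D c a * (D.wt c ⬝ᵥ lam) by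
        rw [dotProduct_smul, dotProduct_comm (D.cor a), wt_dot_cor D c ha, smul_eq_mul, mul_comm]]
      exact_mod_cast h2
    have h4 := sum_sq_pos D ha
    exact ⟨fun e => (mul_eq_zero.1 (h3.symm.trans (by rw [e, mul_zero]))).resolve_left h4.ne', fun e => by
      rw [e, mul_zero] at h3
      omega⟩
  obtain ⟨M, h2, hM⟩ := Nat.exists_infinite_primes (n + l + ∑ a ∈ Phi D, (D.cor a ⬝ᵥ τ).natAbs + 1)
  obtain ⟨ζ, hζ⟩ := (Complex.isPrimitiveRoot_exp M hM.ne_zero).isUnit hM.ne_zero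
  have hζ' : IsPrimitiveRoot ζ M := IsPrimitiveRoot.coe_units_iff.1 (hζ ▸ Complex.isPrimitiveRoot_exp M hM.ne_zero)
  have h3 : coch τ ζ ^ M = 1 := by rw [← map_pow, hζ'.pow_eq_one, map_one]
  refine ⟨s * coch τ ζ, ⟨n * M, fun h => (hl.dvd_mul.1 h).elim hn fun h => ?_, by
    rw [mul_pow, pow_mul, hs, one_pow, one_mul, mul_comm, pow_mul, h3, one_pow]⟩, Set.ext fun a => ?_⟩
  · have := (Nat.prime_dvd_prime_iff_eq hl hM).1 h
    omega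
  have h4 : ∀ b, D.Rt b → (chr (D.cor b) (s * coch τ ζ) = 1 ↔ chr (D.cor b) s = 1 ∧ D.wt b ⬝ᵥ lam = 0) := fun b hb => by
    rw [Gl.chr_mul_iff (i := 1) hM (Nat.not_dvd_of_pos_of_lt (Nat.pos_of_ne_zero fun e : n = 0 => hn (e ▸ dvd_zero l)) (by omega)) hs
      (by rw [pow_one, h3]), chr_coch, hζ'.zpow_eq_one_iff_dvd, ← h1 b hb]
    refine and_congr_right fun _ => ⟨fun h => Int.eq_zero_of_dvd_of_natAbs_lt_natAbs h ?_, fun h => ⟨0, h.trans (mul_zero _).symm⟩⟩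
    have := Finset.single_le_sum (f := fun a => (D.cor a ⬝ᵥ τ).natAbs) (fun _ _ => Nat.zero_le _) ((mem_Phi D).2 hb)
    show (D.cor b ⬝ᵥ τ).natAbs < _
    omega
  refine ⟨?_, ?_⟩
  · rintro ⟨⟨⟨b, hb, rfl⟩, e1⟩, e2⟩
    exact ⟨rt_mem hb, (h4 b hb).2 ⟨e2, e1⟩⟩
  · rintro ⟨⟨b, hb, rfl⟩, e⟩
    exact ⟨⟨rt_mem hb, ((h4 b hb).1 e).2⟩, ((h4 b hb).1 e).1⟩

/-- lifting of eigenvectors -/
theorem exists_Q {κ : _root_.Cfsg.Agent.HZ.L.Kd} {n : ℕ} {Φ : Fw D κ (b0 n) 2} {τ : SG n} {B : Mat D.R} (hn : 2 ≤ n) (hτ : X.Tw Φ B τ) {w : D.W}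
    (h : Nm (D.Wm w * B) (rts D)) : ∃ Q : Matrix D.R (Fin n) ℤ, D.Wm w * B * Q = Q * sm (Φ.emb w * τ) ∧
      ∀ a : rts D, a.1.1 ᵥ* Q = (2 : ℤ) • (Φ.φ a).1.1 := by
  choose y h1 h2 using fun i : Fin n => Φ.lift (X.Hyp.two_mem (κ := κ) hn (Pi.single i 1))
  let Q : Matrix D.R (Fin n) ℤ := of fun a i => y i a
  have h3 : ∀ i, Q *ᵥ Pi.single i 1 = y i := fun i => by
    rw [mulVec_single_one]
    rfl
  have h4 : Φ.P * Q = (4 : ℤ) • 1 := ext_of_mulVec_single fun i => by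
    rw [← mulVec_mulVec, h3, (h2 i).1, smul_smul, smul_mulVec, one_mulVec]
    rfl
  have h5 : ∀ v, Q *ᵥ v ∈ Qv (rts D) := fun v => by
    rw [← Finset.univ_sum_single v, mulVec_sum]
    exact sum_mem fun i _ => by
      rw [show (Pi.single i (v i) : Vec (Fin n)) = v i • Pi.single i 1 by rw [← Pi.single_smul', smul_eq_mul, mul_one], mulVec_smul, h3]
      exact Submodule.smul_mem _ _ (h1 i)
  refine ⟨Q, ext_of_mulVec_single fun i => ?_, fun a => smul_right_injective _ (two_ne_zero (α := ℤ)) ?_⟩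
  · rw [← mulVec_mulVec, ← mulVec_mulVec _ Q]
    refine Φ.P_ext (Submodule.sub_mem _ (Qv.nm h (h5 _)) (h5 _)) ?_
    rw [hτ.act, mulVec_mulVec _ Φ.P, mulVec_mulVec _ Φ.P, h4, smul_mulVec, smul_mulVec, one_mulVec, one_mulVec, mulVec_smul]
  · show (2 : ℤ) • _ = (2 : ℤ) • _
    rw [← smul_vecMul, ← Φ.h1, vecMul_vecMul, h4, vecMul_smul, vecMul_one, smul_smul]
    rfl

theorem empty {B : Mat D.R} (hT : ClT D B) {w : D.W} (h : Nm (D.Wm w * B) (rts D)) {Ψ : RS D.R} (hΨ : Ψ ⊆ rts D)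
    (h1 : An Ψ 2 1 (D.Wm w * B)) (h2 : Z2.Good Ψ) (b : Vec D.R × Vec D.R) : b ∉ Ψ := fun hb => by
  obtain ⟨κ, n, Φ, τ, hn, hτ⟩ := hT
  obtain ⟨m, C, d, P, hC, T, h3⟩ := h2
  have H := boxRs C d hC
  obtain ⟨a, ha, -⟩ := T.dn b hb
  obtain ⟨i⟩ : Nonempty (Fin m) := by
    by_contra e
    rw [not_nonempty_iff] at e
    have := H.two a ha
    simp [dotProduct] at this
  choose β e1 e2 e3 using fun i => T.up _ (H.mem i)
  have h4 : ∀ x y, (Φ.φ ⟨β x, hΨ (e1 x)⟩).1.1 ⬝ᵥ (Φ.φ ⟨β y, hΨ (e1 y)⟩).1.2 = C y x := fun x y => by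
    rw [Φ.car, ← e2, dotProduct_mulVec, e3]
    exact dotProduct_single_one _ _
  obtain ⟨c, u, x, y, h5, h6⟩ := key (r := fun x => (Φ.φ ⟨β x, hΨ (e1 x)⟩).1) (fun x => Subtype.prop _)
    (by simpa only [h4] using shape (h3 i))
  obtain ⟨μ, h7, z, h8, h9⟩ := exists_ei (Φ.emb w * τ) c
  obtain ⟨Q, h10, h11⟩ := exists_Q hn hτ h
  have h12 : IsE (D.Wm w * B) μ (Q.map (Int.cast : ℤ → ℂ) *ᵥ z) := by
    rw [IsE, mulVec_mulVec, ← TrL.map_mul', h10, TrL.map_mul', ← mulVec_mulVec, ← mulVec_smul]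
    congr 1
    funext j
    obtain ⟨j, rfl⟩ := (Φ.emb w * τ).π.surjective j
    rw [Pi.smul_apply, smul_eq_mul, ← h8 j]
    simp only [mulVec, dotProduct, sm_apply, KZ.Dat.spm_apply, _root_.Cfsg.Agent.LV.Cl.mul_π, _root_.Equiv.Perm.coe_mul, _root_.Function.comp_apply, _root_.Matrix.map_apply, _root_.EmbeddingLike.apply_eq_iff_eq, _root_.Cfsg.Agent.LV.Cl.mul_s, _root_.Units.val_mul, _root_.Int.cast_ite, _root_.Int.cast_mul, _root_.Int.cast_zero, _root_.ite_mul, _root_.MulZeroClass.zero_mul, _root_.Finset.sum_ite_eq, _root_.Finset.mem_univ, ↓ _root_.reduceIte]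
  have h13 : ∀ x, ev ((2 : ℤ) • (Φ.φ ⟨β x, hΨ (e1 x)⟩).1.1) z = 0 := fun x => by
    rw [← h11, ← TrL.ev_rect]
    exact by_contra fun e => h1 μ h7 ⟨_, h12, _, e1 x, e⟩
  have h14 : ev ((2 : ℤ) • (Pi.single c u : Vec (Fin n))) z = 0 := by
    refine Eq.trans ?_ ((congrArg₂ (· + ·) (h13 x) (h13 y)).trans (add_zero 0))
    rw [← h6]
    simp only [ev, smul_add, Pi.add_apply, Int.cast_add, dotProduct, add_mul, Finset.sum_add_distrib]
  simp only [ev, dotProduct, Pi.single_apply, h5, h9, _root_.Pi.smul_apply, _root_.Int.zsmul_eq_mul, _root_.mul_ite, _root_.MulZeroClass.mul_zero, _root_.Int.cast_ite, _root_.Int.cast_mul, _root_.Int.cast_ofNat, _root_.Int.cast_zero, _root_.ite_mul, _root_.MulZeroClass.zero_mul, _root_.Finset.sum_ite_eq', _root_.Finset.mem_univ, ↓ _root_.reduceIte, _root_.mul_eq_zero, _root_.OfNat.ofNat_ne_zero, _root_.Int.cast_eq_zero, _root_.or_self]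 at h14

end C2

variable {p : ℕ} [Fact p.Prime] {k : Type} [Field k] [CharP k p] [IsAlgClosed k] {Y : Type} [Group Y] {N : Type}
  [Fintype N] [DecidableEq N] {ρ : Y →* GL N k} {F : MulAut Y} {G : Subgroup Y}

/-- **[Cl2]** -/
theorem boxCl2 (D : Datum p ρ F G) : BoxCl2 D := by
  intro j B hq hT q d w ΨL V c s H
  refine ⟨1, ⟨⟨0, one_pow _⟩, fun v => by rw [map_one, map_one], fun a _ => map_one _, fun _ _ v => by rw [map_one, map_one]⟩,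
    fun _ => rfl, .inl fun a _ _ b hb => False.elim ?_⟩
  obtain ⟨e, h1⟩ := H.pq
  obtain ⟨n, h2, h3⟩ := H.fin
  obtain ⟨lam, rfl⟩ := H.lev
  obtain ⟨f, h4, h5⟩ := H.k2
  obtain ⟨t, i, h6, rfl⟩ := H.cs
  obtain ⟨s', h7, h8⟩ := C2.exists_lab Nat.prime_two lam H.od
  haveI := D.amb.finite_GF G
  letI := Fintype.ofFinite ↥(GF F G)
  obtain ⟨h9, m, C, d', P, hC, T⟩ := Z2.base_of Nat.prime_two hq.sc h7
  rw [← h8] at h9 T
  obtain ⟨h10, h11⟩ := Z2.good_of (cuAll_X boxD4 boxX) hC T h9 (C2.nm_Zc h2 h3 H.nmL H.fs) h1 h4 (Co.refl _ _) h5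
  obtain ⟨o, h12, h13⟩ := H.od
  exact C2.empty hT H.nm (fun _ h => h.1.1) h10 h11 b
    ⟨hb.1, ((Gl.chr_mul_iff Nat.prime_two h12 h13 h6 _).1 (mul_one (s * t) ▸ hb.2)).1⟩

end Cfsg.Agent.BZ.RT
end
end

-- part: BZ/RT/Co3/N4
section
prune_inst 0x6205078050580020000000010f2001e83f2000100000b880061a20b060f84ac00804286204800050a90041c8c3834006811100120c210000000003400011e05a19882c006e2c9030cec000f801003590c00000000000000000000000000000000204010000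
set_option linter.all false
open scoped Cfsg.Agent.FastGrp

-- part: OM/Cu/CpT
section
/-!
# OM / Cu : `det (1 - x A_i)` for all classes of `W(E₆)` and `W(E₇)` (helper12)
-/

set_option autoImplicit false
set_option maxRecDepth 100000
set_option Elab.async false

namespace Cfsg.Agent.OM.Cu.Cp

open Cfsg.Agent.BZ.TA Eng Eng.Tb

theorem okE6 : tE6a.Ok (cT 2 6) ![1, 1, 1, 1, 1, 1] 1 :=
  ⟨bs_of basE6a, boxRs _ _ carE6, by decide +kernel, fun _ _ => rfl, fun i hi => rows_ok rowsE6a i (Nat.zero_le _) hi, aL_iff.1 clsE6a⟩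

end Cfsg.Agent.OM.Cu.Cp
end

-- part: BZ/RT/Co3/N4
section
/-!
# BZ / RT (S4853) : fusion of the elliptic classes of `W(D₄)` in `W(E₆)` (helper12)
-/

set_option autoImplicit false
set_option maxRecDepth 100000

namespace Cfsg.Agent.BZ.RT.Co3

open Cfsg Matrix Cfsg.Agent.HZ.L Cfsg.Agent.BZ.TA Cfsg.Agent.OM Cfsg.Agent.OM.Cu Cfsg.Agent.OM.Cu.Eng Cfsg.Agent.OM.Cu.Eng.Tb
  Cfsg.Agent.OM.Cu.Cp

namespace N4

/-- the tables -/
noncomputable def t4 : Tb where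
  n := 4
  K := 13
  R := 12
  nb := 0x441441320441
  ip := 0x3210
  rt := 0x33430000112100004424000011110000443200001110000042340000101100002434000001110000424200001010000024420000011000002244000000110000532300001000000035230000010000002252000000100000332500000001
  nx := 0xb0b0a0b0000000007080b09000000000506090a00000000040a0806000000000a0407050000000001090308000000000901020700000000080700010000000000030603000000000200050200000000060500040000000000000400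
  cw := 0x2110c8458c000000000000000000000000000000000000000000000000000000000000000000000000000000000000000000000008458600000000000000000000000000000000000000000000000000000000000000000000000000000000000000000000000029840000000000000000000000000000000000000000000000000000000000000000000000000000000000000000000000000983000000000000000000000000000000000000000000000000000000000000000000000000000000000000000000000000298300000000000000000000000000000000000000000000000000000000000000000000000000000000000000000000000005830000000000000000000000000000000000000000000000000000000000000000000000000000000000000000000000000503000000000000000000000000000000000000000000000000000000000000000000000000000000000000000000000000098200000000000000000000000000000000000000000000000000000000000000000000000000000000000000000000000001820000000000000000000000000000000000000000000000000000000000000000000000000000000000000000000000000102000000000000000000000000000000000000000000000000000000000000000000000000000000000000000000000000008200000000000000000000000000000000000000000000000000000000000000000000000000000000000000000000000000010000000000000000000000000000000000000000000000000000000000000000000000000000000000000000000000000000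
  od := 0x2040602040404020202030201
  bd := 0x41044061616160606060a0602
  jt := 0x909090909090909090909090608070707080808060607060908090607070609060708080c0a0a0a0a0a0a0a03040a050a0a050b0b02020a0202050a0a0b0a020a040b04020a02020a0b0a0a020b03030a020202090808080808080801010809090707070707070701090701090606060606060609010601080808070607060107060101050202020202020204030200010101010101010101010101

/-- row -/
noncomputable def r4_0 : List ℕ :=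
  [0x14c84, 0x2983, 0x10984, 0x582, 0x502, 0x2183, 0x2103, 0x81, 0x10c84, 0x10884, 0x402, 0x0]

/-- row -/
noncomputable def r4_1 : List ℕ :=
  [0x10884, 0x982, 0x983, 0x181, 0x101, 0x182, 0x102, 0x0, 0x0, 0x0, 0x1, 0x0]

/-- row -/
noncomputable def r4_2 : List ℕ :=
  [0x14405, 0x503, 0x4584, 0x0, 0x0, 0x402, 0x402, 0x0, 0x181, 0x101, 0x81, 0x402]

/-- row -/
noncomputable def r4_3 : List ℕ :=
  [0x10884, 0x982, 0x983, 0x181, 0x101, 0x182, 0x102, 0x0, 0x0, 0x0, 0x1, 0x10884]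

/-- row -/
noncomputable def r4_4 : List ℕ :=
  [0x10c84, 0x982, 0x983, 0x181, 0x101, 0x182, 0x102, 0x0, 0x0, 0x0, 0x1, 0x10c84]

/-- row -/
noncomputable def r4_5 : List ℕ :=
  [0x14c84, 0x402, 0x81, 0x182, 0x102, 0x181, 0x101, 0x1, 0x10884, 0x10c84, 0x0, 0x0]

/-- row -/
noncomputable def r4_6 : List ℕ :=
  [0x4403, 0x81, 0x6504, 0x0, 0x0, 0xc82, 0x402, 0x0, 0x181, 0x101, 0x882, 0x4403]

/-- row -/
noncomputable def r4_7 : List ℕ :=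
  [0x6403, 0x502, 0x4584, 0x0, 0x0, 0x402, 0x1, 0x0, 0x181, 0x101, 0xc82, 0x6403]

/-- row -/
noncomputable def r4_8 : List ℕ :=
  [0x402, 0x2983, 0x81, 0xc82, 0x1, 0x4403, 0x6403, 0x1, 0x22184, 0x32104, 0x0, 0x0]

/-- row -/
noncomputable def r4_9 : List ℕ :=
  [0x0, 0x82, 0x403, 0x181, 0x101, 0x182, 0x102, 0x0, 0x0, 0x0, 0x1, 0x0]

/-- row -/
noncomputable def r4_10 : List ℕ :=
  [0x402, 0x82, 0x2983, 0x0, 0x0, 0x22c84, 0x26404, 0x0, 0x181, 0x101, 0x1, 0x0]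

/-- row -/
noncomputable def r4_11 : List ℕ :=
  [0x81, 0x4404, 0x14404, 0x882, 0x1, 0x2884, 0x1, 0x101, 0x582, 0x26404, 0x101, 0x4c83]

/-- row -/
noncomputable def r4_12 : List ℕ :=
  [0x0, 0x81, 0x402, 0x502, 0x582, 0x2103, 0x2183, 0x2983, 0x10884, 0x10c84, 0x10984, 0x14c84]

/-- rows -/
noncomputable def r4 : List (List ℕ) :=
  [ r4_0, r4_1, r4_2, r4_3, r4_4, r4_5, r4_6, r4_7, r4_8, r4_9, r4_10, r4_11, r4_12]

/-- the coefficients of `det (1 - x A_i)` -/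
def cp4 : List (List ℤ) :=
  [[1, -4, 6, -4, 1], [1, -2, 0, 2, -1], [1, -1, 0, -1, 1], [1, 0, -2, 0, 1], [1, 0, -2, 0, 1], [1, 0, -2, 0, 1], [1, 0, 0, 0, -1], [1, 0, 0, 0, -1], [1, 0, 0, 0, -1], [1, 2, 0, -2, -1], [1, 1, 0, 1, 1], [1, 0, 2, 0, 1], [1, 4, 6, 4, 1]]

theorem ok4 : t4.Ok (cT 1 4) ![1, 1, 1, 1] 1 :=
  ⟨bs_of (by decide +kernel), boxRs _ _ carD4, by decide +kernel, fun _ _ => rfl,
    fun i hi => rows_ok (L := r4) (i₀ := 0) (by decide +kernel) i (Nat.zero_le _) hi, aL_iff.1 (by decide +kernel)⟩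

theorem cp4_ok : ∀ i < 13, cpk t4 i (cp4.getD i []) = true := by decide +kernel

/-- the nodes `1, 2, 3, 5` -/
def inc : Matrix (Fin 6) (Fin 4) ℤ := !![0, 0, 0, 0; 1, 0, 0, 0; 0, 1, 0, 0; 0, 0, 1, 0; 0, 0, 0, 0; 0, 0, 0, 1]

/-- the roots of `D₄` -/
noncomputable def p4 (t : ℕ) : Vec (Fin 4) × Vec (Fin 4) := t4.rr t

/-- the roots of `E₆` -/
noncomputable def p6 (t : ℕ) : Vec (Fin 6) × Vec (Fin 6) := tE6a.rr t

/-- the classes of `D₄` -/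
noncomputable def A4 (i : ℕ) : Mat (Fin 4) := t4.AA (cT 1 4) 1 i

theorem cl4 {X : Mat (Fin 4)} (h : X ∈ WW (Rc (cm 4 (cT 1 4)))) : ∃ i < 13, ∃ g ∈ Wc (cm 4 (cT 1 4)), A4 i * g = g * X :=
  ok4.closure (A := X) ⟨X, h, by rw [Cu.pm_one]; exact (mul_one X).symm⟩

theorem tab : (∀ t < 12, ∃ u < 36, inc *ᵥ (p4 t).2 = (p6 u).2 ∧ (p6 u).1 ᵥ* inc = (p4 t).1) ∧
    ∀ u < 36, tE6a.co u 0 = 0 → tE6a.co u 4 = 0 → ∃ t < 12, inc *ᵥ (p4 t).2 = (p6 u).2 ∧ (p6 u).1 ᵥ* inc = (p4 t).1 := by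
  decide +kernel

theorem inc_vec (v : Fin 4 → ℤ) : inc *ᵥ v = ![0, v 0, v 1, v 2, 0, v 3] := by
  funext i
  fin_cases i <;> simp [inc, mulVec, dotProduct, Fin.sum_univ_four]

/-- **`D₄` in `E₆`** -/
theorem tr4 : Cu.Tr inc (Rc (cm 4 (cT 1 4))) P4 := by
  have r6 : Cu.Rs E6 _ := okE6.rs
  have r4 : Cu.Rs (cm 4 (cT 1 4)) _ := ok4.rs
  refine ⟨fun v h => funext fun i => ?_, fun a ha => ?_, fun b hb => ?_, fun b hb b' hb' => r6.ext b hb.1 b' hb'.1,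
    fun b hb a ha => ?_⟩
  · rw [inc_vec] at h
    fin_cases i
    exacts [congrFun h 1, congrFun h 2, congrFun h 3, congrFun h 5]
  · obtain ⟨t, ht, e⟩ : ∃ t < 12, a = p4 t ∨ a = -p4 t := ok4.bs.rr_all ok4.rs ha
    obtain ⟨u, hu, e1, e2⟩ := tab.1 t ht
    have k : p6 u ∈ Rc E6 := okE6.bs.rr_mem okE6.rs u hu
    rcases e with rfl | rfl
    · exact ⟨_, ⟨k, (congrFun e1 0).symm.trans (congrFun (inc_vec _) 0), (congrFun e1 4).symm.trans (congrFun (inc_vec _) 4)⟩, e1, e2⟩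
    · exact ⟨-p6 u, ⟨r6.neg _ k, neg_eq_zero.2 ((congrFun e1 0).symm.trans (congrFun (inc_vec _) 0)),
        neg_eq_zero.2 ((congrFun e1 4).symm.trans (congrFun (inc_vec _) 4))⟩, (mulVec_neg _ _).trans (congrArg Neg.neg e1),
        (neg_vecMul _ _).trans (congrArg Neg.neg e2)⟩
  · obtain ⟨u, hu, e⟩ : ∃ u < 36, b = p6 u ∨ b = -p6 u := okE6.bs.rr_all okE6.rs hb.1
    rcases e with rfl | rfl
    · obtain ⟨t, ht, e1, e2⟩ := tab.2 u hu (Int.natCast_eq_zero.1 hb.2.1) (Int.natCast_eq_zero.1 hb.2.2)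
      exact ⟨_, ok4.bs.rr_mem ok4.rs t ht, e1, e2⟩
    · obtain ⟨t, ht, e1, e2⟩ := tab.2 u hu (Int.natCast_eq_zero.1 (neg_eq_zero.1 hb.2.1)) (Int.natCast_eq_zero.1 (neg_eq_zero.1 hb.2.2))
      exact ⟨-p4 t, r4.neg _ (ok4.bs.rr_mem ok4.rs t ht), (mulVec_neg _ _).trans (congrArg Neg.neg e1),
        (neg_vecMul _ _).trans (congrArg Neg.neg e2)⟩
  · obtain ⟨c, hc, e1, e2⟩ := r6.nm _ (r6.ww ▸ rfm_mem hb.1) a ha.1
    refine ⟨c, ⟨hc, ?_, ?_⟩, e1, e2⟩ <;> rw [← e1, Cu.rfm_mulVec, Pi.sub_apply, Pi.smul_apply]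
    · rw [ha.2.1, hb.2.1, smul_zero, sub_zero]
    · rw [ha.2.2, hb.2.2, smul_zero, sub_zero]

theorem det2 {R : Type} [Fintype R] [DecidableEq R] {A B g u : Mat R} (e : A * g = g * B) (h : u * g = 1) :
    ((2 : ℤ) • A - 1).det = ((2 : ℤ) • B - 1).det := by
  have h1 : ((2 : ℤ) • A - 1) * g = g * ((2 : ℤ) • B - 1) := by rw [sub_mul, mul_sub, smul_mul_assoc, mul_smul_comm, e, one_mul, mul_one]
  have h2 := congrArg det h1
  have h3 := congrArg det h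
  rw [det_mul, det_mul, mul_comm] at h2
  rw [det_mul, det_one] at h3
  exact mul_left_cancel₀ (right_ne_zero_of_mul (h3.trans_ne one_ne_zero)) h2

theorem det4 {X : Mat (Fin 6)} {Y : Mat (Fin 4)} (hX : X ∈ WW P4) (e : X * inc = inc * Y) :
    ((2 : ℤ) • X - 1).det = ((2 : ℤ) • Y - 1).det := by
  obtain ⟨Z, rfl, rfl⟩ := Co2.exists_Z tr4 hX e
  have h := det_one_add_mul_comm inc ((2 : ℤ) • Z)
  rw [Matrix.mul_smul, Matrix.smul_mul] at h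
  convert h using 2 <;> module

theorem sep : ∀ i < 13, ∀ j < 13, ∑ k ∈ Finset.range 5, (cp4.getD i []).getD k 0 * 2 ^ k =
    ∑ k ∈ Finset.range 5, (cp4.getD j []).getD k 0 * 2 ^ k → t4.ba j 1 = true ∨ i = j := by decide +kernel

end N4

open N4 in
/-- **[N4]** -/
theorem boxN4 : BoxN4 := by
  intro V hV X hX U hU e hn
  have r4 : Cu.Rs (cm 4 (cT 1 4)) _ := ok4.rs
  obtain ⟨X', h1, e1⟩ := tr4.ww_dn hX
  obtain ⟨U', h2, e2⟩ := tr4.ww_dn hU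
  obtain ⟨i, hi, g, hg, a1⟩ := cl4 h1
  obtain ⟨j, hj, g', hg', a2⟩ := cl4 h2
  obtain ⟨v, -, v1, -⟩ := okE6.rs.inv V hV
  obtain ⟨u, -, u1, -⟩ := r4.inv g hg
  obtain ⟨u', hu', u2, u3⟩ := r4.inv g' hg'
  have h3 := (det2 a1 u1).trans ((det4 hX e1).symm.trans ((det2 e.symm v1).symm.trans ((det4 hU e2).trans (det2 a2 u2).symm)))
  have h4 := (det_eq ok4 (cp4_ok i hi) 2).symm.trans (h3.trans (det_eq ok4 (cp4_ok j hj) 2))
  have h5 : u' * A4 j = U' * u' := by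
    calc _ = u' * (A4 j * g') * u' := by rw [mul_assoc, mul_assoc, u3, mul_one]
      _ = _ := by rw [a2, ← mul_assoc, u2, one_mul]
  rcases sep i hi j hj (mul_left_cancel₀ (by decide) h4) with k | rfl
  · obtain ⟨μ, k1, y, k2, b, -, k3⟩ : Cu.Bad (Rc (cm 4 (cT 1 4))) 1 (A4 j) := (ok4.ord hj).2.2 1 (by norm_num) k
    obtain ⟨z, z0, hz⟩ := eig_conj k2 (fun k => k3 (by simp [k, ev])) h5 u3
    rw [IsPrimitiveRoot.one_right_iff.1 k1] at hz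
    refine absurd (tr4.eig_up e2 ⟨z, hz, ?_⟩) hn
    by_contra! k
    exact z0 (r4.topC z k)
  · obtain ⟨a, ha, e3⟩ := tr4.ww_up (r4.ww ▸ mul_mem hu' hg)
    refine ⟨a, ha, tr4.eq_of r4 (mul_mem ha hX) (mul_mem hU ha) ?_⟩
    rw [Cu.Tr.mul e3 e1, Cu.Tr.mul e2 e3, mul_assoc, ← a1, ← mul_assoc, h5, mul_assoc]

end Cfsg.Agent.BZ.RT.Co3
end

private theorem dce_c37eef9a8916 : _root_.True := by
  try have : _root_.True := by simp only [_root_.Cfsg.Agent.BZ.RT.Co3.N4.inc.eq_1]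
  exact _root_.True.intro
end

-- part: BZ/RT/C5A
section
prune_inst 0x62450780501800200001c0010f2000202c200000200400800e0e20a040b45ac40a04280016420051a10101c18380400400010002080300000000034000006052198a2c000f2c9010ce4000f803006410000000000000000000000000000000000204010000
set_option linter.all false
open scoped Cfsg.Agent.FastGrp

/-!
# BZ / RT : no cuspidal function inside an inner system of type `A` (helper24)

`boxA`.
-/

set_option autoImplicit false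
set_option linter.unusedSectionVars false
set_option maxHeartbeats 400000

namespace Cfsg.Agent.BZ.RT.C5

open Cfsg Matrix Equiv Cfsg.Agent.DL Cfsg.Agent.HZ.L Cfsg.Agent.BZ.TA Cfsg.Agent.OM Cfsg.Agent.OM.Cu
open Cfsg.Agent.LV.Cl (SG sw)
open Cfsg.Agent.OM.Cu.A78 (ee ee_dot pm_ee ee_pm rfm_ee)

namespace A24

variable {R I K : Type} [Fintype R] [DecidableEq R] [Fintype I] [DecidableEq I] [Fintype K] [DecidableEq K]

theorem ee_inj {i j i' j' : K} (h : i ≠ j) (e : ee i j = ee i' j') : i = i' ∧ j = j' := by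
  have h1 := congrFun e i
  have h2 := congrFun e j
  simp only [ee, Pi.sub_apply, Pi.single_apply, if_neg h, if_neg h.symm, if_true] at h1 h2
  exact ⟨by_contra fun k => by rw [if_neg k] at h1; split_ifs at h1 <;> omega,
    by_contra fun k => by rw [if_neg k] at h2; split_ifs at h2 <;> omega⟩

theorem neg_mem {Φ : RS R} {b : Vec R × Vec R} (h : Nm (rfm b) Φ) (hb : b ∈ Φ) (h2 : b.1 ⬝ᵥ b.2 = 2) : -b ∈ Φ := by
  obtain ⟨c, hc, h3, h4⟩ := h b hb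
  have h5 : c.1 = -b.1 := by
    rw [← vecMul_one c.1, ← rfm_sq h2, ← vecMul_vecMul, h4, vecMul_rfm, h2]
    module
  have h6 : c.2 = -b.2 := by
    rw [← h3, rfm_mulVec, h2]
    module
  exact (Prod.ext h5 h6 : c = -b) ▸ hc

/-- the simple coroots -/
def fr (lo hi : I → K) : Matrix K I ℤ := of fun r j => ee (lo j) (hi j) r

/-- the frames -/
structure Fr (C : Mat I) (lo hi : I → K) : Prop where
  ne : ∀ i, lo i ≠ hi i
  car : ∀ i j, C j i = ee (lo i) (hi i) ⬝ᵥ ee (lo j) (hi j)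

/-- `X` acts as `σ` -/
structure Fq (lo hi : I → K) (X : Mat I) (σ : Perm K) : Prop where
  e : pm σ * fr lo hi = fr lo hi * X
  off : ∀ x, (∀ i, x ≠ lo i ∧ x ≠ hi i) → σ x = x

/-- the root of a transposition -/
structure Rt (lo hi : I → K) (a : Vec I × Vec I) (i j : K) : Prop where
  ne : i ≠ j
  c : fr lo hi *ᵥ a.2 = ee i j
  r : ee i j ᵥ* fr lo hi = a.1
  q : Fq lo hi (rfm a) (swap i j)

variable {C X X' w : Mat I} {D : I → ℤ} {lo hi : I → K} {σ σ' : Perm K} {a : Vec I × Vec I} {i j : K}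

theorem fr_single (k : I) : fr lo hi *ᵥ (sp C k).2 = ee (lo k) (hi k) := mulVec_single_one _ _

theorem Fq.one : Fq lo hi 1 1 := ⟨by rw [A78.pm_one, Matrix.one_mul, Matrix.mul_one], fun _ _ => rfl⟩

theorem Fq.mul (h : Fq lo hi X σ) (h' : Fq lo hi X' σ') : Fq lo hi (X * X') (σ * σ') :=
  ⟨by rw [A78.pm_mul, Matrix.mul_assoc, h'.e, ← Matrix.mul_assoc, h.e, Matrix.mul_assoc],
    fun x k => by rw [Perm.mul_apply, h'.off x k, h.off x k]⟩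

theorem Fq.pow (h : Fq lo hi X σ) (m : ℕ) : Fq lo hi (X ^ m) (σ ^ m) := by
  induction m with
  | zero => exact Fq.one
  | succ m ih => rw [pow_succ, pow_succ]; exact ih.mul h

namespace Fr

variable (F : Fr C lo hi)
include F

theorem ee_fr (k : I) : ee (lo k) (hi k) ᵥ* fr lo hi = (sp C k).1 := funext fun j => (F.car k j).symm

theorem uniq (h : Fq lo hi X σ) (h' : Fq lo hi X σ') : σ = σ' := Equiv.ext fun x => by
  have k : ∀ k, σ (lo k) = σ' (lo k) ∧ σ (hi k) = σ' (hi k) := fun k => ee_inj (σ.injective.ne (F.ne k)) (by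
    rw [← pm_ee, ← pm_ee, ← fr_single (C := C), mulVec_mulVec, mulVec_mulVec, h.e, h'.e])
  by_cases e : ∀ i, x ≠ lo i ∧ x ≠ hi i
  · rw [h.off x e, h'.off x e]
  · obtain ⟨i, e⟩ := not_forall.1 e
    obtain e | e := not_and_or.1 e <;> obtain rfl := not_not.1 e
    exacts [(k i).1, (k i).2]

theorem wc (hw : w ∈ Wc C) : ∃ σ, Fq lo hi w σ := by
  induction hw using Submonoid.closure_induction with
  | mem _ h =>
    obtain ⟨_, ⟨k, rfl⟩, rfl⟩ := h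
    exact ⟨swap (lo k) (hi k), rfm_ee (F.ne k) ▸ TrL.rfm_mul (fr_single k) (F.ee_fr k),
      fun x e => swap_apply_of_ne_of_ne (e k).1 (e k).2⟩
  | one => exact ⟨1, Fq.one⟩
  | mul _ _ _ _ h h' => exact let ⟨_, a⟩ := h; let ⟨_, b⟩ := h'; ⟨_, a.mul b⟩

theorem root (H : Rs C D) (ha : a ∈ Rc C) : ∃ i j, Rt lo hi a i j := by
  obtain ⟨w, hw, k, h1, h2⟩ := ha
  obtain ⟨σ, e⟩ := F.wc hw
  obtain ⟨u, -, -, h3⟩ := H.inv w hw
  have h4 : σ (lo k) ≠ σ (hi k) := σ.injective.ne (F.ne k)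
  have h5 : fr lo hi *ᵥ a.2 = ee (σ (lo k)) (σ (hi k)) := by rw [← h1, mulVec_mulVec, ← e.e, ← mulVec_mulVec, fr_single, pm_ee]
  have h6 : ee (σ (lo k)) (σ (hi k)) ᵥ* fr lo hi = a.1 := by
    rw [← vecMul_one a.1, ← h3, ← vecMul_vecMul, h2, ← F.ee_fr, ← ee_pm σ (lo k), vecMul_vecMul, vecMul_vecMul, ← Matrix.mul_assoc, e.e,
      Matrix.mul_assoc, h3, Matrix.mul_one]
  refine ⟨_, _, h4, h5, h6, rfm_ee h4 ▸ TrL.rfm_mul h5 h6, fun x hx => swap_apply_of_ne_of_ne (fun h => ?_) fun h => ?_⟩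
  exacts [(hx k).1 (σ.injective ((e.off x hx).trans h)), (hx k).2 (σ.injective ((e.off x hx).trans h))]

theorem cancel (H : Rs C D) (h : fr lo hi * X = fr lo hi * X') : X = X' := mat_ext fun v => sub_eq_zero.1 (H.top _ fun a ha => by
  obtain ⟨i, j, r⟩ := F.root H ha
  rw [← r.r, ← dotProduct_mulVec, mulVec_sub, mulVec_mulVec, mulVec_mulVec, h, sub_self, dotProduct_zero])

/-- the fixed vector which is moved by a transposition of two cycles -/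
theorem avg (H : Rs C D) (h : Fq lo hi X σ) (r : Rt lo hi a i j) (h1 : ∀ k : ℕ, (σ ^ k) i ≠ j ∧ (σ ^ k) j ≠ i) :
    ∃ x : Vec I, X *ᵥ x = x ∧ a.1 ⬝ᵥ x ≠ 0 := by
  have h2 : X ^ orderOf σ = 1 := F.cancel H (by rw [← (h.pow _).e, pow_orderOf_eq_one, Fq.one.e])
  refine ⟨∑ k ∈ Finset.range (orderOf σ), (X ^ k) *ᵥ a.2, ?_, ne_of_gt ?_⟩
  · have h3 := (Finset.sum_range_succ' (fun k => (X ^ k) *ᵥ a.2) (orderOf σ)).symm.trans (Finset.sum_range_succ _ _)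
    rw [h2, pow_zero, add_left_inj] at h3
    rw [mulVec_sum, ← h3]
    exact Finset.sum_congr rfl fun k _ => by rw [mulVec_mulVec, pow_succ']
  · have h3 : ∀ k : ℕ, a.1 ⬝ᵥ (X ^ k) *ᵥ a.2 = (if i = (σ ^ k) i then 1 else 0) + if j = (σ ^ k) j then 1 else 0 := fun k => by
      rw [← r.r, ← dotProduct_mulVec, mulVec_mulVec, ← (h.pow k).e, ← mulVec_mulVec, r.c, pm_ee, ee_dot]
      simp only [ee, Pi.sub_apply, Pi.single_apply, if_neg (h1 k).1.symm, if_neg (h1 k).2.symm]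
      ring
    rw [dotProduct_sum]
    refine Finset.sum_pos' (fun k _ => ?_) ⟨0, Finset.mem_range.2 (orderOf_pos σ), ?_⟩
    · rw [h3]
      (first | (omega; done) | (split_ifs <;> omega))
    · rw [h3]
      simp

end Fr

variable {n : ℕ} {lo hi : I → Fin n} {P : Matrix R I ℤ} {Θ Φ : RS R} {A M M' : Mat R} {g h h' t : SG n} {f : Mat R → ℂ}

/-- `M` acts as the permutation `h` -/
def Rp (P : Matrix R I ℤ) (lo hi : I → Fin n) (M : Mat R) (h : SG n) : Prop :=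
  (∀ x, h.s x = 1) ∧ ∃ X, M * P = P * X ∧ Fq lo hi X h.π

theorem Rp.one : Rp P lo hi 1 1 := ⟨fun _ => rfl, 1, by rw [Matrix.one_mul, Matrix.mul_one], Fq.one⟩

theorem Rp.mul (a : Rp P lo hi M h) (b : Rp P lo hi M' h') : Rp P lo hi (M * M') (h * h') :=
  let ⟨_, a1, a2⟩ := a.2
  let ⟨_, b1, b2⟩ := b.2
  ⟨fun x => by rw [LV.Cl.mul_s, a.1, b.1, mul_one], _, by rw [Matrix.mul_assoc, b1, ← Matrix.mul_assoc, a1, Matrix.mul_assoc], a2.mul b2⟩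

theorem core (H : Rs C D) (T : Tr P (Rc C) Θ) (F : Fr C lo hi) (hw : w ∈ Wc C) (hA : A * P = P * w) (e : Φ ⊆ Θ) (n1 : Nm A Φ)
    (n2 : ∀ b ∈ Φ, Nm (rfm b) Φ) (Y : Hy0 Φ A 1 f) (h0 : f A ≠ 0) : Φ = ∅ := by
  classical
  have uq : ∀ {M h h'}, Rp P lo hi M h → Rp P lo hi M h' → h = h' := by
    rintro M h h' ⟨a0, X, a1, a2⟩ ⟨b0, X', b1, b2⟩
    obtain rfl := T.cancel (a1.symm.trans b1)
    exact SG.ext (F.uniq a2 b2) (funext fun x => (a0 x).trans (b0 x).symm)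
  have qu : ∀ {M M' h}, Rp P lo hi M h → Rp P lo hi M' h → M * P = M' * P := by
    rintro M M' h ⟨-, X, a1, a2⟩ ⟨-, X', b1, b2⟩
    rw [a1, b1, F.cancel H (a2.e.symm.trans b2.e)]
  have rt : ∀ b ∈ Φ, ∃ a i j, Rt lo hi a i j ∧ b.1 ᵥ* P = a.1 ∧ b.1 ⬝ᵥ b.2 = 2 ∧ Rp P lo hi (rfm b) (sw i j 1) := fun b hb => by
    obtain ⟨a, ha, h1, h2⟩ := T.dn b (e hb)
    obtain ⟨i, j, r⟩ := F.root H ha
    exact ⟨a, i, j, r, h2, by rw [← h1, dotProduct_mulVec, h2, H.two a ha], fun _ => ite_self _, _, TrL.rfm_mul h1 h2, r.q⟩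
  have k0 : ∀ u ∈ WW Φ, ∀ u' ∈ WW Φ, u * P = u' * P → u = u' := fun u h1 u' h2 => T.eq_of H (WW_mono e h1) (WW_mono e h2)
  have k1 : ∀ {M M' h}, Co Φ A M → Co Φ A M' → Rp P lo hi M h → Rp P lo hi M' h → M = M' := by
    rintro _ _ h ⟨u, h1, rfl⟩ ⟨u', h2, rfl⟩ h3 h4
    obtain ⟨v, -, -, h5⟩ := H.inv w hw
    have h6 := congrArg (fun Z : Matrix R I ℤ => Z * v) (qu h3 h4)
    simp only [Matrix.mul_assoc, hA, h5, Matrix.mul_one] at h6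
    rw [k0 u h1 u' h2 h6]
  obtain ⟨σ, hσ⟩ := F.wc hw
  have hg : Rp P lo hi A ⟨σ, fun _ => 1⟩ := ⟨fun _ => rfl, w, hA, hσ⟩
  generalize (⟨σ, fun _ => 1⟩ : SG n) = g at hg
  let f' : SG n → ℂ := fun h => if k : ∃ M, Co Φ A M ∧ Rp P lo hi M h then f k.choose else 0
  have k2 : ∀ {M h}, Co Φ A M → Rp P lo hi M h → f' h = f M := fun {M h} h1 h2 => by
    have h3 : ∃ M, Co Φ A M ∧ Rp P lo hi M h := ⟨M, h1, h2⟩
    exact (dif_pos h3).trans (congrArg f (k1 h3.choose_spec.1 h1 h3.choose_spec.2 h2))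
  have k3 : ∀ {h}, (¬ ∃ M, Co Φ A M ∧ Rp P lo hi M h) → f' h = 0 := fun k => dif_neg k
  have k5 : ∀ b ∈ Φ, rfm b * rfm b = 1 := fun b hb => let ⟨_, _, _, _, _, h, _⟩ := rt b hb; rfm_sq h
  have k6 : ∀ {b t}, b ∈ Φ → Rp P lo hi (rfm b) t → t * t = 1 := fun hb h1 => uq (h1.mul h1) (k5 _ hb ▸ Rp.one)
  let Rf : Set (SG n) := {t | ∃ b ∈ Φ, Rp P lo hi (rfm b) t}
  let Q := (Set.toFinite Rf).toFinset
  have k7 : ∀ {t}, t ∈ Q ↔ ∃ b ∈ Φ, Rp P lo hi (rfm b) t := Set.Finite.mem_toFinset _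
  have cj : ∀ {M h}, Rp P lo hi M h → Nm M Φ → ∀ t ∈ Q, h * t * h⁻¹ ∈ Q := fun {M h} a h1 t ht => by
    obtain ⟨b, hb, h2⟩ := k7.1 ht
    obtain ⟨b', hb', h3, h4⟩ := h1 b hb
    obtain ⟨_, i, j, -, -, -, h6⟩ := rt b' hb'
    rw [uq (a.mul h2) (mul_rfm h3 h4 ▸ h6.mul a), mul_inv_cancel_right]
    exact k7.2 ⟨b', hb', h6⟩
  have eg : ∀ {M h y t}, Rp P lo hi M h → Cc.IsV h (1 : ℂ) y → t ∈ Q → ¬ Cc.IsV t 1 y → OM.Cu.Bad Φ 1 M := by
    rintro M h y t ⟨a0, X, a1, a2⟩ h1 ht h2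
    obtain ⟨b, hb, h3⟩ := k7.1 ht
    obtain ⟨a, i, j, r, h4, -, h5⟩ := rt b hb
    obtain rfl := uq h3 h5
    rw [Cc.isV_sw, Units.val_one, Int.cast_one, one_mul] at h2
    have h6 : ∀ (k : ℕ) x, y ((h.π ^ k) x) = y x := fun k x => by
      induction k with
      | zero => rfl
      | succ k ih => rw [pow_succ', Perm.mul_apply, ← ih, ← one_mul (y (h.π _)), ← h1, a0, Units.val_one, Int.cast_one, one_mul]
    obtain ⟨x, h7, h8⟩ := F.avg H a2 r fun k => ⟨fun e => h2 (by rw [← h6 k i, e]), fun e => h2 (by rw [← h6 k j, e])⟩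
    refine ⟨1, .one, _, Ck.isE_int (v := P *ᵥ x) (by rw [mulVec_mulVec, a1, ← mulVec_mulVec, h7]), b, hb, ?_⟩
    rwa [Ck.ev_int, dotProduct_mulVec, h4, Int.cast_ne_zero]
  have H' : Cc.Cu Q 1 f' := by
    refine ⟨one_ne_zero, fun t ht => ?_, fun t ht u hu => ?_, fun t ht h => ?_, fun h y h1 t ht h2 => ?_, fun h y h1 t ht h2 => ?_⟩
    · obtain ⟨b, hb, h1⟩ := k7.1 ht
      obtain ⟨_, i, j, r, -, -, h2⟩ := rt b hb
      exact .inl ⟨i, j, 1, r.ne, uq h1 h2⟩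
    · obtain ⟨b, hb, h1⟩ := k7.1 ht
      exact cj h1 (n2 b hb) u hu
    · obtain ⟨a, ha, h1⟩ := k7.1 ht
      by_cases h2 : ∃ M, Co Φ A M ∧ Rp P lo hi M h
      · obtain ⟨M, h2, h3⟩ := h2
        have h4 := h2.mul_right n1 (rfm_mem ha)
        rw [mul_assoc, k2 (h4.rf ha) (h1.mul (h3.mul h1)), Y.cj _ (rfm_mem ha) _ h4, mul_assoc, k5 a ha, mul_one, k2 h2 h3]
      · refine (k3 fun ⟨M, h3, h4⟩ => h2 ⟨_, (h3.mul_right n1 (rfm_mem ha)).rf ha, ?_⟩).trans (k3 h2).symm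
        have h5 := h1.mul (h4.mul h1)
        rwa [mul_assoc (t * h), k6 ha h1, mul_one, ← mul_assoc t, k6 ha h1, one_mul] at h5
    · by_cases h3 : ∃ M, Co Φ A M ∧ Rp P lo hi M h
      · obtain ⟨M, h3, h4⟩ := h3
        rw [k2 h3 h4, Y.bad M h3 (eg h4 h1 ht h2)]
      · exact k3 h3
    · by_cases h3 : ∃ M, Co Φ A M ∧ Rp P lo hi M h
      · obtain ⟨M, h3, h4⟩ := h3
        have h5 : ∀ x ∈ rfm '' Φ, ∃ u, Rp P lo hi x u := by
          rintro _ ⟨b, hb, rfl⟩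
          obtain ⟨_, i, j, -, -, -, h2⟩ := rt b hb
          exact ⟨_, h2⟩
        choose! τ h5 using h5
        rw [← finsum_mem_coe_finset, Set.Finite.coe_toFinset, ← Y.rel M h3 (eg h4 h1 ht h2)]
        refine (finsum_mem_eq_of_bijOn τ ⟨?_, ?_, ?_⟩ ?_).symm
        · rintro _ ⟨a, ha, rfl⟩
          exact ⟨a, ha, h5 _ ⟨a, ha, rfl⟩⟩
        · intro x hx x' hx' h6
          exact k0 x (Submonoid.subset_closure hx) x' (Submonoid.subset_closure hx') (qu (h5 x hx) (h6 ▸ h5 x' hx'))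
        · rintro u ⟨a, ha, h6⟩
          exact ⟨_, ⟨a, ha, rfl⟩, uq (h5 _ ⟨a, ha, rfl⟩) h6⟩
        · exact fun x hx => (k2 (h3.mul (Submonoid.subset_closure hx)) ((h5 x hx).mul h4)).symm
      · refine Finset.sum_eq_zero fun u hu => k3 fun ⟨M, h4, h5⟩ => ?_
        obtain ⟨a, ha, h6⟩ := k7.1 hu
        have h7 := h6.mul h5
        rw [← mul_assoc u, k6 ha h6, one_mul] at h7
        exact h3 ⟨_, h4.rf ha, h7⟩
  refine Set.eq_empty_of_forall_notMem fun b hb => ?_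
  obtain ⟨_, i, j, r, -, -, h2⟩ := rt b hb
  have h3 := (H'.kill (i := i) (cj hg n1) (k2 (Co.refl Φ A) hg ▸ h0)
    ⟨fun _ => 1, fun x => by rw [hg.1, Units.val_one, Int.cast_one], one_ne_zero⟩ (k7.2 ⟨b, hb, h2⟩)).1
  exact r.ne (h3.symm.trans (swap_apply_left i j))

end A24

open A24 in
/-- **[A]** -/
theorem boxA : BoxA := by
  intro R I _ _ _ _ C D P Θ Φ A w ε e d f hC T _ hc hw hA _ hs n1 n2 hε Y h0
  have H := boxRs C D hC
  have hb : ∀ i, e i + 1 < Finset.univ.sup e + 2 := fun i => by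
    have := Finset.le_sup (f := e) (Finset.mem_univ i)
    omega
  refine core (lo := fun i => (⟨e i, Nat.lt_of_succ_lt (hb i)⟩ : Fin _)) (hi := fun i => ⟨e i + 1, hb i⟩) H T
    ⟨fun i h => Nat.succ_ne_self _ (congrArg Fin.val h).symm, fun i j => ?_⟩ hw (A := (ε : ℤ) • A)
    (by rw [Matrix.smul_mul, hA, ← Matrix.mul_smul, Ck.ee]) hs ?_ n2 (Ck.hy0_neg hε Y) (by rwa [Ck.ee])
  · rw [hc, ee_dot, A78.cA_def]
    simp only [ee, Pi.sub_apply, Pi.single_apply, Fin.ext_iff]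
    (first | (omega; done) | (split_ifs <;> omega))
  · rcases Int.units_eq_one_or ε with rfl | rfl
    · simpa using n1
    · simpa using OM.Cu.Nm.neg (fun b hb => neg_mem (n2 b hb) hb (by
        obtain ⟨a, ha, h1, h2⟩ := T.dn b (hs hb)
        rw [← h1, dotProduct_mulVec, h2, H.two a ha])) n1

end Cfsg.Agent.BZ.RT.C5
end

-- part: BZ/RT/Cx/TA
section
prune_inst 0x4010000
set_option linter.all false
open scoped Cfsg.Agent.FastGrp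

/-!
# BZ / RT / Cx : Levi subsystems of type `A` (helper24)

`boxTA`.
-/

set_option autoImplicit false
set_option linter.unusedSectionVars false
set_option maxHeartbeats 400000

namespace Cfsg.Agent.BZ.RT.Cx

open Cfsg Matrix Cfsg.Agent.DL Cfsg.Agent.HZ.L Cfsg.Agent.BZ.TA Cfsg.Agent.OM Cfsg.Agent.OM.Cu Cfsg.Agent.BZ.RT.Z2

namespace TA24

variable {I : Type} [Fintype I] [DecidableEq I] {C X : Mat I} {D : I → ℤ} {μ : Vec I} {Φ : RS I}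

theorem nm_lev (h : Nm X Φ) (fx : X *ᵥ μ = μ) : Nm X (lev Φ μ) := fun a ha =>
  let ⟨b, hb, h1, h2⟩ := h a ha.1
  ⟨b, ⟨hb, by rw [← fx, dotProduct_mulVec, h2, ha.2]⟩, h1, h2⟩

/-- **inner elements, the vanishing nodes form a diagram of type `A`** -/
theorem kill (hC : Car C D) (hd : Dom C μ) (hX : X ∈ Wc C) (fx : X *ᵥ μ = μ) (e : I → ℕ)
    (he : ∀ i j, Jz C μ i → Jz C μ j → C i j = cA (e i) (e j)) (sub : Φ ⊆ Rc C) (cl : ∀ a ∈ Φ, Nm (rfm a) Φ) (nx : Nm X Φ)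
    {f : Mat I → ℂ} (hy : Hy0 (lev Φ μ) X 1 f) (h0 : f X ≠ 0) : lev Φ μ = ∅ := by
  classical
  obtain ⟨-, p2, p3, p4⟩ := boxPar C D μ hC hd
  have H := boxRs _ _ p2
  obtain ⟨w, h1, h2⟩ := p3.ww_dn (p4 X hX fx)
  have hb : ∀ i, e i + 1 < Finset.univ.sup e + 2 := fun i => by
    have := Finset.le_sup (f := e) (Finset.mem_univ i)
    omega
  refine C5.A24.core (lo := fun i => (⟨e i.1, Nat.lt_of_succ_lt (hb i.1)⟩ : Fin _)) (hi := fun i => ⟨e i.1 + 1, hb i.1⟩) H p3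
    ⟨fun i h => Nat.succ_ne_self _ (congrArg Fin.val h).symm, fun i j => ?_⟩ (H.ww ▸ h1) h2 (fun a ha => ⟨sub ha.1, ha.2⟩)
    (nm_lev nx fx) (Z2.nm_lev cl μ) hy h0
  rw [show res C (Jz C μ) j i = C j i from rfl, he _ _ j.2 i.2, A78.ee_dot, A78.cA_def]
  simp only [A78.ee, Pi.sub_apply, Pi.single_apply, Fin.ext_iff]
  split_ifs <;> omega

/-- the numbering of the nodes without the node `x` -/
def nb (n x i : ℕ) : ℕ :=
  if x + 1 = n then i else if x = 2 then (if i + 1 = n then n else i) else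
    if x = 1 then (if i = 0 then n + 5 else if i + 1 = n then 1 else i) else if i + 1 = n then 3 else if 4 ≤ i then i + 1 else i

theorem tab : ∀ n ∈ [6, 7, 8], ∀ x < n, x = 1 ∨ x = 2 ∨ x = 3 ∨ x + 1 = n → ∀ i < n, ∀ j < n, i ≠ x → j ≠ x →
    cT 2 n i j = cA (nb n x i) (nb n x j) := by decide

theorem car {n : ℕ} (h : R3 n) : ∃ D, Car (En n) D := by
  rcases h with rfl | rfl | rfl
  exacts [⟨_, Eng.carE6⟩, ⟨_, Eng.carE7⟩, ⟨_, Eng.carE8⟩]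

end TA24

open TA24 in
/-- **[TA]** -/
theorem boxTA : BoxTA := fun n hn μ X G Φ H hX hJ => by
  obtain ⟨x, h1⟩ := not_forall.1 hJ
  obtain ⟨h1, h2⟩ := Classical.not_imp.1 h1
  obtain ⟨D, hC⟩ := car hn
  obtain ⟨f, f1, f2⟩ := H.hy
  refine kill hC H.dom hX H.fx (fun i => nb n x i) (fun i j hi hj => ?_) H.sub H.cl H.nx f1 f2
  exact tab n (by rcases hn with rfl | rfl | rfl <;> decide) x x.2 h1 i i.2 j j.2 (fun e => h2 (Fin.ext e ▸ hi))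
    fun e => h2 (Fin.ext e ▸ hj)

end Cfsg.Agent.BZ.RT.Cx
end

-- part: BZ/RT/Cx/All
section
prune_inst 0x624506001048000000018000272001802a0000000004300000002000401848c40204006014020110a00000858283400681110000042000000000000000002000000208000c0c90008e00001801006410000000000000000000000000000000000004010000
set_option linter.all false
open scoped Cfsg.Agent.FastGrp

-- part: BZ/RT/Cx/Dn
section
/-!
# BZ / RT / Cx : down to the standard system (helper73)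
-/

set_option autoImplicit false
set_option linter.unusedSectionVars false

namespace Cfsg.Agent.BZ.RT.Cx

open Cfsg Matrix Cfsg.Agent.DL Cfsg.Agent.DL.PP Cfsg.Agent.KZ.Lie Cfsg.Agent.HZ.L Cfsg.Agent.BZ.TA Cfsg.Agent.BZ.TA.Cl
  Cfsg.Agent.OM.Cu Cfsg.Agent.OM Cfsg.Agent.BZ.RT.Z2
open Cfsg.Agent.HZ.L.X (Zc Cen)

namespace D73

variable {R I : Type} [Fintype R] [DecidableEq R] [Fintype I] [DecidableEq I] {P : Matrix R I ℤ} {Φ L : RS I} {Ψ Θ : RS R} {C X : Mat I}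
  {D : I → ℤ} {A : Mat R} {q : ℤ} {d e l : ℕ} {c s : _root_.Cfsg.Agent.HZ.L.Lb R} {f : Mat R → ℂ}

theorem pq3 (h : Pq q 3 d e) : e = d ∧ ∃ ε : ℤˣ, IsPrimitiveRoot ((ε : ℤ) : ℂ) d ∧ 3 ∣ q * ε - 1 := by
  refine ⟨(h.odd (by decide)).symm, ?_⟩
  rw [h.odd (by decide), ← h.oe]
  have h1 := h.nd
  obtain k | k : (3 : ℤ) ∣ q - 1 ∨ (3 : ℤ) ∣ q + 1 := by omega
  · refine ⟨1, ?_, by simpa using k⟩
    rw [show (q : ZMod 3) = 1 from by simpa only [sub_eq_zero, _root_.Int.cast_sub, _root_.Int.cast_one] using (ZMod.intCast_zmod_eq_zero_iff_dvd _ 3).2 k]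
    simp
  · refine ⟨-1, ?_, by simp only [Units.val_neg, Units.val_one]; omega⟩
    rw [show (q : ZMod 3) = -1 from by simpa [add_eq_zero_iff_eq_neg] using (ZMod.intCast_zmod_eq_zero_iff_dvd _ 3).2 k,
      orderOf_eq_prime (p := 2) (by decide) (by decide)]
    simpa using IsPrimitiveRoot.neg_one 0 (by decide)

/-- corresponding subsystems -/
theorem tr_of (T : _root_.Cfsg.Agent.OM.Cu.Tr P Φ Ψ) (h1 : L ⊆ Φ) (h2 : Θ ⊆ Ψ) (h : ∀ a ∈ Φ, ∀ b ∈ Ψ, P *ᵥ a.2 = b.2 → (b ∈ Θ ↔ a ∈ L))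
    (nm : ∀ b ∈ Θ, Nm (rfm b) Θ) : _root_.Cfsg.Agent.OM.Cu.Tr P L Θ where
  inj := T.inj
  up a ha :=
    let ⟨b, hb, b1, b2⟩ := T.up a (h1 ha)
    ⟨b, (h a (h1 ha) b hb b1).2 ha, b1, b2⟩
  dn b hb :=
    let ⟨a, ha, a1, a2⟩ := T.dn b (h2 hb)
    ⟨a, (h a ha b (h2 hb) a1).1 hb, a1, a2⟩
  ext b hb b' hb' := T.ext b (h2 hb) b' (h2 hb')
  nm := nm

/-- transport of the hypotheses to a subsystem of the standard system -/
theorem hy0_tr (T : _root_.Cfsg.Agent.OM.Cu.Tr P (Rc C) Ψ) (H : Rs C D) (h : A * P = P * X) (hA : Nm A Ψ) (T1 : _root_.Cfsg.Agent.OM.Cu.Tr P L Θ) (h2 : Θ ⊆ Ψ) (hA' : Nm A Θ)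
    (Y : Hy0 Θ A d f) : Hy0 L X d fun Z => f (TrL.up P Ψ A Z) := by
  have k : ∀ {Z : Mat I} {Z' : Mat R}, Co Θ A Z' → Z' * P = P * Z → TrL.up P Ψ A Z = Z' := fun ⟨w, a, b⟩ e =>
    T.up_eq H h hA ⟨w, WW_mono h2 a, b⟩ e
  refine ⟨fun u hu Z hZ => ?_, fun Z hZ hb => ?_, fun Z hZ hb => ?_⟩
  all_goals obtain ⟨Z', h3, h4⟩ := T1.co_up h hZ
  · obtain ⟨u', h5, h6⟩ := T1.ww_up hu
    rw [k (TrL.co_left h5 h3) (Tr.mul h6 h4), k (TrL.co_right hA' h5 h3) (Tr.mul h4 h6), Y.cj u' h5 Z' h3]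
  · rw [k h3 h4]
    exact Y.bad Z' h3 (hb.imp fun _ hb => ⟨hb.1, T1.eig_up h4 hb.2⟩)
  · rw [← Y.rel Z' h3 (hb.imp fun _ hb => ⟨hb.1, T1.eig_up h4 hb.2⟩)]
    refine (finsum_mem_eq_of_bijOn (TrL.dn P) ⟨?_, ?_, ?_⟩ ?_).symm
    · rintro _ ⟨b, hb, rfl⟩
      obtain ⟨a, ha, h2, h3⟩ := T1.dn b hb
      exact ⟨a, ha, (T.dn_eq (TrL.rfm_mul h2 h3)).symm⟩
    · rintro _ ⟨b, hb, rfl⟩ _ ⟨b', hb', rfl⟩ e
      obtain ⟨a, ha, h3, h4⟩ := T1.dn b hb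
      obtain ⟨a', ha', h5, h6⟩ := T1.dn b' hb'
      rw [T.dn_eq (TrL.rfm_mul h3 h4), T.dn_eq (TrL.rfm_mul h5 h6)] at e
      exact T.eq_of H (rfm_mem (h2 hb)) (rfm_mem (h2 hb')) (by rw [TrL.rfm_mul h3 h4, TrL.rfm_mul h5 h6, e])
    · rintro _ ⟨a, ha, rfl⟩
      obtain ⟨b, hb, h2, h3⟩ := T1.up a ha
      exact ⟨_, ⟨b, hb, rfl⟩, T.dn_eq (TrL.rfm_mul h2 h3)⟩
    · rintro _ ⟨b, hb, rfl⟩
      obtain ⟨a, ha, h5, h6⟩ := T1.dn b hb
      rw [T.dn_eq (TrL.rfm_mul h5 h6), k (TrL.co_left (rfm_mem hb) h3) (Tr.mul (TrL.rfm_mul h5 h6) h4)]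

theorem sc_of (H : Rs C D) (T : _root_.Cfsg.Agent.OM.Cu.Tr P (Rc C) Ψ) (hl : l ≠ 0) (h : Sat l P) : Sc l Ψ := fun v hv => by
  obtain ⟨β, -, e⟩ := (Gl.span_iff T _).1 hv
  choose γ hγ using h β fun i => by rw [e]; exact dvd_mul_right _ _
  refine (Gl.span_iff T _).2 ⟨γ, Gl.span_top H _, smul_right_injective _ (Int.natCast_ne_zero.2 hl) ?_⟩
  beta_reduce
  rw [← e, ← mulVec_smul]
  exact congrArg _ (funext fun i => (hγ i).symm)

/-- the cuspidal lemma for the roots of a label -/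
theorem an_zc (hC : Car C D) (T : _root_.Cfsg.Agent.OM.Cu.Tr P (Rc C) Ψ) (hs : Sc l Ψ) {m : ℕ} (hm : ¬ l ∣ m) (hc : s ^ m = 1) (hA : Nm A (Zc Ψ s))
    (hq : Pq q l d e) (hf : Hy (Zc Ψ s) A q l d f) (h0 : f A ≠ 0) : An (Zc Ψ s) l e A := by
  obtain ⟨τ, hτ⟩ := Gl.exists_tau (fun e : m = 0 => hm (e ▸ dvd_zero l)) hc P
  obtain ⟨m', C', d', P', hC', hP'⟩ := boxBase boxRs C D m τ hC
  have t1 := Gl.tr_sub T hτ
  have s1 := Gl.sc_sub T t1 (fun _ h => h.1) hs (boxSat boxRs C D m l τ hC hq.lp hm)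
  have t2 := Gl.comp t1 hP'
  have H := boxRs _ _ hC'
  obtain ⟨Y, hY⟩ := Gl.exists_B H t2 hA
  exact t2.cu_up H hY hA (Gl.sat H t2 s1) (cuAll_X OM.Cu.boxD4 T95.boxX _ _ Y l hC' (t2.nm_dn hY hA)) q d e f hq hf A (Co.refl _ _) h0

theorem pl_mul (c s : _root_.Cfsg.Agent.HZ.L.Lb R) : pl P (c * s) = pl P c * pl P s := funext fun _ => map_mul _ _ _

theorem pl_pow {n : ℕ} (h : c ^ n = 1) : pl P c ^ n = 1 := funext fun _ => by
  rw [Pi.pow_apply, pl, ← map_pow, h, map_one, Pi.one_apply]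

theorem tl_pl (h : A * P = P * X) (hc : _root_.Cfsg.Agent.HZ.L.Tl A c c) : _root_.Cfsg.Agent.HZ.L.Tl X (pl P c) (pl P c) := fun v => by
  rw [chr_pl, chr_pl, mulVec_mulVec, ← h, ← mulVec_mulVec, hc]

end D73

open D73 in
/-- **[Dn]** -/
theorem boxDn : BoxDn := by
  intro R I _ _ _ _ C P₀ Ψ ΨL q d A V c s hC T₀ hs h
  classical
  have H := boxRs _ _ hC
  obtain ⟨e, hq⟩ := h.pq
  obtain ⟨rfl, ε, e1, e2⟩ := pq3 hq
  obtain ⟨n, n1, n2⟩ := h.fin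
  obtain ⟨m, m1, m2⟩ := h.od
  obtain ⟨t, i, t1, hc⟩ := h.cs
  obtain ⟨f, f1, f2⟩ := h.k1
  obtain ⟨f', f3, f4⟩ := h.k2
  obtain ⟨lam, rfl, l1⟩ := boxLam Ψ ΨL A ε n (tr_fin T₀ H.fin) (let ⟨_, e⟩ := h.lev; e ▸ lev_sub _ _) n1 n2
    (fun k => h.ell ⟨_, e1, k⟩) fun a ha k => let ⟨y, y1, _, y2⟩ := h.out _ e1 a ha k; ⟨y, y1, y2⟩
  obtain ⟨P, X, μ, T, x1, x2, x3, x4⟩ := boxAd C _ P₀ Ψ A ε lam hC T₀ h.nm l1
  have px : ((ε : ℤ) • A) * P = P * ((ε : ℤ) • X) := by rw [Matrix.smul_mul, x1, Matrix.mul_smul]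
  have ng := tr_neg H T
  have T1 : _root_.Cfsg.Agent.OM.Cu.Tr P (_root_.Cfsg.Agent.HZ.L.lev (Rc C) μ) (_root_.Cfsg.Agent.HZ.L.lev Ψ lam) := tr_of T (lev_sub _ _) (lev_sub _ _)
    (fun a ha b hb k => (and_iff_right hb).trans ((x4 a ha b hb k).trans (and_iff_right ha).symm)) (nm_lev T.nm lam)
  have T2 : ∀ c, _root_.Cfsg.Agent.OM.Cu.Tr P (Zc (Rc C) (pl P c)) (Zc Ψ c) := fun c => tr_of T (fun _ k => k.1) (fun _ k => k.1)
    (fun a ha b hb k => (and_iff_right hb).trans (Iff.trans (by rw [chr_pl, k]) (and_iff_right ha).symm)) (C5.nm_rf T.nm c)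
  have T3 : ∀ c, _root_.Cfsg.Agent.OM.Cu.Tr P (_root_.Cfsg.Agent.HZ.L.lev (Zc (Rc C) (pl P c)) μ) (Zc (lev Ψ lam) c) := fun c => tr_of T (fun _ k => k.1.1) (fun _ k => k.1.1)
    (fun a ha b hb k => ⟨fun k' => ⟨⟨ha, by rw [chr_pl, k]; exact k'.2⟩, (x4 a ha b hb k).1 k'.1.2⟩,
      fun k' => ⟨⟨hb, (x4 a ha b hb k).2 k'.2⟩, by rw [← k, ← chr_pl]; exact k'.1.2⟩⟩) (C5.nm_rf T1.nm c)
  have T4 := (ParT.tr_lev hC x3).comp T1
  have hJ := ParT.car_res (Jz C μ) hC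
  have an := an_zc hJ T4 (sc_of (boxRs _ _ hJ) T4 (by decide) (sat_inc (Gl.sat H T hs))) m1 m2 (nm_zc n1 n2 h.nmL h.fs) hq f3 f4
  have a1 := C5.nm_eps ng h.nm ε
  have a2 := C5.nm_eps (Ψ := Zc (_root_.Cfsg.Agent.HZ.L.lev Ψ lam) c) (fun a ha => ⟨⟨ng a ha.1.1, by rw [Prod.fst_neg, neg_dotProduct, ha.1.2, neg_zero]⟩, by
    rw [Prod.snd_neg, ← neg_one_smul ℤ, chr_zsmul, ha.2, _root_.one_zpow]⟩) (nm_zc n1 n2 h.nmL h.fx) ε
  have tl : ∀ {c : _root_.Cfsg.Agent.HZ.L.Lb R}, _root_.Cfsg.Agent.HZ.L.Tl (q • A) c c → _root_.Cfsg.Agent.HZ.L.Tl ((q * ε) • (ε : ℤ) • X) (pl P c) (pl P c) := fun k => tl_pl (by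
    rw [mul_smul, Ck.ee, Matrix.smul_mul, x1, Matrix.mul_smul]) k
  refine ⟨ε, lam, P, μ, _, C5.dnV P V, t, i, hc, t1, ⟨T, rfl, l1, px, fun a ha b hb k => (and_iff_right hb).trans (x4 a ha b hb k),
    fun v hv => ?_⟩, ⟨x3, T.nm_dn px a1, ?_, fun k => h.ell ?_, ?_, fun u hu => ?_, ?_, ?_, ?_⟩, e2, by rw [hc, pl_mul], ⟨i, pl_pow t1⟩,
    ⟨m, m1, pl_pow m2⟩, tl h.fx, tl h.fs, ?_, ⟨_, hy0_tr T H px a1 (T3 c) (fun _ k => k.1.1) a2 (Ck.hy0_neg e1 f1),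
      by rwa [T.up_eq H px a1 (Co.refl _ _) px, Ck.ee]⟩, ?_⟩
  · obtain ⟨u, -, k⟩ := T.ww_dn (h.vw hv)
    exact ⟨u, ⟨v, hv, k⟩, k⟩
  · rw [smul_mulVec, x2, smul_smul, Int.units_coe_mul_self, one_smul]
  · exact Ck.ee ε A ▸ (Ck.bad_neg e1).1 ⟨1, .one, T1.eig_up px k⟩
  · rintro u ⟨v, v1, v2⟩
    obtain ⟨_, a, b⟩ := T.ww_dn (h.vw v1)
    exact T.cancel (b.symm.trans v2) ▸ H.ww ▸ a
  · obtain ⟨v, a, b⟩ := T1.ww_up hu
    exact ⟨v, h.wv a, b⟩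
  · rintro g ⟨v, v1, v2⟩
    obtain ⟨k, u, u1, u2⟩ := h.vn v v1
    obtain ⟨u', a, b⟩ := T1.ww_dn u1
    refine ⟨T1.nm_dn v2 k, u', a, ?_⟩
    rw [Matrix.mul_smul, Matrix.mul_smul, Matrix.smul_mul, T.cancel ((Tr.mul v2 x1).symm.trans (u2 ▸ Tr.mul (Tr.mul b x1) v2))]
  · rintro g ⟨v, v1, v2⟩
    refine (h.vl v v1).imp fun i k => ?_
    obtain ⟨_, a, b⟩ := T1.ww_dn k
    exact T.cancel (b.symm.trans (C5.tr_pow v2 _)) ▸ a
  · obtain ⟨v, v1, v2⟩ := h.ne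
    obtain ⟨u, -, u2⟩ := T.ww_dn (h.vw v1)
    refine ⟨u, ⟨v, v1, u2⟩, fun k => v2 ?_⟩
    obtain ⟨v', a, b⟩ := T1.ww_up k
    exact T.eq_of H (WW_mono (lev_sub _ _) a) (h.vw v1) (b.trans u2.symm) ▸ a
  · rintro g ⟨v, v1, v2⟩
    obtain ⟨u, u1, u2⟩ := h.vc v v1
    obtain ⟨u', a, b⟩ := T1.ww_dn u1
    obtain ⟨w, w1, w2⟩ := (T2 c).ww_dn (hc ▸ h.stab t i t1 _ (mul_mem (WW_mono (lev_sub _ _) u1) (h.vw v1)) (hc ▸ u2))
    exact ⟨u', a, T.cancel (w2.symm.trans (Tr.mul b v2)) ▸ w1⟩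
  · rintro ν ⟨j, k⟩ k1
    obtain ⟨y, y1, y2⟩ := (T3 s).eig_up px k1
    refine an (((ε : ℤ) : ℂ) * ν) ⟨j, ?_⟩ ⟨y, Ck.ee ε A ▸ Ck.isE_smul ε y1, y2⟩
    rw [mul_pow, IsPrimitiveRoot.one_right_iff.1 k, mul_one]
    rcases Int.units_eq_one_or ε with rfl | rfl
    · simpa using e1
    · rwa [Units.val_neg, Units.val_one, Int.cast_neg, Int.cast_one, (Odd.pow (by decide)).neg_one_pow, ← Int.cast_one, ← Int.cast_neg]

end Cfsg.Agent.BZ.RT.Cx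
end

-- part: BZ/RT/Cx/Up81
section
/-!
# BZ / RT : `boxUp81` (helper81)
-/

set_option autoImplicit false
set_option linter.unusedSectionVars false

namespace Cfsg.Agent.BZ.RT.Cx

open Cfsg Matrix Cfsg.Agent.DL Cfsg.Agent.HZ.L Cfsg.Agent.BZ.TA Cfsg.Agent.BZ.TA.Cl Cfsg.Agent.OM.Cu Cfsg.Agent.OM Cfsg.Agent.BZ.RT.Z2
open Cfsg.Agent.HZ.L.X (Zc Cen)

namespace Up81

variable {R I : Type} [Fintype R] [DecidableEq R] [Fintype I] [DecidableEq I] {C : Mat I} {Ψ ΨL : RS R} {A : Mat R}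
  {V : Submonoid (Mat R)} {ε : ℤˣ} {lam : Vec R} {P : Matrix R I ℤ} {μ : Vec I} {X : Mat I} {G : Submonoid (Mat I)}

/-- the roots depend linearly on the coroots -/
theorem exists_lin (T : Tr P (Rc C) Ψ) (h : Car C fun _ => 1) :
    ∃ S : Matrix I R ℤ, ∀ a ∈ Rc C, ∀ b ∈ Ψ, P *ᵥ a.2 = b.2 → a.2 ᵥ* S = b.1 := by
  choose β h1 h2 _ using fun i => T.up _ ((boxRs _ _ h).mem i)
  refine ⟨Matrix.of fun i => (β i).1, fun a ha b hb e => funext fun r => ?_⟩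
  obtain ⟨L, hL⟩ := E8q.lin T h (Pi.single r 1)
  have h3 : ∀ i, L i = (β i).1 r := fun i => by
    have := hL _ ((boxRs _ _ h).mem i) _ (h1 i) (h2 i)
    rw [dotProduct_single, mul_one] at this
    simpa only [sp, Pi.single_apply, _root_.Int.cast_ite, _root_.Int.cast_one, _root_.Int.cast_zero, _root_.ite_mul, _root_.one_mul, _root_.MulZeroClass.zero_mul, _root_.Finset.sum_ite_eq', _root_.Finset.mem_univ, ↓ _root_.reduceIte] using this.symm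
  have := hL a ha b hb e
  rw [dotProduct_single, mul_one] at this
  refine Int.cast_injective (α := ℂ) (Eq.trans ?_ this.symm)
  simp only [vecMul, dotProduct, h3, _root_.Matrix.of_apply, _root_.Int.cast_sum, _root_.Int.cast_mul]

theorem lin_nm (T : Tr P (Rc C) Ψ) (h : Car C fun _ => 1) {S : Matrix I R ℤ}
    (hS : ∀ a ∈ Rc C, ∀ b ∈ Ψ, P *ᵥ a.2 = b.2 → a.2 ᵥ* S = b.1) {M : Mat R} {g : Mat I} (hM : Nm M Ψ) (e : M * P = P * g) :
    gᵀ * S * M = S := Matrix.ext fun i r => by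
  obtain ⟨b, hb, b1, -⟩ := T.up _ ((boxRs _ _ h).mem i)
  obtain ⟨b', hb', b2, b3⟩ := hM b hb
  obtain ⟨a, ha, a1, -⟩ := T.dn b' hb'
  have k1 : a.2 = g *ᵥ (sp C i).2 := Gl.inj' T (by rw [a1, ← b2, ← b1, mulVec_mulVec, mulVec_mulVec, e])
  have k2 := hS a ha b' hb' a1
  rw [k1, ← vecMul_transpose, vecMul_vecMul] at k2
  rw [← k2, ← hS _ ((boxRs _ _ h).mem i) b hb b1, vecMul_vecMul, show (sp C i).2 = Pi.single i 1 from rfl, single_one_vecMul,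
    single_one_vecMul] at b3
  exact congrFun b3 r

theorem dvd_lin {S : Matrix I R ℤ} {M : Mat R} {g : Mat I} (e : gᵀ * S * M = S) {x : Vec I} (h : ∀ i, (3 : ℤ) ∣ (g *ᵥ x - x) i) (r : R) :
    (3 : ℤ) ∣ ((x ᵥ* S) ᵥ* M - x ᵥ* S) r := by
  have : (x ᵥ* S) ᵥ* M - x ᵥ* S = -((g *ᵥ x - x) ᵥ* (S * M)) := by
    rw [sub_vecMul, ← vecMul_transpose, vecMul_vecMul, vecMul_vecMul, ← Matrix.mul_assoc, e, neg_sub]
  rw [this, Pi.neg_apply, dvd_neg]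
  exact Finset.dvd_sum fun i _ => (h i).mul_right _

theorem nm_eps (T : Tr P (Rc C) Ψ) (h : Car C fun _ => 1) (hA : Nm A Ψ) (ε : ℤˣ) : Nm ((ε : ℤ) • A) Ψ := fun a ha => by
  obtain ⟨b, hb, b1, b2⟩ := hA a ha
  rcases Int.units_eq_one_or ε with rfl | rfl
  · exact ⟨b, hb, by simpa using b1, by simpa using b2⟩
  · exact ⟨-b, E8q.neg_mem T h hb, by simp [neg_mulVec, b1], by simp [neg_vecMul, vecMul_neg, b2]⟩

/-- good subsystems -/
theorem gd_up (h : Car C fun _ => 1) (K : Lk Ψ ΨL A V ε lam P C μ X G) (hA : Nm A Ψ) {Φ : RS I} (hΦ : Φ ⊆ Rc C) {c : Lb R}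
    (hc : ∀ a ∈ Rc C, ∀ b ∈ Ψ, P *ᵥ a.2 = b.2 → (chr b.2 c = 1 ↔ a ∈ Φ)) (g : Gd C μ X Φ) : NoMix Ψ ΨL c ∨ T6 Ψ A ΨL c := by
  have T := K.tr
  have hL : ΨL ⊆ Ψ := K.lv ▸ fun _ k => k.1
  refine g.imp (fun g a ha ha' b hb => ?_) fun ⟨S, Ψ₁, w, T₁, s1, s2, s3, s4, s5⟩ => ⟨ε, lam, K.lv, K.al, P * S, Im P Ψ Ψ₁, w, ?_⟩
  · obtain ⟨a₀, a1, a2, -⟩ := T.dn a ha.1
    obtain ⟨b₀, b1, b2, -⟩ := T.dn b (hL hb.1)
    rw [tr_dot T b1 (hL hb.1) b2 a2]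
    by_contra k
    exact g a₀ ⟨(hc _ a1 _ ha.1 a2).1 ha.2, fun k' => ha' ((K.jz _ a1 _ ha.1 a2).2 k'), b₀,
      ⟨(hc _ b1 _ (hL hb.1) b2).1 hb.2, (K.jz _ b1 _ (hL hb.1) b2).1 hb.1⟩, k⟩
  have s6 : Ψ₁ ⊆ Rc C := s1.trans hΦ
  refine ⟨T₁.comp (tr_res T s6 T₁.nm), fun b ⟨hb, a, ha, e⟩ => ⟨hb, (hc _ (s6 ha) _ hb e).2 (s1 ha)⟩, fun b => ⟨fun hb => ?_, ?_⟩, s3,
    by rw [← Matrix.mul_assoc, K.px, Matrix.mul_assoc, s4, Matrix.mul_assoc], fun β hβ k => ?_⟩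
  · obtain ⟨a, a1, a2, -⟩ := T.dn b (hL hb.1)
    obtain ⟨k1, x, x1, x2⟩ := (s2 a).1 ⟨(hc _ a1 _ (hL hb.1) a2).1 hb.2, (K.jz _ a1 _ (hL hb.1) a2).1 hb.1⟩
    exact ⟨⟨hL hb.1, a, k1, a2⟩, x, x1, by rw [← mulVec_mulVec, x2, a2]⟩
  · rintro ⟨⟨hb, a, ha, e⟩, x, x1, x2⟩
    have k := (s2 a).2 ⟨ha, x, x1, Gl.inj' T (by rw [mulVec_mulVec, x2, e])⟩
    exact ⟨(K.jz _ (s6 ha) _ hb e).2 k.2, (hc _ (s6 ha) _ hb e).2 k.1⟩
  · obtain ⟨a, a1, a2, -⟩ := T.dn β hβ.1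
    obtain ⟨k1, k2, -, k3⟩ := s5 a ((hc _ a1 _ hβ.1 a2).1 hβ.2) fun k' => k ⟨hβ.1, a, k', a2⟩
    have k4 : ((ε : ℤ) • A) *ᵥ β.2 = β.2 := by rw [← a2, mulVec_mulVec, K.px, ← mulVec_mulVec, k2]
    obtain ⟨b, hb, b1, b2⟩ := nm_eps T h hA ε β hβ.1
    refine ⟨fun k' => k1 ⟨a1, (K.jz _ a1 _ hβ.1 a2).1 k'⟩, k4, by rwa [T.ext b hb β hβ.1 (b1.symm.trans k4)] at b2, ?_⟩
    rintro b ⟨hb, x, hx, e⟩
    rw [tr_dot T (s6 hx) hb e a2, tr_dot T a1 hβ.1 a2 e]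
    exact k3 x hx

end Up81

open Up81 in
theorem boxUp81 : BoxUp := by
  intro R I _ _ _ _ C Ψ ΨL q d A V c s t i ε lam P μ X G z hC h hc ht K M o
  have T := K.tr
  have hL : ΨL ⊆ Ψ := K.lv ▸ fun _ k => k.1
  rcases o with g | ⟨hz, cn, x, ⟨x1, x2⟩, g⟩
  · exact ⟨1, Cg.twi_one, fun _ => rfl, gd_up hC K h.nm (fun _ k => k.1)
      (fun a ha b hb e => by rw [mul_one, ← e, ← chr_pl]; exact (and_iff_right ha).symm) g⟩
  obtain ⟨S, hS⟩ := exists_lin T hC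
  obtain ⟨n, n1, n2⟩ := h.od
  obtain ⟨ζ, hζ⟩ : ∃ ζ : ℂˣ, IsPrimitiveRoot ζ 3 :=
    ⟨_, (Complex.isPrimitiveRoot_exp 3 (by decide)).isUnit_unit (by decide)⟩
  have two : ∀ b ∈ ΨL, b.1 ⬝ᵥ b.2 = 2 := fun b hb => by
    obtain ⟨a, a1, a2, -⟩ := T.dn b (hL hb)
    rw [tr_dot T a1 (hL hb) a2 a2, (boxRs _ _ hC).two a a1]
  have c1 : Cen ΨL t := fun b hb => by
    obtain ⟨a, a1, a2, -⟩ := T.dn b (hL hb)
    rw [← a2, ← chr_pl]
    exact cn a ⟨a1, (K.jz _ a1 _ (hL hb) a2).1 hb⟩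
  obtain ⟨k, hk⟩ : ∃ k : ℕ, c ^ k = t := by
    obtain ⟨m, e⟩ := exists_pow_eq_self_of_coprime (x := t) (n := n)
      (Nat.Coprime.coprime_dvd_right (orderOf_dvd_of_pow_eq_one ht) ((Nat.prime_three.coprime_iff_not_dvd.2 n1).symm.pow_right i))
    exact ⟨n * m, by rw [hc, pow_mul, mul_pow, n2, one_mul, e]⟩
  have c2 : ∀ M : Mat R, _root_.Cfsg.Agent.HZ.L.Tl M c c → _root_.Cfsg.Agent.HZ.L.Tl M t t := fun M e v => by rw [← hk, map_pow, map_pow, e]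
  have w1 : Twi q 3 A ΨL V t⁻¹ :=
    ⟨⟨i, by rw [inv_pow, ht, inv_one]⟩, fun v => by rw [map_inv, map_inv, c2 _ h.fx], fun b hb => by rw [map_inv, c1 b hb, inv_one],
      fun v hv y => by
        obtain ⟨u, u1, u2⟩ := h.vc v hv
        rw [map_inv, map_inv, ← c2 _ u2 y, ← mulVec_mulVec, Fn.tl_cen c1 u1]⟩
  have w2 : Twi q 3 A ΨL V (coch (x ᵥ* S) ζ) := by
    refine Cg.twi (i := 1) (by decide) (by rw [pow_one, hζ.pow_eq_one]) two h.wv (fun r => ?_) fun v hv r => ?_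
    · have k1 := dvd_lin (lin_nm T hC hS (nm_eps T hC h.nm ε) K.px) x1 r
      have k2 := M.q3.mul_right ((x ᵥ* S) r)
      have e1 : (ε : ℤ) * ε = 1 := Int.units_coe_mul_self ε
      rw [vecMul_smul] at k1
      simp only [Pi.sub_apply, Pi.smul_apply, smul_eq_mul] at k1 ⊢
      exact (dvd_add (k1.mul_left (q * ε)) k2).trans (dvd_of_eq (by linear_combination (q * ((x ᵥ* S) ᵥ* A) r) * e1))
    · obtain ⟨g, g1, g2⟩ := K.gv v hv
      exact dvd_lin (lin_nm T hC hS (T.nm_ww (h.vw hv)) g2) (x2 g g1) r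
  refine ⟨_, Cg.Twi.mul w1 w2, fun k => (hz k).elim, gd_up hC K h.nm (fun _ k => k.1.1) (fun a ha b hb e => ?_) g⟩
  have k1 : (x ᵥ* S) ⬝ᵥ b.2 = a.1 ⬝ᵥ x := by
    have k2 : S * P = C := Matrix.ext fun i j => by
      obtain ⟨b, hb, b1, b2⟩ := T.up _ ((boxRs _ _ hC).mem i)
      rw [← hS _ ((boxRs _ _ hC).mem i) b hb b1, vecMul_vecMul, show (sp C i).2 = Pi.single i 1 from rfl, single_one_vecMul] at b2
      exact (congrFun b2 j).trans (by simpa [sp] using (hC.sym i j).symm)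
    rw [← e, dotProduct_mulVec, vecMul_vecMul, k2, E8q.dot' hC ha, dotProduct_comm]
  rw [hc, mul_assoc, mul_inv_cancel_left, Gl.chr_mul_iff (i := 1) Nat.prime_three n1 n2 (Cg.co_pow (by rw [pow_one, hζ.pow_eq_one])),
    Cg.chr_co, hζ.zpow_eq_one_iff_dvd, k1, ← e, ← chr_pl]
  exact ⟨fun k => ⟨⟨ha, k.1⟩, k.2⟩, fun k => ⟨k.1.2, k.2⟩⟩

end Cfsg.Agent.BZ.RT.Cx
end

-- part: BZ/RT/Cx/Tw6
section
/-!
# BZ / RT / Cx : the twisted `E₆` (helper32)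

`boxTw6`.  `core` is `C5.A24.core` for elements which permute the components.
-/

set_option autoImplicit false
set_option linter.unusedSectionVars false
set_option maxHeartbeats 400000

namespace Cfsg.Agent.BZ.RT.Cx

open Cfsg Matrix Equiv Cfsg.Agent.DL Cfsg.Agent.HZ.L Cfsg.Agent.BZ.TA Cfsg.Agent.OM Cfsg.Agent.OM.Cu Cfsg.Agent.BZ.RT.Z2
  Cfsg.Agent.BZ.RT.C5.A24
open Cfsg.Agent.LV.Cl (SG sw)

namespace Tw32

variable {R I : Type} [Fintype R] [DecidableEq R] [Fintype I] [DecidableEq I] {C X w g u : Mat I} {D : I → ℤ} {n : ℕ} {lo hi : I → Fin n}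
  {P : Matrix R I ℤ} {Θ Φ : RS R} {A : Mat R} {f : Mat R → ℂ} {μ ν : Vec I} {G : Submonoid (Mat I)}

theorem core (H : Rs C D) (T : Tr P (Rc C) Θ) (F : Fr C lo hi) (hv : ∃ v, w * v = 1) {σ : Perm (Fin n)} (hσ : Fq lo hi w σ)
    (hA : A * P = P * w) (e : Φ ⊆ Θ) (n1 : Nm A Φ)
    (n2 : ∀ b ∈ Φ, Nm (rfm b) Φ) (Y : Hy0 Φ A 1 f) (h0 : f A ≠ 0) : Φ = ∅ := by
  classical
  have uq : ∀ {M h h'}, Rp P lo hi M h → Rp P lo hi M h' → h = h' := by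
    rintro M h h' ⟨a0, X, a1, a2⟩ ⟨b0, X', b1, b2⟩
    obtain rfl := T.cancel (a1.symm.trans b1)
    exact SG.ext (F.uniq a2 b2) (funext fun x => (a0 x).trans (b0 x).symm)
  have qu : ∀ {M M' h}, Rp P lo hi M h → Rp P lo hi M' h → M * P = M' * P := by
    rintro M M' h ⟨-, X, a1, a2⟩ ⟨-, X', b1, b2⟩
    rw [a1, b1, F.cancel H (a2.e.symm.trans b2.e)]
  have rt : ∀ b ∈ Φ, ∃ a i j, Rt lo hi a i j ∧ b.1 ᵥ* P = a.1 ∧ b.1 ⬝ᵥ b.2 = 2 ∧ Rp P lo hi (rfm b) (sw i j 1) := fun b hb => by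
    obtain ⟨a, ha, h1, h2⟩ := T.dn b (e hb)
    obtain ⟨i, j, r⟩ := F.root H ha
    exact ⟨a, i, j, r, h2, by rw [← h1, dotProduct_mulVec, h2, H.two a ha], fun _ => ite_self _, _, TrL.rfm_mul h1 h2, r.q⟩
  have k0 : ∀ u ∈ WW Φ, ∀ u' ∈ WW Φ, u * P = u' * P → u = u' := fun u h1 u' h2 => T.eq_of H (WW_mono e h1) (WW_mono e h2)
  have k1 : ∀ {M M' h}, Co Φ A M → Co Φ A M' → Rp P lo hi M h → Rp P lo hi M' h → M = M' := by
    rintro _ _ h ⟨u, h1, rfl⟩ ⟨u', h2, rfl⟩ h3 h4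
    obtain ⟨v, h5⟩ := hv
    have h6 := congrArg (fun Z : Matrix R I ℤ => Z * v) (qu h3 h4)
    simp only [Matrix.mul_assoc, hA, h5, Matrix.mul_one] at h6
    rw [k0 u h1 u' h2 h6]
  have hg : Rp P lo hi A ⟨σ, fun _ => 1⟩ := ⟨fun _ => rfl, w, hA, hσ⟩
  generalize (⟨σ, fun _ => 1⟩ : SG n) = g at hg
  let f' : SG n → ℂ := fun h => if k : ∃ M, Co Φ A M ∧ Rp P lo hi M h then f k.choose else 0
  have k2 : ∀ {M h}, Co Φ A M → Rp P lo hi M h → f' h = f M := fun {M h} h1 h2 => by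
    have h3 : ∃ M, Co Φ A M ∧ Rp P lo hi M h := ⟨M, h1, h2⟩
    exact (dif_pos h3).trans (congrArg f (k1 h3.choose_spec.1 h1 h3.choose_spec.2 h2))
  have k3 : ∀ {h}, (¬ ∃ M, Co Φ A M ∧ Rp P lo hi M h) → f' h = 0 := fun k => dif_neg k
  have k5 : ∀ b ∈ Φ, rfm b * rfm b = 1 := fun b hb => let ⟨_, _, _, _, _, h, _⟩ := rt b hb; rfm_sq h
  have k6 : ∀ {b t}, b ∈ Φ → Rp P lo hi (rfm b) t → t * t = 1 := fun hb h1 => uq (h1.mul h1) (k5 _ hb ▸ Rp.one)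
  let Rf : Set (SG n) := {t | ∃ b ∈ Φ, Rp P lo hi (rfm b) t}
  let Q := (Set.toFinite Rf).toFinset
  have k7 : ∀ {t}, t ∈ Q ↔ ∃ b ∈ Φ, Rp P lo hi (rfm b) t := Set.Finite.mem_toFinset _
  have cj : ∀ {M h}, Rp P lo hi M h → Nm M Φ → ∀ t ∈ Q, h * t * h⁻¹ ∈ Q := fun {M h} a h1 t ht => by
    obtain ⟨b, hb, h2⟩ := k7.1 ht
    obtain ⟨b', hb', h3, h4⟩ := h1 b hb
    obtain ⟨_, i, j, -, -, -, h6⟩ := rt b' hb'
    rw [uq (a.mul h2) (mul_rfm h3 h4 ▸ h6.mul a), mul_inv_cancel_right]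
    exact k7.2 ⟨b', hb', h6⟩
  have eg : ∀ {M h y t}, Rp P lo hi M h → Cc.IsV h (1 : ℂ) y → t ∈ Q → ¬ Cc.IsV t 1 y → OM.Cu.Bad Φ 1 M := by
    rintro M h y t ⟨a0, X, a1, a2⟩ h1 ht h2
    obtain ⟨b, hb, h3⟩ := k7.1 ht
    obtain ⟨a, i, j, r, h4, -, h5⟩ := rt b hb
    obtain rfl := uq h3 h5
    rw [Cc.isV_sw, Units.val_one, Int.cast_one, one_mul] at h2
    have h6 : ∀ (k : ℕ) x, y ((h.π ^ k) x) = y x := fun k x => by
      induction k with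
      | zero => rfl
      | succ k ih => rw [pow_succ', Perm.mul_apply, ← ih, ← one_mul (y (h.π _)), ← h1, a0, Units.val_one, Int.cast_one, one_mul]
    obtain ⟨x, h7, h8⟩ := F.avg H a2 r fun k => ⟨fun e => h2 (by rw [← h6 k i, e]), fun e => h2 (by rw [← h6 k j, e])⟩
    refine ⟨1, .one, _, Ck.isE_int (v := P *ᵥ x) (by rw [mulVec_mulVec, a1, ← mulVec_mulVec, h7]), b, hb, ?_⟩
    rwa [Ck.ev_int, dotProduct_mulVec, h4, Int.cast_ne_zero]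
  have H' : Cc.Cu Q 1 f' := by
    refine ⟨one_ne_zero, fun t ht => ?_, fun t ht u hu => ?_, fun t ht h => ?_, fun h y h1 t ht h2 => ?_, fun h y h1 t ht h2 => ?_⟩
    · obtain ⟨b, hb, h1⟩ := k7.1 ht
      obtain ⟨_, i, j, r, -, -, h2⟩ := rt b hb
      exact .inl ⟨i, j, 1, r.ne, uq h1 h2⟩
    · obtain ⟨b, hb, h1⟩ := k7.1 ht
      exact cj h1 (n2 b hb) u hu
    · obtain ⟨a, ha, h1⟩ := k7.1 ht
      by_cases h2 : ∃ M, Co Φ A M ∧ Rp P lo hi M h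
      · obtain ⟨M, h2, h3⟩ := h2
        have h4 := h2.mul_right n1 (rfm_mem ha)
        rw [mul_assoc, k2 (h4.rf ha) (h1.mul (h3.mul h1)), Y.cj _ (rfm_mem ha) _ h4, mul_assoc, k5 a ha, mul_one, k2 h2 h3]
      · refine (k3 fun ⟨M, h3, h4⟩ => h2 ⟨_, (h3.mul_right n1 (rfm_mem ha)).rf ha, ?_⟩).trans (k3 h2).symm
        have h5 := h1.mul (h4.mul h1)
        rwa [mul_assoc (t * h), k6 ha h1, mul_one, ← mul_assoc t, k6 ha h1, one_mul] at h5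
    · by_cases h3 : ∃ M, Co Φ A M ∧ Rp P lo hi M h
      · obtain ⟨M, h3, h4⟩ := h3
        rw [k2 h3 h4, Y.bad M h3 (eg h4 h1 ht h2)]
      · exact k3 h3
    · by_cases h3 : ∃ M, Co Φ A M ∧ Rp P lo hi M h
      · obtain ⟨M, h3, h4⟩ := h3
        have h5 : ∀ x ∈ rfm '' Φ, ∃ u, Rp P lo hi x u := by
          rintro _ ⟨b, hb, rfl⟩
          obtain ⟨_, i, j, -, -, -, h2⟩ := rt b hb
          exact ⟨_, h2⟩
        choose! τ h5 using h5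
        rw [← finsum_mem_coe_finset, Set.Finite.coe_toFinset, ← Y.rel M h3 (eg h4 h1 ht h2)]
        refine (finsum_mem_eq_of_bijOn τ ⟨?_, ?_, ?_⟩ ?_).symm
        · rintro _ ⟨a, ha, rfl⟩
          exact ⟨a, ha, h5 _ ⟨a, ha, rfl⟩⟩
        · intro x hx x' hx' h6
          exact k0 x (Submonoid.subset_closure hx) x' (Submonoid.subset_closure hx') (qu (h5 x hx) (h6 ▸ h5 x' hx'))
        · rintro u ⟨a, ha, h6⟩
          exact ⟨_, ⟨a, ha, rfl⟩, uq (h5 _ ⟨a, ha, rfl⟩) h6⟩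
        · exact fun x hx => (k2 (h3.mul (Submonoid.subset_closure hx)) ((h5 x hx).mul h4)).symm
      · refine Finset.sum_eq_zero fun u hu => k3 fun ⟨M, h4, h5⟩ => ?_
        obtain ⟨a, ha, h6⟩ := k7.1 hu
        have h7 := h6.mul h5
        rw [← mul_assoc u, k6 ha h6, one_mul] at h7
        exact h3 ⟨_, h4.rf ha, h7⟩
  refine Set.eq_empty_of_forall_notMem fun b hb => ?_
  obtain ⟨_, i, j, r, -, -, h2⟩ := rt b hb
  have h3 := (H'.kill (i := i) (cj hg n1) (k2 (Co.refl Φ A) hg ▸ h0)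
    ⟨fun _ => 1, fun x => by rw [hg.1, Units.val_one, Int.cast_one], one_ne_zero⟩ (k7.2 ⟨b, hb, h2⟩)).1
  exact r.ne (h3.symm.trans (swap_apply_left i j))


/-- a diagram automorphism modulo the Weyl group of the Levi subsystem -/
theorem dia (h : Car C D) (M : Mg C μ X G) : ∃ u ∈ WW (_root_.Cfsg.Agent.HZ.L.lev (Rc C) μ), ∃ π : Perm I, (∀ i j, C (π i) (π j) = C i j) ∧ X = u * pm π := by
  have H := boxRs C D h
  obtain ⟨u, u1, σ, -, h2⟩ := C5.adj h M.dom (ParT.nm_lev M.nm M.fx)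
  have hg := OM.Cu.Nm.mul (H.nm u (H.ww ▸ WW_mono (lev_sub _ _) u1)) M.nm
  have h1 : (u * X) *ᵥ μ = μ := by rw [← mulVec_mulVec, M.fx, Ad.fix (fun _ ha => ha.2) u1]
  obtain ⟨u', a1, a2, -⟩ := WW_inv (fun a ha => H.two a ha.1) u1
  suffices k : ∃ π : Perm I, (∀ i j, C (π i) (π j) = C i j) ∧ u * X = pm π from
    let ⟨π, k1, k2⟩ := k
    ⟨u', a1, π, k1, by rw [← k2, ← mul_assoc, a2, one_mul]⟩
  generalize u * X = g at h1 h2 hg
  refine Ch.of_pos H hg fun i => ?_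
  by_cases hi : Jz C μ i
  · have k : g *ᵥ Pi.single i 1 = Pi.single (σ ⟨i, hi⟩ : I) 1 := by
      rw [← C5.inc_single (J := Jz C μ) ⟨i, hi⟩, mulVec_mulVec, h2, ← mulVec_mulVec, pm_single, C5.inc_single]
    exact k.symm ▸ Pi.single_nonneg.2 zero_le_one
  obtain ⟨b, hb, b1, b2⟩ := hg _ (H.mem i)
  refine b1 ▸ (H.pn b hb).resolve_right fun h0 => hi (le_antisymm ?_ (M.dom i))
  have := ParT.nonneg h M.dom (H.neg b hb) (neg_nonneg.2 h0)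
  rwa [Prod.fst_neg, neg_dotProduct, neg_nonneg, ← h1, dotProduct_mulVec, b2] at this

/-- inside a parabolic subsystem of type `A` -/
theorem kill {Φ : RS I} (h : Car C D) (M : Ms C μ X G Φ) (hu : u ∈ WW (_root_.Cfsg.Agent.HZ.L.lev (Rc C) μ)) (hX : X = u * g) (hd : Dom C ν)
    (hJ : ∀ i, Jz C μ i → Jz C ν i) {lo hi : {i // Jz C ν i} → Fin n} (F : Fr (res C (Jz C ν)) lo hi) {ρ : Perm (Fin n)}
    (h1 : g * inc (Jz C ν) = inc (Jz C ν) * res g (Jz C ν)) (h2 : res g (Jz C ν) * res g (Jz C ν) = 1)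
    (h3 : Fq lo hi (res g (Jz C ν)) ρ) : _root_.Cfsg.Agent.HZ.L.lev Φ μ = ∅ := by
  have T := ParT.tr_lev h hd
  have H := boxRs _ _ (ParT.car_res (Jz C ν) h)
  have sub : _root_.Cfsg.Agent.HZ.L.lev (Rc C) μ ⊆ _root_.Cfsg.Agent.HZ.L.lev (Rc C) ν := fun a ha =>
    ⟨ha.1, (ParT.zero_iff h hd ha.1).2 fun i hi => (ParT.zero_iff h M.dom ha.1).1 ha.2 i fun k => hi (hJ i k)⟩
  obtain ⟨w, w1, w2⟩ := T.ww_dn (WW_mono sub hu)
  rw [H.ww] at w1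
  obtain ⟨σ, hσ⟩ := F.wc w1
  obtain ⟨v, -, -, hv⟩ := H.inv w w1
  obtain ⟨f, f1, f2⟩ := M.hy
  exact core H T F ⟨res g (Jz C ν) * v, by rw [mul_assoc, ← mul_assoc (res g _), h2, one_mul, hv]⟩ (hσ.mul h3) (hX ▸ Tr.mul w2 h1)
    (fun a ha => sub ⟨M.sub ha.1, ha.2⟩) (ParT.nm_lev M.nx M.fx) (Z2.nm_lev M.cl μ) f1 f2

/-- a hexagon in the fixed lattice -/
theorem hex (h : Car C D) (M : Mg C μ X G) : ∃ v z : Vec I, (Perp (_root_.Cfsg.Agent.HZ.L.lev (Rc C) μ) v ∧ X *ᵥ v = v) ∧ (Perp (_root_.Cfsg.Agent.HZ.L.lev (Rc C) μ) z ∧ X *ᵥ z = z) ∧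
    0 < fm C D v v ∧ fm C D z z = fm C D v v ∧ 2 * fm C D v z = -fm C D v v := by
  have H := boxRs C D h
  obtain ⟨g, h1, h2, h3⟩ := Rk88.exists_g h M
  have k : ∀ y, Perp (_root_.Cfsg.Agent.HZ.L.lev (Rc C) μ) y ∧ X *ᵥ y = y → Perp (_root_.Cfsg.Agent.HZ.L.lev (Rc C) μ) (g *ᵥ y) ∧ X *ᵥ (g *ᵥ y) = g *ᵥ y := fun y hy => by
    obtain ⟨u, u1, u2⟩ := (M.gn g h1).2
    have k1 := (h3 y hy.1).1
    refine ⟨k1, ?_⟩
    rw [← Ad.fix (C5.perp H M.nm (ParT.nm_lev M.nm M.fx) k1) u1, mulVec_mulVec, mulVec_mulVec, ← u2, ← mulVec_mulVec, hy.2]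
  have p0 : Perp (_root_.Cfsg.Agent.HZ.L.lev (Rc C) μ) μ ∧ X *ᵥ μ = μ := ⟨fun a ha => ha.2, M.fx⟩
  obtain ⟨v, hv⟩ : ∃ v, v = g *ᵥ μ - μ := ⟨_, rfl⟩
  have p1 : Perp (_root_.Cfsg.Agent.HZ.L.lev (Rc C) μ) v ∧ X *ᵥ v = v :=
    ⟨fun a ha => by rw [hv, dotProduct_sub, (k μ p0).1 a ha, p0.1 a ha, sub_zero], by rw [hv, mulVec_sub, (k μ p0).2, M.fx]⟩
  have h6 : v + g *ᵥ v + g *ᵥ (g *ᵥ v) = 0 := by
    rw [hv, mulVec_sub, mulVec_sub, (h3 μ p0.1).2]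
    abel
  refine ⟨v, g *ᵥ v, p1, k v p1, h.pos v (hv ▸ sub_ne_zero.2 h2), H.iso g (M.gw h1) v v, ?_⟩
  have h7 := Rk88.fm_zero (C := C) (d := D) v
  rw [← h6, Rk88.fm_add, Rk88.fm_add, ← H.iso g (M.gw h1) v (g *ᵥ (g *ᵥ v)), (h3 v p1.1).2, H.comm (g *ᵥ v) v] at h7
  omega

theorem sq3 {s t : ℤ} (h : 3 * s ^ 2 = t ^ 2) : s = 0 := by
  by_contra h0
  have h1 : IsSquare ((3 : ℕ) : ℚ) := ⟨t / s, by
    have h2 : (s : ℚ) ≠ 0 := Int.cast_ne_zero.2 h0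
    have h3 : (3 : ℚ) * s ^ 2 = t ^ 2 := by exact_mod_cast h
    field_simp
    push_cast
    linear_combination h3⟩
  exact Nat.prime_three.prime.not_isSquare (Rat.isSquare_natCast_iff.1 h1)

/-- the symmetry -/
abbrev τ : Perm (Fin 6) := _root_.Equiv.swap 0 4 * _root_.Equiv.swap 1 3

theorem sp_eq (v : Vec (Fin 6)) : (sp (En 6) 0).1 ⬝ᵥ v = 2 * v 0 - v 1 ∧ (sp (En 6) 1).1 ⬝ᵥ v = 2 * v 1 - v 0 - v 2 ∧
    (sp (En 6) 2).1 ⬝ᵥ v = 2 * v 2 - v 1 - v 3 - v 5 ∧ (sp (En 6) 3).1 ⬝ᵥ v = 2 * v 3 - v 2 - v 4 ∧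
    (sp (En 6) 4).1 ⬝ᵥ v = 2 * v 4 - v 3 ∧ (sp (En 6) 5).1 ⬝ᵥ v = 2 * v 5 - v 2 := by
  rw [show (sp (En 6) 0).1 = ![2, -1, 0, 0, 0, 0] by decide, show (sp (En 6) 1).1 = ![-1, 2, -1, 0, 0, 0] by decide,
    show (sp (En 6) 2).1 = ![0, -1, 2, -1, 0, -1] by decide, show (sp (En 6) 3).1 = ![0, 0, -1, 2, -1, 0] by decide,
    show (sp (En 6) 4).1 = ![0, 0, 0, -1, 2, 0] by decide, show (sp (En 6) 5).1 = ![0, 0, -1, 0, 0, 2] by decide]
  simp only [dotProduct, Fin.sum_univ_six, cons_val]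
  omega

theorem sym {v : Vec (Fin 6)} (h : pm τ *ᵥ v = v) : v 4 = v 0 ∧ v 3 = v 1 :=
  ⟨(congrFun h 4).symm.trans (pm_mulVec τ v 0), (congrFun h 3).symm.trans (pm_mulVec τ v 1)⟩

/-- the lattice of type `B₂` -/
theorem b2 {v z : Vec (Fin 6)} (h : pm τ *ᵥ v = v) (h' : pm τ *ᵥ z = z) (a : (sp (En 6) 1).1 ⬝ᵥ v = 0) (b : (sp (En 6) 2).1 ⬝ᵥ v = 0)
    (a' : (sp (En 6) 1).1 ⬝ᵥ z = 0) (b' : (sp (En 6) 2).1 ⬝ᵥ z = 0) : fm (En 6) ![1, 1, 1, 1, 1, 1] v z =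
      2 * ((3 * v 1 - 2 * v 2) * (3 * z 1 - 2 * z 2) + (v 1 - v 2) * (z 1 - z 2)) := by
  obtain ⟨e0, e1, e2, e3, e4, e5⟩ := sp_eq z
  obtain ⟨-, f1, f2, -⟩ := sp_eq v
  obtain ⟨s1, s2⟩ := sym h
  obtain ⟨t1, t2⟩ := sym h'
  rw [Rk88.fm_eq, Fin.sum_univ_six, e0, e1, e2, e3, e4, e5, s1, s2, t1, t2, show v 0 = 2 * v 1 - v 2 by omega,
    show z 0 = 2 * z 1 - z 2 by omega, show v 5 = 2 * v 2 - 2 * v 1 by omega, show z 5 = 2 * z 2 - 2 * z 1 by (clear * - b' e2 t2; omega)]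
  simp only [cons_val]
  ring

end Tw32

open Tw32 in
/-- **[Tw]** -/
theorem boxTw6 : BoxTw6 := fun μ X G Φ M hX => by
  have hC := Eng.carE6
  have H := boxRs _ _ hC
  obtain ⟨u, u1, π, h1, h2⟩ := dia hC M.toMg
  rcases Eng.autE6 π h1 with rfl | rfl
  · exact (hX (by rw [h2, pm_one, mul_one]; exact H.ww ▸ WW_mono (lev_sub _ _) u1)).elim
  obtain ⟨u', a1, a2, -⟩ := WW_inv (fun a ha => H.two a ha.1) u1
  have k : ∀ v, Perp (_root_.Cfsg.Agent.HZ.L.lev (Rc (En 6)) μ) v ∧ X *ᵥ v = v → pm τ *ᵥ v = v := fun v hv => by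
    rw [← one_mul (pm τ), ← a2, mul_assoc, ← h2, ← mulVec_mulVec, hv.2, Ad.fix hv.1 a1]
  obtain ⟨s1, s2⟩ := sym (k μ ⟨fun a ha => ha.2, M.fx⟩)
  obtain ⟨-, e1, -, e3, -⟩ := sp_eq μ
  by_cases j1 : Jz (En 6) μ 1
  · by_cases j2 : Jz (En 6) μ 2
    · obtain ⟨v, z, hv, hz, n1, n2, n3⟩ := hex hC M.toMg
      have v1 := hv.1 _ ⟨H.mem 1, j1⟩
      have v2 := hv.1 _ ⟨H.mem 2, j2⟩
      have z1 := hz.1 _ ⟨H.mem 1, j1⟩
      have z2 := hz.1 _ ⟨H.mem 2, j2⟩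
      rw [b2 (k v hv) (k v hv) v1 v2 v1 v2] at n1 n2 n3
      rw [b2 (k z hz) (k z hz) z1 z2 z1 z2] at n2
      rw [b2 (k v hv) (k z hz) v1 v2 z1 z2] at n3
      generalize 3 * v 1 - 2 * v 2 = x, v 1 - v 2 = y, 3 * z 1 - 2 * z 2 = x', z 1 - z 2 = y' at n1 n2 n3
      have n4 : x * x + y * y = -2 * (x * x' + y * y') := by (clear * - n3; omega)
      have n5 : x' * x' + y' * y' = -2 * (x * x' + y * y') := by omega
      have n6 := sq3 (s := x * x' + y * y') (t := x * y' - y * x') (by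
        linear_combination (-(x' * x' + y' * y')) * n4 + 2 * (x * x' + y * y') * n5)
      omega
    · exact kill (ν := ![2, 4, 6, 4, 2, 3]) (lo := fun i => (![0, 1, 0, 4, 3, 6] i.1 : Fin 8)) (hi := fun i => ![1, 2, 0, 5, 4, 7] i.1)
        (ρ := _root_.Equiv.swap 0 3 * _root_.Equiv.swap 1 4 * swap 2 5) hC M u1 h2 (fun i => by revert i; decide)
        (fun i hi => by_contra fun e => j2 ((by clear hi; revert i; decide : i = 2) ▸ hi))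
        ⟨by decide, by decide +kernel⟩ (by decide +kernel) (by decide +kernel) ⟨by decide +kernel, by decide +kernel⟩
  · exact kill (ν := ![3, 6, 8, 6, 3, 4]) (lo := fun i => (![0, 0, 4, 0, 2, 5] i.1 : Fin 7)) (hi := fun i => ![1, 0, 5, 0, 3, 6] i.1)
      (ρ := _root_.Equiv.swap 0 2 * _root_.Equiv.swap 1 3) hC M u1 h2 (fun i => by revert i; decide) (fun i hi => by_contra fun e => by
        rcases (by clear hi; revert i; decide : i = 1 ∨ i = 3) with rfl | rfl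
        exacts [j1 hi, j1 (e1.trans (by rw [Jz, e3] at hi; omega))])
      ⟨by decide, by decide +kernel⟩ (by decide +kernel) (by decide +kernel) ⟨by decide +kernel, by decide +kernel⟩

end Cfsg.Agent.BZ.RT.Cx
end

-- part: BZ/RT/Cx/All
section
/-!
# BZ / RT : the types `E₆`, `E₇`, `E₈` at the prime three, the boxes so far (helper28)
-/

set_option autoImplicit false

namespace Cfsg.Agent.BZ.RT.Cx

theorem bc_of (sh : BoxSh) (om : BoxOm) (s5 : BoxS5) : Bc :=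
  ⟨boxDn, boxUp81, boxAnI, boxTW_of boxRk3, boxTab, boxTA, boxTw6, boxAnJ, sh, om, s5, boxS6⟩

end Cfsg.Agent.BZ.RT.Cx
end
end

-- part: BZ/RT/Ck/O4
section
prune_inst 0x62450780505800200001c0012f2003e03f2000100000b8000e9e60a0607c5ac00a04387214860150a9050924c3834806811100060c210000000003600411a01a098aec200f2c9130cec000f80b807590c00000000000000000000000000000000004010000
set_option linter.all false
open scoped Cfsg.Agent.FastGrp

/-!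
# BZ / RT / Ck : cuspidal subsystems of `D₄` (helper40)

A subsystem of `D₄` with a cuspidal function and two orthogonal roots is `D₄`.
-/

set_option autoImplicit false
set_option linter.unusedSectionVars false
set_option maxRecDepth 100000
set_option synthInstance.maxSize 4000
set_option synthInstance.maxHeartbeats 200000

namespace Cfsg.Agent.BZ.RT.Ck.O4

open Cfsg Matrix Cfsg.Agent.DL Cfsg.Agent.HZ.L Cfsg.Agent.BZ.TA Cfsg.Agent.OM Cfsg.Agent.OM.Cu Cfsg.Agent.OM.Cu.BaseA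
open Cfsg.Agent.BZ.RT.Co3.N4 (p4 ok4)

variable {R : Type} [Fintype R] [DecidableEq R] {L Θ : RS R} {X : Mat R} {f : Mat R → ℂ}

theorem aut3 (π : Equiv.Perm (Fin 3)) (h : ∀ i j, cm 3 cA (π i) (π j) = cm 3 cA i j) : π = 1 ∨ π = Equiv.swap 0 2 := by
  have k : ∀ x y z : Fin 3, (∀ i j : Fin 3, cA (![x, y, z] i) (![x, y, z] j) = cA i j) →
      (∀ i, ![x, y, z] i = i) ∨ ∀ i, ![x, y, z] i = Equiv.swap (0 : Fin 3) 2 i := by decide +kernel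
  have e : ∀ i, ![π 0, π 1, π 2] i = π i := fun i => by fin_cases i <;> rfl
  exact (k (π 0) (π 1) (π 2) fun i j => by rw [e, e]; exact h i j).imp (fun k => Equiv.ext fun i => (e i).symm.trans (k i))
    fun k => Equiv.ext fun i => (e i).symm.trans (k i)

/-- **`A₃`, all twists** -/
theorem noA3 {P : Matrix R (Fin 3) ℤ} (T : Cu.Tr P (Rc (cm 3 cA)) L) (hX : Nm X L) (h : Hy0 L X 1 f) : f X = 0 := by
  have H := boxRs _ _ CkE.carA3
  obtain ⟨B, hB⟩ := Gl.exists_B H T hX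
  obtain ⟨w, hw, π, hπ, rfl⟩ := boxCh boxRs _ _ B CkE.carA3 (T.nm_dn hB hX)
  rcases aut3 π hπ with rfl | rfl
  · by_contra h0
    obtain ⟨b, hb, -⟩ := T.up _ (H.mem 0)
    rw [C5.boxA (cm 3 cA) _ P L L X w 1 (fun i => i) 1 f CkE.carA3 T Fin.val_injective (fun _ _ => rfl) hw
      (by rw [hB, pm_one, Matrix.mul_one, Units.val_one, one_smul]) hX subset_rfl hX T.nm
      (by rw [Units.val_one, Int.cast_one]; exact IsPrimitiveRoot.one) h h0] at hb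
    exact hb
  · have k := kA3 _ _ ⟨w, H.ww ▸ hw, rfl⟩ (hy0_up T H hB hX h)
    rwa [T.up_eq H hB hX (Co.refl _ _) hB] at k

/-- the pairings -/
def ip (t u : ℕ) : ℤ := ((0x322222221121232221112202223112202210221312022012221130220212212203112020212021310220210221130022122202003101122020201301201112220030120220021103 >>> (4 * (12 * t + u)) % 16 : ℕ) : ℤ) - 1

/-- the reflections -/
def rf (t u : ℕ) : ℕ := 0xb145678932a01a02365478b94098723b561a529870b34a1663987b02a4157a20b65419388a3b065491279ab326548701b754a1983260b86a49173250ab9873206514b9a658713240 >>> (4 * (12 * t + u)) % 16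

theorem tab1 : ∀ t < 12, ip t t = 2 ∧ ∀ u < 12, (p4 t).1 ⬝ᵥ (p4 u).2 = ip t u ∧ ip u t = ip t u ∧ rf t u < 12 ∧
    ((p4 u).2 - ip t u • (p4 t).2 = (p4 (rf t u)).2 ∨ (p4 u).2 - ip t u • (p4 t).2 = -(p4 (rf t u)).2) := by
  decide +kernel

/-- some pair `p.1` lies in `m` while `p.2` does not, or `b` -/
noncomputable def fBad (m : ℕ) (b : Bool) (l : List (ℕ × ℕ)) : Bool :=
  List.rec b (fun p _ r => Bool.rec r (Bool.rec r true (Nat.beq (Nat.land m p.2) 0)) (Nat.beq (Nat.land m p.1) p.1)) l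

theorem fBad_spec {m : ℕ} {b : Bool} (hm : ∀ t < 12, m.testBit t → ∀ u < 12, m.testBit u → m.testBit (rf t u)) :
    ∀ l : List (ℕ × ℕ), (∀ p ∈ l, ∃ t < 12, ∃ u < 12, p.1 = 2 ^ t ||| 2 ^ u ∧ p.2 = 2 ^ rf t u) → fBad m b l = true → b = true
  | [], _, h => h
  | p :: l, hl, h => by
    have h1 : (Bool.rec (fBad m b l) (Bool.rec (fBad m b l) true (Nat.beq (m &&& p.2) 0)) (Nat.beq (m &&& p.1) p.1) : Bool) =
        true := h
    have ih := fBad_spec (b := b) hm l fun q hq => hl q (List.mem_cons_of_mem _ hq)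
    cases h2 : Nat.beq (m &&& p.1) p.1
    · rw [h2] at h1
      exact ih h1
    · cases h3 : Nat.beq (m &&& p.2) 0
      · rw [h2, h3] at h1
        exact ih h1
      · obtain ⟨t, ht, u, hu, e1, e2⟩ := hl p List.mem_cons_self
        have h4 := Nat.eq_of_beq_eq_true h2
        have h5 := congrArg (Nat.testBit · (rf t u)) (Nat.eq_of_beq_eq_true h3)
        have h6 := congrArg (Nat.testBit · t) h4
        have h7 := congrArg (Nat.testBit · u) h4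
        rw [e1] at h6 h7
        rw [e2] at h5
        simp only [Nat.testBit_and, Nat.testBit_or, Nat.testBit_two_pow_self, Bool.true_or, Bool.or_true, Bool.and_true,
          Nat.zero_testBit] at h5 h6 h7
        rw [hm t ht h6 u hu h7] at h5
        exact absurd h5 (by decide)

/-- the pairs of roots which are not orthogonal, with the third root -/
def fPairs : List (ℕ × ℕ) := [(3, 16), (17, 2), (18, 1), (36, 2), (264, 16), (576, 4), (1152, 8), (2050, 1024), (1028, 256), (136, 1024), (272, 8), (1032, 128), (2304, 32), (34, 4), (513, 1024), (68, 512), (3072, 2), (144, 4), (516, 64), (288, 2048), (72, 2), (6, 32), (2080, 256), (1025, 512), (1536, 1), (192, 2048), (24, 256), (2176, 64), (2112, 128), (257, 64), (66, 8), (33, 128), (132, 16), (520, 32), (1026, 2048), (20, 128), (40, 512), (544, 8), (320, 1), (65, 256), (129, 32), (10, 64), (260, 1024), (528, 2048),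 (2064, 512), (160, 1), (1280, 4), (2560, 16)]

/-- `f` holds below `n` -/
noncomputable def fAll (f : ℕ → Bool) (n : ℕ) : Bool := Nat.rec true (fun i r => Bool.rec false r (f i)) n

theorem fAll_spec {f : ℕ → Bool} : ∀ {n : ℕ}, fAll f n = true → ∀ i < n, f i = true
  | 0, _, _, hi => absurd hi (Nat.not_lt_zero _)
  | n + 1, h, i, hi => by
    have h1 : (Bool.rec false (fAll f n) (f n) : Bool) = true := h
    cases h2 : f n
    · rw [h2] at h1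
      exact absurd h1 Bool.false_ne_true
    · rw [h2] at h1
      rcases Nat.lt_succ_iff_lt_or_eq.1 hi with h3 | h3
      · exact fAll_spec h1 i h3
      · rw [h3]
        exact h2

theorem fClosed (P : ℕ → Prop) [DecidablePred P]
    (h : (fAll (fun i => fAll (fun j => fBad (Nat.add (Nat.mul 64 i) j) (decide (P (Nat.add (Nat.mul 64 i) j))) fPairs) 64) 64) = true) :
    ∀ m < 4096, (∀ t < 12, m.testBit t → ∀ u < 12, m.testBit u → m.testBit (rf t u)) → P m := by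
  intro m hm hc
  have h1 : fBad (64 * (m / 64) + m % 64) (decide (P (64 * (m / 64) + m % 64))) fPairs = true :=
    fAll_spec (fAll_spec h (m / 64) (by omega)) (m % 64) (by omega)
  rw [Nat.div_add_mod] at h1
  exact of_decide_eq_true (fBad_spec hc fPairs (by decide +kernel) h1)

theorem tab2 : ∀ m < (4096 : ℕ), (∀ t < (12 : ℕ), m.testBit t → ∀ u < (12 : ℕ), m.testBit u → m.testBit (rf t u)) →
    (∃ t < (12 : ℕ), m.testBit t ∧ ∀ u < (12 : ℕ), m.testBit u → u = t ∨ ip t u = 0) ∨ (∀ t < (12 : ℕ), m.testBit t → ∀ u < (12 : ℕ), m.testBit u → ip t u ≠ 0) ∨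
      (∀ t < (12 : ℕ), m.testBit t) ∨ ∃ x < (12 : ℕ), m.testBit x ∧ ∃ y < (12 : ℕ), m.testBit y ∧ ip x y = -1 ∧ ∃ z < (12 : ℕ), m.testBit z ∧ ip y z = -1 ∧
        ip x z = 0 ∧ ∀ t < (12 : ℕ), m.testBit t → t = x ∨ t = y ∨ t = z ∨ t = rf x y ∨ t = rf z y ∨ t = rf x (rf z y) :=
  fClosed _ (by decide +kernel)

/-- **two orthogonal roots** -/
theorem d4_of_orth {S : Matrix R (Fin 4) ℤ} (T : Cu.Tr S (Rc (cm 4 (cT 1 4))) Θ) (sub : L ⊆ Θ) (cl : ∀ b ∈ L, Nm (rfm b) L)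
    (hX : Nm X L) {n : ℕ} (hn : 0 < n) (h1 : X ^ n = 1) (h : Hy0 L X 1 f) (h0 : f X ≠ 0) {a b : Vec R × Vec R} (ha : a ∈ L)
    (hb : b ∈ L) (hab : a.1 ⬝ᵥ b.2 = 0) : L = Θ := by
  classical
  have H : Rs (cm 4 (cT 1 4)) _ := ok4.rs
  have two : ∀ b ∈ Θ, b.1 ⬝ᵥ b.2 = 2 := fun b hb => On.E6.tr_two Eng.carD4 T hb
  have ng : ∀ b ∈ L, -b ∈ L := fun b hb => C5.A24.neg_mem (cl b hb) hb (two b (sub hb))
  have k0 : ∀ t, ∃ b, t < 12 → b ∈ Θ ∧ S *ᵥ (p4 t).2 = b.2 ∧ b.1 ᵥ* S = (p4 t).1 := fun t => by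
    by_cases ht : t < 12
    · obtain ⟨b, k⟩ := T.up _ (ok4.bs.rr_mem ok4.rs t ht)
      exact ⟨b, fun _ => k⟩
    · exact ⟨0, fun k => (ht k).elim⟩
  choose β hβ using k0
  have pm2 : ∀ t < 12, ∀ b ∈ Θ, b.2 = S *ᵥ (p4 t).2 ∨ b.2 = S *ᵥ (-(p4 t).2) → b = β t ∨ b = -β t := fun t ht b hb e =>
    e.imp (fun e => T.ext _ hb _ (hβ t ht).1 (e.trans (hβ t ht).2.1)) fun e =>
      T.ext _ hb _ (On.E6.tr_neg Eng.carD4 T (hβ t ht).1) (by rw [e, mulVec_neg, (hβ t ht).2.1, Prod.snd_neg])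
  have all : ∀ b ∈ Θ, ∃ t < 12, b = β t ∨ b = -β t := fun b hb => by
    obtain ⟨a, k1, k2, -⟩ := T.dn b hb
    obtain ⟨t, ht, e⟩ : ∃ t < 12, a = p4 t ∨ a = -p4 t := ok4.bs.rr_all ok4.rs k1
    exact ⟨t, ht, pm2 t ht b hb (e.imp (fun e => by rw [← k2, e]) fun e => by rw [← k2, e, Prod.snd_neg])⟩
  have dot : ∀ t < 12, ∀ u < 12, (β t).1 ⬝ᵥ (β u).2 = ip t u := fun t ht u hu => by
    rw [← (hβ u hu).2.1, dotProduct_mulVec, (hβ t ht).2.2, ((tab1 t ht).2 u hu).1]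
  have mem : ∀ t, ∀ b ∈ L, b = β t ∨ b = -β t → β t ∈ L := fun t b hb e =>
    e.elim (fun e => e ▸ hb) fun e => neg_neg (β t) ▸ ng _ (e ▸ hb)
  have stp : ∀ t < 12, ∀ u < 12, β t ∈ L → β u ∈ L → ∃ c ∈ L, rfm (β t) *ᵥ (β u).2 = c.2 ∧ c.1 ᵥ* rfm (β t) = (β u).1 ∧
      (c = β (rf t u) ∨ c = -β (rf t u)) := fun t ht u hu k1 k2 => by
    obtain ⟨c, c1, c2, c3⟩ := cl _ k1 _ k2
    obtain ⟨-, -, e1, e2⟩ := (tab1 t ht).2 u hu
    refine ⟨c, c1, c2, c3, pm2 _ e1 c (sub c1) ?_⟩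
    rw [← c2, Cu.rfm_mulVec, dot t ht u hu, ← (hβ t ht).2.1, ← (hβ u hu).2.1, ← mulVec_smul, ← mulVec_sub]
    exact e2.imp (congrArg _) (congrArg _)
  let m := Nat.ofBits fun i : Fin 12 => decide (β i ∈ L)
  have bit : ∀ t < 12, m.testBit t ↔ β t ∈ L := fun t ht => by rw [Nat.testBit_ofBits_lt _ t ht, decide_eq_true_eq]
  rcases tab2 m (Nat.ofBits_lt_two_pow _) (fun t ht k1 u hu k2 => by
    obtain ⟨c, c1, -, -, c2⟩ := stp t ht u hu ((bit t ht).1 k1) ((bit u hu).1 k2)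
    exact (bit _ ((tab1 t ht).2 u hu).2.2.1).2 (mem _ c c1 c2)) with ⟨t, ht, k1, k2⟩ | k | k | ⟨x, hx, x1, y, hy, y1, e1, z, hz, z1, e2, e3, k⟩
  · refine (h0 (k1' hn h1 hX ((Z2.tr_fin T H.fin).subset sub) (fun b hb => two b (sub hb)) h ((bit t ht).1 k1) fun c hc => ?_)).elim
    obtain ⟨u, hu, e⟩ := all c (sub hc)
    rcases k2 u hu ((bit u hu).2 (mem u c hc e)) with rfl | k3
    · exact e.imp_right .inl
    · have k4 := dot t ht u hu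
      have k5 := dot u hu t ht
      rw [((tab1 t ht).2 u hu).2.1, k3] at k5
      rw [k3] at k4
      rcases e with rfl | rfl
      · exact .inr (.inr ⟨k5, k4⟩)
      · exact .inr (.inr ⟨by rw [Prod.fst_neg, neg_dotProduct, k5, neg_zero], by rw [Prod.snd_neg, dotProduct_neg, k4, neg_zero]⟩)
  · obtain ⟨t, ht, e⟩ := all a (sub ha)
    obtain ⟨u, hu, e'⟩ := all b (sub hb)
    refine (k t ht ((bit t ht).2 (mem t a ha e)) u hu ((bit u hu).2 (mem u b hb e')) ?_).elim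
    rw [← dot t ht u hu]
    rcases e with rfl | rfl <;> rcases e' with rfl | rfl <;> simpa using hab
  · refine sub.antisymm fun c hc => ?_
    obtain ⟨t, ht, rfl | rfl⟩ := all c hc
    exacts [(bit t ht).1 (k t ht), ng _ ((bit t ht).1 (k t ht))]
  · rw [bit _ hx] at x1
    rw [bit _ hy] at y1
    rw [bit _ hz] at z1
    let s : Fin 3 → Vec R × Vec R := ![β x, β y, β z]
    have hs : Cf s = cm 3 cA := by
      have d1 := (tab1 x hx).1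
      have d2 := (tab1 y hy).1
      have d3 := (tab1 z hz).1
      have d4 := ((tab1 x hx).2 y hy).2.1
      have d5 := ((tab1 y hy).2 z hz).2.1
      have d6 := ((tab1 x hx).2 z hz).2.1
      ext i j
      fin_cases i <;> fin_cases j
      exacts [(dot x hx x hx).trans d1, (dot y hy x hx).trans (d4.trans e1), (dot z hz x hx).trans (d6.trans e3),
        (dot x hx y hy).trans e1, (dot y hy y hy).trans d2, (dot z hz y hy).trans (d5.trans e2), (dot x hx z hz).trans e3,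
        (dot y hy z hz).trans e2, (dot z hz z hz).trans d3]
    have car : Car (Cf s) ![1, 1, 1] := hs ▸ CkE.carA3
    have dn : ∀ c, Dn s c → Dn s (-c) := fun c ⟨a, a1, a2, a3⟩ =>
      ⟨-a, (boxRs _ _ car).neg a a1, by rw [Prod.snd_neg, mulVec_neg, a2, Prod.snd_neg], by rw [Prod.fst_neg, neg_vecMul, a3, Prod.fst_neg]⟩
    have st : ∀ (i : Fin 3) t, t < 12 → s i = β t → ∀ u < 12, β t ∈ L → β u ∈ L → Dn s (β u) →
        β (rf t u) ∈ L ∧ Dn s (β (rf t u)) := fun i t ht e u hu k1 k2 k3 => by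
      obtain ⟨c, c1, c2, c3, c4⟩ := stp t ht u hu k1 k2
      have k4 : Dn s c := k3.step i (e ▸ c2) (e ▸ c3)
      exact ⟨mem _ c c1 c4, c4.elim (fun e => e ▸ k4) fun e => neg_neg (β (rf t u)) ▸ dn _ (e ▸ k4)⟩
    have s1 := st 2 z hz rfl y hy z1 y1 (dn_s s 1)
    refine (h0 (noA3 (hs ▸ tr_of car (fun i => by fin_cases i; exacts [x1, y1, z1]) (fun b hb b' hb' => T.ext b (sub hb) b' (sub hb'))
      cl fun c hc => ?_) hX h)).elim
    obtain ⟨t, ht, e⟩ := all c (sub hc)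
    have k6 : Dn s (β t) := by
      rcases k t ht ((bit t ht).2 (mem t c hc e)) with rfl | rfl | rfl | rfl | rfl | rfl
      exacts [dn_s s 0, dn_s s 1, dn_s s 2, (st 0 x hx rfl y hy x1 y1 (dn_s s 1)).2, s1.2,
        (st 0 x hx rfl _ ((tab1 z hz).2 y hy).2.2.1 x1 s1.1 s1.2).2]
    exact e.elim (fun e => e ▸ k6) fun e => e ▸ dn _ k6

/-- the nodes of `D₄` -/
def nd (n : ℕ) (h : 3 < n) : Fin 4 → Fin n := ![⟨1, by omega⟩, ⟨2, by omega⟩, ⟨3, h⟩, ⟨n - 1, by omega⟩]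

/-- the inclusion -/
def inD (n : ℕ) (h : 3 < n) : Matrix (Fin n) (Fin 4) ℤ := Pf fun i => sp (Cx.En n) (nd n h i)

theorem trD' {n : ℕ} (h : 3 < n) {D : Fin n → ℤ} (hC : Car (Cx.En n) D) (μ : Vec (Fin n)) (hd : Z2.Dom (Cx.En n) μ)
    (hJ : ∀ i, Z2.Jz (Cx.En n) μ i ↔ Cx.Dn n i) (h1 : Cf (fun i => sp (Cx.En n) (nd n h i)) = cm 4 (cT 1 4))
    (h2 : ∀ v : Vec (Fin n), (∀ i, ¬ Cx.Dn n i → v i = 0) → inD n h *ᵥ (fun i => v (nd n h i)) = v) (h3 : ∀ i j, ¬ Cx.Dn n j → j ≠ nd n h i) :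
    Cu.Tr (inD n h) (Rc (cm 4 (cT 1 4))) (Cx.D4 n) := by
  classical
  obtain ⟨p1, p2, p3, -⟩ := Z2.boxPar _ D μ hC hd
  have H := boxRs _ _ hC
  have e : lev (Rc (Cx.En n)) μ = Cx.D4 n := Set.ext fun a => and_congr_right fun ha => by
    rw [p1 a ha]
    exact forall_congr' fun i => by rw [hJ]
  rw [e] at p3
  rw [← h1]
  refine On.E6.tr_base p2 p3 (h1 ▸ Eng.carD4) (fun i => ⟨H.mem _, fun j hj => Pi.single_eq_of_ne (h3 i j hj) _⟩) fun b hb =>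
    ⟨_, h2 _ hb.2, (H.pn b hb.1).imp (fun k _ => k _) fun k _ => k _⟩

/-- **the frame of the standard `D₄`** -/
theorem trD4 {n : ℕ} (h : Cx.R3 n) : ∃ h' : 3 < n, Cu.Tr (inD n h') (Rc (cm 4 (cT 1 4))) (Cx.D4 n) := by
  rcases h with rfl | rfl | rfl
  · refine ⟨by decide, trD' _ Eng.carE6 ![2, 3, 4, 3, 2, 2] (by unfold Z2.Dom; decide +kernel) (by unfold Cx.Dn; decide +kernel)
      (by decide +kernel) (fun v hv => funext fun i => ?_) (by unfold Cx.Dn; decide +kernel)⟩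
    have k0 := hv 0 (by unfold Cx.Dn; decide)
    have k4 := hv 4 (by unfold Cx.Dn; decide)
    fin_cases i <;> simp [inD, Pf, sp, nd, mulVec, dotProduct, Fin.sum_univ_four, k0, k4] <;> rfl
  · refine ⟨by decide, trD' _ Eng.carE7 ![10, 18, 26, 21, 16, 9, 13] (by unfold Z2.Dom; decide +kernel) (by unfold Cx.Dn; decide +kernel)
      (by decide +kernel) (fun v hv => funext fun i => ?_) (by unfold Cx.Dn; decide +kernel)⟩
    have k0 := hv 0 (by unfold Cx.Dn; decide)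
    have k4 := hv 4 (by unfold Cx.Dn; decide)
    have k5 := hv 5 (by unfold Cx.Dn; decide)
    fin_cases i <;> simp [inD, Pf, sp, nd, mulVec, dotProduct, Fin.sum_univ_four, k0, k4, k5] <;> rfl
  · refine ⟨by decide, trD' _ Eng.carE8 ![16, 31, 46, 38, 30, 21, 11, 23] (by unfold Z2.Dom; decide +kernel)
      (by unfold Cx.Dn; decide +kernel) (by decide +kernel) (fun v hv => funext fun i => ?_) (by unfold Cx.Dn; decide +kernel)⟩
    have k0 := hv 0 (by unfold Cx.Dn; decide)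
    have k4 := hv 4 (by unfold Cx.Dn; decide)
    have k5 := hv 5 (by unfold Cx.Dn; decide)
    have k6 := hv 6 (by unfold Cx.Dn; decide)
    fin_cases i <;> simp [inD, Pf, sp, nd, mulVec, dotProduct, Fin.sum_univ_four, k0, k4, k5, k6] <;> rfl

/-- **in the standard system** -/
theorem d4_std {n : ℕ} (h : Cx.R3 n) {L : RS (Fin n)} {X : Mat (Fin n)} {f : Mat (Fin n) → ℂ} (sub : L ⊆ Cx.D4 n)
    (cl : ∀ b ∈ L, Nm (rfm b) L) (hX : Nm X L) (hX' : Nm X (Rc (Cx.En n))) (hy : Hy0 L X 1 f) (h0 : f X ≠ 0)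
    {a b : Vec (Fin n) × Vec (Fin n)} (ha : a ∈ L) (hb : b ∈ L) (hab : a.1 ⬝ᵥ b.2 = 0) : L = Cx.D4 n :=
  let ⟨_, T⟩ := trD4 h
  let ⟨_, c⟩ := Cx.TA24.car h
  let ⟨_, k1, k2⟩ := Z2.fin_ord (boxRs _ _ c) hX'
  d4_of_orth T sub cl hX k1 k2 hy h0 ha hb hab

end Cfsg.Agent.BZ.RT.Ck.O4

private theorem dce_ec3b835b8631 : _root_.True := by
  try have : _root_.True := by simp only [_root_.Cfsg.Agent.BZ.RT.Ck.O4.inD.eq_1]
  try have : _root_.True := by simp only [_root_.Cfsg.Agent.BZ.RT.Ck.O4.nd.eq_1]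
  exact _root_.True.intro
end

-- part: BZ/RT/Cx/Sh
section
prune_inst 0x62450680505800200001c0010b2000081300000000040080020e601060945c040a04280014820050a10009c803804002811100020c22000000000300000060521982ac000d2c9030cec0009803003590c00000000000000000000000000000000204010000
set_option linter.all false
open scoped Cfsg.Agent.FastGrp

/-!
# BZ / RT / Cx : the shapes over `D₄`, `D₄ A₁`, `D₄ A₂` (helper44)
-/

set_option autoImplicit false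
set_option linter.unusedSectionVars false

namespace Cfsg.Agent.BZ.RT.Cx

open Cfsg Matrix Cfsg.Agent.DL Cfsg.Agent.HZ.L Cfsg.Agent.BZ.TA Cfsg.Agent.BZ.TA.Cl Cfsg.Agent.OM.Cu Cfsg.Agent.OM Cfsg.Agent.BZ.RT.Z2

namespace Sh44

section Gen

variable {I : Type} [Fintype I] [DecidableEq I] {C : Mat I} {u v μ : Vec I} {a b : Vec I × Vec I}

theorem le1 (h : Car C fun _ => 1) (hu : B C u u = 2) (hv : B C v v = 2) (h1 : B C u μ = 0) (h2 : B C v μ ≠ 0) :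
    -1 ≤ B C u v ∧ B C u v ≤ 1 := by
  refine ⟨by_contra fun k => h2 ?_, by_contra fun k => h2 ?_⟩
  · have e := b_zero h (v := u + v) (by rw [b_add, b_add', b_add', b_sym h v u]; omega)
    have e' := b_add (C := C) u v μ
    rw [e, h1, B, zero_dotProduct] at e'
    omega
  · have e := b_zero h (v := u - v) (by rw [b_sub, b_sub', b_sub', b_sym h v u]; omega)
    rw [← sub_eq_zero.1 e, h1]

theorem tri (h : Car C fun _ => 1) (ha : a ∈ Rc C) (hb : b ∈ Rc C) (e : 2 ∣ B C a.2 b.2) : a = b ∨ a = -b ∨ B C a.2 b.2 = 0 := by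
  rcases E8q.le_one h ha hb with (k | k) | k
  exacts [.inl (RsP.ext h ha hb k), .inr (.inl (RsP.ext h ha (RsP.neg h hb) k)), .inr (.inr (by rw [b_dot h ha] at k; omega))]

theorem bd1 {s t : ℤ} (h : s * (2 * s - t) + t * (2 * t - s) = 2) : -1 ≤ s ∧ s ≤ 1 ∧ -1 ≤ t ∧ t ≤ 1 := by
  refine ⟨?_, ?_, ?_, ?_⟩ <;> nlinarith only [h, sq_nonneg (2 * s - t), sq_nonneg (2 * t - s)]

theorem bd2 {s t : ℤ} (h : s * (2 * s - t) + t * (2 * t - s) ≤ 8) : -2 ≤ s ∧ s ≤ 2 ∧ -2 ≤ t ∧ t ≤ 2 := by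
  refine ⟨?_, ?_, ?_, ?_⟩ <;> nlinarith only [h, sq_nonneg (2 * s - t), sq_nonneg (2 * t - s)]

end Gen

variable {n : ℕ} {μ : Vec (Fin n)} {X : Mat (Fin n)} {G : Submonoid (Mat (Fin n))} {Φ : RS (Fin n)} {a b c : Vec (Fin n) × Vec (Fin n)}

/-- `X` is a rotation of `A₂` -/
theorem rot {μ : Vec (Fin 8)} {X : Mat (Fin 8)} {G : Submonoid (Mat (Fin 8))} (H : Mg (En 8) μ X G) (hX : X ∈ Wc (En 8)) (hJ : J4 8 μ)
    (h5 : Jz (En 8) μ 5) (h6 : Jz (En 8) μ 6) (x y : ℤ) : X *ᵥ (X *ᵥ V x y) = -V x y - X *ᵥ V x y := by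
  have hn : R3 8 := .inr (.inr rfl)
  have hC := AnJ.car hn
  have hw := ParT.stab hC H.dom hX H.fx
  have k : ∀ x y, ∃ s t, X *ᵥ V x y = V s t := fun x y => ⟨_, _, eq_V hJ fun i hi => by
    have := inv hn hJ H.dom hw _ (no hn hJ (sn_V h5 h6 x y)) i hi
    rwa [Pi.sub_apply, sn_V h5 h6 x y i hi, sub_zero] at this⟩
  obtain ⟨s, t, e1⟩ := k 1 0
  obtain ⟨s', t', e2⟩ := k 0 1
  have lin : ∀ x y, X *ᵥ V x y = V (x * s + y * s') (x * t + y * t') := fun x y => by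
    rw [show V x y = x • V 1 0 + y • V 0 1 by simp only [V, _root_.Fin.isValue, _root_.zsmul_eq_mul, _root_.one_smul, _root_.zero_smul, _root_.add_zero, _root_.zero_add], mulVec_add, mulVec_smul, mulVec_smul, e1, e2]
    simp only [V]
    module
  have n1 := b_iso hC hX (V 1 0) (V 1 0)
  have n2 := b_iso hC hX (V 0 1) (V 0 1)
  have n3 := b_iso hC hX (V 1 0) (V 0 1)
  simp only [e1, e2, b_VV] at n1 n2 n3
  obtain ⟨z, hz⟩ := mod3 hw (u := V 2 1) (fun b hb => by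
    rw [b_dot hC hb.1]
    rcases dich hn hJ H.dom hb with e | e
    · rw [so e (no hn hJ (sn_V h5 h6 2 1))]
      exact dvd_zero _
    · rw [eq_V hJ e, b_VV]
      omega) 0
  rw [smul_zero, add_zero, lin] at hz
  have m5 := congrFun hz 5
  have m6 := congrFun hz 6
  simp only [Pi.add_apply, Pi.smul_apply, v5, v6, smul_eq_mul] at m5 m6
  have f : ∀ x y, x * s + y * s' = x → x * t + y * t' = y → y = 0 := fun x y k1 k2 => by
    have := AnJ.fix_zero hC H.ell (v := V x y) (fun i hi => sn_V h5 h6 x y i (.inr hi)) (by rw [lin, k1, k2])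
    rw [← v6 x y, this, Pi.zero_apply]
  have f1 := f 2 1
  have f2 := f (-1) 1
  have f3 := f 1 2
  have key : s * s + t * s' = -1 - s ∧ s * t + t * t' = -t ∧ s' * s + t' * s' = -s' ∧ s' * t + t' * t' = -1 - t' := by
    obtain ⟨b1, b2, b3, b4⟩ := bd1 n1
    obtain ⟨b5, b6, b7, b8⟩ := bd1 n2
    generalize z 5 = z5 at m5
    generalize z 6 = z6 at m6
    clear * - b1 b2 b3 b4 b5 b6 b7 b8 n1 n2 n3 m5 m6 f1 f2 f3
    interval_cases s <;> interval_cases t <;> interval_cases s' <;> interval_cases t' <;> (clear * - m5 m6 f3 n1 f2 f1; omega)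
  rw [lin, lin, show (x * s + y * s') * s + (x * t + y * t') * s' = -x - (x * s + y * s') by linear_combination x * key.1 + y * key.2.2.1,
    show (x * s + y * s') * t + (x * t + y * t') * t' = -y - (x * t + y * t') by linear_combination x * key.2.1 + y * key.2.2.2]
  simp only [V]
  module

/-- the Levi subsystem of `Φ` lies in `D₄` -/
theorem sub (hn : R3 n) (H : Ms (En n) μ X G Φ) (hX : X ∈ Wc (En n)) (hJ : J4 n μ) (hb : b ∈ _root_.Cfsg.Agent.HZ.L.lev Φ μ) : Sd b.2 := by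
  have hC := AnJ.car hn
  refine (dich hn hJ H.dom ⟨H.sub hb.1, hb.2⟩).resolve_right fun h1 => ?_
  obtain ⟨f, f1, f2⟩ := H.hy
  obtain ⟨m, m1, m2⟩ := fin_ord (boxRs _ _ hC) H.nm
  have h2 := b_two hC (H.sub hb.1)
  refine f2 (Ck.k1' m1 m2 (ParT.nm_lev H.nx H.fx) ((RsP.fin hC).subset fun a ha => H.sub ha.1) (fun a ha => RsP.two hC (H.sub ha.1))
    f1 hb fun a ha => ?_)
  rw [b_dot hC (H.sub ha.1), b_dot hC (H.sub hb.1), b_sym hC b.2, and_self]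
  rcases dich hn hJ H.dom ⟨H.sub ha.1, ha.2⟩ with k | k
  · exact .inr (.inr (so k (no hn hJ h1)))
  obtain rfl := eight hJ h1 fun e => by simp only [e, B, _root_.Matrix.zero_vecMul, _root_.dotProduct_zero, _root_.OfNat.zero_ne_ofNat] at h2
  refine tri hC (H.sub ha.1) (H.sub hb.1) ?_
  by_cases h5 : Jz (En 8) μ 5
  · by_cases h6 : Jz (En 8) μ 6
    · have := eig3 H.an (rot H.toMg hX hJ h5 h6 (b.2 5) (b.2 6)) hb
      rw [← eq_V hJ h1, RsP.two hC (H.sub hb.1)] at this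
      omega
    · rw [eq_V hJ k, eq_V hJ h1, b_VV, k 6 (.inr h6), h1 6 (.inr h6)]
      exact ⟨a.2 5 * b.2 5, by ring⟩
  · rw [eq_V hJ k, eq_V hJ h1, b_VV, k 5 (.inr h5), h1 5 (.inr h5)]
    exact ⟨a.2 6 * b.2 6, by ring⟩

/-- the roots of `Φ` which are orthogonal to `D₄` are fixed -/
theorem fix (hn : R3 n) (H : Ms (En n) μ X G Φ) (hX : X ∈ Wc (En n)) (hJ : J4 n μ) (hc : c ∈ Φ) (h1 : Od c.2)
    (h2 : B (En n) c.2 μ ≠ 0) : X *ᵥ c.2 = c.2 := by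
  have hC := AnJ.car hn
  have h3 := inv hn hJ H.dom (ParT.stab hC H.dom hX H.fx) _ h1
  obtain ⟨c', hc', h4, -⟩ := H.nx c hc
  have h5 : B (En n) c'.2 μ = B (En n) c.2 μ := by rw [← h4, ← b_iso hC hX c.2 μ, H.fx]
  rw [h4] at h3 ⊢
  by_contra k
  have n1 := b_two hC (H.sub hc)
  have n2 := b_two hC (H.sub hc')
  have h6 : B (En n) c'.2 c.2 = 1 := by
    obtain rfl := eight hJ h3 (sub_ne_zero.2 k)
    have e := eq_V hJ h3
    have j5 : (c'.2 - c.2) 5 ≠ 0 → (μ ᵥ* En 8) 5 = 0 := fun k => by_contra fun k' => k (h3 5 (.inr fun e => k' (RsP.sp_dot 5 μ ▸ e)))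
    have j6 : (c'.2 - c.2) 6 ≠ 0 → (μ ᵥ* En 8) 6 = 0 := fun k => by_contra fun k' => k (h3 6 (.inr fun e => k' (RsP.sp_dot 6 μ ▸ e)))
    generalize (c'.2 - c.2) 5 = s at e j5
    generalize (c'.2 - c.2) 6 = t at e j6
    have e1 := b_VV s t s t
    have e2 := b_V s t c.2
    have e3 := b_nn hC (c'.2 + c.2)
    have e4 : ¬ B (En 8) (c'.2 - c.2) (c'.2 - c.2) ≤ 0 := fun e => sub_ne_zero.2 k (b_zero hC e)
    rw [← e] at e1 e2
    simp only [b_sub, b_sub', b_add, b_add', b_sym hC c.2 c'.2, n1, n2] at e1 e2 e3 e4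
    have l1 := fun k => le1 hC (b_VV 1 0 1 0) n1 (by rw [b_V, j5 k]; ring) h2
    have l2 := fun k => le1 hC (b_VV 0 1 0 1) n1 (by rw [b_V, j6 k]; ring) h2
    have l3 := fun k k' => le1 hC (b_VV 1 1 1 1) n1 (by rw [b_V, j5 k, j6 k']; ring) h2
    simp only [b_V] at l1 l2 l3
    generalize (c.2 ᵥ* En 8) 5 = z5 at *
    generalize (c.2 ᵥ* En 8) 6 = z6 at *
    generalize B (En 8) c'.2 c.2 = p at *
    obtain ⟨b1, b2, b3, b4⟩ := bd2 (s := s) (t := t) (by omega)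
    clear * - b1 b2 b3 b4 e1 e2 e3 e4 l1 l2 l3
    interval_cases s <;> interval_cases t <;> (clear * - l3 e1 e2 l1 l2 e3 e4; omega)
  obtain ⟨e, he, e1, -⟩ := H.cl c' hc' c hc
  rw [RsP.rfm_mulVec, b_dot hC (H.sub hc'), h6, one_smul] at e1
  have h7 := so (sub hn H hX hJ ⟨he, by rw [b_dot hC (H.sub he), ← e1, b_sub, h5, sub_self]⟩) (no hn hJ h3)
  have h8 := b_two hC (H.sub he)
  rw [← neg_sub, b_neg', e1] at h7
  omega

/-- a mixed root -/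
theorem step (hn : R3 n) (H : Ms (En n) μ X G Φ) (hX : X ∈ Wc (En n)) (hJ : J4 n μ) (ha : Mx Φ μ a) : _root_.Cfsg.Agent.HZ.L.lev Φ μ = D4 n ∨
    ∃ c ∈ Rc (En n), X *ᵥ c.2 = c.2 ∧ (∀ v, X *ᵥ v = v → B (En n) v c.2 = 2 * (a.1 ⬝ᵥ v)) ∧ a.1 ⬝ᵥ c.2 = 1 := by
  have hC := AnJ.car hn
  obtain ⟨a1, a2, b, b1, b2⟩ := ha
  obtain ⟨u, u1, u2, u3⟩ := proj hn a.2
  have b3 := sub hn H hX hJ b1
  have m0 : Od μ := fun i hi => RsP.sp_dot i μ ▸ hJ.1 i hi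
  have n1 := b_two hC (H.sub a1)
  have n2 := b_two hC (H.sub b1.1)
  rw [b_dot hC (H.sub a1)] at a2
  rw [b_dot hC (H.sub b1.1)] at b2
  have h1 := so u1 u2
  have h2 := so b3 u2
  have h3 := so u1 m0
  rw [b_sub', b_smul'] at h1 h2
  have h4 : ¬ B (En n) u u ≤ 0 := fun e => by
    rw [b_zero hC e, b_sym hC b.2 0, show B (En n) 0 b.2 = 0 from zero_dotProduct _] at h2
    omega
  have h5 : ¬ B (En n) ((2 : ℤ) • a.2 - u) ((2 : ℤ) • a.2 - u) ≤ 0 := fun e => by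
    rw [← sub_eq_zero.1 (b_zero hC e), b_smul] at h3
    omega
  simp only [b_sub, b_sub', b_smul, b_smul', b_sym hC a.2 u, n1] at h5
  have h6 : B (En n) u a.2 = 2 := by omega
  have h7 : B (En n) u u = 4 := by omega
  obtain ⟨k, hk⟩ := AnJ.Ev.neg hC H.dom hX H.fx H.ell (u := u) ⟨fun i hi => u1 i fun e => hi (hJ.1 i e), fun j hj => by
    by_cases e : Dn n j
    · have := u2 j e
      rw [sub_vecMul, smul_vecMul, Pi.sub_apply, Pi.smul_apply, smul_eq_mul] at this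
      omega
    · have := so u1 (no hn hJ (v := Pi.single j 1) fun i hi => Pi.single_eq_of_ne (fun e' : i = j => hi.elim (e' ▸ e) fun k => k (e' ▸ hj)) _)
      rw [b_sym hC, B, single_dotProduct, one_mul] at this
      exact this ▸ dvd_zero _, .inr h7⟩
  obtain ⟨a', a3, a4, -⟩ := OM.Cu.Nm.pow H.nx k a a1
  have x1 : ∀ v, X *ᵥ v = v → B (En n) v a'.2 = B (En n) v a.2 := fun v hv => by
    have : ∀ j, X ^ j *ᵥ v = v := fun j => by
      induction j with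
      | zero => rw [pow_zero, one_mulVec]
      | succ j ih => rw [pow_succ, ← mulVec_mulVec, hv, ih]
    rw [← a4, ← b_iso hC (pow_mem hX k) v a.2, this]
  have w1 := inv' hn hJ H.dom (pow_mem (ParT.stab hC H.dom hX H.fx) k) u2
  rw [mulVec_sub, mulVec_smul, a4, hk, sub_neg_eq_add] at w1
  have c1 : Od (a.2 + a'.2) := fun i hi => by
    have := (u2.add w1) i hi
    rw [sub_add_add_cancel, ← smul_add, smul_vecMul, Pi.smul_apply, smul_eq_mul] at this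
    omega
  have n3 := b_two hC (H.sub a3)
  have m1 := x1 μ H.fx
  rw [b_sym hC μ, b_sym hC μ] at m1
  have h8 := so u1 w1
  have h9 := b_nn hC (a.2 - a'.2 - u)
  have h10 : ¬ B (En n) (a.2 + a'.2) (a.2 + a'.2) ≤ 0 := fun e => by
    have := b_add (C := En n) a.2 a'.2 μ
    rw [b_zero hC e, show B (En n) 0 μ = 0 from zero_dotProduct _] at this
    omega
  have h11 := so b3 c1
  simp only [b_sub, b_sub', b_add, b_add', b_smul', b_sym hC a.2 u, b_sym hC a'.2 u, b_sym hC a.2 a'.2, n1, n3, h6, h7] at h8 h9 h10 h11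
  by_cases q : B (En n) a'.2 a.2 = 0
  · obtain ⟨f, f1, f2⟩ := H.hy
    obtain ⟨e, e1, e2, -⟩ := H.cl b b1.1 a a1
    obtain ⟨e', e3, e4, -⟩ := H.cl a' a3 e e1
    have m2 : B (En n) b.2 μ = 0 := b_dot hC (H.sub b1.1) μ ▸ b1.2
    have l := le1 hC n2 n1 m2 a2
    rw [RsP.rfm_mulVec, b_dot hC (H.sub b1.1)] at e2
    rw [RsP.rfm_mulVec, b_dot hC (H.sub a3), ← e2, b_sub', b_smul', q, b_sym hC a'.2,
      show 0 - B (En n) b.2 a.2 * B (En n) b.2 a'.2 = 1 by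
        rcases (by omega : B (En n) b.2 a.2 = 1 ∨ B (En n) b.2 a.2 = -1) with e | e <;> rw [e] <;> omega, one_smul] at e4
    refine .inl (Ck.O4.d4_std hn (fun x hx => ⟨H.sub hx.1, sub hn H hX hJ hx⟩) (Z2.nm_lev H.cl μ) (ParT.nm_lev H.nx H.fx) H.nm f1 f2 b1
      (b := e') ⟨e3, ?_⟩ ?_)
    · rw [b_dot hC (H.sub e3), ← e4, b_sub, b_sub, b_smul, m2, m1]
      ring
    · rw [b_dot hC (H.sub b1.1), ← e4, b_sub', b_sub', b_smul', n2]
      omega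
  · obtain ⟨e, e1, e2, -⟩ := H.cl a' a3 a a1
    rw [RsP.rfm_mulVec, b_dot hC (H.sub a3), show B (En n) a'.2 a.2 = -1 by omega, neg_smul, one_smul, sub_neg_eq_add] at e2
    refine .inr ⟨e, H.sub e1, fix hn H hX hJ e1 (e2 ▸ c1) (by rw [← e2, b_add]; omega), fun v hv => ?_, ?_⟩
    · rw [← e2, b_add', x1 v hv, b_dot hC (H.sub a1), b_sym hC a.2, two_mul]
    · rw [← e2, b_dot hC (H.sub a1), b_add', b_sym hC a.2 a'.2]
      omega

end Sh44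

open Sh44 in
/-- **[Sh]** -/
theorem boxSh : BoxSh := fun n hn μ X G Φ H hX hJ => by
  classical
  refine or_iff_not_imp_left.2 fun h0 => ?_
  have hC := AnJ.car hn
  choose! c c1 c2 c3 c4 using fun a (ha : Mx Φ μ a) => (step hn H hX hJ ha).resolve_left h0
  refine ⟨fun a => (c a).2, fun a ha => ⟨c2 a ha, fun v hv => (E8q.fm1 _ _).trans (c3 a ha v hv), by rw [c4 a ha]; decide, fun b hb => ?_⟩⟩
  have h1 := c3 b hb _ (c2 a ha)
  rcases tri hC (c1 b hb) (c1 a ha) (by rw [b_sym hC, h1]; exact dvd_mul_right _ _) with e | e | e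
  · exact .inl (congrArg Prod.snd e)
  · exact .inr (.inl (congrArg Prod.snd e))
  · rw [b_sym hC, e] at h1
    exact .inr (.inr (show b.1 ⬝ᵥ (c a).2 = 0 by omega))

end Cfsg.Agent.BZ.RT.Cx
end

-- part: BZ/RT/Cx/S69b
section
set_option linter.all false
open scoped Cfsg.Agent.FastGrp

-- part: BZ/RT/Cx/S69
section
/-!
# BZ / RT / Cx : the shapes over `D₅` (helper69)
-/

set_option autoImplicit false
set_option linter.unusedSectionVars false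
set_option maxRecDepth 100000

namespace Cfsg.Agent.BZ.RT.Cx

open Cfsg Matrix Cfsg.Agent.DL Cfsg.Agent.HZ.L Cfsg.Agent.BZ.TA Cfsg.Agent.BZ.TA.Cl Cfsg.Agent.OM Cfsg.Agent.OM.Cu Cfsg.Agent.BZ.RT.Z2
open BaseA (Cf Pf)

namespace S69

/-! ### sixteen weights -/

/-- the number of the different signs -/
def ds (k l : ℕ) : ℕ := (0x4442422242222220 >>> (4 * (k ^^^ l))) % 16

/-- the Gram matrix -/
def gr (k l : ℕ) : ℤ := 5 - 2 * ds k l

/-- the weights -/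
def sg (π : ℤ) (k : ℕ) : Fin 5 → ℤ :=
  ![1 - 2 * (k % 2 : ℕ), 1 - 2 * (k / 2 % 2 : ℕ), 1 - 2 * (k / 4 % 2 : ℕ), 1 - 2 * (k / 8 % 2 : ℕ),
    π * (1 - 2 * ((k + k / 2 + k / 4 + k / 8) % 2 : ℕ))]

def wt (k : ℕ) : ℕ := (10 - 2 * ds 0 k) + 256 * (10 - 2 * ds 1 k) + 256 ^ 2 * (10 - 2 * ds 2 k) + 256 ^ 3 * (10 - 2 * ds 4 k) +
  256 ^ 4 * (10 - 2 * ds 8 k)

def leaf (L : List ℕ) : Bool := L.isEmpty || (List.range 16).all (L.elem ·) ||
  (L.any fun k => L.any fun l => Nat.beq (ds k l) 2 && L.any fun t => Nat.beq (ds t k + 2) (ds t l) && !L.elem (t ^^^ k ^^^ l)) ||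
  L.any fun k => L.any fun k' => Nat.beq (ds k k') 2 && L.all fun t => L.all fun l => !Nat.beq (ds t l) 2 ||
    (!Nat.beq (ds t k + ds l k' + 2) (ds t k' + ds l k) && !Nat.beq (ds t k + ds l k') (ds t k' + ds l k + 2))

def fo (n : ℕ) (f : ℕ → Bool) : Bool := Nat.rec (motive := fun _ => Bool) (f 0) (fun k _ => f (Nat.succ k)) n

theorem fo_eq (n : ℕ) (f : ℕ → Bool) : fo n f = f n := by cases n <;> rfl

def go (n : ℕ) : ℕ → ℕ → List ℕ → Bool :=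
  Nat.rec (motive := fun _ => ℕ → ℕ → List ℕ → Bool) (fun a b L => !Nat.beq a b || leaf L)
    (fun n ih a b L => ih a b L && fo (a + wt n) fun a => fo (b + 21559051525) fun b => ih a b (n :: L)) n

private noncomputable def _root_.Cfsg.Agent.KOa2795d8.oEq.{ku} (α : Sort ku) (a b : Nat) (f t : α) : α := @Decidable.rec (a = b) (fun _ => α) (fun _ => f) (fun _ => t) (Nat.decEq a b)
private noncomputable def _root_.Cfsg.Agent.KOa2795d8.k0.{ku} (α : Sort ku) (a b : Nat) (f t : α) : α := @Bool.rec (fun _ => α) f t (Nat.beq a b)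
private theorem _root_.Cfsg.Agent.KOa2795d8.e0.{ku} : @_root_.Cfsg.Agent.KOa2795d8.oEq.{ku} = @_root_.Cfsg.Agent.KOa2795d8.k0.{ku} := funext fun α => funext fun a => funext fun b => funext fun f => funext fun t => by delta _root_.Cfsg.Agent.KOa2795d8.oEq _root_.Cfsg.Agent.KOa2795d8.k0; cases h : Nat.beq a b <;> cases Nat.decEq a b <;> rename_i g <;> first | rfl | exact absurd g (Nat.ne_of_beq_eq_false h) | exact absurd (Nat.eq_of_beq_eq_true h) g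
private theorem _root_.Cfsg.Agent.KOa2795d8.e1.{ku, kv} {α : Type kv} {M : List α → Sort ku} (φ : ∀ l, M l) {z : M List.nil} {s : ∀ a l, M l → M (List.cons a l)} (h0 : φ List.nil = z) (hs : ∀ a l, φ (List.cons a l) = s a l (φ l)) (l : List α) : φ l = @List.rec α M z s l := List.rec h0 (fun a l ih => (hs a l).trans (congrArg (s a l) ih)) l
private noncomputable def _root_.Cfsg.Agent.KOa2795d8.k2.{ku0} : ((x0 : Sort (ku0+1)) → ((@List.{ku0} @x0) → ((x0 → @Bool) → @Bool))) := @(fun (x0 : Sort (ku0+1)) (x1 : @List.{ku0} @x0) (x2 : (x0 → @Bool)) => @List.rec.{(ku0+1), ku0} @x0 @(fun (x3 : @List.{ku0} @x0) => ((x0 → @Bool) → @Bool)) @(fun (x3 : (x0 → @Bool)) => @Bool.false) @(fun (x3 : x0) (x4 : @List.{ku0} @x0) (x5 : ((x0 → @Bool) → @Bool)) (x6 : (x0 → @Bool)) => @Bool.rec.{1} @(fun (x7 : @Bool) => @Bool) (@x5 @x6) @Bool.true (@x6 @x3)) @x1 @x2)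
private theorem _root_.Cfsg.Agent.KOa2795d8.e2.{ku0} : @List.any.{ku0} = @_root_.Cfsg.Agent.KOa2795d8.k2.{ku0} := by delta _root_.Cfsg.Agent.KOa2795d8.k2; funext a0 a1 a2; refine (congrFun (_root_.Cfsg.Agent.KOa2795d8.e1 (fun a1 a2 => @List.any.{ku0} a0 a1 a2) ?_ (fun c0 c1 => ?_) a1) a2 :) <;> (rfl')
private noncomputable def _root_.Cfsg.Agent.KOa2795d8.k3.{ku0} : ((x0 : Sort (ku0+1)) → ((@List.{ku0} @x0) → ((x0 → @Bool) → @Bool))) := @(fun (x0 : Sort (ku0+1)) (x1 : @List.{ku0} @x0) (x2 : (x0 → @Bool)) => @List.rec.{(ku0+1), ku0} @x0 @(fun (x3 : @List.{ku0} @x0) => ((x0 → @Bool) → @Bool)) @(fun (x3 : (x0 → @Bool)) => @Bool.true) @(fun (x3 : x0) (x4 : @List.{ku0} @x0) (x5 : ((x0 → @Bool) → @Bool)) (x6 : (x0 → @Bool)) => @Bool.rec.{1} @(fun (x7 : @Bool) => @Bool) @Bool.false (@x5 @x6) (@x6 @x3)) @x1 @x2)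
private theorem _root_.Cfsg.Agent.KOa2795d8.e3.{ku0} : @List.all.{ku0} = @_root_.Cfsg.Agent.KOa2795d8.k3.{ku0} := by delta _root_.Cfsg.Agent.KOa2795d8.k3; funext a0 a1 a2; refine (congrFun (_root_.Cfsg.Agent.KOa2795d8.e1 (fun a1 a2 => @List.all.{ku0} a0 a1 a2) ?_ (fun c0 c1 => ?_) a1) a2 :) <;> (rfl')
private noncomputable def _root_.Cfsg.Agent.KOa2795d8.k4 : (by first | exact type_of% @Cfsg.Agent.BZ.RT.Cx.S69.ds | exact Unit : Sort _) := by first | (refine @Subtype.val _ (fun g => @Cfsg.Agent.BZ.RT.Cx.S69.ds = @g) (@Subtype.mk _ _ (@(fun (x0 : @Nat) (x1 : @Nat) => @Nat.mod (@Nat.shiftRight (nat_lit 4918566457947857440) (@Nat.mul (nat_lit 4) (@Nat.xor @x0 @x1))) (nat_lit 16))) ?_); rfl') | exact @Cfsg.Agent.BZ.RT.Cx.S69.ds | exact ()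
private theorem _root_.Cfsg.Agent.KOa2795d8.e4 : (by first | exact @Cfsg.Agent.BZ.RT.Cx.S69.ds = @_root_.Cfsg.Agent.KOa2795d8.k4 | exact True : Prop) := by first | (delta _root_.Cfsg.Agent.KOa2795d8.k4; exact @Subtype.property _ (fun g => @Cfsg.Agent.BZ.RT.Cx.S69.ds = @g) _) | rfl | trivial
private noncomputable def _root_.Cfsg.Agent.KOa2795d8.k5.{ku0} : ((x0 : Sort (ku0+1)) → ((@BEq.{ku0} @x0) → (x0 → ((@List.{ku0} @x0) → @Bool)))) := @(fun (x0 : Sort (ku0+1)) (x1 : @BEq.{ku0} @x0) (x2 : x0) (x3 : @List.{ku0} @x0) => @List.rec.{1, ku0} @x0 @(fun (x4 : @List.{ku0} @x0) => @Bool) @Bool.false @(fun (x4 : x0) (x5 : @List.{ku0} @x0) (x6 : @Bool) => @Bool.rec.{1} @(fun (x7 : @Bool) => @Bool) @x6 @Bool.true (@BEq.beq.{ku0} @x0 @x1 @x2 @x4)) @x3)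
private theorem _root_.Cfsg.Agent.KOa2795d8.e5.{ku0} : @List.elem.{ku0} = @_root_.Cfsg.Agent.KOa2795d8.k5.{ku0} := by delta _root_.Cfsg.Agent.KOa2795d8.k5; funext a0 a1 a2 a3; refine (_root_.Cfsg.Agent.KOa2795d8.e1 (fun a3 => @List.elem.{ku0} a0 a1 a2 a3) ?_ (fun c0 c1 => ?_) a3 :) <;> (rfl')
private theorem _root_.Cfsg.Agent.KOa2795d8.e6.{ku} {M : Nat → Sort ku} (φ : ∀ n, M n) {z : M Nat.zero} {s : ∀ n, M n → M (Nat.succ n)} (h0 : φ Nat.zero = z) (hs : ∀ n, φ (Nat.succ n) = s n (φ n)) (n : Nat) : φ n = @Nat.rec M z s n := Nat.rec h0 (fun n ih => (hs n).trans (congrArg (s n) ih)) n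
private noncomputable def _root_.Cfsg.Agent.KOa2795d8.k7 : (@Nat → ((@List.{0} @Nat) → @List.{0} @Nat)) := @(fun (x0 : @Nat) (x1 : @List.{0} @Nat) => @Nat.rec.{1} @(fun (x2 : @Nat) => ((@List.{0} @Nat) → @List.{0} @Nat)) @(fun (x2 : @List.{0} @Nat) => x2) @(fun (x2 : @Nat) (x3 : ((@List.{0} @Nat) → @List.{0} @Nat)) (x4 : @List.{0} @Nat) => @x3 (@List.cons.{0} @Nat @x2 @x4)) @x0 @x1)
private theorem _root_.Cfsg.Agent.KOa2795d8.e7 : @List.range.loop = @_root_.Cfsg.Agent.KOa2795d8.k7 := by delta _root_.Cfsg.Agent.KOa2795d8.k7; funext a0 a1; refine (congrFun (_root_.Cfsg.Agent.KOa2795d8.e6 (fun a0 a1 => @List.range.loop a0 a1) ?_ (fun c0 => ?_) a0) a1 :) <;> (rfl')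
private noncomputable def _root_.Cfsg.Agent.KOa2795d8.k8 : (by first | exact type_of% @Cfsg.Agent.BZ.RT.Cx.S69.leaf | exact Unit : Sort _) := by first | (refine @Subtype.val _ (fun g => @Cfsg.Agent.BZ.RT.Cx.S69.leaf = @g) (@Subtype.mk _ _ (@(fun (x0 : @List.{0} @Nat) => @Bool.rec.{1} @(fun (x1 : @Bool) => @Bool) (@Cfsg.Agent.KOa2795d8.k2.{0} @Nat @x0 @(fun (x1 : @Nat) => @Cfsg.Agent.KOa2795d8.k2.{0} @Nat @x0 @(fun (x2 : @Nat) => @Bool.rec.{1} @(fun (x3 : @Bool) => @Bool) @Bool.false (@Cfsg.Agent.KOa2795d8.k3.{0} @Nat @x0 @(fun (x3 : @Nat) => @Cfsg.Agent.KOa2795d8.k3.{0} @Nat @x0 @(fun (x4 : @Nat) => @Bool.rec.{1} @(fun (x5 : @Bool) => @Bool) (@Bool.rec.{1} @(fun (x5 : @Bool) => @Bool) @Bool.false (@Bool.rec.{1} @(fun (x5 : @Bool) => @Bool) @Bool.true @Bool.false (@Nat.beq (@Nat.add (@Cfsg.Agent.KOa2795d8.k4 @x3 @x1) (@Cfsg.Agent.KOa2795d8.k4 @x4 @x2)) (@Nat.add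 (@Nat.add (@Cfsg.Agent.KOa2795d8.k4 @x3 @x2) (@Cfsg.Agent.KOa2795d8.k4 @x4 @x1)) (nat_lit 2)))) (@Bool.rec.{1} @(fun (x5 : @Bool) => @Bool) @Bool.true @Bool.false (@Nat.beq (@Nat.add (@Nat.add (@Cfsg.Agent.KOa2795d8.k4 @x3 @x1) (@Cfsg.Agent.KOa2795d8.k4 @x4 @x2)) (nat_lit 2)) (@Nat.add (@Cfsg.Agent.KOa2795d8.k4 @x3 @x2) (@Cfsg.Agent.KOa2795d8.k4 @x4 @x1))))) @Bool.true (@Bool.rec.{1} @(fun (x5 : @Bool) => @Bool) @Bool.true @Bool.false (@Nat.beq (@Cfsg.Agent.KOa2795d8.k4 @x3 @x4) (nat_lit 2)))))) (@Nat.beq (@Cfsg.Agent.KOa2795d8.k4 @x1 @x2) (nat_lit 2))))) @Bool.true (@Bool.rec.{1} @(fun (x1 : @Bool) => @Bool) (@Cfsg.Agent.KOa2795d8.k2.{0} @Nat @x0 @(fun (x1 : @Nat) => @Cfsg.Agent.KOa2795d8.k2.{0} @Nat @x0 @(fun (x2 : @Nat) => @Bool.rec.{1} @(fun (x3 : @Bool) => @Bool) @Bool.false (@Cfsg.Agent.KOa2795d8.k2.{0} @Nat @x0 @(fun (x3 : @Nat) => @Bool.rec.{1} @(fun (x4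 : @Bool) => @Bool) @Bool.false (@Bool.rec.{1} @(fun (x4 : @Bool) => @Bool) @Bool.true @Bool.false (@Cfsg.Agent.KOa2795d8.k5.{0} @Nat (@BEq.mk.{0} @Nat @(fun (x4 : @Nat) (x5 : @Nat) => @Cfsg.Agent.KOa2795d8.k0.{1} @Bool @x4 @x5 @Bool.false @Bool.true)) (@Nat.xor (@Nat.xor @x3 @x1) @x2) @x0)) (@Nat.beq (@Nat.add (@Cfsg.Agent.KOa2795d8.k4 @x3 @x1) (nat_lit 2)) (@Cfsg.Agent.KOa2795d8.k4 @x3 @x2)))) (@Nat.beq (@Cfsg.Agent.KOa2795d8.k4 @x1 @x2) (nat_lit 2))))) @Bool.true (@Bool.rec.{1} @(fun (x1 : @Bool) => @Bool) (@Cfsg.Agent.KOa2795d8.k3.{0} @Nat (@Cfsg.Agent.KOa2795d8.k7 (nat_lit 16) (@List.nil.{0} @Nat)) @(fun (x1 : @Nat) => @Cfsg.Agent.KOa2795d8.k5.{0} @Nat (@BEq.mk.{0} @Nat @(fun (x2 : @Nat) (x3 : @Nat) => @Cfsg.Agent.KOa2795d8.k0.{1} @Bool @x2 @x3 @Bool.false @Bool.true)) @x1 @x0)) @Bool.true (@List.rec.{1, 0} @Nat @(fun (x1 : @List.{0} @Nat) => @Bool) @Bool.true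 @(fun (x1 : @Nat) (x2 : @List.{0} @Nat) (x3 : @Bool) => @Bool.false) @x0))))) ?_); rewrite [← Cfsg.Agent.KOa2795d8.e7, ← Cfsg.Agent.KOa2795d8.e0.{1}, ← Cfsg.Agent.KOa2795d8.e5.{0}, ← Cfsg.Agent.KOa2795d8.e4, ← Cfsg.Agent.KOa2795d8.e3.{0}, ← Cfsg.Agent.KOa2795d8.e2.{0}]; (try delta Cfsg.Agent.BZ.RT.Cx.S69.leaf); (try generalize @Cfsg.Agent.BZ.RT.Cx.S69.ds = g0); rfl') | exact @Cfsg.Agent.BZ.RT.Cx.S69.leaf | exact ()
private theorem _root_.Cfsg.Agent.KOa2795d8.e8 : (by first | exact @Cfsg.Agent.BZ.RT.Cx.S69.leaf = @_root_.Cfsg.Agent.KOa2795d8.k8 | exact True : Prop) := by first | (delta _root_.Cfsg.Agent.KOa2795d8.k8; exact @Subtype.property _ (fun g => @Cfsg.Agent.BZ.RT.Cx.S69.leaf = @g) _) | rfl | trivial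
private noncomputable def _root_.Cfsg.Agent.KOa2795d8.k9 : (by first | exact type_of% @Cfsg.Agent.BZ.RT.Cx.S69.fo | exact Unit : Sort _) := by first | (refine @Subtype.val _ (fun g => @Cfsg.Agent.BZ.RT.Cx.S69.fo = @g) (@Subtype.mk _ _ (@(fun (x0 : @Nat) (x1 : (@Nat → @Bool)) => @Nat.rec.{1} @(fun (x2 : @Nat) => @Bool) (@x1 (nat_lit 0)) @(fun (x2 : @Nat) (x3 : @Bool) => @x1 (@Nat.succ @x2)) @x0)) ?_); rfl') | exact @Cfsg.Agent.BZ.RT.Cx.S69.fo | exact ()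
private theorem _root_.Cfsg.Agent.KOa2795d8.e9 : (by first | exact @Cfsg.Agent.BZ.RT.Cx.S69.fo = @_root_.Cfsg.Agent.KOa2795d8.k9 | exact True : Prop) := by first | (delta _root_.Cfsg.Agent.KOa2795d8.k9; exact @Subtype.property _ (fun g => @Cfsg.Agent.BZ.RT.Cx.S69.fo = @g) _) | rfl | trivial
private noncomputable def _root_.Cfsg.Agent.KOa2795d8.k10 : (by first | exact type_of% @Cfsg.Agent.BZ.RT.Cx.S69.wt | exact Unit : Sort _) := by first | (refine @Subtype.val _ (fun g => @Cfsg.Agent.BZ.RT.Cx.S69.wt = @g) (@Subtype.mk _ _ (@(fun (x0 : @Nat) => @Nat.add (@Nat.add (@Nat.add (@Nat.add (@Nat.sub (nat_lit 10) (@Nat.mul (nat_lit 2) (@Cfsg.Agent.KOa2795d8.k4 (nat_lit 0) @x0))) (@Nat.mul (nat_lit 256) (@Nat.sub (nat_lit 10) (@Nat.mul (nat_lit 2) (@Cfsg.Agent.KOa2795d8.k4 (nat_lit 1) @x0))))) (@Nat.mul (@Nat.pow (nat_lit 256) (nat_lit 2)) (@Nat.sub (nat_lit 10) (@Nat.mul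 (nat_lit 2) (@Cfsg.Agent.KOa2795d8.k4 (nat_lit 2) @x0))))) (@Nat.mul (@Nat.pow (nat_lit 256) (nat_lit 3)) (@Nat.sub (nat_lit 10) (@Nat.mul (nat_lit 2) (@Cfsg.Agent.KOa2795d8.k4 (nat_lit 4) @x0))))) (@Nat.mul (@Nat.pow (nat_lit 256) (nat_lit 4)) (@Nat.sub (nat_lit 10) (@Nat.mul (nat_lit 2) (@Cfsg.Agent.KOa2795d8.k4 (nat_lit 8) @x0)))))) ?_); rewrite [← Cfsg.Agent.KOa2795d8.e4]; (try delta Cfsg.Agent.BZ.RT.Cx.S69.wt); (try generalize @Cfsg.Agent.BZ.RT.Cx.S69.ds = g0); rfl') | exact @Cfsg.Agent.BZ.RT.Cx.S69.wt | exact ()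
private theorem _root_.Cfsg.Agent.KOa2795d8.e10 : (by first | exact @Cfsg.Agent.BZ.RT.Cx.S69.wt = @_root_.Cfsg.Agent.KOa2795d8.k10 | exact True : Prop) := by first | (delta _root_.Cfsg.Agent.KOa2795d8.k10; exact @Subtype.property _ (fun g => @Cfsg.Agent.BZ.RT.Cx.S69.wt = @g) _) | rfl | trivial
private noncomputable def _root_.Cfsg.Agent.KOa2795d8.k11 : (by first | exact type_of% @Cfsg.Agent.BZ.RT.Cx.S69.go | exact Unit : Sort _) := by first | (refine @Subtype.val _ (fun g => @Cfsg.Agent.BZ.RT.Cx.S69.go = @g) (@Subtype.mk _ _ (@(fun (x0 : @Nat) => @Nat.rec.{1} @(fun (x1 : @Nat) => (@Nat → (@Nat → ((@List.{0} @Nat) → @Bool)))) @(fun (x1 : @Nat) (x2 : @Nat) (x3 : @List.{0} @Nat) => @Bool.rec.{1} @(fun (x4 : @Bool) => @Bool) (@Cfsg.Agent.KOa2795d8.k8 @x3) @Bool.true (@Bool.rec.{1} @(fun (x4 : @Bool) => @Bool) @Bool.true @Bool.false (@Nat.beq @x1 @x2))) @(fun (x1 :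 @Nat) (x2 : (@Nat → (@Nat → ((@List.{0} @Nat) → @Bool)))) (x3 : @Nat) (x4 : @Nat) (x5 : @List.{0} @Nat) => @Bool.rec.{1} @(fun (x6 : @Bool) => @Bool) @Bool.false (@Cfsg.Agent.KOa2795d8.k9 (@Nat.add @x3 (@Cfsg.Agent.KOa2795d8.k10 @x1)) @(fun (x6 : @Nat) => @Cfsg.Agent.KOa2795d8.k9 (@Nat.add @x4 (nat_lit 21559051525)) @(fun (x7 : @Nat) => @x2 @x6 @x7 (@List.cons.{0} @Nat @x1 @x5)))) (@x2 @x3 @x4 @x5)) @x0)) ?_); rewrite [← Cfsg.Agent.KOa2795d8.e10, ← Cfsg.Agent.KOa2795d8.e9, ← Cfsg.Agent.KOa2795d8.e8]; (try delta Cfsg.Agent.BZ.RT.Cx.S69.go); (try generalize @Cfsg.Agent.BZ.RT.Cx.S69.leaf = g0); (try generalize @Cfsg.Agent.BZ.RT.Cx.S69.fo = g1); (try generalize @Cfsg.Agent.BZ.RT.Cx.S69.wt = g2); rfl') | exact @Cfsg.Agent.BZ.RT.Cx.S69.go | exact ()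
private theorem _root_.Cfsg.Agent.KOa2795d8.e11 : (by first | exact @Cfsg.Agent.BZ.RT.Cx.S69.go = @_root_.Cfsg.Agent.KOa2795d8.k11 | exact True : Prop) := by first | (delta _root_.Cfsg.Agent.KOa2795d8.k11; exact @Subtype.property _ (fun g => @Cfsg.Agent.BZ.RT.Cx.S69.go = @g) _) | rfl | trivial

theorem run : go 16 0 0 [] = true := by (first | (rewrite [Cfsg.Agent.KOa2795d8.e11]; decide +kernel) | decide +kernel)

theorem go_ok (Y : ℕ → Bool) (n a b : ℕ) (L : List ℕ) (h : go n a b L = true)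
    (e : a + ∑ k ∈ Finset.range n, (if Y k then wt k else 0) = b + ∑ k ∈ Finset.range n, if Y k then 21559051525 else 0) :
    leaf ((List.range n).filter Y ++ L) = true := by
  induction n generalizing a b L with
  | zero =>
    have h' : (!Nat.beq a b || leaf L) = true := h
    simpa [show a = b by simpa using e] using h'
  | succ n ih =>
    have h' : (go n a b L && fo (a + wt n) fun a => fo (b + 21559051525) fun b => go n a b (n :: L)) = true := h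
    rw [fo_eq, fo_eq, Bool.and_eq_true] at h'
    rw [Finset.sum_range_succ, Finset.sum_range_succ] at e
    rw [List.range_succ, List.filter_append, List.append_assoc]
    cases k : Y n
    · simpa [k] using ih a b L h'.1 (by simpa [k] using e)
    · simpa [k] using ih _ _ _ h'.2 (by simp only [k, if_true] at e; omega)

theorem wt_eq : ∀ k < 16, (wt k : ℤ) = 21559051525 + (gr 0 k + 256 * gr 1 k + 256 ^ 2 * gr 2 k + 256 ^ 3 * gr 4 k + 256 ^ 4 * gr 8 k) := by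
  decide +kernel

/-- **the masks** -/
theorem fin (Y : ℕ → Bool) {a : ℕ} (ha : a < 16) (h0 : Y a) (h1 : ∀ j < 16, ∑ k ∈ Finset.range 16, (if Y k then gr j k else 0) = 0)
    (h2 : ∀ k < 16, ∀ l < 16, ∀ t < 16, Y k → Y l → Y t → gr k l = 1 → gr t k - gr t l = 4 → Y (t ^^^ k ^^^ l)) :
    (∀ k < 16, Y k) ∨ ∃ k < 16, ∃ k' < 16, Y k ∧ Y k' ∧ gr k k' = 1 ∧ ∀ t < 16, ∀ l < 16, Y t → Y l → gr t l = 1 →
      gr t k - gr t k' - (gr l k - gr l k') ≠ 4 ∧ gr t k - gr t k' - (gr l k - gr l k') ≠ -4 := by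
  have h := go_ok Y 16 0 0 [] run (by
    rw [zero_add, zero_add, ← Nat.cast_inj (R := ℤ), Nat.cast_sum, Nat.cast_sum, ← sub_eq_zero, ← Finset.sum_sub_distrib,
      Finset.sum_congr rfl (g := fun k => (if Y k then gr 0 k else 0) + 256 * (if Y k then gr 1 k else 0) +
        256 ^ 2 * (if Y k then gr 2 k else 0) + 256 ^ 3 * (if Y k then gr 4 k else 0) + 256 ^ 4 * (if Y k then gr 8 k else 0))
        fun k hk => by
          split_ifs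
          · rw [wt_eq k (Finset.mem_range.1 hk)]; push_cast; ring
          · simp]
    simp only [Finset.sum_add_distrib, ← Finset.mul_sum, h1 0 (by decide), h1 1 (by decide), h1 2 (by decide), h1 4 (by decide),
      h1 8 (by decide), mul_zero, add_zero])
  rw [List.append_nil] at h
  have m : ∀ k, k ∈ (List.range 16).filter Y ↔ k < 16 ∧ Y k := fun k => by rw [List.mem_filter, List.mem_range]
  generalize (List.range 16).filter Y = L at h m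
  simp only [leaf, Bool.or_eq_true, Bool.and_eq_true, List.any_eq_true, List.all_eq_true, List.isEmpty_iff, List.elem_iff,
    Bool.not_eq_true', Nat.beq_eq, ← Bool.not_eq_true, List.mem_range, m] at h
  rcases h with ((h | h) | ⟨k, hk, l, hl, e, t, ht, e', h⟩) | ⟨k, hk, k', hk', e, h⟩
  · exact absurd ((m a).2 ⟨ha, h0⟩) (h ▸ List.not_mem_nil)
  · exact .inl fun k hk => (h k hk).2
  · exact absurd ⟨Nat.xor_lt_two_pow (n := 4) (Nat.xor_lt_two_pow (n := 4) ht.1 hk.1) hl.1,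
      h2 k hk.1 l hl.1 t ht.1 hk.2 hl.2 ht.2 (by unfold gr; omega) (by unfold gr; omega)⟩ h
  · refine .inr ⟨k, hk.1, k', hk'.1, hk.2, hk'.2, by unfold gr; omega, fun t t1 l l1 t2 l2 e' => ?_⟩
    have := (h t ⟨t1, t2⟩ l ⟨l1, l2⟩).resolve_left (by unfold gr at e'; omega)
    unfold gr
    omega

theorem sg_dot : ∀ π ∈ [(1 : ℤ), -1], ∀ k < 16, ∀ l < 16, sg π k ⬝ᵥ sg π l = gr k l := by decide +kernel

private noncomputable def _root_.Cfsg.Agent.KOa2795d8.k12 : ((x0 : Prop) → ((@Decidable @x0) → @Bool)) := @(fun (x0 : Prop) (x1 : @Decidable @x0) => @Decidable.rec.{1} @x0 @(fun (x2 : @Decidable @x0) => @Bool) @(fun (x2 : @Not @x0) => @Bool.false) @(fun (x2 : x0) => @Bool.true) @x1)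
private theorem _root_.Cfsg.Agent.KOa2795d8.e12 : @Decidable.decide = @_root_.Cfsg.Agent.KOa2795d8.k12 := by delta _root_.Cfsg.Agent.KOa2795d8.k12; rfl'
private noncomputable def _root_.Cfsg.Agent.KOa2795d8.k13.{ku0} : ((x0 : Sort (ku0+1)) → ((x1 : (x0 → Prop)) → ((@DecidablePred.{(ku0+1)} @x0 @x1) → ((x3 : @List.{ku0} @x0) → @Decidable ((x4 : x0) → ((@Membership.mem.{ku0, ku0} @x0 (@List.{ku0} @x0) (@List.instMembership.{ku0} @x0) @x3 @x4) → @x1 @x4)))))) := @(fun (x0 : Sort (ku0+1)) (x1 : (x0 → Prop)) (x2 : @DecidablePred.{(ku0+1)} @x0 @x1) (x3 : @List.{ku0} @x0) => @List.rec.{1, ku0} @x0 @(fun (x4 : @List.{ku0} @x0) => @Decidable ((x5 : x0) → ((@Membership.mem.{ku0, ku0} @x0 (@List.{ku0} @x0) (@List.instMembership.{ku0} @x0) @x4 @x5) → @x1 @x5))) (@Decidable.isTrue ((x4 : x0) → ((@Membership.mem.{ku0, ku0} @x0 (@List.{ku0} @x0) (@List.instMembership.{ku0} @x0)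 (@List.nil.{ku0} @x0) @x4) → @x1 @x4)) (@List.decidableBAll._proof_1.{ku0} @x0 @x1)) @(fun (x4 : x0) (x5 : @List.{ku0} @x0) (x6 : @Decidable ((x6 : x0) → ((@Membership.mem.{ku0, ku0} @x0 (@List.{ku0} @x0) (@List.instMembership.{ku0} @x0) @x5 @x6) → @x1 @x6))) => @Decidable.rec.{1} (@x1 @x4) @(fun (x7 : @Decidable (@x1 @x4)) => @Decidable ((x8 : x0) → ((@Membership.mem.{ku0, ku0} @x0 (@List.{ku0} @x0) (@List.instMembership.{ku0} @x0) (@List.cons.{ku0} @x0 @x4 @x5) @x8) → @x1 @x8))) @(fun (x7 : @Not (@x1 @x4)) => @Decidable.isFalse ((x8 : x0) → ((@Membership.mem.{ku0, ku0} @x0 (@List.{ku0} @x0) (@List.instMembership.{ku0} @x0) (@List.cons.{ku0} @x0 @x4 @x5) @x8) → @x1 @x8)) (@List.decidableBAll._proof_4.{ku0} @x0 @x1 @x4 @x5 @x7)) @(fun (x7 : @x1 @x4) => @Decidable.rec.{1} ((x8 : x0) → ((@Membership.mem.{ku0, ku0} @x0 (@List.{ku0} @x0) (@List.instMembership.{ku0}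 @x0) @x5 @x8) → @x1 @x8)) @(fun (x8 : @Decidable ((x8 : x0) → ((@Membership.mem.{ku0, ku0} @x0 (@List.{ku0} @x0) (@List.instMembership.{ku0} @x0) @x5 @x8) → @x1 @x8))) => @Decidable ((x9 : x0) → ((@Membership.mem.{ku0, ku0} @x0 (@List.{ku0} @x0) (@List.instMembership.{ku0} @x0) (@List.cons.{ku0} @x0 @x4 @x5) @x9) → @x1 @x9))) @(fun (x8 : @Not ((x8 : x0) → ((@Membership.mem.{ku0, ku0} @x0 (@List.{ku0} @x0) (@List.instMembership.{ku0} @x0) @x5 @x8) → @x1 @x8))) => @Decidable.isFalse ((x9 : x0) → ((@Membership.mem.{ku0, ku0} @x0 (@List.{ku0} @x0) (@List.instMembership.{ku0} @x0) (@List.cons.{ku0} @x0 @x4 @x5) @x9) → @x1 @x9)) (@List.decidableBAll._proof_3.{ku0} @x0 @x1 @x4 @x5 @x8)) @(fun (x8 : ((x8 : x0) → ((@Membership.mem.{ku0, ku0} @x0 (@List.{ku0} @x0) (@List.instMembership.{ku0} @x0) @x5 @x8) → @x1 @x8))) => @Decidable.isTrue ((x9 : x0) → ((@Membership.mem.{ku0,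 ku0} @x0 (@List.{ku0} @x0) (@List.instMembership.{ku0} @x0) (@List.cons.{ku0} @x0 @x4 @x5) @x9) → @x1 @x9)) (@List.decidableBAll._proof_2.{ku0} @x0 @x1 @x4 @x5 @x7 @x8)) @x6) (@x2 @x4)) @x3)
private theorem _root_.Cfsg.Agent.KOa2795d8.e13.{ku0} : @List.decidableBAll.{ku0} = @_root_.Cfsg.Agent.KOa2795d8.k13.{ku0} := by delta _root_.Cfsg.Agent.KOa2795d8.k13; funext a0 a1 a2 a3; refine (_root_.Cfsg.Agent.KOa2795d8.e1 (fun a3 => @List.decidableBAll.{ku0} a0 a1 a2 a3) ?_ (fun c0 c1 => ?_) a3 :) <;> (rfl')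
private noncomputable def _root_.Cfsg.Agent.KOa2795d8.k14l (n : Nat) (P : ∀ k, k < n → Prop) (H : ∀ k h, Decidable (P k h)) (m : Nat) : m ≤ n → Bool := @Nat.rec (fun m => m ≤ n → Bool) (fun _ => true) (fun k ih h => @Decidable.rec (P k h) (fun _ => Bool) (fun _ => false) (fun _ => ih (Nat.le_of_succ_le h)) (H k h)) m
private theorem _root_.Cfsg.Agent.KOa2795d8.k14ls (n : Nat) (P : ∀ k, k < n → Prop) (H : ∀ k h, Decidable (P k h)) (m : Nat) : ∀ h : m ≤ n, _root_.Cfsg.Agent.KOa2795d8.k14l n P H m h = true ↔ ∀ k (g : k < m), P k (Nat.lt_of_lt_of_le g h) := by induction m with | zero => exact fun _ => ⟨fun _ _ g => absurd g (Nat.not_lt_zero _), fun _ => rfl⟩ | succ m ih => intro h; show @Decidable.rec (P m h) (fun _ => Bool) (fun _ => false) (fun _ => _root_.Cfsg.Agent.KOa2795d8.k14l n P H m (Nat.le_of_succ_le h)) (H m h) = true ↔ _; cases H m h with | isFalse q =>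 exact ⟨fun g => absurd g Bool.false_ne_true, fun g => absurd (g m (Nat.lt_succ_self m)) q⟩ | isTrue q => exact ⟨fun g k hk => (Nat.lt_succ_iff_lt_or_eq.1 hk).elim ((ih _).1 g k) fun e => by subst e; exact q, fun g => (ih _).2 fun k hk => g k (Nat.lt_succ_of_lt hk)⟩
private noncomputable def _root_.Cfsg.Agent.KOa2795d8.k14 (n : Nat) (P : ∀ k, k < n → Prop) (H : ∀ k h, Decidable (P k h)) : Decidable (∀ k h, P k h) := @Bool.rec (fun b => _root_.Cfsg.Agent.KOa2795d8.k14l n P H n (Nat.le_refl n) = b → Decidable (∀ k h, P k h)) (fun g => isFalse fun q => Bool.false_ne_true (g.symm.trans ((_root_.Cfsg.Agent.KOa2795d8.k14ls n P H n _).2 fun k h => q k h))) (fun g => isTrue fun k h => (_root_.Cfsg.Agent.KOa2795d8.k14ls n P H n _).1 g k h) (_root_.Cfsg.Agent.KOa2795d8.k14l n P H n (Nat.le_refl n)) rfl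
private theorem _root_.Cfsg.Agent.KOa2795d8.e14 : @Nat.decidableBallLT = @_root_.Cfsg.Agent.KOa2795d8.k14 := funext fun _ => funext fun _ => funext fun _ => Subsingleton.elim _ _
private noncomputable def _root_.Cfsg.Agent.KOa2795d8.k15 : ((x0 : @Nat) → ((x1 : @Nat) → @Decidable (@Eq.{1} @Nat @x0 @x1))) := @(fun (x0 : @Nat) (x1 : @Nat) => @Bool.rec.{1} @(fun (x2 : @Bool) => ((@Eq.{1} @Bool (@Nat.beq @x0 @x1) @x2) → @Decidable (@Eq.{1} @Nat @x0 @x1))) @(fun (x2 : @Eq.{1} @Bool (@Nat.beq @x0 @x1) @Bool.false) => @Decidable.isFalse (@Eq.{1} @Nat @x0 @x1) (@Nat.ne_of_beq_eq_false @x0 @x1 @x2)) @(fun (x2 : @Eq.{1} @Bool (@Nat.beq @x0 @x1) @Bool.true) => @Decidable.isTrue (@Eq.{1} @Nat @x0 @x1) (@Nat.eq_of_beq_eq_true @x0 @x1 @x2)) (@Nat.beq @x0 @x1) (@Eq.refl.{1} @Bool (@Nat.beq @x0 @x1)))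
private theorem _root_.Cfsg.Agent.KOa2795d8.e15 : @Nat.decEq = @_root_.Cfsg.Agent.KOa2795d8.k15 := by delta _root_.Cfsg.Agent.KOa2795d8.k15; rfl'
private noncomputable def _root_.Cfsg.Agent.KOa2795d8.k16 : ((x0 : @Int) → ((x1 : @Int) → @Decidable (@Eq.{1} @Int @x0 @x1))) := @(fun (x0 : @Int) (x1 : @Int) => @Int.rec.{1} @(fun (x2 : @Int) => @Decidable (@Eq.{1} @Int @x2 @x1)) @(fun (x2 : @Nat) => @Int.rec.{1} @(fun (x3 : @Int) => @Decidable (@Eq.{1} @Int (@Int.ofNat @x2) @x3)) @(fun (x3 : @Nat) => @Decidable.rec.{1} (@Eq.{1} @Nat @x2 @x3) @(fun (x4 : @Decidable (@Eq.{1} @Nat @x2 @x3)) => @Decidable (@Eq.{1} @Int (@Int.ofNat @x2) (@Int.ofNat @x3))) @(fun (x4 : @Not (@Eq.{1} @Nat @x2 @x3)) => @Decidable.isFalse (@Eq.{1} @Int (@Int.ofNat @x2) (@Int.ofNat @x3)) (@Int.decEq._proof_2 @x2 @x3 @x4)) @(fun (x4 : @Eq.{1} @Nat @x2 @x3) => @Decidable.isTrue (@Eq.{1} @Int (@Int.ofNat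 @x2) (@Int.ofNat @x3)) (@Int.decEq._proof_1 @x2 @x3 @x4)) (@Cfsg.Agent.KOa2795d8.k15 @x2 @x3)) @(fun (x3 : @Nat) => @Decidable.isFalse (@Eq.{1} @Int (@Int.ofNat @x2) (@Int.negSucc @x3)) (@Int.decEq._proof_3 @x2 @x3)) @x1) @(fun (x2 : @Nat) => @Int.rec.{1} @(fun (x3 : @Int) => @Decidable (@Eq.{1} @Int (@Int.negSucc @x2) @x3)) @(fun (x3 : @Nat) => @Decidable.isFalse (@Eq.{1} @Int (@Int.negSucc @x2) (@Int.ofNat @x3)) (@Int.decEq._proof_4 @x2 @x3)) @(fun (x3 : @Nat) => @Decidable.rec.{1} (@Eq.{1} @Nat @x2 @x3) @(fun (x4 : @Decidable (@Eq.{1} @Nat @x2 @x3)) => @Decidable (@Eq.{1} @Int (@Int.negSucc @x2) (@Int.negSucc @x3))) @(fun (x4 : @Not (@Eq.{1} @Nat @x2 @x3)) => @Decidable.isFalse (@Eq.{1} @Int (@Int.negSucc @x2) (@Int.negSucc @x3)) (@Int.decEq._proof_6 @x2 @x3 @x4)) @(fun (x4 : @Eq.{1} @Nat @x2 @x3) => @Decidable.isTrue (@Eq.{1} @Int (@Int.negSucc @x2) (@Int.negSucc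 @x3)) (@Int.decEq._proof_5 @x2 @x3 @x4)) (@Cfsg.Agent.KOa2795d8.k15 @x2 @x3)) @x1) @x0)
private theorem _root_.Cfsg.Agent.KOa2795d8.e16 : @Int.decEq = @_root_.Cfsg.Agent.KOa2795d8.k16 := by delta _root_.Cfsg.Agent.KOa2795d8.k16; rewrite [← Cfsg.Agent.KOa2795d8.e15]; rfl'
private noncomputable def _root_.Cfsg.Agent.KOa2795d8.k17 : @DecidableEq.{1} @Int := @Cfsg.Agent.KOa2795d8.k16
private theorem _root_.Cfsg.Agent.KOa2795d8.e17 : @Int.instDecidableEq = @_root_.Cfsg.Agent.KOa2795d8.k17 := by delta _root_.Cfsg.Agent.KOa2795d8.k17; rewrite [← Cfsg.Agent.KOa2795d8.e16]; rfl'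
private noncomputable def _root_.Cfsg.Agent.KOa2795d8.k23.{ku0} : ((x0 : @Nat) → ((x1 : ((@Fin (@HAdd.hAdd.{0, 0, 0} @Nat @Nat @Nat (@instHAdd.{0} @Nat @instAddNat) @x0 (@OfNat.ofNat.{0} @Nat (nat_lit 1) (@instOfNatNat (nat_lit 1))))) → Sort ku0)) → ((@x1 (@OfNat.ofNat.{0} (@Fin (@HAdd.hAdd.{0, 0, 0} @Nat @Nat @Nat (@instHAdd.{0} @Nat @instAddNat) @x0 (@OfNat.ofNat.{0} @Nat (nat_lit 1) (@instOfNatNat (nat_lit 1))))) (nat_lit 0) (@Fin.instOfNat (@HAdd.hAdd.{0, 0, 0} @Nat @Nat @Nat (@instHAdd.{0} @Nat @instAddNat) @x0 (@OfNat.ofNat.{0} @Nat (nat_lit 1) (@instOfNatNat (nat_lit 1)))) (@instNeZeroNatHAdd_1 @x0 (@OfNat.ofNat.{0} @Nat (nat_lit 1) (@instOfNatNat (nat_lit 1))) (@Nat.instNeZeroSucc (@OfNat.ofNat.{0} @Nat (nat_lit 0) (@instOfNatNat (nat_lit 0))))) (nat_lit 0)))) → (((x3 : @Fin @x0) → ((@x1 (@Fin.castSucc @x0 @x3)) → @x1 (@Fin.succ @x0 @x3))) → ((x4 : @Nat)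 → ((x5 : @LT.lt.{0} @Nat @instLTNat @x4 (@HAdd.hAdd.{0, 0, 0} @Nat @Nat @Nat (@instHAdd.{0} @Nat @instAddNat) @x0 (@OfNat.ofNat.{0} @Nat (nat_lit 1) (@instOfNatNat (nat_lit 1))))) → @x1 (@Fin.mk (@HAdd.hAdd.{0, 0, 0} @Nat @Nat @Nat (@instHAdd.{0} @Nat @instAddNat) @x0 (@OfNat.ofNat.{0} @Nat (nat_lit 1) (@instOfNatNat (nat_lit 1)))) @x4 @x5))))))) := @(fun (x0 : @Nat) (x1 : ((@Fin (@HAdd.hAdd.{0, 0, 0} @Nat @Nat @Nat (@instHAdd.{0} @Nat @instAddNat) @x0 (@OfNat.ofNat.{0} @Nat (nat_lit 1) (@instOfNatNat (nat_lit 1))))) → Sort ku0)) (x2 : @x1 (@OfNat.ofNat.{0} (@Fin (@HAdd.hAdd.{0, 0, 0} @Nat @Nat @Nat (@instHAdd.{0} @Nat @instAddNat) @x0 (@OfNat.ofNat.{0} @Nat (nat_lit 1) (@instOfNatNat (nat_lit 1))))) (nat_lit 0) (@Fin.instOfNat (@HAdd.hAdd.{0, 0, 0} @Nat @Nat @Nat (@instHAdd.{0} @Nat @instAddNat) @x0 (@OfNat.ofNat.{0} @Nat (nat_lit 1) (@instOfNatNat (nat_lit 1))))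 (@Fin.succRec._proof_1 @x0) (nat_lit 0)))) (x3 : ((x3 : @Fin @x0) → ((@x1 (@Fin.castSucc @x0 @x3)) → @x1 (@Fin.succ @x0 @x3)))) (x4 : @Nat) (x5 : @LT.lt.{0} @Nat @instLTNat @x4 (@HAdd.hAdd.{0, 0, 0} @Nat @Nat @Nat (@instHAdd.{0} @Nat @instAddNat) @x0 (@OfNat.ofNat.{0} @Nat (nat_lit 1) (@instOfNatNat (nat_lit 1))))) => @Nat.rec.{ku0} @(fun (x6 : @Nat) => ((x7 : @LT.lt.{0} @Nat @instLTNat @x6 (@HAdd.hAdd.{0, 0, 0} @Nat @Nat @Nat (@instHAdd.{0} @Nat @instAddNat) @x0 (@OfNat.ofNat.{0} @Nat (nat_lit 1) (@instOfNatNat (nat_lit 1))))) → @x1 (@Fin.mk (@HAdd.hAdd.{0, 0, 0} @Nat @Nat @Nat (@instHAdd.{0} @Nat @instAddNat) @x0 (@OfNat.ofNat.{0} @Nat (nat_lit 1) (@instOfNatNat (nat_lit 1)))) @x6 @x7))) @(fun (x6 : @LT.lt.{0} @Nat @instLTNat @Nat.zero (@HAdd.hAdd.{0, 0, 0} @Nat @Nat @Nat (@instHAdd.{0} @Nat @instAddNat) @x0 (@OfNat.ofNat.{0} @Nat (nat_lit 1) (@instOfNatNat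 (nat_lit 1))))) => @Eq.rec.{ku0, (ku0+1)} (Sort ku0) (@x1 (@OfNat.ofNat.{0} (@Fin (@HAdd.hAdd.{0, 0, 0} @Nat @Nat @Nat (@instHAdd.{0} @Nat @instAddNat) @x0 (@OfNat.ofNat.{0} @Nat (nat_lit 1) (@instOfNatNat (nat_lit 1))))) (nat_lit 0) (@Fin.instOfNat (@HAdd.hAdd.{0, 0, 0} @Nat @Nat @Nat (@instHAdd.{0} @Nat @instAddNat) @x0 (@OfNat.ofNat.{0} @Nat (nat_lit 1) (@instOfNatNat (nat_lit 1)))) (@Fin.succRec._proof_1 @x0) (nat_lit 0)))) @(fun (x7 : Sort ku0) (x8 : @Eq.{(ku0+1)} (Sort ku0) (@x1 (@OfNat.ofNat.{0} (@Fin (@HAdd.hAdd.{0, 0, 0} @Nat @Nat @Nat (@instHAdd.{0} @Nat @instAddNat) @x0 (@OfNat.ofNat.{0} @Nat (nat_lit 1) (@instOfNatNat (nat_lit 1))))) (nat_lit 0) (@Fin.instOfNat (@HAdd.hAdd.{0, 0, 0} @Nat @Nat @Nat (@instHAdd.{0} @Nat @instAddNat) @x0 (@OfNat.ofNat.{0} @Nat (nat_lit 1) (@instOfNatNat (nat_lit 1)))) (@Fin.succRec._proof_1 @x0) (nat_lit 0)))) @x7) =>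 x7) @x2 (@x1 (@Fin.mk (@HAdd.hAdd.{0, 0, 0} @Nat @Nat @Nat (@instHAdd.{0} @Nat @instAddNat) @x0 (@OfNat.ofNat.{0} @Nat (nat_lit 1) (@instOfNatNat (nat_lit 1)))) (@OfNat.ofNat.{0} @Nat (nat_lit 0) (@instOfNatNat (nat_lit 0))) @x6)) (@Eq.symm.{(ku0+1)} (Sort ku0) (@x1 (@Fin.mk (@HAdd.hAdd.{0, 0, 0} @Nat @Nat @Nat (@instHAdd.{0} @Nat @instAddNat) @x0 (@OfNat.ofNat.{0} @Nat (nat_lit 1) (@instOfNatNat (nat_lit 1)))) (@OfNat.ofNat.{0} @Nat (nat_lit 0) (@instOfNatNat (nat_lit 0))) @x6)) (@x1 (@OfNat.ofNat.{0} (@Fin (@HAdd.hAdd.{0, 0, 0} @Nat @Nat @Nat (@instHAdd.{0} @Nat @instAddNat) @x0 (@OfNat.ofNat.{0} @Nat (nat_lit 1) (@instOfNatNat (nat_lit 1))))) (nat_lit 0) (@Fin.instOfNat (@HAdd.hAdd.{0, 0, 0} @Nat @Nat @Nat (@instHAdd.{0} @Nat @instAddNat) @x0 (@OfNat.ofNat.{0} @Nat (nat_lit 1) (@instOfNatNat (nat_lit 1)))) (@Fin.succRec._proof_1 @x0) (nat_lit 0)))) (@Fin.induction.go._proof_1.{ku0}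 @x0 @x1 @x6))) @(fun (x6 : @Nat) (x7 : ((x7 : @LT.lt.{0} @Nat @instLTNat @x6 (@HAdd.hAdd.{0, 0, 0} @Nat @Nat @Nat (@instHAdd.{0} @Nat @instAddNat) @x0 (@OfNat.ofNat.{0} @Nat (nat_lit 1) (@instOfNatNat (nat_lit 1))))) → @x1 (@Fin.mk (@HAdd.hAdd.{0, 0, 0} @Nat @Nat @Nat (@instHAdd.{0} @Nat @instAddNat) @x0 (@OfNat.ofNat.{0} @Nat (nat_lit 1) (@instOfNatNat (nat_lit 1)))) @x6 @x7))) (x8 : @LT.lt.{0} @Nat @instLTNat (@Nat.succ @x6) (@HAdd.hAdd.{0, 0, 0} @Nat @Nat @Nat (@instHAdd.{0} @Nat @instAddNat) @x0 (@OfNat.ofNat.{0} @Nat (nat_lit 1) (@instOfNatNat (nat_lit 1))))) => @x3 (@Fin.mk @x0 @x6 (@Nat.lt_of_succ_lt_succ @x6 @x0 @x8)) (@x7 (@Fin.induction.go._proof_2 @x0 @x6 @x8))) @x4 @x5)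
private theorem _root_.Cfsg.Agent.KOa2795d8.e23.{ku0} : @Fin.induction.go.{ku0} = @_root_.Cfsg.Agent.KOa2795d8.k23.{ku0} := by delta _root_.Cfsg.Agent.KOa2795d8.k23; funext a0 a1 a2 a3 a4 a5; refine (congrFun (_root_.Cfsg.Agent.KOa2795d8.e6 (fun a4 a5 => @Fin.induction.go.{ku0} a0 a1 a2 a3 a4 a5) ?_ (fun c0 => ?_) a4) a5 :) <;> (rfl')
private noncomputable def _root_.Cfsg.Agent.KOa2795d8.k24.{ku0} : ((x0 : @Nat) → ((x1 : ((@Fin (@HAdd.hAdd.{0, 0, 0} @Nat @Nat @Nat (@instHAdd.{0} @Nat @instAddNat) @x0 (@OfNat.ofNat.{0} @Nat (nat_lit 1) (@instOfNatNat (nat_lit 1))))) → Sort ku0)) → ((@x1 (@OfNat.ofNat.{0} (@Fin (@HAdd.hAdd.{0, 0, 0} @Nat @Nat @Nat (@instHAdd.{0} @Nat @instAddNat) @x0 (@OfNat.ofNat.{0} @Nat (nat_lit 1) (@instOfNatNat (nat_lit 1))))) (nat_lit 0) (@Fin.instOfNat (@HAdd.hAdd.{0, 0, 0} @Nat @Nat @Nat (@instHAdd.{0} @Nat @instAddNat) @x0 (@OfNat.ofNat.{0}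 @Nat (nat_lit 1) (@instOfNatNat (nat_lit 1)))) (@instNeZeroNatHAdd_1 @x0 (@OfNat.ofNat.{0} @Nat (nat_lit 1) (@instOfNatNat (nat_lit 1))) (@Nat.instNeZeroSucc (@OfNat.ofNat.{0} @Nat (nat_lit 0) (@instOfNatNat (nat_lit 0))))) (nat_lit 0)))) → (((x3 : @Fin @x0) → ((@x1 (@Fin.castSucc @x0 @x3)) → @x1 (@Fin.succ @x0 @x3))) → ((x4 : @Fin (@HAdd.hAdd.{0, 0, 0} @Nat @Nat @Nat (@instHAdd.{0} @Nat @instAddNat) @x0 (@OfNat.ofNat.{0} @Nat (nat_lit 1) (@instOfNatNat (nat_lit 1))))) → @x1 @x4))))) := @(fun (x0 : @Nat) (x1 : ((@Fin (@HAdd.hAdd.{0, 0, 0} @Nat @Nat @Nat (@instHAdd.{0} @Nat @instAddNat) @x0 (@OfNat.ofNat.{0} @Nat (nat_lit 1) (@instOfNatNat (nat_lit 1))))) → Sort ku0)) (x2 : @x1 (@OfNat.ofNat.{0} (@Fin (@HAdd.hAdd.{0, 0, 0} @Nat @Nat @Nat (@instHAdd.{0} @Nat @instAddNat) @x0 (@OfNat.ofNat.{0} @Nat (nat_lit 1) (@instOfNatNat (nat_lit 1))))) (nat_lit 0) (@Fin.instOfNat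 (@HAdd.hAdd.{0, 0, 0} @Nat @Nat @Nat (@instHAdd.{0} @Nat @instAddNat) @x0 (@OfNat.ofNat.{0} @Nat (nat_lit 1) (@instOfNatNat (nat_lit 1)))) (@Fin.succRec._proof_1 @x0) (nat_lit 0)))) (x3 : ((x3 : @Fin @x0) → ((@x1 (@Fin.castSucc @x0 @x3)) → @x1 (@Fin.succ @x0 @x3)))) (x4 : @Fin (@HAdd.hAdd.{0, 0, 0} @Nat @Nat @Nat (@instHAdd.{0} @Nat @instAddNat) @x0 (@OfNat.ofNat.{0} @Nat (nat_lit 1) (@instOfNatNat (nat_lit 1))))) => @Fin.rec.{ku0} (@Nat.add @x0 (nat_lit 1)) @(fun (x5 : @Fin (@HAdd.hAdd.{0, 0, 0} @Nat @Nat @Nat (@instHAdd.{0} @Nat @instAddNat) @x0 (@OfNat.ofNat.{0} @Nat (nat_lit 1) (@instOfNatNat (nat_lit 1))))) => @x1 @x5) @(fun (x5 : @Nat) (x6 : @LT.lt.{0} @Nat @instLTNat @x5 (@HAdd.hAdd.{0, 0, 0} @Nat @Nat @Nat (@instHAdd.{0} @Nat @instAddNat) @x0 (@OfNat.ofNat.{0} @Nat (nat_lit 1) (@instOfNatNat (nat_lit 1))))) => @Cfsg.Agent.KOa2795d8.k23.{ku0} @x0 @x1 @x2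 @x3 @x5 @x6) @x4)
private theorem _root_.Cfsg.Agent.KOa2795d8.e24.{ku0} : @Fin.induction.{ku0} = @_root_.Cfsg.Agent.KOa2795d8.k24.{ku0} := by delta _root_.Cfsg.Agent.KOa2795d8.k24; rewrite [← Cfsg.Agent.KOa2795d8.e23.{ku0}]; rfl'
private noncomputable def _root_.Cfsg.Agent.KOa2795d8.k25.{ku0} : ((x0 : @Nat) → ((x1 : ((@Fin (@HAdd.hAdd.{0, 0, 0} @Nat @Nat @Nat (@instHAdd.{0} @Nat @instAddNat) @x0 (@OfNat.ofNat.{0} @Nat (nat_lit 1) (@instOfNatNat (nat_lit 1))))) → Sort ku0)) → ((@x1 (@OfNat.ofNat.{0} (@Fin (@HAdd.hAdd.{0, 0, 0} @Nat @Nat @Nat (@instHAdd.{0} @Nat @instAddNat) @x0 (@OfNat.ofNat.{0} @Nat (nat_lit 1) (@instOfNatNat (nat_lit 1))))) (nat_lit 0) (@Fin.instOfNat (@HAdd.hAdd.{0, 0, 0} @Nat @Nat @Nat (@instHAdd.{0} @Nat @instAddNat) @x0 (@OfNat.ofNat.{0} @Nat (nat_lit 1) (@instOfNatNat (nat_lit 1)))) (@instNeZeroNatHAdd_1 @x0 (@OfNat.ofNat.{0} @Nat (nat_lit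 1) (@instOfNatNat (nat_lit 1))) (@Nat.instNeZeroSucc (@OfNat.ofNat.{0} @Nat (nat_lit 0) (@instOfNatNat (nat_lit 0))))) (nat_lit 0)))) → (((x3 : @Fin @x0) → @x1 (@Fin.succ @x0 @x3)) → ((x4 : @Fin (@HAdd.hAdd.{0, 0, 0} @Nat @Nat @Nat (@instHAdd.{0} @Nat @instAddNat) @x0 (@OfNat.ofNat.{0} @Nat (nat_lit 1) (@instOfNatNat (nat_lit 1))))) → @x1 @x4))))) := @(fun (x0 : @Nat) (x1 : ((@Fin (@HAdd.hAdd.{0, 0, 0} @Nat @Nat @Nat (@instHAdd.{0} @Nat @instAddNat) @x0 (@OfNat.ofNat.{0} @Nat (nat_lit 1) (@instOfNatNat (nat_lit 1))))) → Sort ku0)) (x2 : @x1 (@OfNat.ofNat.{0} (@Fin (@HAdd.hAdd.{0, 0, 0} @Nat @Nat @Nat (@instHAdd.{0} @Nat @instAddNat) @x0 (@OfNat.ofNat.{0} @Nat (nat_lit 1) (@instOfNatNat (nat_lit 1))))) (nat_lit 0) (@Fin.instOfNat (@HAdd.hAdd.{0, 0, 0} @Nat @Nat @Nat (@instHAdd.{0} @Nat @instAddNat) @x0 (@OfNat.ofNat.{0} @Nat (nat_lit 1) (@instOfNatNat (nat_lit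 1)))) (@Fin.succRec._proof_1 @x0) (nat_lit 0)))) (x3 : ((x3 : @Fin @x0) → @x1 (@Fin.succ @x0 @x3))) (x4 : @Fin (@HAdd.hAdd.{0, 0, 0} @Nat @Nat @Nat (@instHAdd.{0} @Nat @instAddNat) @x0 (@OfNat.ofNat.{0} @Nat (nat_lit 1) (@instOfNatNat (nat_lit 1))))) => @Cfsg.Agent.KOa2795d8.k24.{ku0} @x0 @(fun (x5 : @Fin (@HAdd.hAdd.{0, 0, 0} @Nat @Nat @Nat (@instHAdd.{0} @Nat @instAddNat) @x0 (@OfNat.ofNat.{0} @Nat (nat_lit 1) (@instOfNatNat (nat_lit 1))))) => @x1 @x5) @x2 @(fun (x5 : @Fin @x0) (x6 : @x1 (@Fin.castSucc @x0 @x5)) => @x3 @x5) @x4)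
private theorem _root_.Cfsg.Agent.KOa2795d8.e25.{ku0} : @Fin.cases.{ku0} = @_root_.Cfsg.Agent.KOa2795d8.k25.{ku0} := by delta _root_.Cfsg.Agent.KOa2795d8.k25; rewrite [← Cfsg.Agent.KOa2795d8.e24.{ku0}]; rfl'
private noncomputable def _root_.Cfsg.Agent.KOa2795d8.k26.{ku0} : ((x0 : @Nat) → ((x1 : ((@Fin (@HAdd.hAdd.{0, 0, 0} @Nat @Nat @Nat (@instHAdd.{0} @Nat @instAddNat) @x0 (@OfNat.ofNat.{0} @Nat (nat_lit 1) (@instOfNatNat (nat_lit 1))))) → Sort ku0)) → ((@x1 (@OfNat.ofNat.{0} (@Fin (@HAdd.hAdd.{0, 0, 0} @Nat @Nat @Nat (@instHAdd.{0} @Nat @instAddNat) @x0 (@OfNat.ofNat.{0} @Nat (nat_lit 1) (@instOfNatNat (nat_lit 1))))) (nat_lit 0) (@Fin.instOfNat (@HAdd.hAdd.{0, 0, 0} @Nat @Nat @Nat (@instHAdd.{0} @Nat @instAddNat) @x0 (@OfNat.ofNat.{0} @Nat (nat_lit 1) (@instOfNatNat (nat_lit 1)))) (@instNeZeroNatHAdd_1 @x0 (@OfNat.ofNat.{0} @Nat (nat_lit 1) (@instOfNatNat (nat_lit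 1))) (@Nat.instNeZeroSucc (@OfNat.ofNat.{0} @Nat (nat_lit 0) (@instOfNatNat (nat_lit 0))))) (nat_lit 0)))) → (((x3 : @Fin @x0) → @x1 (@Fin.succ @x0 @x3)) → ((x4 : @Fin (@HAdd.hAdd.{0, 0, 0} @Nat @Nat @Nat (@instHAdd.{0} @Nat @instAddNat) @x0 (@OfNat.ofNat.{0} @Nat (nat_lit 1) (@instOfNatNat (nat_lit 1))))) → @x1 @x4))))) := @(fun (x0 : @Nat) (x1 : ((@Fin (@HAdd.hAdd.{0, 0, 0} @Nat @Nat @Nat (@instHAdd.{0} @Nat @instAddNat) @x0 (@OfNat.ofNat.{0} @Nat (nat_lit 1) (@instOfNatNat (nat_lit 1))))) → Sort ku0)) (x2 : @x1 (@OfNat.ofNat.{0} (@Fin (@HAdd.hAdd.{0, 0, 0} @Nat @Nat @Nat (@instHAdd.{0} @Nat @instAddNat) @x0 (@OfNat.ofNat.{0} @Nat (nat_lit 1) (@instOfNatNat (nat_lit 1))))) (nat_lit 0) (@Fin.instOfNat (@HAdd.hAdd.{0, 0, 0} @Nat @Nat @Nat (@instHAdd.{0} @Nat @instAddNat) @x0 (@OfNat.ofNat.{0} @Nat (nat_lit 1) (@instOfNatNat (nat_lit 1)))) (@Fin.cons._proof_1 @x0)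 (nat_lit 0)))) (x3 : ((x3 : @Fin @x0) → @x1 (@Fin.succ @x0 @x3))) (x4 : @Fin (@HAdd.hAdd.{0, 0, 0} @Nat @Nat @Nat (@instHAdd.{0} @Nat @instAddNat) @x0 (@OfNat.ofNat.{0} @Nat (nat_lit 1) (@instOfNatNat (nat_lit 1))))) => @Cfsg.Agent.KOa2795d8.k25.{ku0} @x0 @(fun (x5 : @Fin (@HAdd.hAdd.{0, 0, 0} @Nat @Nat @Nat (@instHAdd.{0} @Nat @instAddNat) @x0 (@OfNat.ofNat.{0} @Nat (nat_lit 1) (@instOfNatNat (nat_lit 1))))) => @x1 @x5) @x2 @x3 @x4)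
private theorem _root_.Cfsg.Agent.KOa2795d8.e26.{ku0} : @Fin.cons.{ku0} = @_root_.Cfsg.Agent.KOa2795d8.k26.{ku0} := by delta _root_.Cfsg.Agent.KOa2795d8.k26; rewrite [← Cfsg.Agent.KOa2795d8.e25.{ku0}]; rfl'
private noncomputable def _root_.Cfsg.Agent.KOa2795d8.k27 : ((@Int) → ((@Int) → @Int)) := @(fun (x0 : @Int) (x1 : @Int) => @Int.rec.{1} @(fun (x2 : @Int) => @Int) @(fun (x2 : @Nat) => @Int.rec.{1} @(fun (x3 : @Int) => @Int) @(fun (x3 : @Nat) => @Int.ofNat (@Nat.add @x2 @x3)) @(fun (x3 : @Nat) => @Nat.rec.{1} @(fun (x4 : @Nat) => @Int) (@Int.ofNat (@Nat.sub @x2 (@Nat.succ @x3))) @(fun (x4 : @Nat) (x5 : @Int) => @Int.negSucc @x4) (@Nat.sub (@Nat.succ @x3) @x2)) @x1) @(fun (x2 : @Nat) => @Int.rec.{1} @(fun (x3 : @Int) => @Int) @(fun (x3 : @Nat) => @Nat.rec.{1} @(fun (x4 : @Nat) => @Int) (@Int.ofNat (@Nat.sub @x3 (@Nat.succ @x2))) @(fun (x4 : @Nat) (x5 : @Int)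 => @Int.negSucc @x4) (@Nat.sub (@Nat.succ @x2) @x3)) @(fun (x3 : @Nat) => @Int.negSucc (@Nat.succ (@Nat.add @x2 @x3))) @x1) @x0)
private theorem _root_.Cfsg.Agent.KOa2795d8.e27 : @Int.add = @_root_.Cfsg.Agent.KOa2795d8.k27 := by delta _root_.Cfsg.Agent.KOa2795d8.k27; rfl'
private noncomputable def _root_.Cfsg.Agent.KOa2795d8.k28 : ((@Int) → ((@Int) → @Int)) := @(fun (x0 : @Int) (x1 : @Int) => @Int.rec.{1} @(fun (x2 : @Int) => @Int) @(fun (x2 : @Nat) => @Int.rec.{1} @(fun (x3 : @Int) => @Int) @(fun (x3 : @Nat) => @Int.ofNat (@Nat.mul @x2 @x3)) @(fun (x3 : @Nat) => @Nat.rec.{1} @(fun (x4 : @Nat) => @Int) (@Int.ofNat (nat_lit 0)) @(fun (x4 : @Nat) (x5 : @Int) => @Int.negSucc @x4) (@Nat.mul @x2 (@Nat.succ @x3))) @x1) @(fun (x2 : @Nat) => @Int.rec.{1} @(fun (x3 : @Int) => @Int) @(fun (x3 : @Nat) => @Nat.rec.{1} @(fun (x4 : @Nat) => @Int) (@Int.ofNat (nat_lit 0)) @(fun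 (x4 : @Nat) (x5 : @Int) => @Int.negSucc @x4) (@Nat.mul (@Nat.succ @x2) @x3)) @(fun (x3 : @Nat) => @Int.ofNat (@Nat.mul (@Nat.succ @x2) (@Nat.succ @x3))) @x1) @x0)
private theorem _root_.Cfsg.Agent.KOa2795d8.e28 : @Int.mul = @_root_.Cfsg.Agent.KOa2795d8.k28 := by delta _root_.Cfsg.Agent.KOa2795d8.k28; rfl'
private noncomputable def _root_.Cfsg.Agent.KOa2795d8.k29.{ku0} : ((x0 : Sort ku0) → ((@Fin (@OfNat.ofNat.{0} @Nat (nat_lit 0) (@instOfNatNat (nat_lit 0)))) → x0)) := @(fun (x0 : Sort ku0) (x1 : @Fin (@OfNat.ofNat.{0} @Nat (nat_lit 0) (@instOfNatNat (nat_lit 0)))) => @Fin.rec.{ku0} (nat_lit 0) @(fun (x2 : @Fin (@OfNat.ofNat.{0} @Nat (nat_lit 0) (@instOfNatNat (nat_lit 0)))) => x0) @(fun (x2 : @Nat) (x3 : @LT.lt.{0} @Nat @instLTNat @x2 (@OfNat.ofNat.{0} @Nat (nat_lit 0) (@instOfNatNat (nat_lit 0)))) => @False.rec.{ku0} @(fun (x4 : @False) => x0) (@Nat.not_lt_zero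 @x2 @x3)) @x1)
private theorem _root_.Cfsg.Agent.KOa2795d8.e29.{ku0} : @Fin.elim0.{ku0} = @_root_.Cfsg.Agent.KOa2795d8.k29.{ku0} := by delta _root_.Cfsg.Agent.KOa2795d8.k29; rfl'
private noncomputable def _root_.Cfsg.Agent.KOa2795d8.k30 : (by first | exact type_of% @Cfsg.Agent.BZ.RT.Cx.S69.sg | exact Unit : Sort _) := by first | (refine @Subtype.val _ (fun g => @Cfsg.Agent.BZ.RT.Cx.S69.sg = @g) (@Subtype.mk _ _ (@(fun (x0 : @Int) (x1 : @Nat) => @Cfsg.Agent.KOa2795d8.k26.{1} (nat_lit 4) @(fun (x2 : @Fin (@Nat.succ (@OfNat.ofNat.{0} @Nat (nat_lit 4) (@instOfNatNat (nat_lit 4))))) => @Int) (@Cfsg.Agent.KOa2795d8.k27 (@Int.ofNat (nat_lit 1)) (@Int.rec.{1} @(fun (x2 : @Int) => @Int) @(fun (x2 : @Nat) => @Nat.rec.{1} @(fun (x3 : @Nat) => @Int) (@Int.ofNat (nat_lit 0)) @(fun (x3 : @Nat) (x4 : @Int) => @Int.negSucc @x3) @x2) @(fun (x2 : @Nat) => @Int.ofNat (@Nat.succ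 @x2)) (@Cfsg.Agent.KOa2795d8.k28 (@Int.ofNat (nat_lit 2)) (@Int.ofNat (@Nat.mod @x1 (nat_lit 2)))))) (@Cfsg.Agent.KOa2795d8.k26.{1} (nat_lit 3) @(fun (x2 : @Fin (@Nat.succ (@OfNat.ofNat.{0} @Nat (nat_lit 3) (@instOfNatNat (nat_lit 3))))) => @Int) (@Cfsg.Agent.KOa2795d8.k27 (@Int.ofNat (nat_lit 1)) (@Int.rec.{1} @(fun (x2 : @Int) => @Int) @(fun (x2 : @Nat) => @Nat.rec.{1} @(fun (x3 : @Nat) => @Int) (@Int.ofNat (nat_lit 0)) @(fun (x3 : @Nat) (x4 : @Int) => @Int.negSucc @x3) @x2) @(fun (x2 : @Nat) => @Int.ofNat (@Nat.succ @x2)) (@Cfsg.Agent.KOa2795d8.k28 (@Int.ofNat (nat_lit 2)) (@Int.ofNat (@Nat.mod (@Nat.div @x1 (nat_lit 2)) (nat_lit 2)))))) (@Cfsg.Agent.KOa2795d8.k26.{1} (nat_lit 2) @(fun (x2 : @Fin (@Nat.succ (@OfNat.ofNat.{0} @Nat (nat_lit 2) (@instOfNatNat (nat_lit 2))))) => @Int) (@Cfsg.Agent.KOa2795d8.k27 (@Int.ofNat (nat_lit 1)) (@Int.rec.{1} @(fun (x2 :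 @Int) => @Int) @(fun (x2 : @Nat) => @Nat.rec.{1} @(fun (x3 : @Nat) => @Int) (@Int.ofNat (nat_lit 0)) @(fun (x3 : @Nat) (x4 : @Int) => @Int.negSucc @x3) @x2) @(fun (x2 : @Nat) => @Int.ofNat (@Nat.succ @x2)) (@Cfsg.Agent.KOa2795d8.k28 (@Int.ofNat (nat_lit 2)) (@Int.ofNat (@Nat.mod (@Nat.div @x1 (nat_lit 4)) (nat_lit 2)))))) (@Cfsg.Agent.KOa2795d8.k26.{1} (nat_lit 1) @(fun (x2 : @Fin (@Nat.succ (@OfNat.ofNat.{0} @Nat (nat_lit 1) (@instOfNatNat (nat_lit 1))))) => @Int) (@Cfsg.Agent.KOa2795d8.k27 (@Int.ofNat (nat_lit 1)) (@Int.rec.{1} @(fun (x2 : @Int) => @Int) @(fun (x2 : @Nat) => @Nat.rec.{1} @(fun (x3 : @Nat) => @Int) (@Int.ofNat (nat_lit 0)) @(fun (x3 : @Nat) (x4 : @Int) => @Int.negSucc @x3) @x2) @(fun (x2 : @Nat) => @Int.ofNat (@Nat.succ @x2)) (@Cfsg.Agent.KOa2795d8.k28 (@Int.ofNat (nat_lit 2)) (@Int.ofNat (@Nat.mod (@Nat.div @x1 (nat_lit 8)) (nat_lit 2))))))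 (@Cfsg.Agent.KOa2795d8.k26.{1} (nat_lit 0) @(fun (x2 : @Fin (@Nat.succ (@OfNat.ofNat.{0} @Nat (nat_lit 0) (@instOfNatNat (nat_lit 0))))) => @Int) (@Cfsg.Agent.KOa2795d8.k28 @x0 (@Cfsg.Agent.KOa2795d8.k27 (@Int.ofNat (nat_lit 1)) (@Int.rec.{1} @(fun (x2 : @Int) => @Int) @(fun (x2 : @Nat) => @Nat.rec.{1} @(fun (x3 : @Nat) => @Int) (@Int.ofNat (nat_lit 0)) @(fun (x3 : @Nat) (x4 : @Int) => @Int.negSucc @x3) @x2) @(fun (x2 : @Nat) => @Int.ofNat (@Nat.succ @x2)) (@Cfsg.Agent.KOa2795d8.k28 (@Int.ofNat (nat_lit 2)) (@Int.ofNat (@Nat.mod (@Nat.add (@Nat.add (@Nat.add @x1 (@Nat.div @x1 (nat_lit 2))) (@Nat.div @x1 (nat_lit 4))) (@Nat.div @x1 (nat_lit 8))) (nat_lit 2))))))) (@Cfsg.Agent.KOa2795d8.k29.{1} @Int))))))) ?_); rewrite [← Cfsg.Agent.KOa2795d8.e29.{1}, ← Cfsg.Agent.KOa2795d8.e28, ← Cfsg.Agent.KOa2795d8.e27, ← Cfsg.Agent.KOa2795d8.e26.{1}]; rfl') | exact @Cfsg.Agent.BZ.RT.Cx.S69.sg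 | exact ()
private theorem _root_.Cfsg.Agent.KOa2795d8.e30 : (by first | exact @Cfsg.Agent.BZ.RT.Cx.S69.sg = @_root_.Cfsg.Agent.KOa2795d8.k30 | exact True : Prop) := by first | (delta _root_.Cfsg.Agent.KOa2795d8.k30; exact @Subtype.property _ (fun g => @Cfsg.Agent.BZ.RT.Cx.S69.sg = @g) _) | rfl | trivial
private noncomputable def _root_.Cfsg.Agent.KOa2795d8.k31 : (by first | exact type_of% @Cfsg.Agent.BZ.RT.Cx.S69.gr | exact Unit : Sort _) := by first | (refine @Subtype.val _ (fun g => @Cfsg.Agent.BZ.RT.Cx.S69.gr = @g) (@Subtype.mk _ _ (@(fun (x0 : @Nat) (x1 : @Nat) => @Cfsg.Agent.KOa2795d8.k27 (@Int.ofNat (nat_lit 5)) (@Int.rec.{1} @(fun (x2 : @Int) => @Int) @(fun (x2 : @Nat) => @Nat.rec.{1} @(fun (x3 : @Nat) => @Int) (@Int.ofNat (nat_lit 0)) @(fun (x3 : @Nat) (x4 : @Int) => @Int.negSucc @x3) @x2) @(fun (x2 : @Nat) => @Int.ofNat (@Nat.succ @x2)) (@Cfsg.Agent.KOa2795d8.k28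 (@Int.ofNat (nat_lit 2)) (@Int.ofNat (@Cfsg.Agent.KOa2795d8.k4 @x0 @x1)))))) ?_); rewrite [← Cfsg.Agent.KOa2795d8.e4, ← Cfsg.Agent.KOa2795d8.e28, ← Cfsg.Agent.KOa2795d8.e27]; (try delta Cfsg.Agent.BZ.RT.Cx.S69.gr); (try generalize @Cfsg.Agent.BZ.RT.Cx.S69.ds = g0); rfl') | exact @Cfsg.Agent.BZ.RT.Cx.S69.gr | exact ()
private theorem _root_.Cfsg.Agent.KOa2795d8.e31 : (by first | exact @Cfsg.Agent.BZ.RT.Cx.S69.gr = @_root_.Cfsg.Agent.KOa2795d8.k31 | exact True : Prop) := by first | (delta _root_.Cfsg.Agent.KOa2795d8.k31; exact @Subtype.property _ (fun g => @Cfsg.Agent.BZ.RT.Cx.S69.gr = @g) _) | rfl | trivial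
private noncomputable def _root_.Cfsg.Agent.KOa2795d8.k32 : ((x0 : Prop) → ((x1 : (x0 → Prop)) → ((@Decidable @x0) → (((x3 : x0) → @Decidable (@x1 @x3)) → @Decidable ((x4 : x0) → @x1 @x4))))) := @(fun (x0 : Prop) (x1 : (x0 → Prop)) (x2 : @Decidable @x0) (x3 : ((x3 : x0) → @Decidable (@x1 @x3))) => @Decidable.rec.{1} @x0 @(fun (x4 : @Decidable @x0) => @Decidable ((x5 : x0) → @x1 @x5)) @(fun (x4 : @Not @x0) => @Decidable.isTrue ((x5 : x0) → @x1 @x5) (@forall_prop_decidable._proof_2 @x0 @x1 @x4)) @(fun (x4 : x0) => @Decidable.rec.{1} (@x1 @x4) @(fun (x5 : @Decidable (@x1 @x4)) => @Decidable ((x6 : x0) → @x1 @x6)) @(fun (x5 : @Not (@x1 @x4)) => @Decidable.isFalse ((x6 : x0) → @x1 @x6) (@decidable_of_decidable_of_iff._proof_1 (@x1 @x4) ((x6 : x0) → @x1 @x6) (@forall_prop_decidable._proof_1 @x0 @x1 @x4) @x5)) @(fun (x5 : @x1 @x4) => @Decidable.isTrue ((x6 : x0) → @x1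 @x6) (@Iff.mp (@x1 @x4) ((x6 : x0) → @x1 @x6) (@forall_prop_decidable._proof_1 @x0 @x1 @x4) @x5)) (@x3 @x4)) @x2)
private theorem _root_.Cfsg.Agent.KOa2795d8.e32 : @forall_prop_decidable = @_root_.Cfsg.Agent.KOa2795d8.k32 := by delta _root_.Cfsg.Agent.KOa2795d8.k32; rfl'
private noncomputable def _root_.Cfsg.Agent.KOa2795d8.k33.{ku0, ku1} : ((x0 : Sort ku0) → ((x1 : (x0 → (x0 → Prop))) → ((x2 : ((@Quot.{ku0} @x0 @x1) → Sort ku1)) → ((x3 : ((x3 : x0) → @x2 (@Quot.mk.{ku0} @x0 @x1 @x3))) → (((x4 : x0) → ((x5 : x0) → ((x6 : @x1 @x4 @x5) → @Eq.{ku1} (@x2 (@Quot.mk.{ku0} @x0 @x1 @x5)) (@Eq.ndrec.{ku1, ku0} (@Quot.{ku0} @x0 @x1) (@Quot.mk.{ku0} @x0 @x1 @x4) @x2 (@x3 @x4) (@Quot.mk.{ku0} @x0 @x1 @x5) (@Quot.sound.{ku0} @x0 @x1 @x4 @x5 @x6)) (@x3 @x5)))) → ((x5 : @Quot.{ku0} @x0 @x1) → @x2 @x5)))))) := @(fun (x0 : Sort ku0) (x1 : (x0 → (x0 → Prop))) (x2 : ((@Quot.{ku0}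 @x0 @x1) → Sort ku1)) (x3 : ((x3 : x0) → @x2 (@Quot.mk.{ku0} @x0 @x1 @x3))) (x4 : ((x4 : x0) → ((x5 : x0) → ((x6 : @x1 @x4 @x5) → @Eq.{ku1} (@x2 (@Quot.mk.{ku0} @x0 @x1 @x5)) (@Eq.ndrec.{ku1, ku0} (@Quot.{ku0} @x0 @x1) (@Quot.mk.{ku0} @x0 @x1 @x4) @x2 (@x3 @x4) (@Quot.mk.{ku0} @x0 @x1 @x5) (@Quot.sound.{ku0} @x0 @x1 @x4 @x5 @x6)) (@x3 @x5))))) (x5 : @Quot.{ku0} @x0 @x1) => @Eq.rec.{ku1, ku0} (@Quot.{ku0} @x0 @x1) (@PSigma.fst.{ku0, ku1} (@Quot.{ku0} @x0 @x1) @x2 (@Quot.lift.{ku0, (max (max 1 ku1) ku0)} @x0 @x1 (@PSigma.{ku0, ku1} (@Quot.{ku0} @x0 @x1) @x2) (@Quot.indep.{ku0, ku1} @x0 @x1 @x2 @x3) (@Quot.indepCoherent.{ku0, ku1} @x0 @x1 @x2 @x3 @x4) @x5)) @(fun (x6 : @Quot.{ku0} @x0 @x1) (x7 : @Eq.{ku0} (@Quot.{ku0} @x0 @x1) (@PSigma.fst.{ku0, ku1} (@Quot.{ku0} @x0 @x1) @x2 (@Quot.lift.{ku0, (max (max 1 ku1) ku0)} @x0 @x1 (@PSigma.{ku0, ku1} (@Quot.{ku0} @x0 @x1)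 @x2) (@Quot.indep.{ku0, ku1} @x0 @x1 @x2 @x3) (@Quot.indepCoherent.{ku0, ku1} @x0 @x1 @x2 @x3 @x4) @x5)) @x6) => @x2 @x6) (@PSigma.snd.{ku0, ku1} (@Quot.{ku0} @x0 @x1) @x2 (@Quot.lift.{ku0, (max (max 1 ku1) ku0)} @x0 @x1 (@PSigma.{ku0, ku1} (@Quot.{ku0} @x0 @x1) @x2) (@Quot.indep.{ku0, ku1} @x0 @x1 @x2 @x3) (@Quot.indepCoherent.{ku0, ku1} @x0 @x1 @x2 @x3 @x4) @x5)) @x5 (@Quot.liftIndepPr1.{ku0, ku1} @x0 @x1 @x2 @x3 @x4 @x5))
private theorem _root_.Cfsg.Agent.KOa2795d8.e33.{ku0, ku1} : @Quot.rec.{ku0, ku1} = @_root_.Cfsg.Agent.KOa2795d8.k33.{ku0, ku1} := by delta _root_.Cfsg.Agent.KOa2795d8.k33; rfl'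
private noncomputable def _root_.Cfsg.Agent.KOa2795d8.k34.{ku0, ku1} : ((x0 : Sort ku0) → ((x1 : (x0 → (x0 → Prop))) → ((x2 : ((@Quot.{ku0} @x0 @x1) → Sort ku1)) → (((x3 : x0) → @Subsingleton.{ku1} (@x2 (@Quot.mk.{ku0} @x0 @x1 @x3))) → ((x4 : @Quot.{ku0} @x0 @x1) → (((x5 : x0) → @x2 (@Quot.mk.{ku0} @x0 @x1 @x5)) → @x2 @x4)))))) := @(fun (x0 : Sort ku0) (x1 : (x0 → (x0 → Prop))) (x2 : ((@Quot.{ku0} @x0 @x1) → Sort ku1)) (x3 : ((x3 : x0) → @Subsingleton.{ku1} (@x2 (@Quot.mk.{ku0} @x0 @x1 @x3)))) (x4 : @Quot.{ku0} @x0 @x1) (x5 : ((x5 : x0) → @x2 (@Quot.mk.{ku0} @x0 @x1 @x5))) => @Cfsg.Agent.KOa2795d8.k33.{ku0, ku1} @x0 @x1 @(fun (x6 : @Quot.{ku0} @x0 @x1) => @x2 @x6) @(fun (x6 : x0) => @x5 @x6) (@Quot.recOnSubsingleton._proof_1.{ku1, ku0} @x0 @x1 @x2 @x3 @x5) @x4)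
private theorem _root_.Cfsg.Agent.KOa2795d8.e34.{ku0, ku1} : @Quot.recOnSubsingleton.{ku0, ku1} = @_root_.Cfsg.Agent.KOa2795d8.k34.{ku0, ku1} := by delta _root_.Cfsg.Agent.KOa2795d8.k34; rewrite [← Cfsg.Agent.KOa2795d8.e33.{ku0, ku1}]; rfl'
private noncomputable def _root_.Cfsg.Agent.KOa2795d8.k35.{ku0} : ((x0 : Sort (ku0+1)) → ((x1 : @Multiset.{ku0} @x0) → ((x2 : (x0 → Prop)) → (((x3 : x0) → @Decidable (@x2 @x3)) → @Decidable ((x4 : x0) → ((@Membership.mem.{ku0, ku0} @x0 (@Multiset.{ku0} @x0) (@Multiset.instMembership.{ku0} @x0) @x1 @x4) → @x2 @x4)))))) := @(fun (x0 : Sort (ku0+1)) (x1 : @Multiset.{ku0} @x0) (x2 : (x0 → Prop)) (x3 : ((x3 : x0) → @Decidable (@x2 @x3))) => @Cfsg.Agent.KOa2795d8.k34.{(ku0+1), 1} (@List.{ku0} @x0) (@Setoid.r.{(ku0+1)} (@List.{ku0} @x0) (@List.isSetoid.{ku0} @x0)) @(fun (x4 : @Quotient.{(ku0+1)} (@List.{ku0} @x0) (@List.isSetoid.{ku0}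 @x0)) => @Decidable ((x5 : x0) → ((@Membership.mem.{ku0, ku0} @x0 (@Multiset.{ku0} @x0) (@Multiset.instMembership.{ku0} @x0) @x4 @x5) → @x2 @x5))) (@Multiset.decidableForallMultiset._proof_2.{ku0} @x0 @x2) @x1 @(fun (x4 : @List.{ku0} @x0) => @Decidable.rec.{1} ((x5 : x0) → ((@Membership.mem.{ku0, ku0} @x0 (@List.{ku0} @x0) (@List.instMembership.{ku0} @x0) @x4 @x5) → @x2 @x5)) @(fun (x5 : @Decidable ((x5 : x0) → ((@Membership.mem.{ku0, ku0} @x0 (@List.{ku0} @x0) (@List.instMembership.{ku0} @x0) @x4 @x5) → @x2 @x5))) => @Decidable ((x6 : x0) → ((@Membership.mem.{ku0, ku0} @x0 (@Multiset.{ku0} @x0) (@Multiset.instMembership.{ku0} @x0) (@Quotient.mk.{(ku0+1)} (@List.{ku0} @x0) (@List.isSetoid.{ku0} @x0) @x4) @x6) → @x2 @x6))) @(fun (x5 : @Not ((x5 : x0) → ((@Membership.mem.{ku0, ku0} @x0 (@List.{ku0} @x0) (@List.instMembership.{ku0} @x0) @x4 @x5) → @x2 @x5))) => @Decidable.isFalse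 ((x6 : x0) → ((@Membership.mem.{ku0, ku0} @x0 (@Multiset.{ku0} @x0) (@Multiset.instMembership.{ku0} @x0) (@Quotient.mk.{(ku0+1)} (@List.{ku0} @x0) (@List.isSetoid.{ku0} @x0) @x4) @x6) → @x2 @x6)) (@decidable_of_decidable_of_iff._proof_1 ((x6 : x0) → ((@Membership.mem.{ku0, ku0} @x0 (@List.{ku0} @x0) (@List.instMembership.{ku0} @x0) @x4 @x6) → @x2 @x6)) ((x6 : x0) → ((@Membership.mem.{ku0, ku0} @x0 (@Multiset.{ku0} @x0) (@Multiset.instMembership.{ku0} @x0) (@Quotient.mk.{(ku0+1)} (@List.{ku0} @x0) (@List.isSetoid.{ku0} @x0) @x4) @x6) → @x2 @x6)) (@Multiset.decidableForallMultiset._proof_1.{ku0} @x0 @x2 @x4) @x5)) @(fun (x5 : ((x5 : x0) → ((@Membership.mem.{ku0, ku0} @x0 (@List.{ku0} @x0) (@List.instMembership.{ku0} @x0) @x4 @x5) → @x2 @x5))) => @Decidable.isTrue ((x6 : x0) → ((@Membership.mem.{ku0, ku0} @x0 (@Multiset.{ku0} @x0) (@Multiset.instMembership.{ku0}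 @x0) (@Quotient.mk.{(ku0+1)} (@List.{ku0} @x0) (@List.isSetoid.{ku0} @x0) @x4) @x6) → @x2 @x6)) (@Iff.mp ((x6 : x0) → ((@Membership.mem.{ku0, ku0} @x0 (@List.{ku0} @x0) (@List.instMembership.{ku0} @x0) @x4 @x6) → @x2 @x6)) ((x6 : x0) → ((@Membership.mem.{ku0, ku0} @x0 (@Multiset.{ku0} @x0) (@Multiset.instMembership.{ku0} @x0) (@Quotient.mk.{(ku0+1)} (@List.{ku0} @x0) (@List.isSetoid.{ku0} @x0) @x4) @x6) → @x2 @x6)) (@Multiset.decidableForallMultiset._proof_1.{ku0} @x0 @x2 @x4) @x5)) (@Cfsg.Agent.KOa2795d8.k13.{ku0} @x0 @x2 @x3 @x4)))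
private theorem _root_.Cfsg.Agent.KOa2795d8.e35.{ku0} : @Multiset.decidableForallMultiset.{ku0} = @_root_.Cfsg.Agent.KOa2795d8.k35.{ku0} := by delta _root_.Cfsg.Agent.KOa2795d8.k35; rewrite [← Cfsg.Agent.KOa2795d8.e13.{ku0}, ← Cfsg.Agent.KOa2795d8.e34.{(ku0+1), 1}]; rfl'
private noncomputable def _root_.Cfsg.Agent.KOa2795d8.k39.{ku0} : ((x0 : Sort (ku0+1)) → ((x1 : @Multiset.{ku0} @x0) → ((x2 : ((x2 : x0) → ((@Membership.mem.{ku0, ku0} @x0 (@Multiset.{ku0} @x0) (@Multiset.instMembership.{ku0} @x0) @x1 @x2) → Prop))) → (((x3 : x0) → ((x4 : @Membership.mem.{ku0, ku0} @x0 (@Multiset.{ku0} @x0) (@Multiset.instMembership.{ku0} @x0) @x1 @x3) → @Decidable (@x2 @x3 @x4))) → @Decidable ((x4 : x0) → ((x5 : @Membership.mem.{ku0, ku0} @x0 (@Multiset.{ku0} @x0) (@Multiset.instMembership.{ku0} @x0) @x1 @x4) → @x2 @x4 @x5)))))) := @(fun (x0 : Sort (ku0+1)) (x1 : @Multiset.{ku0}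 @x0) (x2 : ((x2 : x0) → ((@Membership.mem.{ku0, ku0} @x0 (@Multiset.{ku0} @x0) (@Multiset.instMembership.{ku0} @x0) @x1 @x2) → Prop))) (x3 : ((x3 : x0) → ((x4 : @Membership.mem.{ku0, ku0} @x0 (@Multiset.{ku0} @x0) (@Multiset.instMembership.{ku0} @x0) @x1 @x3) → @Decidable (@x2 @x3 @x4)))) => @Decidable.rec.{1} ((x4 : @Subtype.{(ku0+1)} @x0 @(fun (x4 : x0) => @Membership.mem.{ku0, ku0} @x0 (@Multiset.{ku0} @x0) (@Multiset.instMembership.{ku0} @x0) @x1 @x4)) → ((@Membership.mem.{ku0, ku0} (@Subtype.{(ku0+1)} @x0 @(fun (x5 : x0) => @Membership.mem.{ku0, ku0} @x0 (@Multiset.{ku0} @x0) (@Multiset.instMembership.{ku0} @x0) @x1 @x5)) (@Multiset.{ku0} (@Subtype.{(ku0+1)} @x0 @(fun (x5 : x0) => @Membership.mem.{ku0, ku0} @x0 (@Multiset.{ku0} @x0) (@Multiset.instMembership.{ku0} @x0) @x1 @x5))) (@Multiset.instMembership.{ku0} (@Subtype.{(ku0+1)} @x0 @(fun (x5 : x0) => @Membership.mem.{ku0,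 ku0} @x0 (@Multiset.{ku0} @x0) (@Multiset.instMembership.{ku0} @x0) @x1 @x5))) (@Multiset.attach.{ku0} @x0 @x1) @x4) → @x2 (@Subtype.val.{(ku0+1)} @x0 @(fun (x6 : x0) => @Membership.mem.{ku0, ku0} @x0 (@Multiset.{ku0} @x0) (@Multiset.instMembership.{ku0} @x0) @x1 @x6) @x4) (@Multiset.decidableDforallMultiset._proof_1.{ku0} @x0 @x1 @x4))) @(fun (x4 : @Decidable ((x4 : @Subtype.{(ku0+1)} @x0 @(fun (x4 : x0) => @Membership.mem.{ku0, ku0} @x0 (@Multiset.{ku0} @x0) (@Multiset.instMembership.{ku0} @x0) @x1 @x4)) → ((@Membership.mem.{ku0, ku0} (@Subtype.{(ku0+1)} @x0 @(fun (x5 : x0) => @Membership.mem.{ku0, ku0} @x0 (@Multiset.{ku0} @x0) (@Multiset.instMembership.{ku0} @x0) @x1 @x5)) (@Multiset.{ku0} (@Subtype.{(ku0+1)} @x0 @(fun (x5 : x0) => @Membership.mem.{ku0, ku0} @x0 (@Multiset.{ku0} @x0) (@Multiset.instMembership.{ku0} @x0) @x1 @x5))) (@Multiset.instMembership.{ku0}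 (@Subtype.{(ku0+1)} @x0 @(fun (x5 : x0) => @Membership.mem.{ku0, ku0} @x0 (@Multiset.{ku0} @x0) (@Multiset.instMembership.{ku0} @x0) @x1 @x5))) (@Multiset.attach.{ku0} @x0 @x1) @x4) → @x2 (@Subtype.val.{(ku0+1)} @x0 @(fun (x6 : x0) => @Membership.mem.{ku0, ku0} @x0 (@Multiset.{ku0} @x0) (@Multiset.instMembership.{ku0} @x0) @x1 @x6) @x4) (@Multiset.decidableDforallMultiset._proof_1.{ku0} @x0 @x1 @x4)))) => @Decidable ((x5 : x0) → ((x6 : @Membership.mem.{ku0, ku0} @x0 (@Multiset.{ku0} @x0) (@Multiset.instMembership.{ku0} @x0) @x1 @x5) → @x2 @x5 @x6))) @(fun (x4 : @Not ((x4 : @Subtype.{(ku0+1)} @x0 @(fun (x4 : x0) => @Membership.mem.{ku0, ku0} @x0 (@Multiset.{ku0} @x0) (@Multiset.instMembership.{ku0} @x0) @x1 @x4)) → ((@Membership.mem.{ku0, ku0} (@Subtype.{(ku0+1)} @x0 @(fun (x5 : x0) => @Membership.mem.{ku0, ku0} @x0 (@Multiset.{ku0} @x0) (@Multiset.instMembership.{ku0}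 @x0) @x1 @x5)) (@Multiset.{ku0} (@Subtype.{(ku0+1)} @x0 @(fun (x5 : x0) => @Membership.mem.{ku0, ku0} @x0 (@Multiset.{ku0} @x0) (@Multiset.instMembership.{ku0} @x0) @x1 @x5))) (@Multiset.instMembership.{ku0} (@Subtype.{(ku0+1)} @x0 @(fun (x5 : x0) => @Membership.mem.{ku0, ku0} @x0 (@Multiset.{ku0} @x0) (@Multiset.instMembership.{ku0} @x0) @x1 @x5))) (@Multiset.attach.{ku0} @x0 @x1) @x4) → @x2 (@Subtype.val.{(ku0+1)} @x0 @(fun (x6 : x0) => @Membership.mem.{ku0, ku0} @x0 (@Multiset.{ku0} @x0) (@Multiset.instMembership.{ku0} @x0) @x1 @x6) @x4) (@Multiset.decidableDforallMultiset._proof_1.{ku0} @x0 @x1 @x4)))) => @Decidable.isFalse ((x5 : x0) → ((x6 : @Membership.mem.{ku0, ku0} @x0 (@Multiset.{ku0} @x0) (@Multiset.instMembership.{ku0} @x0) @x1 @x5) → @x2 @x5 @x6)) (@decidable_of_decidable_of_iff._proof_1 ((x5 : @Subtype.{(ku0+1)} @x0 @(fun (x5 : x0) => @Membership.mem.{ku0,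 ku0} @x0 (@Multiset.{ku0} @x0) (@Multiset.instMembership.{ku0} @x0) @x1 @x5)) → ((@Membership.mem.{ku0, ku0} (@Subtype.{(ku0+1)} @x0 @(fun (x6 : x0) => @Membership.mem.{ku0, ku0} @x0 (@Multiset.{ku0} @x0) (@Multiset.instMembership.{ku0} @x0) @x1 @x6)) (@Multiset.{ku0} (@Subtype.{(ku0+1)} @x0 @(fun (x6 : x0) => @Membership.mem.{ku0, ku0} @x0 (@Multiset.{ku0} @x0) (@Multiset.instMembership.{ku0} @x0) @x1 @x6))) (@Multiset.instMembership.{ku0} (@Subtype.{(ku0+1)} @x0 @(fun (x6 : x0) => @Membership.mem.{ku0, ku0} @x0 (@Multiset.{ku0} @x0) (@Multiset.instMembership.{ku0} @x0) @x1 @x6))) (@Multiset.attach.{ku0} @x0 @x1) @x5) → @x2 (@Subtype.val.{(ku0+1)} @x0 @(fun (x7 : x0) => @Membership.mem.{ku0, ku0} @x0 (@Multiset.{ku0} @x0) (@Multiset.instMembership.{ku0} @x0) @x1 @x7) @x5) (@Multiset.decidableDforallMultiset._proof_1.{ku0} @x0 @x1 @x5))) ((x5 : x0) → ((x6 : @Membership.mem.{ku0,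 ku0} @x0 (@Multiset.{ku0} @x0) (@Multiset.instMembership.{ku0} @x0) @x1 @x5) → @x2 @x5 @x6)) (@Multiset.decidableDforallMultiset._proof_2.{ku0} @x0 @x1 @x2) @x4)) @(fun (x4 : ((x4 : @Subtype.{(ku0+1)} @x0 @(fun (x4 : x0) => @Membership.mem.{ku0, ku0} @x0 (@Multiset.{ku0} @x0) (@Multiset.instMembership.{ku0} @x0) @x1 @x4)) → ((@Membership.mem.{ku0, ku0} (@Subtype.{(ku0+1)} @x0 @(fun (x5 : x0) => @Membership.mem.{ku0, ku0} @x0 (@Multiset.{ku0} @x0) (@Multiset.instMembership.{ku0} @x0) @x1 @x5)) (@Multiset.{ku0} (@Subtype.{(ku0+1)} @x0 @(fun (x5 : x0) => @Membership.mem.{ku0, ku0} @x0 (@Multiset.{ku0} @x0) (@Multiset.instMembership.{ku0} @x0) @x1 @x5))) (@Multiset.instMembership.{ku0} (@Subtype.{(ku0+1)} @x0 @(fun (x5 : x0) => @Membership.mem.{ku0, ku0} @x0 (@Multiset.{ku0} @x0) (@Multiset.instMembership.{ku0} @x0) @x1 @x5))) (@Multiset.attach.{ku0} @x0 @x1) @x4)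 → @x2 (@Subtype.val.{(ku0+1)} @x0 @(fun (x6 : x0) => @Membership.mem.{ku0, ku0} @x0 (@Multiset.{ku0} @x0) (@Multiset.instMembership.{ku0} @x0) @x1 @x6) @x4) (@Multiset.decidableDforallMultiset._proof_1.{ku0} @x0 @x1 @x4)))) => @Decidable.isTrue ((x5 : x0) → ((x6 : @Membership.mem.{ku0, ku0} @x0 (@Multiset.{ku0} @x0) (@Multiset.instMembership.{ku0} @x0) @x1 @x5) → @x2 @x5 @x6)) (@Iff.mp ((x5 : @Subtype.{(ku0+1)} @x0 @(fun (x5 : x0) => @Membership.mem.{ku0, ku0} @x0 (@Multiset.{ku0} @x0) (@Multiset.instMembership.{ku0} @x0) @x1 @x5)) → ((@Membership.mem.{ku0, ku0} (@Subtype.{(ku0+1)} @x0 @(fun (x6 : x0) => @Membership.mem.{ku0, ku0} @x0 (@Multiset.{ku0} @x0) (@Multiset.instMembership.{ku0} @x0) @x1 @x6)) (@Multiset.{ku0} (@Subtype.{(ku0+1)} @x0 @(fun (x6 : x0) => @Membership.mem.{ku0, ku0} @x0 (@Multiset.{ku0} @x0) (@Multiset.instMembership.{ku0} @x0) @x1 @x6)))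 (@Multiset.instMembership.{ku0} (@Subtype.{(ku0+1)} @x0 @(fun (x6 : x0) => @Membership.mem.{ku0, ku0} @x0 (@Multiset.{ku0} @x0) (@Multiset.instMembership.{ku0} @x0) @x1 @x6))) (@Multiset.attach.{ku0} @x0 @x1) @x5) → @x2 (@Subtype.val.{(ku0+1)} @x0 @(fun (x7 : x0) => @Membership.mem.{ku0, ku0} @x0 (@Multiset.{ku0} @x0) (@Multiset.instMembership.{ku0} @x0) @x1 @x7) @x5) (@Multiset.decidableDforallMultiset._proof_1.{ku0} @x0 @x1 @x5))) ((x5 : x0) → ((x6 : @Membership.mem.{ku0, ku0} @x0 (@Multiset.{ku0} @x0) (@Multiset.instMembership.{ku0} @x0) @x1 @x5) → @x2 @x5 @x6)) (@Multiset.decidableDforallMultiset._proof_2.{ku0} @x0 @x1 @x2) @x4)) (@Cfsg.Agent.KOa2795d8.k35.{ku0} (@Subtype.{(ku0+1)} @x0 @(fun (x4 : x0) => @Membership.mem.{ku0, ku0} @x0 (@Multiset.{ku0} @x0) (@Multiset.instMembership.{ku0} @x0) @x1 @x4)) (@Multiset.pmap.{ku0, ku0} @x0 (@Subtype.{(ku0+1)} @x0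 @(fun (x4 : x0) => @Membership.mem.{ku0, ku0} @x0 (@Multiset.{ku0} @x0) (@Multiset.instMembership.{ku0} @x0) @x1 @x4)) @(fun (x4 : x0) => @Membership.mem.{ku0, ku0} @x0 (@Multiset.{ku0} @x0) (@Multiset.instMembership.{ku0} @x0) @x1 @x4) (@Subtype.mk.{(ku0+1)} @x0 @(fun (x4 : x0) => @Membership.mem.{ku0, ku0} @x0 (@Multiset.{ku0} @x0) (@Multiset.instMembership.{ku0} @x0) @x1 @x4)) @x1 (@Multiset.attach._proof_1.{ku0} @x0 @x1)) @(fun (x4 : @Subtype.{(ku0+1)} @x0 @(fun (x4 : x0) => @Membership.mem.{ku0, ku0} @x0 (@Multiset.{ku0} @x0) (@Multiset.instMembership.{ku0} @x0) @x1 @x4)) => @x2 (@Subtype.val.{(ku0+1)} @x0 @(fun (x5 : x0) => @Membership.mem.{ku0, ku0} @x0 (@Multiset.{ku0} @x0) (@Multiset.instMembership.{ku0} @x0) @x1 @x5) @x4) (@Multiset.decidableDforallMultiset._proof_1.{ku0} @x0 @x1 @x4)) @(fun (x4 : @Subtype.{(ku0+1)} @x0 @(fun (x4 : x0) => @Membership.mem.{ku0,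 ku0} @x0 (@Multiset.{ku0} @x0) (@Multiset.instMembership.{ku0} @x0) @x1 @x4)) => @x3 (@Subtype.val.{(ku0+1)} @x0 @(fun (x5 : x0) => @Membership.mem.{ku0, ku0} @x0 (@Multiset.{ku0} @x0) (@Multiset.instMembership.{ku0} @x0) @x1 @x5) @x4) (@Multiset.decidableDforallMultiset._proof_1.{ku0} @x0 @x1 @x4))))
private theorem _root_.Cfsg.Agent.KOa2795d8.e39.{ku0} : @Multiset.decidableDforallMultiset.{ku0} = @_root_.Cfsg.Agent.KOa2795d8.k39.{ku0} := by delta _root_.Cfsg.Agent.KOa2795d8.k39; rewrite [← Cfsg.Agent.KOa2795d8.e35.{ku0}]; rfl'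
private noncomputable def _root_.Cfsg.Agent.KOa2795d8.k40.{ku0} : ((x0 : Sort (ku0+1)) → ((x1 : @Finset.{ku0} @x0) → ((x2 : ((x2 : x0) → ((@Membership.mem.{ku0, ku0} @x0 (@Finset.{ku0} @x0) (@SetLike.instMembership.{ku0, ku0} (@Finset.{ku0} @x0) @x0 (@Finset.instSetLike.{ku0} @x0)) @x1 @x2) → Prop))) → (((x3 : x0) → ((x4 : @Membership.mem.{ku0, ku0} @x0 (@Finset.{ku0} @x0) (@SetLike.instMembership.{ku0, ku0} (@Finset.{ku0} @x0) @x0 (@Finset.instSetLike.{ku0} @x0)) @x1 @x3) → @Decidable (@x2 @x3 @x4))) → @Decidable ((x4 : x0) → ((x5 : @Membership.mem.{ku0, ku0} @x0 (@Finset.{ku0} @x0) (@SetLike.instMembership.{ku0, ku0} (@Finset.{ku0} @x0) @x0 (@Finset.instSetLike.{ku0} @x0)) @x1 @x4) → @x2 @x4 @x5)))))) := @(fun (x0 : Sort (ku0+1)) (x1 : @Finset.{ku0} @x0) (x2 : ((x2 : x0) → ((@Membership.mem.{ku0, ku0} @x0 (@Finset.{ku0} @x0) (@SetLike.instMembership.{ku0, ku0}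 (@Finset.{ku0} @x0) @x0 (@Finset.instSetLike.{ku0} @x0)) @x1 @x2) → Prop))) (x3 : ((x3 : x0) → ((x4 : @Membership.mem.{ku0, ku0} @x0 (@Finset.{ku0} @x0) (@SetLike.instMembership.{ku0, ku0} (@Finset.{ku0} @x0) @x0 (@Finset.instSetLike.{ku0} @x0)) @x1 @x3) → @Decidable (@x2 @x3 @x4)))) => @Cfsg.Agent.KOa2795d8.k39.{ku0} @x0 (@Finset.val.{ku0} @x0 @x1) @x2 @x3)
private theorem _root_.Cfsg.Agent.KOa2795d8.e40.{ku0} : @Finset.decidableDforallFinset.{ku0} = @_root_.Cfsg.Agent.KOa2795d8.k40.{ku0} := by delta _root_.Cfsg.Agent.KOa2795d8.k40; rewrite [← Cfsg.Agent.KOa2795d8.e39.{ku0}]; rfl'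
private noncomputable def _root_.Cfsg.Agent.KOa2795d8.k41.{ku0, ku1} : ((x0 : Sort (ku1+1)) → ((x1 : (x0 → Sort (ku0+1))) → (((x2 : x0) → @DecidableEq.{(ku0+1)} (@x1 @x2)) → ((@Fintype.{ku1} @x0) → @DecidableEq.{(max (ku0+1) (ku1+1))} ((x4 : x0) → @x1 @x4))))) := @(fun (x0 : Sort (ku1+1)) (x1 : (x0 → Sort (ku0+1))) (x2 : ((x2 : x0) → @DecidableEq.{(ku0+1)} (@x1 @x2))) (x3 : @Fintype.{ku1} @x0) (x4 : ((x4 : x0) → @x1 @x4)) (x5 : ((x5 : x0) → @x1 @x5)) => @Decidable.rec.{1} ((x6 : x0) → ((@Membership.mem.{ku1, ku1} @x0 (@Finset.{ku1} @x0) (@SetLike.instMembership.{ku1, ku1} (@Finset.{ku1} @x0) @x0 (@Finset.instSetLike.{ku1} @x0)) (@Finset.univ.{ku1} @x0 @x3) @x6) → @Eq.{(ku0+1)} (@x1 @x6) (@x4 @x6) (@x5 @x6))) @(fun (x6 : @Decidable ((x6 : x0) → ((@Membership.mem.{ku1, ku1} @x0 (@Finset.{ku1} @x0) (@SetLike.instMembership.{ku1, ku1} (@Finset.{ku1} @x0) @x0 (@Finset.instSetLike.{ku1}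 @x0)) (@Finset.univ.{ku1} @x0 @x3) @x6) → @Eq.{(ku0+1)} (@x1 @x6) (@x4 @x6) (@x5 @x6)))) => @Decidable (@Eq.{(max (ku0+1) (ku1+1))} ((x7 : x0) → @x1 @x7) @x4 @x5)) @(fun (x6 : @Not ((x6 : x0) → ((@Membership.mem.{ku1, ku1} @x0 (@Finset.{ku1} @x0) (@SetLike.instMembership.{ku1, ku1} (@Finset.{ku1} @x0) @x0 (@Finset.instSetLike.{ku1} @x0)) (@Finset.univ.{ku1} @x0 @x3) @x6) → @Eq.{(ku0+1)} (@x1 @x6) (@x4 @x6) (@x5 @x6)))) => @Decidable.isFalse (@Eq.{(max (ku0+1) (ku1+1))} ((x7 : x0) → @x1 @x7) @x4 @x5) (@decidable_of_decidable_of_iff._proof_1 ((x7 : x0) → ((@Membership.mem.{ku1, ku1} @x0 (@Finset.{ku1} @x0) (@SetLike.instMembership.{ku1, ku1} (@Finset.{ku1} @x0) @x0 (@Finset.instSetLike.{ku1} @x0)) (@Finset.univ.{ku1} @x0 @x3) @x7) → @Eq.{(ku0+1)} (@x1 @x7) (@x4 @x7) (@x5 @x7))) (@Eq.{(max (ku0+1) (ku1+1))} ((x7 : x0) → @x1 @x7) @x4 @x5) (@Fintype.decidablePiFintype._proof_2.{ku1,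 ku0} @x0 @x1 @x3 @x4 @x5) @x6)) @(fun (x6 : ((x6 : x0) → ((@Membership.mem.{ku1, ku1} @x0 (@Finset.{ku1} @x0) (@SetLike.instMembership.{ku1, ku1} (@Finset.{ku1} @x0) @x0 (@Finset.instSetLike.{ku1} @x0)) (@Finset.univ.{ku1} @x0 @x3) @x6) → @Eq.{(ku0+1)} (@x1 @x6) (@x4 @x6) (@x5 @x6)))) => @Decidable.isTrue (@Eq.{(max (ku0+1) (ku1+1))} ((x7 : x0) → @x1 @x7) @x4 @x5) (@Iff.mp ((x7 : x0) → ((@Membership.mem.{ku1, ku1} @x0 (@Finset.{ku1} @x0) (@SetLike.instMembership.{ku1, ku1} (@Finset.{ku1} @x0) @x0 (@Finset.instSetLike.{ku1} @x0)) (@Finset.univ.{ku1} @x0 @x3) @x7) → @Eq.{(ku0+1)} (@x1 @x7) (@x4 @x7) (@x5 @x7))) (@Eq.{(max (ku0+1) (ku1+1))} ((x7 : x0) → @x1 @x7) @x4 @x5) (@Fintype.decidablePiFintype._proof_2.{ku1, ku0} @x0 @x1 @x3 @x4 @x5) @x6)) (@Cfsg.Agent.KOa2795d8.k40.{ku1} @x0 (@Fintype.elems.{ku1} @x0 @x3) @(fun (x6 : x0) (x7 : @Membership.mem.{ku1, ku1} @x0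 (@Finset.{ku1} @x0) (@SetLike.instMembership.{ku1, ku1} (@Finset.{ku1} @x0) @x0 (@Finset.instSetLike.{ku1} @x0)) (@Finset.univ.{ku1} @x0 @x3) @x6) => @Eq.{(ku0+1)} (@x1 @x6) (@x4 @x6) (@x5 @x6)) @(fun (x6 : x0) (x7 : @Membership.mem.{ku1, ku1} @x0 (@Finset.{ku1} @x0) (@SetLike.instMembership.{ku1, ku1} (@Finset.{ku1} @x0) @x0 (@Finset.instSetLike.{ku1} @x0)) (@Finset.univ.{ku1} @x0 @x3) @x6) => @x2 @x6 (@x4 @x6) (@x5 @x6))))
private theorem _root_.Cfsg.Agent.KOa2795d8.e41.{ku0, ku1} : @Fintype.decidablePiFintype.{ku0, ku1} = @_root_.Cfsg.Agent.KOa2795d8.k41.{ku0, ku1} := by delta _root_.Cfsg.Agent.KOa2795d8.k41; rewrite [← Cfsg.Agent.KOa2795d8.e40.{ku1}]; rfl'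

theorem sg_xor : ∀ π ∈ [(1 : ℤ), -1], ∀ k < 16, ∀ l < 16, gr k l = 1 → ∀ t < 16, gr t k - gr t l = 4 →
    sg π (t ^^^ k ^^^ l) = sg π t - (sg π k - sg π l) := by (first | (refine of_decide_eq_true ?_; rewrite [Cfsg.Agent.KOa2795d8.e12, Cfsg.Agent.KOa2795d8.e13.{0}, Cfsg.Agent.KOa2795d8.e14, Cfsg.Agent.KOa2795d8.e32, Cfsg.Agent.KOa2795d8.e17, Cfsg.Agent.KOa2795d8.e31, Cfsg.Agent.KOa2795d8.e41.{0, 0}, Cfsg.Agent.KOa2795d8.e30]; decide +kernel) | decide +kernel)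

private noncomputable def _root_.Cfsg.Agent.KOa2795d8.k43 : ((x0 : Prop) → ((x1 : Prop) → ((@Decidable @x0) → ((@Decidable @x1) → @Decidable (@Or @x0 @x1))))) := @(fun (x0 : Prop) (x1 : Prop) (x2 : @Decidable @x0) (x3 : @Decidable @x1) => @Decidable.rec.{1} @x0 @(fun (x4 : @Decidable @x0) => @Decidable (@Or @x0 @x1)) @(fun (x4 : @Not @x0) => @Decidable.rec.{1} @x1 @(fun (x5 : @Decidable @x1) => @Decidable (@Or @x0 @x1)) @(fun (x5 : @Not @x1) => @Decidable.isFalse (@Or @x0 @x1) (@instDecidableOr._proof_1 @x0 @x1 @x4 @x5)) @(fun (x5 : x1) => @Decidable.isTrue (@Or @x0 @x1) (@Or.inr @x0 @x1 @x5)) @x3) @(fun (x4 : x0) => @Decidable.isTrue (@Or @x0 @x1) (@Or.inl @x0 @x1 @x4)) @x2)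
private theorem _root_.Cfsg.Agent.KOa2795d8.e43 : @instDecidableOr = @_root_.Cfsg.Agent.KOa2795d8.k43 := by delta _root_.Cfsg.Agent.KOa2795d8.k43; rfl'
private noncomputable def _root_.Cfsg.Agent.KOa2795d8.k44 : ((x0 : (@Nat → Prop)) → ((@DecidablePred.{1} @Nat @x0) → @DecidablePred.{1} @Nat @(fun (x2 : @Nat) => @_root_.Exists.{1} @Nat @(fun (x3 : @Nat) => @And (@LT.lt.{0} @Nat @instLTNat @x3 @x2) (@x0 @x3))))) := @(fun (x0 : (@Nat → Prop)) (x1 : @DecidablePred.{1} @Nat @x0) (x2 : @Nat) => @Nat.rec.{1} @(fun (x3 : @Nat) => @Decidable (@_root_.Exists.{1} @Nat @(fun (x4 : @Nat) => @And (@LT.lt.{0} @Nat @instLTNat @x4 @x3) (@x0 @x4)))) (@Decidable.isFalse (@_root_.Exists.{1} @Nat @(fun (x3 : @Nat) => @And (@LT.lt.{0} @Nat @instLTNat @x3 (@OfNat.ofNat.{0} @Nat (nat_lit 0) (@instOfNatNat (nat_lit 0)))) (@x0 @x3))) (@Nat.decidableExistsLT._proof_5 @x0)) @(fun (x3 :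 @Nat) (x4 : @Decidable (@_root_.Exists.{1} @Nat @(fun (x4 : @Nat) => @And (@LT.lt.{0} @Nat @instLTNat @x4 @x3) (@x0 @x4)))) => @Decidable.rec.{1} (@Or (@_root_.Exists.{1} @Nat @(fun (x5 : @Nat) => @And (@LT.lt.{0} @Nat @instLTNat @x5 @x3) (@x0 @x5))) (@x0 @x3)) @(fun (x5 : @Decidable (@Or (@_root_.Exists.{1} @Nat @(fun (x5 : @Nat) => @And (@LT.lt.{0} @Nat @instLTNat @x5 @x3) (@x0 @x5))) (@x0 @x3))) => @Decidable (@_root_.Exists.{1} @Nat @(fun (x6 : @Nat) => @And (@LT.lt.{0} @Nat @instLTNat @x6 (@HAdd.hAdd.{0, 0, 0} @Nat @Nat @Nat (@instHAdd.{0} @Nat @instAddNat) @x3 (@OfNat.ofNat.{0} @Nat (nat_lit 1) (@instOfNatNat (nat_lit 1))))) (@x0 @x6)))) @(fun (x5 : @Not (@Or (@_root_.Exists.{1} @Nat @(fun (x5 : @Nat) => @And (@LT.lt.{0} @Nat @instLTNat @x5 @x3) (@x0 @x5))) (@x0 @x3))) => @Decidable.isFalse (@_root_.Exists.{1} @Nat @(fun (x6 : @Nat) => @And (@LT.lt.{0} @Nat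 @instLTNat @x6 (@HAdd.hAdd.{0, 0, 0} @Nat @Nat @Nat (@instHAdd.{0} @Nat @instAddNat) @x3 (@OfNat.ofNat.{0} @Nat (nat_lit 1) (@instOfNatNat (nat_lit 1))))) (@x0 @x6))) (@decidable_of_decidable_of_iff._proof_1 (@Or (@_root_.Exists.{1} @Nat @(fun (x6 : @Nat) => @And (@LT.lt.{0} @Nat @instLTNat @x6 @x3) (@x0 @x6))) (@x0 @x3)) (@_root_.Exists.{1} @Nat @(fun (x6 : @Nat) => @And (@LT.lt.{0} @Nat @instLTNat @x6 (@HAdd.hAdd.{0, 0, 0} @Nat @Nat @Nat (@instHAdd.{0} @Nat @instAddNat) @x3 (@OfNat.ofNat.{0} @Nat (nat_lit 1) (@instOfNatNat (nat_lit 1))))) (@x0 @x6))) (@Nat.decidableExistsLT._proof_10 @x0 @x3) @x5)) @(fun (x5 : @Or (@_root_.Exists.{1} @Nat @(fun (x5 : @Nat) => @And (@LT.lt.{0} @Nat @instLTNat @x5 @x3) (@x0 @x5))) (@x0 @x3)) => @Decidable.isTrue (@_root_.Exists.{1} @Nat @(fun (x6 : @Nat) => @And (@LT.lt.{0} @Nat @instLTNat @x6 (@HAdd.hAdd.{0, 0, 0} @Nat @Nat @Nat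 (@instHAdd.{0} @Nat @instAddNat) @x3 (@OfNat.ofNat.{0} @Nat (nat_lit 1) (@instOfNatNat (nat_lit 1))))) (@x0 @x6))) (@Iff.mp (@Or (@_root_.Exists.{1} @Nat @(fun (x6 : @Nat) => @And (@LT.lt.{0} @Nat @instLTNat @x6 @x3) (@x0 @x6))) (@x0 @x3)) (@_root_.Exists.{1} @Nat @(fun (x6 : @Nat) => @And (@LT.lt.{0} @Nat @instLTNat @x6 (@HAdd.hAdd.{0, 0, 0} @Nat @Nat @Nat (@instHAdd.{0} @Nat @instAddNat) @x3 (@OfNat.ofNat.{0} @Nat (nat_lit 1) (@instOfNatNat (nat_lit 1))))) (@x0 @x6))) (@Nat.decidableExistsLT._proof_10 @x0 @x3) @x5)) (@Cfsg.Agent.KOa2795d8.k43 (@_root_.Exists.{1} @Nat @(fun (x5 : @Nat) => @And (@LT.lt.{0} @Nat @instLTNat @x5 @x3) (@x0 @x5))) (@x0 @x3) @x4 (@x1 @x3))) @x2)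
private theorem _root_.Cfsg.Agent.KOa2795d8.e44 : @Nat.decidableExistsLT = @_root_.Cfsg.Agent.KOa2795d8.k44 := by delta _root_.Cfsg.Agent.KOa2795d8.k44; rewrite [← Cfsg.Agent.KOa2795d8.e43]; funext a0 a1 a2; refine (_root_.Cfsg.Agent.KOa2795d8.e6 (fun a2 => @Nat.decidableExistsLT a0 a1 a2) ?_ (fun c0 => ?_) a2 :) <;> (rfl')
private noncomputable def _root_.Cfsg.Agent.KOa2795d8.k45.{ku0} : ((x0 : Sort (ku0+1)) → ((x1 : @Nat) → (x0 → (((@Fin @x1) → x0) → ((@Fin (@Nat.succ @x1)) → x0))))) := @(fun (x0 : Sort (ku0+1)) (x1 : @Nat) (x2 : x0) (x3 : ((@Fin @x1) → x0)) => @Cfsg.Agent.KOa2795d8.k26.{(ku0+1)} @x1 @(fun (x4 : @Fin (@Nat.succ @x1)) => x0) @x2 @x3)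
private theorem _root_.Cfsg.Agent.KOa2795d8.e45.{ku0} : @Matrix.vecCons.{ku0} = @_root_.Cfsg.Agent.KOa2795d8.k45.{ku0} := by delta _root_.Cfsg.Agent.KOa2795d8.k45; rewrite [← Cfsg.Agent.KOa2795d8.e26.{(ku0+1)}]; rfl'
private noncomputable def _root_.Cfsg.Agent.KOa2795d8.k46.{ku0} : ((x0 : Sort (ku0+1)) → ((@Fin (@OfNat.ofNat.{0} @Nat (nat_lit 0) (@instOfNatNat (nat_lit 0)))) → x0)) := @(fun (x0 : Sort (ku0+1)) => @Cfsg.Agent.KOa2795d8.k29.{(ku0+1)} @x0)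
private theorem _root_.Cfsg.Agent.KOa2795d8.e46.{ku0} : @Matrix.vecEmpty.{ku0} = @_root_.Cfsg.Agent.KOa2795d8.k46.{ku0} := by delta _root_.Cfsg.Agent.KOa2795d8.k46; rewrite [← Cfsg.Agent.KOa2795d8.e29.{(ku0+1)}]; rfl'

theorem sg_idx : ∀ π ∈ [(1 : ℤ), -1], ∀ a ∈ [(1 : ℤ), -1], ∀ b ∈ [(1 : ℤ), -1], ∀ c ∈ [(1 : ℤ), -1], ∀ d ∈ [(1 : ℤ), -1],
    ∀ e ∈ [(1 : ℤ), -1], 4 ∣ a + b + c + d + e - π → ∃ k < 16, sg π k = ![a, b, c, d, e] := by (first | (refine of_decide_eq_true ?_; rewrite [Cfsg.Agent.KOa2795d8.e12, Cfsg.Agent.KOa2795d8.e13.{0}, Cfsg.Agent.KOa2795d8.e32, Cfsg.Agent.KOa2795d8.e44, Cfsg.Agent.KOa2795d8.e41.{0, 0}, Cfsg.Agent.KOa2795d8.e17, Cfsg.Agent.KOa2795d8.e30, Cfsg.Agent.KOa2795d8.e45.{0}, Cfsg.Agent.KOa2795d8.e46.{0}]; decide +kernel) | decide +kernel)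

/-- the simple roots of `D₅` -/
def S5 : Mat (Fin 5) := !![2, 0, 0, 0, 0; -2, 2, 0, 0, 0; 0, -2, 2, 0, 0; 0, 0, -2, 2, 2; 0, 0, 0, -2, 2]

private noncomputable def _root_.Cfsg.Agent.KOa2795d8.k47 : ((x0 : @Nat) → ((x1 : ((@Fin @x0) → Prop)) → ((@DecidablePred.{1} (@Fin @x0) @x1) → @Decidable ((x3 : @Fin @x0) → @x1 @x3)))) := @(fun (x0 : @Nat) (x1 : ((@Fin @x0) → Prop)) (x2 : @DecidablePred.{1} (@Fin @x0) @x1) => @Decidable.rec.{1} ((x3 : @Nat) → ((x4 : @LT.lt.{0} @Nat @instLTNat @x3 @x0) → @x1 (@Fin.mk @x0 @x3 @x4))) @(fun (x3 : @Decidable ((x3 : @Nat) → ((x4 : @LT.lt.{0} @Nat @instLTNat @x3 @x0) → @x1 (@Fin.mk @x0 @x3 @x4)))) => @Decidable ((x4 : @Fin @x0) → @x1 @x4)) @(fun (x3 : @Not ((x3 : @Nat) → ((x4 : @LT.lt.{0} @Nat @instLTNat @x3 @x0) → @x1 (@Fin.mk @x0 @x3 @x4)))) => @Decidable.isFalse ((x4 : @Fin @x0) → @x1 @x4) (@decidable_of_decidable_of_iff._proof_1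 ((x4 : @Nat) → ((x5 : @LT.lt.{0} @Nat @instLTNat @x4 @x0) → @x1 (@Fin.mk @x0 @x4 @x5))) ((x4 : @Fin @x0) → @x1 @x4) (@Nat.decidableForallFin._proof_1 @x0 @x1) @x3)) @(fun (x3 : ((x3 : @Nat) → ((x4 : @LT.lt.{0} @Nat @instLTNat @x3 @x0) → @x1 (@Fin.mk @x0 @x3 @x4)))) => @Decidable.isTrue ((x4 : @Fin @x0) → @x1 @x4) (@Iff.mp ((x4 : @Nat) → ((x5 : @LT.lt.{0} @Nat @instLTNat @x4 @x0) → @x1 (@Fin.mk @x0 @x4 @x5))) ((x4 : @Fin @x0) → @x1 @x4) (@Nat.decidableForallFin._proof_1 @x0 @x1) @x3)) (@Cfsg.Agent.KOa2795d8.k14 @x0 @(fun (x3 : @Nat) (x4 : @LT.lt.{0} @Nat @instLTNat @x3 @x0) => @x1 (@Fin.mk @x0 @x3 @x4)) @(fun (x3 : @Nat) (x4 : @LT.lt.{0} @Nat @instLTNat @x3 @x0) => @x2 (@Fin.mk @x0 @x3 @x4))))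
private theorem _root_.Cfsg.Agent.KOa2795d8.e47 : @Nat.decidableForallFin = @_root_.Cfsg.Agent.KOa2795d8.k47 := by delta _root_.Cfsg.Agent.KOa2795d8.k47; rewrite [← Cfsg.Agent.KOa2795d8.e14]; rfl'
private noncomputable def _root_.Cfsg.Agent.KOa2795d8.k48 : ((x0 : Prop) → ((x1 : Prop) → ((@Decidable @x0) → ((@Decidable @x1) → @Decidable (@And @x0 @x1))))) := @(fun (x0 : Prop) (x1 : Prop) (x2 : @Decidable @x0) (x3 : @Decidable @x1) => @Decidable.rec.{1} @x0 @(fun (x4 : @Decidable @x0) => @Decidable (@And @x0 @x1)) @(fun (x4 : @Not @x0) => @Decidable.isFalse (@And @x0 @x1) (@instDecidableAnd._proof_2 @x0 @x1 @x4)) @(fun (x4 : x0) => @Decidable.rec.{1} @x1 @(fun (x5 : @Decidable @x1) => @Decidable (@And @x0 @x1)) @(fun (x5 : @Not @x1) => @Decidable.isFalse (@And @x0 @x1) (@instDecidableAnd._proof_1 @x0 @x1 @x5)) @(fun (x5 : x1) => @Decidable.isTrue (@And @x0 @x1)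 (@And.intro @x0 @x1 @x4 @x5)) @x3) @x2)
private theorem _root_.Cfsg.Agent.KOa2795d8.e48 : @instDecidableAnd = @_root_.Cfsg.Agent.KOa2795d8.k48 := by delta _root_.Cfsg.Agent.KOa2795d8.k48; rfl'
private noncomputable def _root_.Cfsg.Agent.KOa2795d8.k49.{ku0, ku1, ku2} : ((x0 : Sort (ku1+1)) → ((x1 : Sort (ku2+1)) → ((x2 : Sort (ku0+1)) → ((@Matrix.{ku1, ku2, ku0} @x0 @x1 @x2) → @Matrix.{ku2, ku1, ku0} @x1 @x0 @x2)))) := @(fun (x0 : Sort (ku1+1)) (x1 : Sort (ku2+1)) (x2 : Sort (ku0+1)) (x3 : @Matrix.{ku1, ku2, ku0} @x0 @x1 @x2) (x4 : x1) (x5 : x0) => @x3 @x5 @x4)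
private theorem _root_.Cfsg.Agent.KOa2795d8.e49.{ku0, ku1, ku2} : @Matrix.transpose.{ku0, ku1, ku2} = @_root_.Cfsg.Agent.KOa2795d8.k49.{ku0, ku1, ku2} := by delta _root_.Cfsg.Agent.KOa2795d8.k49; rfl'
private noncomputable def _root_.Cfsg.Agent.KOa2795d8.k50 : (by first | exact type_of% @Cfsg.Agent.BZ.RT.Cx.S69.S5 | exact Unit : Sort _) := by first | (refine @Subtype.val _ (fun g => @Cfsg.Agent.BZ.RT.Cx.S69.S5 = @g) (@Subtype.mk _ _ (@Cfsg.Agent.KOa2795d8.k26.{1} (nat_lit 4) @(fun (x0 : @Fin (@Nat.succ (@OfNat.ofNat.{0} @Nat (nat_lit 4) (@instOfNatNat (nat_lit 4))))) => ((@Fin (@OfNat.ofNat.{0} @Nat (nat_lit 5) (@instOfNatNat (nat_lit 5)))) → @Int)) (@Cfsg.Agent.KOa2795d8.k26.{1} (nat_lit 4) @(fun (x0 : @Fin (@Nat.succ (@OfNat.ofNat.{0} @Nat (nat_lit 4) (@instOfNatNat (nat_lit 4))))) => @Int) (@Int.ofNat (nat_lit 2)) (@Cfsg.Agent.KOa2795d8.k26.{1} (nat_lit 3)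 @(fun (x0 : @Fin (@Nat.succ (@OfNat.ofNat.{0} @Nat (nat_lit 3) (@instOfNatNat (nat_lit 3))))) => @Int) (@Int.ofNat (nat_lit 0)) (@Cfsg.Agent.KOa2795d8.k26.{1} (nat_lit 2) @(fun (x0 : @Fin (@Nat.succ (@OfNat.ofNat.{0} @Nat (nat_lit 2) (@instOfNatNat (nat_lit 2))))) => @Int) (@Int.ofNat (nat_lit 0)) (@Cfsg.Agent.KOa2795d8.k26.{1} (nat_lit 1) @(fun (x0 : @Fin (@Nat.succ (@OfNat.ofNat.{0} @Nat (nat_lit 1) (@instOfNatNat (nat_lit 1))))) => @Int) (@Int.ofNat (nat_lit 0)) (@Cfsg.Agent.KOa2795d8.k26.{1} (nat_lit 0) @(fun (x0 : @Fin (@Nat.succ (@OfNat.ofNat.{0} @Nat (nat_lit 0) (@instOfNatNat (nat_lit 0))))) => @Int) (@Int.ofNat (nat_lit 0)) (@Cfsg.Agent.KOa2795d8.k29.{1} @Int)))))) (@Cfsg.Agent.KOa2795d8.k26.{1} (nat_lit 3) @(fun (x0 : @Fin (@Nat.succ (@OfNat.ofNat.{0} @Nat (nat_lit 3) (@instOfNatNat (nat_lit 3))))) => ((@Fin (@OfNat.ofNat.{0} @Nat (nat_lit 5) (@instOfNatNat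 (nat_lit 5)))) → @Int)) (@Cfsg.Agent.KOa2795d8.k26.{1} (nat_lit 4) @(fun (x0 : @Fin (@Nat.succ (@OfNat.ofNat.{0} @Nat (nat_lit 4) (@instOfNatNat (nat_lit 4))))) => @Int) (@Nat.rec.{1} @(fun (x0 : @Nat) => @Int) (@Int.ofNat (nat_lit 0)) @(fun (x0 : @Nat) (x1 : @Int) => @Int.negSucc @x0) (nat_lit 2)) (@Cfsg.Agent.KOa2795d8.k26.{1} (nat_lit 3) @(fun (x0 : @Fin (@Nat.succ (@OfNat.ofNat.{0} @Nat (nat_lit 3) (@instOfNatNat (nat_lit 3))))) => @Int) (@Int.ofNat (nat_lit 2)) (@Cfsg.Agent.KOa2795d8.k26.{1} (nat_lit 2) @(fun (x0 : @Fin (@Nat.succ (@OfNat.ofNat.{0} @Nat (nat_lit 2) (@instOfNatNat (nat_lit 2))))) => @Int) (@Int.ofNat (nat_lit 0)) (@Cfsg.Agent.KOa2795d8.k26.{1} (nat_lit 1) @(fun (x0 : @Fin (@Nat.succ (@OfNat.ofNat.{0} @Nat (nat_lit 1) (@instOfNatNat (nat_lit 1))))) => @Int) (@Int.ofNat (nat_lit 0)) (@Cfsg.Agent.KOa2795d8.k26.{1} (nat_lit 0) @(fun (x0 : @Fin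 (@Nat.succ (@OfNat.ofNat.{0} @Nat (nat_lit 0) (@instOfNatNat (nat_lit 0))))) => @Int) (@Int.ofNat (nat_lit 0)) (@Cfsg.Agent.KOa2795d8.k29.{1} @Int)))))) (@Cfsg.Agent.KOa2795d8.k26.{1} (nat_lit 2) @(fun (x0 : @Fin (@Nat.succ (@OfNat.ofNat.{0} @Nat (nat_lit 2) (@instOfNatNat (nat_lit 2))))) => ((@Fin (@OfNat.ofNat.{0} @Nat (nat_lit 5) (@instOfNatNat (nat_lit 5)))) → @Int)) (@Cfsg.Agent.KOa2795d8.k26.{1} (nat_lit 4) @(fun (x0 : @Fin (@Nat.succ (@OfNat.ofNat.{0} @Nat (nat_lit 4) (@instOfNatNat (nat_lit 4))))) => @Int) (@Int.ofNat (nat_lit 0)) (@Cfsg.Agent.KOa2795d8.k26.{1} (nat_lit 3) @(fun (x0 : @Fin (@Nat.succ (@OfNat.ofNat.{0} @Nat (nat_lit 3) (@instOfNatNat (nat_lit 3))))) => @Int) (@Nat.rec.{1} @(fun (x0 : @Nat) => @Int) (@Int.ofNat (nat_lit 0)) @(fun (x0 : @Nat) (x1 : @Int) => @Int.negSucc @x0) (nat_lit 2)) (@Cfsg.Agent.KOa2795d8.k26.{1} (nat_lit 2) @(fun (x0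 : @Fin (@Nat.succ (@OfNat.ofNat.{0} @Nat (nat_lit 2) (@instOfNatNat (nat_lit 2))))) => @Int) (@Int.ofNat (nat_lit 2)) (@Cfsg.Agent.KOa2795d8.k26.{1} (nat_lit 1) @(fun (x0 : @Fin (@Nat.succ (@OfNat.ofNat.{0} @Nat (nat_lit 1) (@instOfNatNat (nat_lit 1))))) => @Int) (@Int.ofNat (nat_lit 0)) (@Cfsg.Agent.KOa2795d8.k26.{1} (nat_lit 0) @(fun (x0 : @Fin (@Nat.succ (@OfNat.ofNat.{0} @Nat (nat_lit 0) (@instOfNatNat (nat_lit 0))))) => @Int) (@Int.ofNat (nat_lit 0)) (@Cfsg.Agent.KOa2795d8.k29.{1} @Int)))))) (@Cfsg.Agent.KOa2795d8.k26.{1} (nat_lit 1) @(fun (x0 : @Fin (@Nat.succ (@OfNat.ofNat.{0} @Nat (nat_lit 1) (@instOfNatNat (nat_lit 1))))) => ((@Fin (@OfNat.ofNat.{0} @Nat (nat_lit 5) (@instOfNatNat (nat_lit 5)))) → @Int)) (@Cfsg.Agent.KOa2795d8.k26.{1} (nat_lit 4) @(fun (x0 : @Fin (@Nat.succ (@OfNat.ofNat.{0} @Nat (nat_lit 4) (@instOfNatNat (nat_lit 4))))) => @Int) (@Int.ofNat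 (nat_lit 0)) (@Cfsg.Agent.KOa2795d8.k26.{1} (nat_lit 3) @(fun (x0 : @Fin (@Nat.succ (@OfNat.ofNat.{0} @Nat (nat_lit 3) (@instOfNatNat (nat_lit 3))))) => @Int) (@Int.ofNat (nat_lit 0)) (@Cfsg.Agent.KOa2795d8.k26.{1} (nat_lit 2) @(fun (x0 : @Fin (@Nat.succ (@OfNat.ofNat.{0} @Nat (nat_lit 2) (@instOfNatNat (nat_lit 2))))) => @Int) (@Nat.rec.{1} @(fun (x0 : @Nat) => @Int) (@Int.ofNat (nat_lit 0)) @(fun (x0 : @Nat) (x1 : @Int) => @Int.negSucc @x0) (nat_lit 2)) (@Cfsg.Agent.KOa2795d8.k26.{1} (nat_lit 1) @(fun (x0 : @Fin (@Nat.succ (@OfNat.ofNat.{0} @Nat (nat_lit 1) (@instOfNatNat (nat_lit 1))))) => @Int) (@Int.ofNat (nat_lit 2)) (@Cfsg.Agent.KOa2795d8.k26.{1} (nat_lit 0) @(fun (x0 : @Fin (@Nat.succ (@OfNat.ofNat.{0} @Nat (nat_lit 0) (@instOfNatNat (nat_lit 0))))) => @Int) (@Int.ofNat (nat_lit 2)) (@Cfsg.Agent.KOa2795d8.k29.{1} @Int)))))) (@Cfsg.Agent.KOa2795d8.k26.{1}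 (nat_lit 0) @(fun (x0 : @Fin (@Nat.succ (@OfNat.ofNat.{0} @Nat (nat_lit 0) (@instOfNatNat (nat_lit 0))))) => ((@Fin (@OfNat.ofNat.{0} @Nat (nat_lit 5) (@instOfNatNat (nat_lit 5)))) → @Int)) (@Cfsg.Agent.KOa2795d8.k26.{1} (nat_lit 4) @(fun (x0 : @Fin (@Nat.succ (@OfNat.ofNat.{0} @Nat (nat_lit 4) (@instOfNatNat (nat_lit 4))))) => @Int) (@Int.ofNat (nat_lit 0)) (@Cfsg.Agent.KOa2795d8.k26.{1} (nat_lit 3) @(fun (x0 : @Fin (@Nat.succ (@OfNat.ofNat.{0} @Nat (nat_lit 3) (@instOfNatNat (nat_lit 3))))) => @Int) (@Int.ofNat (nat_lit 0)) (@Cfsg.Agent.KOa2795d8.k26.{1} (nat_lit 2) @(fun (x0 : @Fin (@Nat.succ (@OfNat.ofNat.{0} @Nat (nat_lit 2) (@instOfNatNat (nat_lit 2))))) => @Int) (@Int.ofNat (nat_lit 0)) (@Cfsg.Agent.KOa2795d8.k26.{1} (nat_lit 1) @(fun (x0 : @Fin (@Nat.succ (@OfNat.ofNat.{0} @Nat (nat_lit 1) (@instOfNatNat (nat_lit 1))))) => @Int) (@Nat.rec.{1} @(fun (x0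 : @Nat) => @Int) (@Int.ofNat (nat_lit 0)) @(fun (x0 : @Nat) (x1 : @Int) => @Int.negSucc @x0) (nat_lit 2)) (@Cfsg.Agent.KOa2795d8.k26.{1} (nat_lit 0) @(fun (x0 : @Fin (@Nat.succ (@OfNat.ofNat.{0} @Nat (nat_lit 0) (@instOfNatNat (nat_lit 0))))) => @Int) (@Int.ofNat (nat_lit 2)) (@Cfsg.Agent.KOa2795d8.k29.{1} @Int)))))) (@Cfsg.Agent.KOa2795d8.k29.{1} ((@Fin (@OfNat.ofNat.{0} @Nat (nat_lit 5) (@instOfNatNat (nat_lit 5)))) → @Int))))))) ?_); rewrite [← Cfsg.Agent.KOa2795d8.e29.{1}, ← Cfsg.Agent.KOa2795d8.e26.{1}]; rfl') | exact @Cfsg.Agent.BZ.RT.Cx.S69.S5 | exact ()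
private theorem _root_.Cfsg.Agent.KOa2795d8.e50 : (by first | exact @Cfsg.Agent.BZ.RT.Cx.S69.S5 = @_root_.Cfsg.Agent.KOa2795d8.k50 | exact True : Prop) := by first | (delta _root_.Cfsg.Agent.KOa2795d8.k50; exact @Subtype.property _ (fun g => @Cfsg.Agent.BZ.RT.Cx.S69.S5 = @g) _) | rfl | trivial

theorem sg_smp : ∀ π ∈ [(1 : ℤ), -1], ∀ j, ∃ k < 16, ∃ l < 16, gr k l = 1 ∧ sg π k - sg π l = S5ᵀ j := by (first | (refine of_decide_eq_true ?_; rewrite [Cfsg.Agent.KOa2795d8.e12, Cfsg.Agent.KOa2795d8.e13.{0}, Cfsg.Agent.KOa2795d8.e47, Cfsg.Agent.KOa2795d8.e44, Cfsg.Agent.KOa2795d8.e48, Cfsg.Agent.KOa2795d8.e17, Cfsg.Agent.KOa2795d8.e31, Cfsg.Agent.KOa2795d8.e41.{0, 0}, Cfsg.Agent.KOa2795d8.e30, Cfsg.Agent.KOa2795d8.e49.{0, 0, 0}, Cfsg.Agent.KOa2795d8.e50]; decide +kernel) | decide +kernel)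

theorem three : ∀ a ∈ [(0 : ℤ), 2, -2], ∀ b ∈ [(0 : ℤ), 2, -2], ∀ c ∈ [(0 : ℤ), 2, -2], a * a + b * b + c * c = 4 →
    ∀ x ∈ [(0 : ℤ), 2, -2], ∀ y ∈ [(0 : ℤ), 2, -2], ∀ z ∈ [(0 : ℤ), 2, -2], x * x + y * y + z * z = 4 →
      ![x, y, z] = ![a, b, c] ∨ ![x, y, z] = -![a, b, c] ∨ x * a + y * b + z * c = 0 := by decide +kernel

end S69

end Cfsg.Agent.BZ.RT.Cx
end

-- part: BZ/RT/Cx/S69b
section
/-!
# BZ / RT / Cx : the shapes over `D₅`, `boxS569` (helper69)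

Orthogonal coordinates; the roots with odd coordinates do not occur.
-/

set_option autoImplicit false
set_option linter.unusedSectionVars false
set_option maxRecDepth 100000

namespace Cfsg.Agent.BZ.RT.Cx

open Cfsg Matrix Cfsg.Agent.DL Cfsg.Agent.HZ.L Cfsg.Agent.BZ.TA Cfsg.Agent.BZ.TA.Cl Cfsg.Agent.OM Cfsg.Agent.OM.Cu Cfsg.Agent.BZ.RT.Z2
open BaseA (Cf Pf)

namespace S69

open S53

/-- orthogonal coordinates -/
structure Fr (e : Fin 5 → Fin 8) (O : Matrix (Fin 5) (Fin 8) ℤ) (Q : Matrix (Fin 3) (Fin 8) ℤ) (M : Mat (Fin 8)) : Prop where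
  gram : Oᵀ * O + Qᵀ * Q = (4 : ℤ) • En 8
  p1 : ∀ i j, 2 ∣ O i j - O 0 j
  p2 : ∀ i j, 2 ∣ Q i j - O 0 j
  p3 : ∀ j, 4 ∣ O 0 j + O 1 j + O 2 j + O 3 j + O 4 j + (Q 0 j + Q 1 j + Q 2 j)
  z1 : ∀ i j, O i (e j) - S5 i j = 0
  z2 : ∀ i j, Q i (e j) = 0
  m1 : O * M = 0
  m2 : Q * M = (4 : ℤ) • Q
  m3 : ∀ i, (∀ j, e j ≠ i) → ∀ k, M i k - (if k = i then 4 else 0) = 0
  m4 : ∀ i, ∃ c ∈ [(0 : ℤ), 1], ∀ j, 2 ∣ M i j - c * O 0 j
  cf : ∀ i j : Fin 5, cT 2 8 (e i) (e j) = cT 2 5 i j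
  inj : Function.Injective e

theorem fr1 : Fr ![0, 1, 2, 3, 7]
    !![2, 0, 0, 0, -1, 0, 0, 0; -2, 2, 0, 0, -1, 0, 0, 0; 0, -2, 2, 0, -1, 0, 0, 0; 0, 0, -2, 2, -1, 0, 0, 2; 0, 0, 0, -2, 1, 0, 0, 2]
    !![0, 0, 0, 0, 1, -2, 2, 0; 0, 0, 0, 0, 1, -2, 0, 0; 0, 0, 0, 0, 1, 0, -2, 0]
    !![0, 0, 0, 0, 2, 0, 0, 0; 0, 0, 0, 0, 4, 0, 0, 0; 0, 0, 0, 0, 6, 0, 0, 0; 0, 0, 0, 0, 5, 0, 0, 0; 0, 0, 0, 0, 4, 0, 0, 0;
      0, 0, 0, 0, 0, 4, 0, 0; 0, 0, 0, 0, 0, 0, 4, 0; 0, 0, 0, 0, 3, 0, 0, 0] := by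
  constructor <;> decide +kernel

theorem fr2 : Fr ![4, 3, 2, 1, 7]
    !![-1, 0, 0, 0, 2, -2, 0, 0; -1, 0, 0, 2, -2, 0, 0, 0; -1, 0, 2, -2, 0, 0, 0, 0; -1, 2, -2, 0, 0, 0, 0, 2; 1, -2, 0, 0, 0, 0, 0, 2]
    !![1, 0, 0, 0, 0, -2, 2, 0; 1, 0, 0, 0, 0, 0, -2, 0; 1, 0, 0, 0, 0, 0, 0, 0]
    !![4, 0, 0, 0, 0, 0, 0, 0; 5, 0, 0, 0, 0, 2, 0, 0; 6, 0, 0, 0, 0, 4, 0, 0; 4, 0, 0, 0, 0, 4, 0, 0; 2, 0, 0, 0, 0, 4, 0, 0;
      0, 0, 0, 0, 0, 4, 0, 0; 0, 0, 0, 0, 0, 0, 4, 0; 3, 0, 0, 0, 0, 2, 0, 0] := by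
  constructor <;> decide +kernel

private noncomputable def _root_.Cfsg.Agent.KOa2795d8.k58 : @DecidableEq.{1} @Nat := @Cfsg.Agent.KOa2795d8.k15
private theorem _root_.Cfsg.Agent.KOa2795d8.e58 : @instDecidableEqNat = @_root_.Cfsg.Agent.KOa2795d8.k58 := by delta _root_.Cfsg.Agent.KOa2795d8.k58; rewrite [← Cfsg.Agent.KOa2795d8.e15]; rfl'

theorem sg_inj : ∀ π ∈ [(1 : ℤ), -1], ∀ k < 16, ∀ l < 16, sg π k = sg π l → k = l := by (first | (refine of_decide_eq_true ?_; rewrite [Cfsg.Agent.KOa2795d8.e12, Cfsg.Agent.KOa2795d8.e13.{0}, Cfsg.Agent.KOa2795d8.e14, Cfsg.Agent.KOa2795d8.e32, Cfsg.Agent.KOa2795d8.e41.{0, 0}, Cfsg.Agent.KOa2795d8.e17, Cfsg.Agent.KOa2795d8.e30, Cfsg.Agent.KOa2795d8.e58]; decide +kernel) | decide +kernel)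

theorem dvd_row {n : ℤ} {r v : Vec (Fin 8)} (h : ∀ j, n ∣ r j) : n ∣ r ⬝ᵥ v := Finset.dvd_sum fun j _ => (h j).mul_right _

theorem sq_odd {x : ℤ} (h : ¬ 2 ∣ x) : 1 ≤ x * x ∧ (x * x ≤ 1 → x ∈ [(1 : ℤ), -1]) := by
  have h1 : x ≤ -1 ∨ 1 ≤ x := by omega
  refine ⟨by rcases h1 with h1 | h1 <;> nlinarith, fun k => ?_⟩
  have : x = 1 ∨ x = -1 := by rcases h1 with h1 | h1 <;> [right; left] <;> nlinarith
  simpa using this

theorem sq_even {x : ℤ} (h : 2 ∣ x) : 0 ≤ x * x ∧ 4 ∣ x * x ∧ (x * x ≤ 4 → x ∈ [(0 : ℤ), 2, -2]) := by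
  obtain ⟨y, rfl⟩ := h
  refine ⟨mul_self_nonneg _, ⟨y * y, by ring⟩, fun k => ?_⟩
  have h1 : y ≤ 1 := by nlinarith
  have h2 : -1 ≤ y := by nlinarith
  have : 2 * y = 0 ∨ 2 * y = 2 ∨ 2 * y = -2 := by omega
  simpa using this

theorem d3 (x y : Fin 3 → ℤ) : x ⬝ᵥ y = x 0 * y 0 + x 1 * y 1 + x 2 * y 2 := Fin.sum_univ_three _

theorem d5 (x y : Fin 5 → ℤ) : x ⬝ᵥ y = x 0 * y 0 + x 1 * y 1 + x 2 * y 2 + x 3 * y 3 + x 4 * y 4 := Fin.sum_univ_five _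

theorem e3 (x : Fin 3 → ℤ) : x = ![x 0, x 1, x 2] := by funext i; fin_cases i <;> rfl

theorem e5 (x : Fin 5 → ℤ) : x = ![x 0, x 1, x 2, x 3, x 4] := by funext i; fin_cases i <;> rfl

theorem s5_zero {x : Fin 5 → ℤ} (h : ∀ j, S5ᵀ j ⬝ᵥ x = 0) : x = 0 := by
  have h0 : 2 * x 0 + -2 * x 1 + 0 * x 2 + 0 * x 3 + 0 * x 4 = 0 := (d5 _ _).symm.trans (h 0)
  have h1 : 0 * x 0 + 2 * x 1 + -2 * x 2 + 0 * x 3 + 0 * x 4 = 0 := (d5 _ _).symm.trans (h 1)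
  have h2 : 0 * x 0 + 0 * x 1 + 2 * x 2 + -2 * x 3 + 0 * x 4 = 0 := (d5 _ _).symm.trans (h 2)
  have h3 : 0 * x 0 + 0 * x 1 + 0 * x 2 + 2 * x 3 + -2 * x 4 = 0 := (d5 _ _).symm.trans (h 3)
  have h4 : 0 * x 0 + 0 * x 1 + 0 * x 2 + 2 * x 3 + 2 * x 4 = 0 := (d5 _ _).symm.trans (h 4)
  rw [e5 x, show x 0 = 0 by omega, show x 1 = 0 by omega, show x 2 = 0 by omega, show x 3 = 0 by omega, show x 4 = 0 by omega]
  decide

namespace Fr

variable {e : Fin 5 → Fin 8} {O : Matrix (Fin 5) (Fin 8) ℤ} {Q : Matrix (Fin 3) (Fin 8) ℤ} {M X : Mat (Fin 8)} (F : Fr e O Q M)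
  {μ u v : Vec (Fin 8)} {G : Submonoid (Mat (Fin 8))} {Φ : RS (Fin 8)} {a b : Vec (Fin 8) × Vec (Fin 8)}
include F

theorem form (u v : Vec (Fin 8)) : 4 * bf u v = O *ᵥ u ⬝ᵥ O *ᵥ v + Q *ᵥ u ⬝ᵥ Q *ᵥ v := by
  rw [bf, E8q.fm1, ← smul_eq_mul, ← dotProduct_smul, ← vecMul_smul, ← F.gram, vecMul_add, dotProduct_add, ← vecMul_vecMul,
    ← vecMul_vecMul, vecMul_transpose, vecMul_transpose, dotProduct_comm u, dotProduct_comm u, ← dotProduct_mulVec, ← dotProduct_mulVec,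
    dotProduct_comm, dotProduct_comm (Q *ᵥ v)]

theorem ext (h1 : O *ᵥ u = O *ᵥ v) (h2 : Q *ᵥ u = Q *ᵥ v) : u = v := by
  have := F.form (u - v) (u - v)
  rw [mulVec_sub, mulVec_sub, h1, h2, sub_self, sub_self, dotProduct_zero, dotProduct_zero] at this
  exact sub_eq_zero.1 (bf_zero (by omega))

theorem q_iff : Q *ᵥ v = 0 ↔ ∀ i, (∀ j, e j ≠ i) → v i = 0 := by
  refine ⟨fun h i hi => ?_, fun h => funext fun i => (Finset.sum_eq_zero fun k _ => ?_ : ∑ k, Q i k * v k = 0)⟩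
  · have h1 : M *ᵥ v = 0 := F.ext (by rw [mulVec_mulVec, F.m1, zero_mulVec, mulVec_zero])
      (by rw [mulVec_mulVec, F.m2, smul_mulVec, h, smul_zero, mulVec_zero])
    have h2 : M i ⬝ᵥ v = 0 := congrFun h1 i
    rw [show M i = Pi.single i 4 from funext fun k => (sub_eq_zero.1 (F.m3 i hi k)).trans (Pi.single_apply _ _ _).symm, single_dotProduct] at h2
    omega
  · by_cases hk : ∃ j, e j = k
    · obtain ⟨j, rfl⟩ := hk
      exact mul_eq_zero_of_left (F.z2 i j) _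
    · exact mul_eq_zero_of_right _ (h k (not_exists.1 hk))

theorem par1 (i : Fin 5) : 2 ∣ (O *ᵥ v) i - (O *ᵥ v) 0 := sub_dotProduct (O i) (O 0) v ▸ dvd_row (F.p1 i)

theorem par2 (i : Fin 3) : 2 ∣ (Q *ᵥ v) i - (O *ᵥ v) 0 := sub_dotProduct (Q i) (O 0) v ▸ dvd_row (F.p2 i)

theorem par3 : 4 ∣ (O *ᵥ v) 0 + (O *ᵥ v) 1 + (O *ᵥ v) 2 + (O *ᵥ v) 3 + (O *ᵥ v) 4 + ((Q *ᵥ v) 0 + (Q *ᵥ v) 1 + (Q *ᵥ v) 2) := by
  have := dvd_row (r := O 0 + O 1 + O 2 + O 3 + O 4 + (Q 0 + Q 1 + Q 2)) (v := v) F.p3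
  simp only [add_dotProduct] at this
  exact this

theorem odd (h : bf v v = 2) (h0 : ¬ 2 ∣ (O *ᵥ v) 0) : (∀ i, (O *ᵥ v) i ∈ [(1 : ℤ), -1]) ∧ Q *ᵥ v ⬝ᵥ Q *ᵥ v = 3 := by
  have k := F.form v v
  have k1 := fun i => sq_odd (x := (O *ᵥ v) i) (by have := F.par1 (v := v) i; omega)
  have k2 := fun i => (sq_odd (x := (Q *ᵥ v) i) (by have := F.par2 (v := v) i; omega)).1
  rw [h, d5, d3] at k
  have := (k1 0).1; have := (k1 1).1; have := (k1 2).1; have := (k1 3).1; have := (k1 4).1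
  have := k2 0; have := k2 1; have := k2 2
  refine ⟨fun i => (k1 i).2 ?_, by rw [d3]; omega⟩
  fin_cases i <;> simp only [Fin.zero_eta, Fin.mk_one, Fin.reduceFinMk] <;> omega

theorem even (h : bf v v = 2) (h0 : 2 ∣ (O *ᵥ v) 0) (h1 : O *ᵥ v ≠ 0) (h2 : Q *ᵥ v ≠ 0) :
    (∀ i, (Q *ᵥ v) i ∈ [(0 : ℤ), 2, -2]) ∧ Q *ᵥ v ⬝ᵥ Q *ᵥ v = 4 := by
  have k := F.form v v
  have k1 := fun i => sq_even (x := (O *ᵥ v) i) (by have := F.par1 (v := v) i; omega)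
  have k2 := fun i => sq_even (x := (Q *ᵥ v) i) (by have := F.par2 (v := v) i; omega)
  have n1 := mt dotProduct_self_eq_zero.1 h1
  have n2 := mt dotProduct_self_eq_zero.1 h2
  rw [h, d5, d3] at k
  rw [d5] at n1
  rw [d3] at n2
  have := (k1 0).1; have := (k1 1).1; have := (k1 2).1; have := (k1 3).1; have := (k1 4).1
  have := (k2 0).1; have := (k2 1).1; have := (k2 2).1
  have := (k1 0).2.1; have := (k1 1).2.1; have := (k1 2).2.1; have := (k1 3).2.1; have := (k1 4).2.1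
  have := (k2 0).2.1; have := (k2 1).2.1; have := (k2 2).2.1
  refine ⟨fun i => (k2 i).2.2 ?_, by rw [d3]; omega⟩
  fin_cases i <;> simp only [Fin.zero_eta, Fin.mk_one, Fin.reduceFinMk] <;> omega

theorem half (h0 : 2 ∣ (O *ᵥ v) 0) : (2 : ℤ) • (fun i => (M *ᵥ v) i / 2) = M *ᵥ v := funext fun i => by
  obtain ⟨c, -, h⟩ := F.m4 i
  have h1 : 2 ∣ (M i - c • O 0) ⬝ᵥ v := dvd_row h
  rw [sub_dotProduct, smul_dotProduct, smul_eq_mul] at h1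
  exact Int.mul_ediv_cancel' ((dvd_sub_left (h0.mul_left c)).1 h1)

theorem half' (h0 : 2 ∣ (O *ᵥ v) 0) : O *ᵥ (fun i => (M *ᵥ v) i / 2) = 0 ∧ Q *ᵥ (fun i => (M *ᵥ v) i / 2) = (2 : ℤ) • Q *ᵥ v := by
  have h1 := congrArg (O *ᵥ ·) (F.half h0)
  have h2 := congrArg (Q *ᵥ ·) (F.half h0)
  simp only [mulVec_smul, mulVec_mulVec, F.m1, F.m2, zero_mulVec, smul_mulVec] at h1 h2
  exact ⟨(smul_eq_zero.1 h1).resolve_left (by decide), smul_right_injective _ (two_ne_zero (α := ℤ)) (h2.trans (smul_smul (2 : ℤ) (2 : ℤ) _).symm)⟩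

variable (H : Ms (En 8) μ X G Φ) (hX : X ∈ Wc (En 8)) (hJ : ∀ i, Jz (En 8) μ i ↔ ∃ j, e j = i)
include H hJ

theorem lv (ha : a ∈ Rc (En 8)) : a.1 ⬝ᵥ μ = 0 ↔ Q *ᵥ a.2 = 0 := by
  rw [ParT.zero_iff car8 H.dom ha, F.q_iff]
  simp only [hJ, not_exists, ne_eq]

theorem perp_of (h : O *ᵥ v = 0) : Perp (lev (Rc (En 8)) μ) v := fun c hc => by
  have := F.form c.2 v
  rw [h, (F.lv H hJ hc.1).1 hc.2, dotProduct_zero, zero_dotProduct, bf_root hc.1] at this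
  omega

theorem sp1 (j : Fin 5) : O *ᵥ (sp (En 8) (e j)).2 = S5ᵀ j ∧ Q *ᵥ (sp (En 8) (e j)).2 = 0 :=
  ⟨(mulVec_single_one _ _).trans (funext fun i => sub_eq_zero.1 (F.z1 i j)), (mulVec_single_one _ _).trans (funext fun i => F.z2 i j)⟩

theorem of_fix (h : X *ᵥ v = v) : O *ᵥ v = 0 := s5_zero fun j => by
  have h1 := TW27.perp H.ell h _ ⟨RsP.mem (e j), (F.lv H hJ (RsP.mem _)).2 (F.sp1 H hJ j).2⟩
  have h2 := F.form (sp (En 8) (e j)).2 v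
  rw [bf_root (RsP.mem _), h1, (F.sp1 H hJ j).1, (F.sp1 H hJ j).2, zero_dotProduct] at h2
  omega

include hX

theorem q_fix (v : Vec (Fin 8)) : Q *ᵥ (X *ᵥ v) = Q *ᵥ v := by
  have hw := ParT.stab car8 H.dom hX H.fx
  generalize X = w at hw
  induction hw using Submonoid.closure_induction generalizing v with
  | mem x hx =>
    obtain ⟨c, hc, rfl⟩ := hx
    rw [RsP.rfm_mulVec, mulVec_sub, mulVec_smul, (F.lv H hJ hc.1).1 hc.2, smul_zero, sub_zero]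
  | one => rw [one_mulVec]
  | mul x y _ _ h1 h2 => rw [← mulVec_mulVec, h1, h2]

theorem not_all (h : ∀ j, sp (En 8) (e j) ∈ Φ) : False := by
  have hE : Cf (fun j => sp (En 8) (e j)) = cm 5 (cT 2 5) := Matrix.ext fun i j =>
    (dotProduct_single_one (sp (En 8) (e j)).1 (e i)).trans (F.cf i j)
  have c5 : Car (cm 5 (cT 2 5)) fun _ => 1 := (by decide : (![1, 1, 1, 1, 1] : Fin 5 → ℤ) = fun _ => 1) ▸ CkD.carD5
  have k : ∀ Ψ : RS (Fin 8), Ψ ⊆ Rc (En 8) → {b | b ∈ Ψ ∧ ∃ x, Pf (fun j => sp (En 8) (e j)) *ᵥ x = b.2} = lev Ψ μ := fun Ψ hΨ =>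
    Set.ext fun b => and_congr_right fun hb => by
      rw [F.lv H hJ (hΨ hb), F.q_iff]
      have pv : ∀ (x : Vec (Fin 5)) i, (Pf (fun j => sp (En 8) (e j)) *ᵥ x) i = ∑ j, (if i = e j then 1 else 0) * x j := fun x i =>
        (Finset.sum_congr rfl fun j _ => congrArg (· * x j) (Pi.single_apply (e j) (1 : ℤ) i) :
          ∑ j, (Pi.single (e j) 1 : Vec (Fin 8)) i * x j = _)
      refine ⟨fun ⟨x, hx⟩ i hi => ?_, fun hi => ⟨fun j => b.2 (e j), funext fun i => ?_⟩⟩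
      · rw [← hx, pv]
        exact Finset.sum_eq_zero fun j _ => by rw [if_neg (hi j).symm, zero_mul]
      · rw [pv]
        by_cases hk : ∃ j, e j = i
        · obtain ⟨j, rfl⟩ := hk
          simp [F.inj.eq_iff]
        · rw [hi i (not_exists.1 hk)]
          exact Finset.sum_eq_zero fun j _ => by rw [if_neg fun q => hk ⟨j, q.symm⟩, zero_mul]
  have T := F6c.tr_span car8 (hE ▸ c5) H.sub H.cl h
  have T' := F6c.tr_span car8 (hE ▸ c5) subset_rfl (nm_rc (boxRs _ _ car8)) fun j => RsP.mem (e j)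
  rw [k _ H.sub, hE] at T
  rw [k _ subset_rfl, hE] at T'
  obtain ⟨w, h1, h2⟩ := T'.ww_dn (ParT.stab car8 H.dom hX H.fx)
  obtain ⟨f, f1, f2⟩ := H.hy
  have R := boxRs _ _ c5
  have nx := TA24.nm_lev H.nx H.fx
  have := kD5 _ w (R.ww ▸ h1) (Ck.hy0_up T R h2 nx f1)
  rw [T.up_eq R h2 nx ⟨1, one_mem _, (one_mul _).symm⟩ h2] at this
  exact f2 this

/-- **no odd roots** -/
theorem no_odd (ha : a ∈ Φ) : 2 ∣ (O *ᵥ a.2) 0 := by
  classical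
  by_contra h0
  have R := boxRs _ _ car8
  obtain ⟨n, hn, h1⟩ := fin_ord R H.nm
  have q3 := (F.odd (bf_two (H.sub ha)) h0).2
  obtain ⟨π, hπ, p4⟩ : ∃ π ∈ [(1 : ℤ), -1], 4 ∣ (Q *ᵥ a.2) 0 + (Q *ᵥ a.2) 1 + (Q *ᵥ a.2) 2 + π := by
    have := F.par2 (v := a.2) 0; have := F.par2 (v := a.2) 1; have := F.par2 (v := a.2) 2
    by_cases k : 4 ∣ (Q *ᵥ a.2) 0 + (Q *ᵥ a.2) 1 + (Q *ᵥ a.2) 2 + 1
    exacts [⟨1, by decide, k⟩, ⟨-1, by decide, by omega⟩]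
  have idx : ∀ c ∈ Φ, Q *ᵥ c.2 = Q *ᵥ a.2 → ∃ k < 16, O *ᵥ c.2 = sg π k := fun c hc q => by
    have k0 := F.par2 (v := a.2) 0
    have k1 := F.par2 (v := c.2) 0
    have k2 := F.par3 (v := c.2)
    rw [q] at k1 k2
    have k3 := (F.odd (bf_two (H.sub hc)) (by omega)).1
    obtain ⟨k, k4, k5⟩ := sg_idx π hπ _ (k3 0) _ (k3 1) _ (k3 2) _ (k3 3) _ (k3 4) (by omega)
    exact ⟨k, k4, (e5 _).trans k5.symm⟩
  have rf : ∀ c ∈ Φ, ∀ c' ∈ Φ, bf c.2 c'.2 = 1 → ∃ d ∈ Φ, d.2 = c'.2 - c.2 := fun c hc c' hc' k => by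
    obtain ⟨d, hd, d1, -⟩ := H.cl c hc c' hc'
    exact ⟨d, hd, by rw [← d1, RsP.rfm_mulVec, ← bf_root (H.sub hc), k, one_smul]⟩
  let Y : ℕ → Bool := fun k => decide (∃ c ∈ Φ, O *ᵥ c.2 = sg π k ∧ Q *ᵥ c.2 = Q *ᵥ a.2)
  have hY : ∀ k, Y k ↔ ∃ c ∈ Φ, O *ᵥ c.2 = sg π k ∧ Q *ᵥ c.2 = Q *ᵥ a.2 := fun k => decide_eq_true_iff
  have dif : ∀ k < 16, ∀ l < 16, Y k → Y l → gr k l = 1 → ∃ d ∈ Φ, O *ᵥ d.2 = sg π k - sg π l ∧ Q *ᵥ d.2 = 0 := fun k hk l hl yk yl g => by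
    obtain ⟨c, hc, c1, c2⟩ := (hY k).1 yk
    obtain ⟨c', hc', c1', c2'⟩ := (hY l).1 yl
    have := F.form c'.2 c.2
    rw [c1, c1', c2, c2', q3, dotProduct_comm, sg_dot π hπ k hk l hl, g] at this
    obtain ⟨d, hd, d1⟩ := rf c' hc' c hc (by omega)
    exact ⟨d, hd, by rw [d1, mulVec_sub, c1, c1'], by rw [d1, mulVec_sub, c2, c2', sub_self]⟩
  obtain ⟨k0, hk0, e0⟩ := idx a ha rfl
  refine (fin Y hk0 ((hY k0).2 ⟨a, ha, e0, rfl⟩) (fun j hj => ?_) fun k hk l hl t ht yk yl yt g g' => ?_).elim (fun all => ?_)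
    fun ⟨k, hk, k', hk', yk, yk', g, iso⟩ => ?_
  · choose! r r1 r2 r3 using fun k => (hY k).1
    let K := (Finset.range 16).filter fun k => Y k
    have mK : ∀ k, k ∈ K ↔ k < 16 ∧ Y k := fun k => by rw [Finset.mem_filter, Finset.mem_range]
    have ri : Set.InjOn (fun k => (r k).2) K := fun k hk l hl q => sg_inj π hπ k ((mK k).1 hk).1 l ((mK l).1 hl).1 (by
      rw [← r2 k ((mK k).1 hk).2, ← r2 l ((mK l).1 hl).2, show (r k).2 = (r l).2 from q])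
    have xi : Function.Injective (X *ᵥ ·) := fun u v q => by
      have := congrArg (X ^ (n - 1) *ᵥ ·) q
      simpa only [mulVec_mulVec, ← pow_succ, Nat.sub_add_cancel hn, h1, one_mulVec] using this
    have st : (K.image fun k => (r k).2).image (X *ᵥ ·) = K.image fun k => (r k).2 := by
      refine Finset.eq_of_subset_of_card_le (fun v hv => ?_) (Finset.card_image_of_injective _ xi).ge
      obtain ⟨_, h2, rfl⟩ := Finset.mem_image.1 hv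
      obtain ⟨k, hk, rfl⟩ := Finset.mem_image.1 h2
      obtain ⟨c, hc, c1, -⟩ := H.nx _ (r1 k ((mK k).1 hk).2)
      have c2 : Q *ᵥ c.2 = Q *ᵥ a.2 := by rw [← c1, F.q_fix H hX hJ, r3 k ((mK k).1 hk).2]
      obtain ⟨l, hl, l1⟩ := idx c hc c2
      have yl := (hY l).2 ⟨c, hc, l1, c2⟩
      exact Finset.mem_image.2 ⟨l, (mK l).2 ⟨hl, yl⟩, F.ext (by rw [c1, l1, r2 l yl]) (by rw [c1, c2, r3 l yl])⟩
    have sm := Finset.sum_image (s := K.image fun k => (r k).2) (f := fun v => v) (g := (X *ᵥ ·)) xi.injOn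
    rw [st, ← mulVec_sum] at sm
    have z := congrArg (sg π j ⬝ᵥ ·) (F.of_fix H hJ sm.symm)
    simp only [Finset.sum_image ri, mulVec_sum, dotProduct_sum, dotProduct_zero] at z
    rw [← Finset.sum_filter, ← z]
    exact Finset.sum_congr rfl fun k hk => by rw [r2 k ((mK k).1 hk).2, sg_dot π hπ j hj k ((mK k).1 hk).1]
  · obtain ⟨d, hd, d1, d2⟩ := dif k hk l hl yk yl g
    obtain ⟨c, hc, c1, c2⟩ := (hY t).1 yt
    have := F.form d.2 c.2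
    rw [d1, d2, c1, zero_dotProduct, dotProduct_comm, dotProduct_sub, sg_dot π hπ t ht k hk, sg_dot π hπ t ht l hl, g'] at this
    obtain ⟨c', hc', c3⟩ := rf d hd c hc (by omega)
    exact (hY _).2 ⟨c', hc', by rw [c3, mulVec_sub, c1, d1, sg_xor π hπ k hk l hl g t ht g'], by rw [c3, mulVec_sub, c2, d2, sub_zero]⟩
  · refine F.not_all H hX hJ fun j => ?_
    obtain ⟨k, hk, l, hl, g, q⟩ := sg_smp π hπ j
    obtain ⟨d, hd, d1, d2⟩ := dif k hk l hl (all k hk) (all l hl) g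
    exact R.ext d (H.sub hd) _ (R.mem _) (F.ext (by rw [d1, q, (F.sp1 H hJ j).1]) (by rw [d2, (F.sp1 H hJ j).2])) ▸ hd
  · obtain ⟨d, hd, d1, d2⟩ := dif k hk k' hk' yk yk' g
    obtain ⟨f, f1, f2⟩ := H.hy
    refine f2 (Ck.k1' hn h1 (TA24.nm_lev H.nx H.fx) (R.fin.subset fun c hc => H.sub hc.1) (fun c hc => R.two c (H.sub hc.1)) f1
      (b := d) ⟨hd, (F.lv H hJ (H.sub hd)).2 d2⟩ fun c hc => ?_)
    have key : ∀ c ∈ Φ, Q *ᵥ c.2 = 0 → ∀ t < 16, Y t → O *ᵥ c.2 ⬝ᵥ sg π t = 4 → bf c.2 d.2 ≠ 1 ∧ bf c.2 d.2 ≠ -1 := fun c hc q t ht yt p => by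
      obtain ⟨x, hx, x1, x2⟩ := (hY t).1 yt
      have k1 := F.form c.2 x.2
      rw [x1, q, zero_dotProduct, p] at k1
      obtain ⟨z, hz, z1⟩ := rf c hc x hx (by omega)
      have z2 : Q *ᵥ z.2 = Q *ᵥ a.2 := by rw [z1, mulVec_sub, q, x2, sub_zero]
      obtain ⟨l, hl, l1⟩ := idx z hz z2
      have k2 := F.form x.2 z.2
      rw [x1, l1, x2, z2, q3, sg_dot π hπ t ht l hl, z1, bf_sub, bf_two (H.sub hx), bf_comm] at k2
      have k3 := F.form c.2 d.2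
      rw [q, zero_dotProduct, d1, show O *ᵥ c.2 = sg π t - sg π l by rw [← l1, z1, mulVec_sub, x1, sub_sub_cancel], sub_dotProduct,
        dotProduct_sub, dotProduct_sub, sg_dot π hπ t ht k hk, sg_dot π hπ t ht k' hk', sg_dot π hπ l hl k hk,
        sg_dot π hπ l hl k' hk'] at k3
      have := iso t ht l hl yt ((hY l).2 ⟨z, hz, l1, z2⟩) (by omega)
      omega
    have q := (F.lv H hJ (H.sub hc.1)).1 hc.2
    have key' : ∀ t < 16, Y t → O *ᵥ c.2 ⬝ᵥ sg π t = 0 ∨ bf c.2 d.2 ≠ 1 ∧ bf c.2 d.2 ≠ -1 := fun t ht yt => by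
      obtain ⟨x, hx, x1, x2⟩ := (hY t).1 yt
      have k1 := F.form c.2 x.2
      rw [x1, q, zero_dotProduct, bf_root (H.sub hc.1)] at k1
      have n0 : Q *ᵥ a.2 ≠ 0 := fun k => by rw [k, dotProduct_zero] at q3; omega
      have k2 := (E8q.le_one car8 (H.sub hc.1) (H.sub hx)).resolve_left (by
        rintro (k | k)
        · exact n0 (by rw [← x2, ← k, q])
        · exact n0 (by rw [← x2, ← neg_eq_zero, ← mulVec_neg, ← k, q]))
      have k3 := key c hc.1 q t ht yt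
      have k4 := key (-c) (H.ng c hc.1) (by rw [Prod.snd_neg, mulVec_neg, q, neg_zero]) t ht yt
      rw [Prod.snd_neg, mulVec_neg, neg_dotProduct, ← neg_one_smul ℤ c.2, bf_smul'] at k4
      omega
    rcases E8q.le_one car8 (H.sub hc.1) (H.sub hd) with (k | k) | k
    · exact .inl (R.ext _ (H.sub hc.1) _ (H.sub hd) k)
    · exact .inr (.inl (R.ext _ (H.sub hc.1) _ (R.neg _ (H.sub hd)) k))
    · have k1 := F.form c.2 d.2
      rw [q, zero_dotProduct, d1, dotProduct_sub] at k1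
      have k2 := key' _ hk yk
      have k3 := key' _ hk' yk'
      rw [← bf_root (H.sub hc.1)] at k
      rw [← bf_root (H.sub hc.1), ← bf_root (H.sub hd), bf_comm d.2]
      exact .inr (.inr (by omega))

theorem ot : Ot (En 8) μ X Φ := by
  have mx : ∀ a, Mx Φ μ a → (∀ i, (Q *ᵥ a.2) i ∈ [(0 : ℤ), 2, -2]) ∧ Q *ᵥ a.2 ⬝ᵥ Q *ᵥ a.2 = 4 := fun a ⟨ha, a0, b, hb, ab⟩ =>
    F.even (bf_two (H.sub ha)) (F.no_odd H hX hJ ha) (fun k => ab (F.perp_of H hJ k b ⟨H.sub hb.1, hb.2⟩))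
      fun k => a0 ((F.lv H hJ (H.sub ha)).2 k)
  refine ⟨fun a i => (M *ᵥ a.2) i / 2, fun a ha => ?_⟩
  beta_reduce
  obtain ⟨y1, y2⟩ := F.half' (F.no_odd H hX hJ ha.1)
  obtain ⟨a1, a2⟩ := mx a ha
  refine ⟨TW27.ww_fix (ParT.stab car8 H.dom hX H.fx) (F.perp_of H hJ y1), fun v hv => ?_, ?_, fun b hb => ?_⟩
  · have k1 := F.form v fun i => (M *ᵥ a.2) i / 2
    have k2 := F.form a.2 v
    rw [y1, y2, dotProduct_zero, dotProduct_smul, smul_eq_mul, dotProduct_comm] at k1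
    rw [F.of_fix H hJ hv, dotProduct_zero, bf_root (H.sub ha.1)] at k2
    show bf _ _ = _
    omega
  · have k1 := F.form a.2 fun i => (M *ᵥ a.2) i / 2
    rw [y1, y2, dotProduct_zero, dotProduct_smul, smul_eq_mul, a2, bf_root (H.sub ha.1)] at k1
    omega
  · obtain ⟨z1, z2⟩ := F.half' (F.no_odd H hX hJ hb.1)
    obtain ⟨b1, b2⟩ := mx b hb
    rcases three _ (a1 0) _ (a1 1) _ (a1 2) ((d3 _ _).symm.trans a2) _ (b1 0) _ (b1 1) _ (b1 2) ((d3 _ _).symm.trans b2) with k | k | k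
    · exact .inl (F.ext (z1.trans y1.symm) (by rw [z2, y2, e3 (Q *ᵥ b.2), k, ← e3]))
    · exact .inr (.inl (F.ext (by rw [mulVec_neg, z1, y1, neg_zero]) (by rw [mulVec_neg, z2, y2, e3 (Q *ᵥ b.2), k, ← e3, smul_neg])))
    · have k1 := F.form b.2 fun i => (M *ᵥ a.2) i / 2
      rw [y1, y2, dotProduct_zero, dotProduct_smul, smul_eq_mul, d3, k, bf_root (H.sub hb.1)] at k1
      exact .inr (.inr (by omega))

end Fr

end S69

/-- **[S5]** -/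
theorem boxS569 : BoxS5 := fun μ X G Φ H hX hD n5 n6 h04 => by
  have d1 := hD 1 (.inl rfl)
  have d2 := hD 2 (.inr (.inl rfl))
  have d3 := hD 3 (.inr (.inr (.inl rfl)))
  have d7 := hD 7 (.inr (.inr (.inr rfl)))
  by_cases h0 : Jz (En 8) μ 0
  · refine S69.fr1.ot H hX fun i => ?_
    fin_cases i
    exacts [iff_of_true h0 (by decide), iff_of_true d1 (by decide), iff_of_true d2 (by decide), iff_of_true d3 (by decide),
      iff_of_false (h04.1 h0) (by decide), iff_of_false n5 (by decide), iff_of_false n6 (by decide), iff_of_true d7 (by decide)]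
  · refine S69.fr2.ot H hX fun i => ?_
    fin_cases i
    exacts [iff_of_false h0 (by decide), iff_of_true d1 (by decide), iff_of_true d2 (by decide), iff_of_true d3 (by decide),
      iff_of_true (not_not.1 (mt h04.2 h0)) (by decide), iff_of_false n5 (by decide), iff_of_false n6 (by decide),
      iff_of_true d7 (by decide)]

end Cfsg.Agent.BZ.RT.Cx
end

private theorem dce_607d7f8e65ec : _root_.True := by
  try have : _root_.True := by simp only [_root_.Cfsg.Agent.BZ.RT.Cx.S53.bf.eq_1]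
  try have : _root_.True := by simp only [_root_.Cfsg.Agent.BZ.RT.Cx.S69.leaf.eq_1]
  exact _root_.True.intro
end

-- part: BZ/RT/Cx/Fin
section
set_option linter.all false

/-!
# BZ / RT : the types `E₆`, `E₇`, `E₈` at the prime three, all the boxes (helper28)
-/

set_option autoImplicit false

namespace Cfsg.Agent.BZ.RT.Cx

theorem bc : Bc := bc_of boxSh boxOm boxS569

end Cfsg.Agent.BZ.RT.Cx
end

-- part: BZ/AT/Defs
section
prune_inst 0x2247078040500020008180012f0003ec6f3000002006b8801e8e00b040b05ef43a0038721ecf0111a1054a2cc1034806811000079c210000020008600411c05a19ca79226f0f9bc0454000f808000010000000000000000000000000000000000204010000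
set_option linter.all false
open scoped Cfsg.Agent.FastGrp

/-!
# BZ, type A, two degrees of height zero (helper65): the boxes

* `ar`, `cp`, `low`, `top`, `AR` : numbers attached to labels; `LG` : cells; `Gd`, `Two` : two members of height zero;
* `BoxO1`, `BoxO2` (one orbit), `BoxD` (degrees), `BoxH` (upper bound), `BoxL` (labels), `BoxW` (centre and twists),
  `BoxC` (cells), `BoxF` (height zero goes down), `BoxR` (descent), `BoxU` (towers), `BoxB` (the covering groups).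
-/

set_option autoImplicit false

namespace Cfsg.Agent.BZ.AT

open Cfsg Finset
open Cfsg.Agent.H577.GLB.Std Cfsg.Agent.H614.GLn.RSt Cfsg.Agent.H615.GU Cfsg.Agent.H623.GU Cfsg.Agent.H112.GLB
open Cfsg.Agent.H614 (SameCol)
open Cfsg.Agent.H794.EM (vz PH tyOne vz_mul PH_ne pow_ne_one)
open Cfsg.Agent.LV.A
open Cfsg.Agent.RC.A (Amb)
open Cfsg.Agent.BZ.A (dv df)
open Cfsg.Agent.BZ.A.V2 (hk hk_split)
open Cfsg.Agent.TID.Red (Ov)
open scoped MatrixGroups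

/-- the exponent of `T` in the Vandermonde product -/
def ar {m : ℕ} (β : Fin m → ℕ) : ℕ := ∑ j, ∑ i ∈ Iio j, β i

/-- the dimension of the cell -/
noncomputable def cp (Q : ℤ) (M l : ℕ) (c : ZMod M) : ℕ := eD Q M l c * perZ Q M c

/-- the order of the base group -/
noncomputable def low (Q : ℤ) (M l : ℕ) [NeZero M] {m : ℕ} (t : ZMod M → Fin m → ℕ) : ℕ :=
  ∑ c ∈ repsZ Q M, ewt (eD Q M l c) (t c) * vz l (Q ^ cp Q M l c - 1)

/-- the largest defect in the family -/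
noncomputable def top (Q : ℤ) (M l : ℕ) [NeZero M] {m : ℕ} (t : ZMod M → Fin m → ℕ) : ℕ :=
  ∑ c ∈ repsZ Q M, vz l (PH (Q ^ cp Q M l c) (ewt (eD Q M l c) (t c)))

/-- the exponent of `Q` in the degree, up to a constant -/
noncomputable def AR (Q : ℤ) (M : ℕ) [NeZero M] {m : ℕ} (t : ZMod M → Fin m → ℕ) : ℕ :=
  ∑ c ∈ repsZ Q M, perZ Q M c * ar (t c)

section

variable {l m : ℕ} {T : ℤ} {β : Fin m → ℕ}

theorem vz_PH (hT : 2 ≤ |T|) (k : ℕ) : vz l (PH T k) = ∑ x ∈ range k, vz l (T ^ (x + 1) - 1) := by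
  rw [PH, vz_prod _ _ _ fun i _ => sub_ne_zero.2 (pow_ne_one hT (Nat.succ_pos i))]

theorem vz_PB (hl : l.Prime) (ho : ¬ (l : ℤ) ∣ T) (hT : 2 ≤ |T|) (hβ : StrictMono β) :
    vz l (PB T β) = hk (fun k => vz l (T ^ k - 1)) β + vz l (VD T β) := by
  have hp : ∀ {j : Fin m}, ∀ i ∈ Iio j, 0 < β j - β i := fun i hi => Nat.sub_pos_of_lt (hβ (mem_Iio.1 hi))
  have h0 : ∀ j : Fin m, ∀ i ∈ Iio j, T ^ (β j - β i) - 1 ≠ 0 := fun j i hi => sub_ne_zero.2 (pow_ne_one hT (hp i hi))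
  have h0' : ∀ j : Fin m, ∀ i ∈ Iio j, T ^ β j - T ^ β i ≠ 0 := fun j i hi => by
    rw [VD_fac hβ hi]
    exact mul_ne_zero (pow_ne_zero _ (ne_zero_of_two hT)) (h0 j i hi)
  rw [PB, vz_prod _ _ _ fun _ _ => PH_ne hT _, sum_congr rfl fun j _ => vz_PH hT (β j),
    hk_split hβ fun k => vz l (T ^ k - 1), VD, vz_prod _ _ _ fun j _ => prod_ne_zero_iff.2 (h0' j)]
  refine congrArg _ (sum_congr rfl fun j _ => ?_)
  rw [vz_prod _ _ _ (h0' j)]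
  refine sum_congr rfl fun i hi => ?_
  rw [VD_fac hβ hi, vz_mul (pow_ne_zero _ (ne_zero_of_two hT)) (h0 j i hi), vz_pow hl ho, zero_add]

/-- the defect of one orbit is a sum over the hooks -/
theorem dv_eq (hl : l.Prime) (ho : ¬ (l : ℤ) ∣ T) (hT : 2 ≤ |T|) (hβ : StrictMono β) :
    dv l T β = hk (fun k => vz l (T ^ k - 1)) β := by
  rw [dv, vz_PB hl ho hT hβ, Nat.add_sub_cancel]

end

section

variable {F K : Type} [Field F] [Field K] [Algebra F K] {θ : K →*₀ ℂ} {Q : ℤ} {M : ℕ} [NeZero M] {N p : ℕ}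
  {G : ℕ → Type} [∀ n, Group (G n)] [∀ n, Finite (G n)]

/-- the factor of a centralizer which belongs to the `p'`-label `δ` -/
structure LG (A : Amb F K θ Q M N p G) (δ : ZMod M) where
  /-- the group, `GL_k(q ^ f)` or `GU_k(q ^ f)` -/
  X : Type
  [grp : Group X]
  [fin : Finite X]
  /-- the degree -/
  f : ℕ
  /-- the dimension -/
  k : ℕ
  /-- the realization -/
  R₁ : Rz (Q ^ f) M p k X
  /-- the cuspidal character -/
  θ₀ : IrrCharacter X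
  /-- the scalars of `p`-power order -/
  Zc : Subgroup X
  fpos : 0 < f
  kpos : 0 < k
  per : cp Q M p δ = f * k
  per' : perZ (Q ^ f) M δ = k
  gr : Gr R₁
  cusp : ∃ s' : ℤˣ, R₁.om (rv (Q ^ f) M k δ) = ((s' : ℤ) : ℂ) • (θ₀ : X → ℂ)
  cen : Zc ≤ Subgroup.center X
  card : Nat.card Zc = p ^ vz p (Q ^ cp Q M p δ - 1)
  step : ∀ (l n : ℕ) (hl : l ≤ N) (hn : n ≤ N), l + f * k = n → ∃ (j : X × G l →* G n) (u : G n), Function.Injective j ∧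
    (∃ a : ℕ, orderOf u = p ^ a) ∧ j.range = Subgroup.centralizer ({u} : Set (G n)) ∧ Val (A.t.R n hn) R₁ (A.t.R l hl) j u

attribute [instance] LG.grp LG.fin

end

/-- a member of height zero which is trivial on the `l`-elements of `Z`; the restriction to `Y` keeps the `l`-part and the
`r`-part of the degree -/
def Gd (l r : ℕ) {Γ : Type} [Group Γ] [Finite Γ] (Y : Subgroup Γ) (Z : Set Γ) (B : Set (IrrCharacter Γ)) (χ : IrrCharacter Γ) :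
    Prop :=
  χ ∈ B ∧ blockHeight l B (χ : Γ → ℂ) = 0 ∧ (∀ z ∈ Z, ∀ k : ℕ, z ^ l ^ k = 1 → (χ : Γ → ℂ) z = (χ : Γ → ℂ) 1) ∧
    ∀ ϑ : IrrCharacter Y, Ov Y.subtype (χ : Γ → ℂ) (ϑ : Y → ℂ) →
      (charDegree (χ : Γ → ℂ)).factorization l ≤ (charDegree (ϑ : Y → ℂ)).factorization l ∧
      (charDegree (ϑ : Y → ℂ)).factorization r = (charDegree (χ : Γ → ℂ)).factorization r

/-- two such members with different `r`-parts -/
def Two (l r : ℕ) (𝔐 : Ideal AlgInt) {Γ : Type} [Group Γ] [Finite Γ] (Y : Subgroup Γ) (Z : Set Γ) : Prop :=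
  ∀ (B : Set (IrrCharacter Γ)) (P : Subgroup Γ), IsPBlock 𝔐 B → IsDefectGroup l 𝔐 B P → ¬ IsMulCommutative P →
    ∃ χ χ', Gd l r Y Z B χ ∧ Gd l r Y Z B χ' ∧
      (charDegree (χ : Γ → ℂ)).factorization r ≠ (charDegree (χ' : Γ → ℂ)).factorization r

/-- **One orbit, the upper bound.** -/
def BoxO1 : Prop :=
  ∀ (l : ℕ) (T : ℤ), l.Prime → ¬ (l : ℤ) ∣ T → 2 ≤ |T| → ∀ (m : ℕ) (β : Fin m → ℕ), StrictMono β →
    dv l T β ≤ vz l (PH (T ^ orderOf (T : ZMod l)) (ewt (orderOf (T : ZMod l)) β))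

/-- **One orbit, two tuples.** -/
def BoxO2 : Prop :=
  ∀ e : ℕ, 0 < e → ∀ (m : ℕ) (β : Fin m → ℕ), StrictMono β → bsz β ≤ m → ∃ γ γ' : Fin m → ℕ, StrictMono γ ∧ StrictMono γ' ∧
    SameCol e γ β ∧ SameCol e γ' β ∧ bsz γ = bsz β ∧ bsz γ' = bsz β ∧ (2 ≤ ewt e β → ar γ ≠ ar γ') ∧
    ∀ F : ℕ → ℕ, (∀ h, ¬ e ∣ h → F h = 0) →
      hk F γ = ∑ x ∈ range (ewt e β), F (e * (x + 1)) ∧ hk F γ' = ∑ x ∈ range (ewt e β), F (e * (x + 1))

/-- **Degrees.** -/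
def BoxD : Prop :=
  ∀ (K : Type) [Field K] (θ : K →*₀ ℂ) (Q : ℤ) (M : ℕ) [NeZero M] (N l : ℕ) (G : ℕ → Type) [∀ n, Group (G n)]
    [∀ n, Finite (G n)], l.Prime → ¬ (l : ℤ) ∣ Q → CtxQ θ Q M N → ∀ (t : Tow θ Q M N l G) (n : ℕ) (hn : n ≤ N),
    (t.T n hn).typ 1 = tyOne Q n → ∀ (m : ℕ) (χ : IrrCharacter (G n)) (T : LabZ Q M m n), (t.R n hn).IsLb χ T →
      (charDegree (χ : G n → ℂ)).factorization l + df Q M l T.t = vz l (PH Q n) ∧
      ∀ r : ℕ, r.Prime → (r : ℤ) ∣ Q → ∀ (χ' : IrrCharacter (G n)) (T' : LabZ Q M m n), (t.R n hn).IsLb χ' T' →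
        (charDegree (χ : G n → ℂ)).factorization r = (charDegree (χ' : G n → ℂ)).factorization r → AR Q M T.t = AR Q M T'.t

/-- **The upper bound.** -/
def BoxH : Prop :=
  ∀ (Q : ℤ) (M : ℕ) [NeZero M] (l n : ℕ), l.Prime → ¬ (l : ℤ) ∣ Q → 2 ≤ |Q| → IsUnit (Q : ZMod M) →
    ∀ t T : LabZ Q M n n, POnly M l t.t → SameFam Q M l T.t t.t → df Q M l T.t ≤ top Q M l t.t

/-- **The labels.** -/
def BoxL : Prop :=
  ∀ (Q : ℤ) (M : ℕ) [NeZero M] (l n : ℕ), l.Prime → ¬ (l : ℤ) ∣ Q → 2 ≤ |Q| → IsUnit (Q : ZMod M) →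
    ∀ t : LabZ Q M n n, POnly M l t.t → low Q M l t.t < top Q M l t.t →
    ∃ T T' : LabZ Q M n n, POnly M l T.t ∧ POnly M l T'.t ∧ SameFam Q M l T.t t.t ∧ SameFam Q M l T'.t t.t ∧
      df Q M l T.t = top Q M l t.t ∧ df Q M l T'.t = top Q M l t.t ∧ AR Q M T.t ≠ AR Q M T'.t

/-- **The centre and the twists.** -/
def BoxW : Prop :=
  ∀ (F K : Type) [Field F] [Field K] [Algebra F K] (θ : K →*₀ ℂ) (Q : ℤ) (M : ℕ) [NeZero M] (N l : ℕ)
    (G : ℕ → Type) [∀ n, Group (G n)] [∀ n, Finite (G n)] (A : Amb F K θ Q M N l G), l.Prime →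
    ∀ (n : ℕ) (hn : n ≤ N), 0 < n → ∀ (χ : IrrCharacter (G n)) (T : LabZ Q M n n), (A.t.R n hn).IsLb χ T → POnly M l T.t →
    (∀ z ∈ A.Z n, ∀ k : ℕ, z ^ l ^ k = 1 → (χ : G n → ℂ) z = (χ : G n → ℂ) 1) ∧
    ∀ ϑ : IrrCharacter (A.d n).ker, Ov (A.d n).ker.subtype (χ : G n → ℂ) (ϑ : (A.d n).ker → ℂ) →
      (charDegree (χ : G n → ℂ)).factorization l ≤ (charDegree (ϑ : (A.d n).ker → ℂ)).factorization l ∧
      ∀ r : ℕ, r.Prime → (r : ℤ) ∣ Q →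
        (charDegree (ϑ : (A.d n).ker → ℂ)).factorization r = (charDegree (χ : G n → ℂ)).factorization r

/-- **The cells.** -/
def BoxC : Prop :=
  ∀ (F K : Type) [Field F] [Fintype F] [Field K] [Algebra F K] (θ : K →*₀ ℂ) (Q : ℤ) (M : ℕ) [NeZero M] (N l : ℕ),
    l.Prime → ¬ (l : ℤ) ∣ Q → ∀ δ : ZMod M, cp Q M l δ ≤ N →
    (Q = Fintype.card F → ∀ A : Amb F K θ Q M N l (fun n => GL (Fin n) F), (∀ n, A.ρ n = MonoidHom.id _) → Nonempty (LG A δ)) ∧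
    ∀ q : ℕ, Fintype.card F = q ^ 2 → Q = -(q : ℤ) → ∀ A : Amb F K θ Q M N l (fun n => GU n F q),
      (∀ n, A.ρ n = (GU n F q).subtype) → Nonempty (LG A δ)

/-- **Height zero goes down.** -/
def BoxF : Prop :=
  ∀ (l : ℕ) (𝔐 : Ideal AlgInt), IsPModular l 𝔐 → ∀ (Γ : Type) [Group Γ] [Finite Γ] (Y : Subgroup Γ) [Y.Normal],
    IsCyclic (Γ ⧸ Y) → ∀ (B : Set (IrrCharacter Γ)) (b : Set (IrrCharacter Y)), IsPBlock 𝔐 B → IsPBlock 𝔐 b → ∀ χ ∈ B, ∀ ϑ ∈ b,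
    Ov Y.subtype (χ : Γ → ℂ) (ϑ : Y → ℂ) → blockHeight l B (χ : Γ → ℂ) = 0 →
    (charDegree (χ : Γ → ℂ)).factorization l ≤ (charDegree (ϑ : Y → ℂ)).factorization l → blockHeight l b (ϑ : Y → ℂ) = 0

/-- **Descent.** -/
def BoxR : Prop :=
  ∀ (l r : ℕ) (𝔐 : Ideal AlgInt), IsPModular l 𝔐 → ∀ (Γ : Type) [Group Γ] [Finite Γ] (Y : Subgroup Γ) [Y.Normal] (Z : Set Γ),
    IsCyclic (Γ ⧸ Y) → Two l r 𝔐 Y Z → (∀ z ∈ Z, z ∈ Subgroup.center Γ) → ∀ (Y' : Type) [Group Y'] (ι : Y' →* Γ),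
    Function.Injective ι → ι.range = Y → (∀ y ∈ Subgroup.center Y', ι y ∈ Z) → RT.BTr l 𝔐 Y' (Lab.Zs l Y')

/-- **The towers.** -/
def BoxU : Prop :=
  ∀ (F K : Type) [Field F] [Field K] [Algebra F K] (θ : K →*₀ ℂ) (Q : ℤ) (M : ℕ) [NeZero M] (N l r : ℕ)
    (G : ℕ → Type) [∀ n, Group (G n)] [∀ n, Finite (G n)] (A : Amb F K θ Q M N l G) (𝔐 : Ideal AlgInt),
    IsPModular l 𝔐 → ¬ (l : ℤ) ∣ Q → r.Prime → (r : ℤ) ∣ Q → (∀ δ : ZMod M, cp Q M l δ ≤ N → Nonempty (LG A δ)) →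
    ∀ n, 0 < n → n ≤ N → Two l r 𝔐 (A.d n).ker (A.Z n)

/-- **The covering groups.** -/
def BoxB : Prop :=
  ∀ (l : ℕ) (𝔐 : Ideal AlgInt), IsPModular l 𝔐 → ∀ (F : Type) [Field F] [Fintype F], (l : F) ≠ 0 → ∀ n : ℕ,
    RT.BTr l 𝔐 (Matrix.SpecialLinearGroup (Fin (n + 1)) F) (Lab.Zs l _) ∧
    ∀ q : ℕ, Fintype.card F = q ^ 2 → 3 ≤ n + 1 → RT.BTr l 𝔐 (SU (n + 1) F q) (Lab.Zs l _)

end Cfsg.Agent.BZ.AT
end

-- part: BZ/AT/Fong
section
set_option linter.all false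
open scoped Cfsg.Agent.FastGrp

/-!
# BZ, type A: height zero goes down (helper99)

`boxF`.
-/

set_option autoImplicit false

namespace Cfsg.Agent.BZ.AT

open Cfsg Cfsg.Agent.Blocks Cfsg.Agent.KM.BK Cfsg.Agent.TID.Red Cfsg.Agent.Characters

/-- **Height zero goes down.** -/
theorem boxF : BoxF := by
  intro l M hM G _ _ N hN hc B b hB hb χ hχ ϑ hϑ ho h0 hle
  have hl : Fact l.Prime := ⟨hM.1⟩
  have := Local.isPrime_of_isPModular hM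
  let _ := Fintype.ofFinite G
  let _ := Fintype.ofFinite N
  obtain ⟨T, hT⟩ := exists_isStab hb
  obtain ⟨θ₀, h1, h2, S, -, h3, h4⟩ := S4723.result l M hM N b hb T (fun g => by
    rw [← T.inv_mem_iff, hT]
    refine forall₂_congr fun θ _ => forall_congr' fun θ' => imp_congr_left ⟨fun h5 x x' h6 => ?_, fun h5 x => ?_⟩
    · rw [h5]
      exact congrArg _ (Subtype.ext (by change g⁻¹ * (x' : G) * g⁻¹⁻¹ = x; rw [h6]; group))
    · exact h5 _ _ (by simp [mul_assoc]))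
  have st : ∀ θ ∈ b, ∀ g : G, g ∈ H666.Clif.stab N (θ : N → ℂ) → g ∈ T := fun θ hθ g hg =>
    hT.mem_of_mem hb hθ (by
      rwa [show Covering.conjIrr N g θ = θ from Subtype.ext (funext fun n => congrFun hg n)])
  have key : ∀ θ ∈ b, ∀ ψ : IrrCharacter G, Ov N.subtype (ψ : G → ℂ) (θ : N → ℂ) →
      nu l ψ = ((H666.Clif.stab N (θ : N → ℂ)).relIndex T).factorization l + T.index.factorization l + nu l θ := by
    intro θ hθ ψ h6
    unfold nu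
    rw [KM.A.deg_cyc N hc h6 (H666.Clif.stab N (θ : N → ℂ)) fun g => ⟨fun h n => congrFun h n, fun h => funext h⟩,
      Nat.factorization_mul Subgroup.index_ne_zero_of_finite (Basic.charDegree_pos θ.2).ne',
      ← Subgroup.relIndex_mul_index (st θ hθ), Nat.factorization_mul (a := Subgroup.relIndex _ _)
        Subgroup.index_ne_zero_of_finite Subgroup.index_ne_zero_of_finite]
    rfl
  have h5 : H666.Clif.stab N (θ₀ : N → ℂ) = S := Subgroup.ext fun g => (Iff.trans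
    ⟨fun h6 => ⟨st θ₀ h1 g h6, fun x x' h7 => (congrArg _ (Subtype.ext h7)).trans (congrFun h6 x)⟩,
      fun h6 => funext fun x => h6.2 x _ rfl⟩ (h3 g).symm)
  obtain ⟨χ₀, h6, h7⟩ := S4432.result l M hM N B hB b hb ⟨χ, hχ, ϑ, hϑ, (ov_subtype_iff N _ _).1 ho⟩ θ₀ h1
  have h8 := key θ₀ h1 χ₀ ((ov_subtype_iff N _ _).2 h7)
  rw [h5, Nat.factorization_eq_zero_of_not_dvd h4] at h8
  have h9 := key ϑ hϑ χ ho
  have h10 : nu l χ ≤ nu l χ₀ := (Nat.sub_eq_zero_iff_le.1 h0).trans (Nat.sInf_le ⟨χ₀, h6, rfl⟩)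
  have h11 : nu l χ ≤ nu l ϑ := hle
  exact Nat.sub_eq_zero_iff_le.2 ((show nu l ϑ ≤ nu l θ₀ by omega).trans (Nat.sub_eq_zero_iff_le.1 h2))

end Cfsg.Agent.BZ.AT
end

-- part: BZ/AT/Tw
section
set_option linter.all false
open scoped Cfsg.Agent.FastGrp

/-!
# BZ, type A, two degrees of height zero: the centre and the twists (helper52)

`boxW : BoxW`.
-/

set_option autoImplicit false

namespace Cfsg.Agent.BZ.AT

open Cfsg Cfsg.Agent.Characters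
open Cfsg.Agent.H577.GLB.Std Cfsg.Agent.H614.GLn.RSt Cfsg.Agent.H615.GU Cfsg.Agent.H623.GU Cfsg.Agent.H112.GLB
open Cfsg.Agent.TID.Red (Ov)

namespace Tw

variable {Q : ℤ} {M : ℕ} [NeZero M] {l m : ℕ} {t : ZMod M → Fin m → ℕ}

theorem cen (h : POnly M l t) : A.Cen Q M l t := fun C _ w k h1 h2 => Finset.prod_eq_one fun c _ => by
  by_cases h3 : PReg M l c
  swap
  · rw [h c h3, pow_zero]
  have h4 := H531.GU.expoZ_mul (Q := Q) (k := perZ Q M c) (c := c) (by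
    rw [TorZ, sub_mul, (pow_mul_eq_iff _ c).2 dvd_rfl, one_mul, sub_self])
  obtain ⟨u, hu⟩ := (ZMod.intCast_zmod_eq_zero_iff_dvd (addOrderOf c * c.val) M).1 (by
    push_cast
    rw [ZMod.natCast_zmod_val, ← nsmul_eq_mul, addOrderOf_nsmul_eq_zero])
  obtain ⟨v, hv⟩ := sub_one_dvd_pow_sub_one Q (perZ Q M c)
  have h5 : expoZ Q M (perZ Q M c) c * addOrderOf c = (Q - 1) * (v * u) :=
    mul_right_cancel₀ (Nat.cast_ne_zero.2 (NeZero.ne M) : (M : ℤ) ≠ 0) (by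
      linear_combination addOrderOf c * h4 + (Q ^ perZ Q M c - 1) * hu + M * u * hv)
  rw [(orderOf_eq_one_iff (x := w ^ expoZ Q M (perZ Q M c) c)).1 (Nat.eq_one_of_dvd_coprimes (h3.pow_right k)
    (orderOf_dvd_of_pow_eq_one ?_) (orderOf_dvd_of_pow_eq_one ?_)), one_pow]
  · rw [← zpow_natCast, ← zpow_mul, h5, zpow_mul, h1, one_zpow]
  · rw [← zpow_natCast, ← zpow_mul, mul_comm, zpow_mul, zpow_natCast, h2, one_zpow]

theorem not_fix (h : POnly M l t) (h0 : ∑ c, bsz (t c) ≠ 0) : ¬ A.Fix M l t := by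
  rintro ⟨a, h1, h2, h3⟩
  obtain ⟨c, -, hc⟩ := Finset.exists_ne_zero_of_sum_ne_zero h0
  have h4 : PReg M l c := by_contra fun e => hc (h c e)
  have h5 : PReg M l (c - a) := by_contra fun e => hc (h3 c ▸ h _ e)
  refine h1 (AddMonoid.addOrderOf_eq_one_iff.1 (Nat.eq_one_of_dvd_coprimes (h4.mul_left h5) ?_
    (addOrderOf_dvd_of_nsmul_eq_zero (by rwa [nsmul_eq_mul]))))
  have h6 := (AddCommute.all c (-(c - a))).addOrderOf_add_dvd_mul_addOrderOf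
  rwa [addOrderOf_neg, ← sub_eq_add_neg, sub_sub_cancel] at h6

theorem fac {G C : Type} [Group G] [Finite G] [CommGroup C] [IsCyclic C] (d : G →* C) (hd : ∀ g, d g ^ (Q - 1) = 1)
    (χ : IrrCharacter G) (ϑ : IrrCharacter d.ker) (h : Ov d.ker.subtype (χ : G → ℂ) (ϑ : d.ker → ℂ))
    (hl : ¬ (l : ℤ) ∣ Q - 1) : (charDegree (ϑ : d.ker → ℂ)).factorization l = (charDegree (χ : G → ℂ)).factorization l := by
  have := Fintype.ofFinite G
  have hc : IsCyclic (G ⧸ d.ker) := (QuotientGroup.quotientKerEquivRange d).isCyclic.2 inferInstance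
  have h1 := KM.A.deg_cyc d.ker hc h (H666.Clif.stab d.ker (ϑ : d.ker → ℂ)) fun g => funext_iff
  have h2 := Subgroup.index_dvd_of_le (H666.Clif.le_stab d.ker (Core.isIrr_isClassFunction ϑ.2))
  have h3 : d.ker.index ∣ (Q - 1).natAbs := by
    rw [Subgroup.index_ker, ← IsCyclic.exponent_eq_card]
    refine Monoid.exponent_dvd_of_forall_pow_eq_one ?_
    rintro ⟨_, g, rfl⟩
    exact Subtype.ext (pow_natAbs_eq_one.2 (hd g))
  rw [h1, Nat.factorization_mul Subgroup.index_ne_zero_of_finite (Blocks.Basic.charDegree_pos ϑ.2).ne', Finsupp.add_apply,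
    Nat.factorization_eq_zero_of_not_dvd fun e => hl (Int.natCast_dvd.2 (e.trans (h2.trans h3))), zero_add]

end Tw

/-- **[W]** -/
theorem boxW : BoxW := by
  intro F K _ _ _ θ Q M _ N l G _ _ A hl n hn hn0 χ T hT hP
  have := A.ctx.finK
  refine ⟨BZ.A.boxZ F K θ Q M N l G A n hn hn0 χ T hT (Tw.cen hP), fun ϑ hϑ => ⟨?_, fun r hr hQ =>
    Tw.fac (A.d n) (A.drng n) χ ϑ hϑ fun e => ?_⟩⟩
  · by_cases e : (l : ℤ) ∣ Q - 1
    · exact BZ.A.boxW F K θ Q M N l G A hl e n hn hn0 χ T hT (Tw.not_fix hP (T.sum.trans_ne hn0.ne')) ϑ hϑ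
    · exact (Tw.fac (A.d n) (A.drng n) χ ϑ hϑ e).ge
  · have h1 := hQ.sub e
    rw [sub_sub_cancel] at h1
    exact hr.one_lt.ne' (Nat.dvd_one.1 (Int.natCast_dvd_natCast.1 h1))

end Cfsg.Agent.BZ.AT
end

-- part: BZ/AT/Main_mg
section
prune_inst 0x424605800058002000018001290003e86f0000100002b8800c8a40f040a056902000387214c80150a005022881004002000100060c010000000000400000005219880120670d1ac08d4000f000003510000000000000000000000000000000000204010000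
set_option linter.all false
open scoped Cfsg.Agent.FastGrp

-- part: BZ/AT/Fm
section
/-!
# BZ, type A (helper65): families are blocks, for all primes

* `red` : the reduction step for the cells `LG`;
* `exists_fm` : a subgroup with a block which induces all blocks of a family;
* `exists_ab` : families are blocks; a large abelian subgroup of a defect group.
-/

set_option autoImplicit false

namespace Cfsg.Agent.BZ.AT

open Cfsg
open Cfsg.Agent.H577.GLB.Std Cfsg.Agent.H614 Cfsg.Agent.H614.GLn.RSt Cfsg.Agent.H623.GU Cfsg.Agent.H112.GLB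
open Cfsg.Agent.H623.GLn (exists_t2 induced_of_pairing)
open Cfsg.Agent.H117.GLn (SchP_mem_PGen lower_mem_span)
open Cfsg.Agent.H794.EM (vz)
open Cfsg.Agent.Blocks.Local Cfsg.Agent.Blocks.Basic Cfsg.Agent.H592.Transport
open Cfsg.Agent.TID.Red (IndH indH_iff_of_equiv indH_equiv indH_iff_range)
open Cfsg.Agent.RC.A (Amb ox ox_apply trSet_blockOf boxO)
open Cfsg.Agent.H76.GLB (eD_pos)

theorem bsz_col {m e : ℕ} (he : 0 < e) {β γ : Fin m → ℕ} (hβ : StrictMono β) (hγ : StrictMono γ) (hc : SameCol e β γ) :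
    bsz β = bsz γ ↔ ewt e β = ewt e γ := by
  have h1 := LV.A.ewt_add he hβ
  have h2 := LV.A.ewt_add he hγ
  have h3 := npairs_of_sameCol hc
  have h4 := sum_mod_of_sameCol hc
  have h5 : ∀ δ : Fin m → ℕ, e * ∑ j, δ j / e + ∑ j, δ j % e = ∑ j, δ j := fun δ => by
    rw [Finset.mul_sum, ← Finset.sum_add_distrib]
    exact Finset.sum_congr rfl fun j _ => Nat.div_add_mod _ _
  have h6 := h5 β
  have h7 := h5 γ
  have h8 := sum_le_of_injective hβ.injective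
  have h9 := sum_le_of_injective hγ.injective
  rw [h1, mul_add] at h6
  rw [h2, mul_add, ← h3] at h7
  rw [← Nat.mul_right_inj he.ne' (b := ewt e β)]
  unfold bsz
  omega

theorem unit_of {p : ℕ} (hp : p.Prime) {Q : ℤ} (h : ¬ (p : ℤ) ∣ Q) : IsUnit (Q : ZMod p) := by
  have := Fact.mk hp
  exact isUnit_iff_ne_zero.2 fun e => h ((ZMod.intCast_zmod_eq_zero_iff_dvd _ _).1 e)

variable {F K : Type} [Field F] [Field K] [Algebra F K] {θ : K →*₀ ℂ} {Q : ℤ} {M : ℕ} [NeZero M] {N p : ℕ}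
  {G : ℕ → Type} [∀ n, Group (G n)] [∀ n, Finite (G n)] {A : Amb F K θ Q M N p G} {𝔐 : Ideal AlgInt}

theorem ewt_zero (hp : p.Prime) (hQp : IsUnit (Q : ZMod p)) {m n : ℕ} {t : LabZ Q M m n} (ht : POnly M p t.t) {δ : ZMod M}
    (h : ¬ PReg M p δ) : ewt (eD Q M p δ) (t.t δ) = 0 := by
  have h1 := LV.A.ewt_mul_le (eD_pos (M := M) hp hQp δ) (t.mono δ)
  rw [ht δ h, Nat.le_zero, Nat.mul_eq_zero] at h1
  exact h1.resolve_left (eD_pos (M := M) hp hQp δ).ne'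

theorem fam_iff (hp : p.Prime) (hQp : IsUnit (Q : ZMod p)) {m n : ℕ} {t t' : LabZ Q M m n} (ht : POnly M p t.t)
    (ht' : POnly M p t'.t) : SameFam Q M p t.t t'.t ↔ ∀ δ, PReg M p δ →
      SameCol (eD Q M p δ) (t.t δ) (t'.t δ) ∧ ewt (eD Q M p δ) (t.t δ) = ewt (eD Q M p δ) (t'.t δ) :=
  forall₂_congr fun δ hδ => by
    rw [H157.GLB.sfun_of_pOnly hp ht hδ, H157.GLB.sfun_of_pOnly hp ht' hδ, and_comm]
    exact and_congr_right fun h => bsz_col (eD_pos hp hQp δ) (t.mono δ) (t'.mono δ) h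

theorem eD_same (hQ : IsUnit (Q : ZMod M)) {δ δ' : ZMod M} (h : SameZ Q M δ δ') : eD Q M p δ' = eD Q M p δ := by
  rw [eD, eD, perZ_of_same hQ h]

/-- **The reduction step at `δ`.** -/
theorem red (h𝔐 : IsPModular p 𝔐) (hQp : IsUnit (Q : ZMod p)) {m n : ℕ} (hn : n ≤ N) (hm : n ≤ m)
    {B : Set (IrrCharacter (G n))} (hB : IsPBlock 𝔐 B) {χ : IrrCharacter (G n)} (hχ : χ ∈ B) {t : LabZ Q M m n}
    (ht : (A.t.R n hn).IsLb χ t) (ht' : POnly M p t.t) {δ : ZMod M} (hδ : PReg M p δ) (hwδ : 0 < ewt (eD Q M p δ) (t.t δ))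
    (c : LG A δ) :
    ∃ (l : ℕ) (hl : l ≤ N) (χ₂ : IrrCharacter (G l)) (t₂ : LabZ Q M m l), l + c.f * c.k = n ∧
      (A.t.R l hl).IsLb χ₂ t₂ ∧ POnly M p t₂.t ∧ (∀ x, PReg M p x → SameCol (eD Q M p x) (t₂.t x) (t.t x)) ∧
      (∀ x, ¬ SameZ Q M δ x → ewt (eD Q M p x) (t₂.t x) = ewt (eD Q M p x) (t.t x)) ∧
      ewt (eD Q M p δ) (t₂.t δ) + 1 = ewt (eD Q M p δ) (t.t δ) ∧
      ∀ (j : c.X × G l →* G n), Function.Injective j → ∀ u : G n, (∃ a : ℕ, orderOf u = p ^ a) →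
        j.range = Subgroup.centralizer ({u} : Set (G n)) → Val (A.t.R n hn) c.R₁ (A.t.R l hl) j u →
        IndH 𝔐 j (blockOf 𝔐 (ox c.θ₀ χ₂ : c.X × G l → ℂ)) B := by
  classical
  have hp : p.Prime := h𝔐.1
  have : Fact p.Prime := ⟨hp⟩
  have := isPrime_of_isPModular h𝔐
  have hQ := A.ctx.unit
  obtain ⟨hle, l, hl, t₁, ht₁, h₁, hc₁, hew, hform, hspan⟩ :
      eD Q M p δ * perZ Q M δ ≤ n ∧ ∃ l : ℕ, l = n - eD Q M p δ * perZ Q M δ ∧
      ∃ t₁ : LabZ Q M m l, POnly M p t₁.t ∧ (∀ δ', ¬ SameZ Q M δ δ' → t₁.t δ' = t.t δ') ∧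
      SameCol (eD Q M p δ) (t₁.t δ) (t.t δ) ∧ ewt (eD Q M p δ) (t₁.t δ) + 1 = ewt (eD Q M p δ) (t.t δ) ∧
      form Q M (MvPolynomial.pderiv (eD Q M p δ * perZ Q M δ, canon Q M δ) (SchP Q M t.t)) (SchP Q M t₁.t) ≠ 0 ∧
      MvPolynomial.pderiv (eD Q M p δ * perZ Q M δ, canon Q M δ) (SchP Q M t.t) ∈ Submodule.span ℂ
        {x : RS M | ∃ t' : LabZ Q M m l, POnly M p t'.t ∧ x = SchP Q M t'.t} := by
    obtain ⟨hle, t₁, ht₁, h₁, hc₁, hew, hform⟩ :=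
      Cfsg.Agent.H76.GLB.exists_lower (orthZ hQ) hp hQ hQp hm t ht' δ hδ hwδ
    exact ⟨hle, _, rfl, t₁, ht₁, h₁, hc₁, hew, hform, lower_mem_span hp hQ hQp hm t ht' δ hδ hwδ⟩
  rw [show eD Q M p δ * perZ Q M δ = c.f * c.k from c.per] at hle hl hform hspan
  have hln : l ≤ n := by rw [hl]; exact Nat.sub_le _ _
  have hT : TorZ (Q ^ c.f) M c.k δ := (torZ_iff c.k δ).2 (by rw [c.per'])
  obtain ⟨t₂, hne, hfam₂⟩ := exists_t2 hp hQ hQp (hln.trans hm) hspan t₁ hform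
  have hlN : l ≤ N := hln.trans hn
  have hlab : (A.t.R l hlN).Bij m := A.t.bij l m hlN (hln.trans hm)
  obtain ⟨χ₂, ht₂, -⟩ := hlab.2 t₂
  obtain ⟨χ₂', hχ₂', t₂', ht₂', ht₂p⟩ :=
    (A.t.R l hlN).exists_pOnly_mem' h𝔐 (hln.trans hm) hlab (isPBlock_blockOf (M := 𝔐) χ₂)
  have hfam := Cfsg.Agent.H623.GLn.SameFam.symm' (Cfsg.Agent.H623.GLn.SameFam.trans' hfam₂ ((A.t.R l hlN).sameFam_of_mem h𝔐
    (hln.trans hm) hlab (isPBlock_blockOf χ₂) (mem_blockOf_self χ₂) hχ₂' ht₂ ht₂'))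
  rw [fam_iff hp hQp ht₂p ht₁] at hfam
  refine ⟨l, hlN, χ₂', t₂', by omega, ht₂', ht₂p, fun x hx => (hfam x hx).1.trans ?_, fun x h => ?_,
    by rw [(hfam δ hδ).2, hew], ?_⟩
  · by_cases e : SameZ Q M δ x
    · rwa [H157.GLB.tup_congr t₁.orb e, H157.GLB.tup_congr t.orb e, eD_same hQ e]
    · rw [h₁ x e]
      exact SameCol.refl _ _
  · by_cases e : PReg M p x
    · rw [(hfam x e).2, h₁ x h]
    · rw [ewt_zero hp hQp ht₂p e, ewt_zero hp hQp ht' e]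
  intro j hj u hu hH hval
  have := Fintype.ofFinite (Subgroup.centralizer ({u} : Set (G n)))
  obtain ⟨ψ, hψ⟩ := Cfsg.Agent.H76.GLB.exists_prodChar hj hH c.θ₀ χ₂
  have hind := induced_of_pairing h𝔐 hu rfl hB hχ (isPBlock_blockOf ψ) (mem_blockOf_self ψ)
    (pairing_ne_zero hp c.gr (A.t.gr l hlN) hj hH hval ht (SchP_mem_PGen hQ t.t ht') hδ c.fpos c.kpos hT t₂ hne
      c.cusp ht₂ ψ hψ)
  let e := ((MonoidHom.ofInjective hj).trans (MulEquiv.subgroupCongr hH)).symm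
  have h2 : ∀ s : Subgroup.centralizer ({u} : Set (G n)), (s : G n) = j (e s) := fun s => by
    obtain ⟨x, rfl⟩ := e.symm.surjective s
    rw [e.apply_symm_apply]
    rfl
  rw [← Cfsg.Agent.H76.GLB.prodBlk_blockOf h𝔐 hj hH c.θ₀ χ₂ ψ hψ, isPBlock_eq_blockOf (isPBlock_blockOf (M := 𝔐) χ₂) hχ₂',
    Cfsg.Agent.H76.GLB.prodBlk_blockOf h𝔐 hj hH c.θ₀ χ₂' (tr e (ox c.θ₀ χ₂')) fun x h hx => by
      rw [tr_apply, show e h = x from hj ((h2 h).symm.trans hx.symm), ox_apply]] at hind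
  rw [indH_iff_of_equiv e h2, trSet_blockOf]
  exact hind

/-- **The abstract frame.** -/
theorem exists_fm (h𝔐 : IsPModular p 𝔐) (hQp : IsUnit (Q : ZMod p))
    (hC : ∀ δ : ZMod M, cp Q M p δ ≤ N → Nonempty (LG A δ)) {m : ℕ} (n : ℕ) :
    ∀ (hn : n ≤ N), n ≤ m → ∀ t₀ : LabZ Q M m n, POnly M p t₀.t →
      ∃ (H : Type) (_ : Group H) (_ : Finite H) (J : H →* G n) (ψ : IrrCharacter H) (Z : Subgroup H), Function.Injective J ∧
        Z ≤ Subgroup.center H ∧ Nat.card Z = p ^ low Q M p t₀.t ∧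
        ∀ B, IsPBlock 𝔐 B → ∀ χ ∈ B, ∀ t : LabZ Q M m n, (A.t.R n hn).IsLb χ t → POnly M p t.t →
          SameFam Q M p t₀.t t.t → IndH 𝔐 J (blockOf 𝔐 (ψ : H → ℂ)) B := by
  classical
  have := isPrime_of_isPModular h𝔐
  have hp : p.Prime := h𝔐.1
  have hQ := A.ctx.unit
  induction n using Nat.strong_induction_on with
  | _ n ih =>
  intro hn hm t₀ ht₀
  obtain ⟨χ₀, h0, h0'⟩ := (A.t.bij n m hn hm).2 t₀
  by_cases hw : totW Q M p t₀.t = 0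
  · refine ⟨G n, inferInstance, inferInstance, (MulEquiv.refl _).toMonoidHom, χ₀, ⊥, fun _ _ h => h, bot_le, ?_,
      fun B hB χ hχ t ht _ h => ?_⟩
    · rw [Subgroup.card_bot, low, Finset.sum_eq_zero fun c _ => ?_, pow_zero]
      by_cases e : PReg M p c
      · rw [H157.GLB.ewt_of_totW_zero hQ t₀ hw e, zero_mul]
      · rw [ewt_zero hp hQp ht₀ e, zero_mul]
    · obtain rfl := H157.GLB.eq_of_totW_zero hp hQ hQp hm t₀ t ht₀ hw h
      rw [← h0' χ ht, ← isPBlock_eq_blockOf hB hχ]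
      exact indH_equiv (MulEquiv.refl _) hB
  obtain ⟨δ, hδ, h1⟩ := Finset.exists_ne_zero_of_sum_ne_zero hw
  obtain ⟨hδ, hr⟩ := (Finset.mem_filter.1 hδ).2
  replace hδ := mem_repsZ.2 hδ
  have h2 := Nat.pos_of_ne_zero h1
  obtain ⟨c⟩ := hC δ ((H76.GLB.exists_lower (orthZ hQ) hp hQ hQp hm t₀ ht₀ δ hr h2).1.trans hn)
  obtain ⟨l, hl, -, t₂, hln, -, h3, h3', h4, h5, -⟩ :=
    red h𝔐 hQp hn hm (isPBlock_blockOf χ₀) (mem_blockOf_self χ₀) h0 ht₀ hr h2 c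
  have h6 := Nat.mul_pos c.fpos c.kpos
  obtain ⟨H, _, _, J, ψ, Z, k1, k2, k3, k4⟩ := ih l (by omega) hl (by omega) t₂ h3
  obtain ⟨j, u, l1, l2, l3, l4⟩ := c.step l n hl hn hln
  refine ⟨c.X × H, inferInstance, inferInstance, j.comp (MonoidHom.prodMap (MonoidHom.id _) J), ox c.θ₀ ψ, c.Zc.prod Z,
    l1.comp (Function.injective_id.prodMap k1), fun x hx => Subgroup.mem_center_iff.2 fun y =>
      Prod.ext (Subgroup.mem_center_iff.1 (c.cen hx.1) _) (Subgroup.mem_center_iff.1 (k2 hx.2) _), ?_,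
    fun B hB χ hχ t ht ht' h => ?_⟩
  · rw [Nat.card_congr (Subgroup.prodEquiv _ _).toEquiv, Nat.card_prod, c.card, k3, ← pow_add, low, low,
      ← Finset.add_sum_erase _ _ hδ, ← Finset.add_sum_erase _ _ hδ, ← h5, add_mul, one_mul, ← add_assoc,
      add_comm (vz p (Q ^ cp Q M p δ - 1))]
    refine congrArg (fun x => p ^ (_ + x)) (Finset.sum_congr rfl fun x hx => ?_)
    rw [h4 x fun e => (Finset.mem_erase.1 hx).1 ?_]
    rw [← mem_repsZ.1 (Finset.mem_erase.1 hx).2, ← canon_eq_of_same hQ e, mem_repsZ.1 hδ]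
  · rw [fam_iff hp hQp ht₀ ht'] at h
    obtain ⟨l', hl', χ₂, t₃, h7, h8, h9, h9', h10, h11, h12⟩ := red h𝔐 hQp hn hm hB hχ ht ht' hr ((h δ hr).2 ▸ h2) c
    obtain rfl : l' = l := by omega
    refine (TID.Red.IndH.trans_iff (fun _ => rfl) ((boxO p 𝔐 h𝔐 _ _ c.θ₀ ψ _ (ox_apply _ _)).2 _ J χ₂ _ (ox_apply _ _)
      (k4 _ (isPBlock_blockOf χ₂) χ₂ (mem_blockOf_self χ₂) t₃ h8 h9 ((fam_iff hp hQp h3 h9).2 fun x hx =>
        ⟨((h3' x hx).trans (h x hx).1).trans (h9' x hx).symm, ?_⟩)))).2 (h12 j l1 u l2 l3 l4)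
    by_cases e : SameZ Q M δ x
    · have := (h δ hr).2
      rw [H157.GLB.tup_congr t₃.orb e, H157.GLB.tup_congr t₂.orb e, eD_same hQ e]
      omega
    · rw [h10 x e, h4 x e, (h x hx).2]

/-- **Families are blocks; a large abelian subgroup of the defect groups.** -/
theorem exists_ab (h𝔐 : IsPModular p 𝔐) (hQp : IsUnit (Q : ZMod p))
    (hC : ∀ δ : ZMod M, cp Q M p δ ≤ N → Nonempty (LG A δ)) {n : ℕ} (hn : n ≤ N)
    {B : Set (IrrCharacter (G n))} (hB : IsPBlock 𝔐 B) {P : Subgroup (G n)} (hP : IsDefectGroup p 𝔐 B P) :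
    ∃ t : LabZ Q M n n, POnly M p t.t ∧
      (∀ (χ : IrrCharacter (G n)) (T : LabZ Q M n n), (A.t.R n hn).IsLb χ T → (χ ∈ B ↔ SameFam Q M p T.t t.t)) ∧
      ∃ Z ≤ P, (∀ x ∈ Z, ∀ y ∈ Z, x * y = y * x) ∧ Nat.card Z = p ^ low Q M p t.t := by
  have hp := h𝔐.1
  have := Fact.mk hp
  have := isPrime_of_isPModular h𝔐
  have hbij : (A.t.R n hn).Bij n := A.t.bij n n hn le_rfl
  obtain ⟨χ₀, hχ₀, t, ht, ht'⟩ := (A.t.R n hn).exists_pOnly_mem' h𝔐 le_rfl hbij hB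
  obtain ⟨H, _, _, J, ψ, Z, k1, k2, k3, k5⟩ := exists_fm h𝔐 hQp hC n hn le_rfl t ht'
  have h1 := k5 B hB χ₀ hχ₀ t ht ht' fun _ _ => ⟨rfl, SameCol.refl _ _⟩
  refine ⟨t, ht', fun χ T hT => ⟨fun h => (A.t.R n hn).sameFam_of_mem h𝔐 le_rfl hbij hB h hχ₀ hT ht, fun h => ?_⟩, ?_⟩
  · have hb := isPBlock_blockOf (M := 𝔐) χ
    obtain ⟨χ₁, hχ₁, t₁, ht₁, ht₁'⟩ := (A.t.R n hn).exists_pOnly_mem' h𝔐 le_rfl hbij hb
    exact h1.unique (k5 _ hb χ₁ hχ₁ t₁ ht₁ ht₁' (H623.GLn.SameFam.trans' (H623.GLn.SameFam.symm' h)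
      ((A.t.R n hn).sameFam_of_mem h𝔐 le_rfl hbij hb (mem_blockOf_self χ) hχ₁ hT ht₁))) ▸ mem_blockOf_self χ
  · obtain ⟨D, hD⟩ := H644.exists_isDefectGroup h𝔐 h1.1
    have h2 := (indH_iff_range k1).1 h1
    obtain ⟨E, hE, h3⟩ := S0917.result p 𝔐 h𝔐 _ _ h2.1 B hB h2 _ (isDefectGroup_trSet (MonoidHom.ofInjective k1).symm hD)
    obtain ⟨g, rfl⟩ := TID.Red.conj_defect h𝔐 hB hE hP
    refine ⟨Z.map ((MulAut.conj g).toMonoidHom.comp J), ?_, ?_, ?_⟩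
    · rintro _ ⟨z, hz, rfl⟩
      refine ⟨J z, h3 ⟨MonoidHom.ofInjective k1 z, ?_, rfl⟩, rfl⟩
      change (MonoidHom.ofInjective k1).symm _ ∈ D
      rw [MulEquiv.symm_apply_apply]
      exact TO.Cov.le_defect hD (IsPGroup.of_card k3) k2 hz
    · rintro _ ⟨x, hx, rfl⟩ _ ⟨y, -, rfl⟩
      rw [← map_mul, ← map_mul, Subgroup.mem_center_iff.1 (k2 hx)]
    · rw [Subgroup.card_map_of_injective ((MulAut.conj g).injective.comp k1), k3]

end Cfsg.Agent.BZ.AT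
end

-- part: BZ/AT/Main
section
/-!
# BZ, type A, two degrees of height zero (helper65): the towers

`boxU`.
-/

set_option autoImplicit false

namespace Cfsg.Agent.BZ.AT

open Cfsg
open Cfsg.Agent.H577.GLB.Std Cfsg.Agent.H614.GLn.RSt Cfsg.Agent.H623.GU Cfsg.Agent.H112.GLB
open Cfsg.Agent.Blocks.Basic
open Cfsg.Agent.BZ.A (df)

/-- **The towers.** -/
theorem boxU (hD : BoxD) (hH : BoxH) (hL : BoxL) (hW : BoxW) : BoxU := by
  intro F K _ _ _ θ Q M _ N l r G _ _ A 𝔐 h𝔐 hQ hr hrQ hC n hn0 hn B P hB hP hna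
  have hl := h𝔐.1
  have := Fact.mk hl
  have := h𝔐.2.1.isPrime
  obtain ⟨t, ht, h1, Z, h2, h3, h4⟩ := exists_ab h𝔐 (unit_of hl hQ) hC hn hB hP
  have hbij : (A.t.R n hn).Bij n := A.t.bij n n hn le_rfl
  have k1 := hD K θ Q M N l G hl hQ A.ctx A.t n hn (A.one n hn) n
  obtain ⟨χ₀, l1, l2⟩ := Nat.sInf_mem ((isPBlock_nonempty hB).image fun χ : IrrCharacter (G n) =>
    (charDegree (χ : G n → ℂ)).factorization l)
  obtain ⟨T₀, hT₀, -⟩ := hbij.1 χ₀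
  have a1 := (k1 χ₀ T₀ hT₀).1
  have a2 := hH Q M l n hl hQ A.ctx.two A.ctx.unit t T₀ ht ((h1 χ₀ T₀ hT₀).1 l1)
  beta_reduce at l2
  have a3 : low Q M l t.t < top Q M l t.t := by
    by_contra! h
    obtain rfl : Z = P := Subgroup.eq_of_le_of_card_ge h2 (by
      rw [h4, S0908.result l 𝔐 h𝔐 B hB P hP, blockDefect, A.card, ← l2]
      exact Nat.pow_le_pow_right hl.pos (by omega))
    exact hna ⟨⟨fun x y => Subtype.ext (h3 _ x.2 _ y.2)⟩⟩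
  have k2 : ∀ (χ : IrrCharacter (G n)) (T : LabZ Q M n n), (A.t.R n hn).IsLb χ T → POnly M l T.t → SameFam Q M l T.t t.t →
      df Q M l T.t = top Q M l t.t → Gd l r (A.d n).ker (A.Z n) B χ := fun χ T b1 b2 b3 b4 => by
    obtain ⟨b5, b6⟩ := hW F K θ Q M N l G A hl n hn hn0 χ T b1 b2
    refine ⟨(h1 χ T b1).2 b3, ?_, b5, fun ϑ h => ⟨(b6 ϑ h).1, (b6 ϑ h).2 r hr hrQ⟩⟩
    have := (k1 χ T b1).1
    rw [blockHeight, ← l2]
    omega
  obtain ⟨T, T', c1, c2, c3, c4, c5, c6, c7⟩ := hL Q M l n hl hQ A.ctx.two A.ctx.unit t ht a3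
  obtain ⟨χ, hT, -⟩ := hbij.2 T
  obtain ⟨χ', hT', -⟩ := hbij.2 T'
  exact ⟨χ, χ', k2 χ T hT c1 c3 c5, k2 χ' T' hT' c2 c4 c6, fun e => c7 ((k1 χ T hT).2 r hr hrQ χ' T' hT' e)⟩

end Cfsg.Agent.BZ.AT
end

-- part: BZ/AT/O1a
section
/-!
# BZ, type A: the sum of the valuations over the hooks (helper39, task BZ-AT-O1)
-/

set_option autoImplicit false

namespace Cfsg.Agent.BZ.AT.O1

open Finset Cfsg.Agent.H614 Cfsg.Agent.H794.EM Cfsg.Agent.H577.GLB.Std Cfsg.Agent.LV.A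

variable {m : ℕ} {β : Fin m → ℕ}

/-- the number of the hooks divisible by `k` -/
theorem hooks_eq {k : ℕ} (hk : 0 < k) (hβ : StrictMono β) :
    ∑ j, ∑ x ∈ range (β j) \ (Iio j).image β, (if k ∣ β j - x then 1 else 0) = ewt k β := by
  have h1 : ∀ j, ∑ x ∈ range (β j), (if k ∣ x + 1 then 1 else 0) = β j / k := fun j => by
    rw [← Nat.card_multiples, card_filter]
  have h2 := sum_pairs (d := k) hβ 1
  have h3 := ewt_add hk hβ
  rw [← sum_congr rfl fun j _ => h1 j, sum_congr rfl fun j _ => sum_split hβ (fun h => if k ∣ h then 1 else 0) j,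
    sum_add_distrib, h2] at h3
  omega

theorem ewt_mul {e o : ℕ} (he : 0 < e) (ho : 0 < o) (hβ : StrictMono β) : o * ewt (e * o) β ≤ ewt e β := by
  have hk := Nat.mul_pos he ho
  have h1 := sum_core hβ.injective (ewt_add hk hβ)
  have h2 : ∀ j, core (e * o) β j % e = β j % e := fun j => by
    rw [← Nat.mod_mul_right_mod _ e o, core_mod, Nat.mod_mul_right_mod]
  have h3 := npairs_le he (core_injective hk hβ.injective)
  rw [npairs_of_sameCol (sameCol_of_mod h2)] at h3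
  have h4 := ewt_add he hβ
  have h5 : ∀ δ : Fin m → ℕ, e * ∑ j, δ j / e + ∑ j, δ j % e = ∑ j, δ j := fun δ => by
    rw [mul_sum, ← sum_add_distrib]
    exact sum_congr rfl fun j _ => Nat.div_add_mod _ _
  have h6 := h5 β
  have h7 := h5 (core (e * o) β)
  rw [sum_congr rfl fun j _ => h2 j] at h7
  have h8 : e * (∑ j, core (e * o) β j / e + o * ewt (e * o) β) = e * ∑ j, β j / e := by
    rw [mul_add, ← mul_assoc]
    omega
  have h9 := Nat.eq_of_mul_eq_mul_left he h8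
  omega

theorem hooks_le {e k : ℕ} (he : 0 < e) (hk : e ∣ k) (hβ : StrictMono β) :
    ∑ j, ∑ x ∈ range (β j) \ (Iio j).image β, (if k ∣ β j - x then 1 else 0) ≤
      ∑ x ∈ range (ewt e β), (if k ∣ e * (x + 1) then 1 else 0) := by
  obtain ⟨o, rfl⟩ := hk
  rcases Nat.eq_zero_or_pos o with rfl | ho
  · refine (le_of_eq (sum_eq_zero fun j _ => sum_eq_zero fun x hx => if_neg ?_)).trans (Nat.zero_le _)
    have := mem_range.1 (mem_sdiff.1 hx).1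
    rw [mul_zero, zero_dvd_iff]
    omega
  · rw [hooks_eq (Nat.mul_pos he ho) hβ]
    simp only [Nat.mul_dvd_mul_iff_left he]
    rw [← card_filter, Nat.card_multiples, Nat.le_div_iff_mul_le ho, mul_comm]
    exact ewt_mul he ho hβ

theorem dvd_iff (n : ℕ) (T : ℤ) (h : ℕ) : n ∣ (T ^ h - 1).natAbs ↔ orderOf (T : ZMod n) ∣ h := by
  rw [← Int.natCast_dvd, ← ZMod.intCast_zmod_eq_zero_iff_dvd, orderOf_dvd_iff_pow_eq_one, Int.cast_sub, Int.cast_pow,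
    Int.cast_one, sub_eq_zero]

theorem vz_eq {l : ℕ} {T : ℤ} (hl : l.Prime) (hT : 2 ≤ |T|) (H : ℕ) : ∃ J, ∀ h, 0 < h → h ≤ H →
    vz l (T ^ h - 1) = ∑ j ∈ Ico 1 J, if orderOf (T : ZMod (l ^ j)) ∣ h then 1 else 0 := by
  refine ⟨∑ h ∈ range (H + 1), (T ^ h - 1).natAbs, fun h h0 h1 => ?_⟩
  rw [vz, Nat.factorization_eq_card_pow_dvd_of_lt hl (Int.natAbs_pos.2 (sub_ne_zero.2 (pow_ne_one hT h0)))
    ((single_le_sum (f := fun h => (T ^ h - 1).natAbs) (fun _ _ => Nat.zero_le _)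
      (mem_range.2 (Nat.lt_succ_of_le h1))).trans_lt (Nat.lt_pow_self hl.one_lt)), card_filter]
  simp only [dvd_iff]

theorem main {l : ℕ} {T : ℤ} (hl : l.Prime) (hT : 2 ≤ |T|) (he : 0 < orderOf (T : ZMod l)) (hβ : StrictMono β) :
    ∑ j, ∑ x ∈ range (β j) \ (Iio j).image β, vz l (T ^ (β j - x) - 1) ≤
      ∑ x ∈ range (ewt (orderOf (T : ZMod l)) β), vz l (T ^ (orderOf (T : ZMod l) * (x + 1)) - 1) := by
  obtain ⟨J, hJ⟩ := vz_eq hl hT (∑ j, β j + orderOf (T : ZMod l) * ewt (orderOf (T : ZMod l)) β)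
  have h1 : ∀ j, ∀ x ∈ range (β j) \ (Iio j).image β,
      vz l (T ^ (β j - x) - 1) = ∑ i ∈ Ico 1 J, if orderOf (T : ZMod (l ^ i)) ∣ β j - x then 1 else 0 := fun j x hx => by
    have h2 := mem_range.1 (mem_sdiff.1 hx).1
    have h3 : β j ≤ ∑ j, β j := single_le_sum (fun _ _ => Nat.zero_le _) (mem_univ j)
    exact hJ _ (by omega) (by omega)
  have h2 : ∀ x ∈ range (ewt (orderOf (T : ZMod l)) β), vz l (T ^ (orderOf (T : ZMod l) * (x + 1)) - 1) =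
      ∑ i ∈ Ico 1 J, if orderOf (T : ZMod (l ^ i)) ∣ orderOf (T : ZMod l) * (x + 1) then 1 else 0 := fun x hx =>
    hJ _ (Nat.mul_pos he (Nat.succ_pos x)) ((Nat.mul_le_mul_left _ (mem_range.1 hx)).trans (Nat.le_add_left _ _))
  rw [sum_congr rfl fun j _ => (sum_congr rfl (h1 j)).trans sum_comm, sum_congr rfl h2, sum_comm, sum_comm (s := range _)]
  refine sum_le_sum fun i hi => hooks_le he ?_ hβ
  rw [← dvd_iff]
  exact (dvd_pow_self l (by have := (mem_Ico.1 hi).1; omega)).trans ((dvd_iff _ T _).2 dvd_rfl)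

theorem ord_pos {l : ℕ} {T : ℤ} (hl : l.Prime) (h : ¬ (l : ℤ) ∣ T) : 0 < orderOf (T : ZMod l) := by
  have : Fact l.Prime := ⟨hl⟩
  refine orderOf_pos_iff.2 (isOfFinOrder_iff_isUnit.2 (IsUnit.mk0 _ ?_))
  rwa [Ne, ZMod.intCast_zmod_eq_zero_iff_dvd]

end Cfsg.Agent.BZ.AT.O1
end

-- part: BZ/AT/O1
section
/-!
# BZ, type A: `boxO1` (helper39)
-/

set_option autoImplicit false

namespace Cfsg.Agent.BZ.AT

/-- **One orbit, the upper bound.** -/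
theorem boxO1 : BoxO1 := by
  intro l T hl ho hT m β hβ
  have he := O1.ord_pos hl ho
  have h1 : 2 ≤ |T ^ orderOf (T : ZMod l)| := by
    rw [abs_pow]
    exact hT.trans (le_self_pow₀ (by linarith) he.ne')
  rw [dv_eq hl ho hT hβ, vz_PH h1]
  simp only [← pow_mul]
  exact O1.main hl hT he hβ

end Cfsg.Agent.BZ.AT
end

-- part: BZ/AT/O2
section
/-!
# BZ, type A: two tuples of height zero with the same core (helper71)
-/

set_option autoImplicit false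

namespace Cfsg.Agent.BZ.AT

open Cfsg Finset
open Cfsg.Agent.H577.GLB.Std Cfsg.Agent.H614.GLn.RSt Cfsg.Agent.LV.A Cfsg.Agent.H614
open Cfsg.Agent.BZ.A.V2 (hk)

namespace O2

variable {e m w : ℕ} {κ : Fin m → ℕ} {F : ℕ → ℕ}

theorem add_le (h : StrictMono κ) (i : Fin m) (d : ℕ) (hd : i + d < m) : κ i + d ≤ κ ⟨i + d, hd⟩ := by
  induction d with
  | zero => exact le_rfl
  | succ d ih => exact (Nat.succ_le_succ (ih (by omega))).trans (h (Fin.mk_lt_mk.2 (Nat.lt_succ_self _)))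

theorem sum_fin {a b : ℕ} (hb : b ≤ m) (f : ℕ → ℕ) :
    ∑ i : Fin m, (if a ≤ i ∧ i < b then f i else 0) = ∑ y ∈ range (b - a), f (a + y) := by
  rw [Fin.sum_univ_eq_sum_range (fun i => if a ≤ i ∧ i < b then f i else 0), ← sum_filter, ← sum_Ico_eq_sum_range]
  exact sum_congr (by ext; simp; omega) fun _ _ => rfl

theorem sum_mult (he : 0 < e) (hF : ∀ h, ¬ e ∣ h → F h = 0) (w : ℕ) :
    ∑ y ∈ range (e * w), F (y + 1) = ∑ x ∈ range w, F (e * (x + 1)) := by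
  induction w with
  | zero => rfl
  | succ w ih =>
    rw [mul_add_one, sum_range_add, ih, sum_range_succ, sum_eq_single (s := range e) (e - 1) (fun y hy k => hF _ fun d => ?_)
      fun k => absurd (mem_range.2 (by omega)) k, mul_add_one, show e * w + (e - 1) + 1 = e * w + e by omega]
    have := mem_range.1 hy
    have := Nat.le_of_dvd (Nat.succ_pos y) ((Nat.dvd_add_right (dvd_mul_right e w)).1 d)
    omega

theorem mem_gap (h : StrictMono κ) {j : Fin m} {x : ℕ} : x ∈ range (κ j) \ (Iio j).image κ ↔ x < κ j ∧ ∀ i, κ i ≠ x := by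
  simp only [mem_sdiff, mem_range, mem_image, mem_Iio, not_exists, not_and]
  exact and_congr_right fun k => ⟨fun a i b => a i (h.lt_iff_lt.1 (b ▸ k)) b, fun a i _ => a i⟩

/-- a core -/
def Co (e : ℕ) (κ : Fin m → ℕ) : Prop := ∀ j x, x < κ j → e ∣ κ j - x → ∃ i, κ i = x

theorem Co.zero (c : Co e κ) (h : StrictMono κ) (hF : ∀ h, ¬ e ∣ h → F h = 0) (j : Fin m) :
    ∑ x ∈ range (κ j) \ (Iio j).image κ, F (κ j - x) = 0 := sum_eq_zero fun x hx => hF _ fun d => by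
  obtain ⟨i, k⟩ := c j x ((mem_gap h).1 hx).1 d
  exact ((mem_gap h).1 hx).2 i k

section Row

variable {κ : Fin (m + 1) → ℕ} (h : StrictMono κ) (r : ℕ)
include h

theorem mono_up : StrictMono (up κ (Fin.last m) r) := fun i j k => by
  have := h k
  rw [up_ne _ _ (Fin.ne_last_of_lt k)]
  by_cases e : j = Fin.last m
  · subst e
    rw [up_self]
    omega
  · rwa [up_ne _ _ e]

theorem hk_up (he : 0 < e) (c : Co e κ) (hF : ∀ h, ¬ e ∣ h → F h = 0) :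
    hk F (up κ (Fin.last m) (e * w)) = ∑ x ∈ range w, F (e * (x + 1)) := by
  have h1 : ∀ j, (Iio j).image (up κ (Fin.last m) (e * w)) = (Iio j).image κ := fun j =>
    image_congr fun i hi => up_ne _ _ (Fin.ne_last_of_lt (mem_Iio.1 hi))
  rw [hk, sum_eq_single (Fin.last m) (fun j _ k => by rw [h1, up_ne _ _ k, c.zero h hF]) fun k => absurd (mem_univ _) k, h1, up_self,
    ← sum_subset (s₁ := Ico (κ (Fin.last m)) (κ (Fin.last m) + e * w)) (fun x hx => ?_) fun x hx k => hF _ fun d => ?_,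
    sum_Ico_eq_sum_range, Nat.add_sub_cancel_left, ← sum_range_reflect, ← sum_mult he hF]
  · exact sum_congr rfl fun x hx => congrArg F (by have := mem_range.1 hx; omega)
  · simp only [mem_sdiff, mem_range, mem_image, mem_Iio, mem_Ico, not_exists, not_and] at hx ⊢
    exact ⟨hx.2, fun i a b => by have := h a; omega⟩
  · simp only [mem_sdiff, mem_range, mem_image, mem_Iio, mem_Ico, not_exists, not_and] at hx k
    have h2 : x < κ (Fin.last m) := by omega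
    obtain ⟨i, a⟩ := c _ x h2 ((Nat.dvd_add_left (dvd_mul_right e w)).1 (by rwa [← Nat.sub_add_comm h2.le]))
    exact hx.2 i (h.lt_iff_lt.1 (a ▸ h2)) a

end Row

/-- the column is added at the first gap `g` -/
def cl (κ : Fin m → ℕ) (a g : ℕ) (i : Fin m) : ℕ := κ i + if a ≤ i ∧ i < g then 1 else 0

section Col

variable {a g : ℕ} (h : StrictMono κ) (hg : g ≤ m) (h1 : ∀ i : Fin m, i < g → κ i = i) (h2 : ∀ i : Fin m, g ≤ i → i < κ i)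
include h1

include h h2 in
theorem mono_cl : StrictMono (cl κ a g) := fun i j k => by
  have := h k
  have := h1 i
  have := h2 j
  have := Fin.lt_def.1 k
  unfold cl
  split_ifs <;> omega

include hg in
theorem sum_cl (ha : a ≤ g) (f : ℕ → ℕ) : ∑ i, f (cl κ a g i) + f a = ∑ i, f (κ i) + f g := by
  have e1 : ∀ i : Fin m, f (cl κ a g i) = (if a ≤ i ∧ i < g then f (i + 1) else 0) + if a ≤ i ∧ i < g then 0 else f (κ i) := fun i => by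
    unfold cl
    split_ifs with k
    · rw [h1 i k.2, add_zero]
    · rw [add_zero, zero_add]
  have e2 : ∀ i : Fin m, f (κ i) = (if a ≤ i ∧ i < g then f i else 0) + if a ≤ i ∧ i < g then 0 else f (κ i) := fun i => by
    split_ifs with k
    · rw [h1 i k.2, add_zero]
    · rw [zero_add]
  have e3 := (sum_range_succ (fun y => f (a + y)) (g - a)).symm.trans (sum_range_succ' _ _)
  rw [sum_congr rfl fun i _ => e1 i, sum_congr rfl fun i _ => e2 i, sum_add_distrib, sum_add_distrib, sum_fin hg f,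
    sum_fin hg fun i => f (i + 1)]
  simp only [Nat.add_sub_cancel' ha, add_zero, ← add_assoc] at e3
  omega

include h hg h2 in
theorem hk_cl (he : 0 < e) (c : Co e κ) (hF : ∀ h, ¬ e ∣ h → F h = 0) (ha : a + e * w = g) :
    hk F (cl κ a g) = ∑ x ∈ range w, F (e * (x + 1)) := by
  have h3 := mono_cl (a := a) h h1 h2
  have h4 : ∀ i : Fin m, κ i ≠ g := fun i k => by have := h1 i; have := h2 i; omega
  rw [hk, ← sum_mult he hF, show e * w = g - a by omega,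
    ← sum_congr rfl (f := fun y => F (a + y + 1 - a)) fun y _ => congrArg F (by omega), ← sum_fin hg fun i => F (i + 1 - a)]
  refine sum_congr rfl fun j _ => ?_
  have h5 : ∀ x ∈ range (cl κ a g j) \ (Iio j).image (cl κ a g), x ≠ a → F (cl κ a g j - x) = 0 := fun x hx k => hF _ fun d => by
    obtain ⟨k1, k2⟩ := (mem_gap h3).1 hx
    rcases lt_trichotomy x a with k3 | k3 | k3
    · exact k2 ⟨x, by omega⟩ (by rw [cl, h1 _ (by simp only; omega), if_neg (by simp only; omega), add_zero])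
    · exact k k3
    by_cases k4 : x ≤ g
    · exact k2 ⟨x - 1, by omega⟩ (by rw [cl, h1 _ (by simp only; omega), if_pos (by simp only; omega)]; simp only; omega)
    have k5 : ∀ i : Fin m, g < cl κ a g i ∨ g < κ i → cl κ a g i = κ i := fun i k6 => by
      have := h1 i
      unfold cl at k6 ⊢
      split_ifs at k6 ⊢ <;> omega
    rw [k5 j (Or.inl ((not_le.1 k4).trans ((mem_gap h3).1 hx).1))] at k1 d
    obtain ⟨i, k6⟩ := c j x k1 d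
    exact k2 i ((k5 i (Or.inr (by omega))).trans k6)
  split_ifs with k
  · rw [sum_eq_single a h5 fun k1 => absurd ((mem_gap h3).2 ⟨?_, fun i => ?_⟩) k1, cl, if_pos k, h1 j k.2]
    · rw [cl, if_pos k, h1 j k.2]
      omega
    · have := h1 i
      have := h2 i
      unfold cl
      split_ifs <;> omega
  · refine sum_eq_zero fun x hx => if k1 : x = a then hF _ fun d => ?_ else h5 x hx k1
    have k2 := ((mem_gap h3).1 hx).1
    rw [cl, if_neg k, add_zero, k1] at k2 d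
    have k3 : g < κ j := by have := h1 j; have := h2 j; omega
    obtain ⟨i, k4⟩ := c j g k3 ((Nat.dvd_add_left (dvd_mul_right e w)).1 (by rwa [show κ j - g + e * w = κ j - a by omega]))
    exact h4 i k4

end Col

theorem exists_gap (h : StrictMono κ) : ∃ g ≤ m, (∀ i : Fin m, i < g → κ i = i) ∧ ∀ i : Fin m, g ≤ i → i < κ i := by
  classical
  have h0 : ∃ g, ∀ k : g < m, κ ⟨g, k⟩ ≠ g := ⟨m, fun k => absurd k (lt_irrefl _)⟩
  refine ⟨Nat.find h0, Nat.find_min' h0 fun k => absurd k (lt_irrefl _), fun i k => ?_, fun i k => ?_⟩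
  · exact not_not.1 fun a => Nat.find_min h0 k fun _ => a
  · have h1 := Nat.find_spec h0 (k.trans_lt i.2)
    generalize Nat.find h0 = g at *
    have h2 := add_le h ⟨0, i.pos⟩ g (by simp only; omega)
    have h3 := add_le h ⟨g, k.trans_lt i.2⟩ (i - g) (by simp only; omega)
    simp only [zero_add, Nat.add_sub_cancel' k, Fin.eta] at h2 h3
    omega

end O2

open O2 in
/-- **One orbit, two tuples.** -/
theorem boxO2 : BoxO2 := by
  intro e he m β hβ hm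
  obtain ⟨κ, h, h1, h2, h3, h4, -⟩ := exists_core he hβ.injective (ewt_add he hβ) (sum_eq_bsz hβ)
  have c : Co e κ := fun j x k d => by_contra fun a => by
    have h5 := gap_le he h ((mem_gap h).2 ⟨k, fun i b => a ⟨i, b⟩⟩) d
    have h6 := Nat.div_pos (Nat.le_of_dvd (Nat.sub_pos_of_lt k) d) he
    rw [ewt, h2] at h5
    omega
  generalize ewt e β = w at *
  rcases Nat.eq_zero_or_pos w with rfl | hw
  · have h5 : bsz κ = bsz β := by rw [bsz, h4]; omega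
    have h6 := fun F hF => (sum_eq_zero fun j _ => c.zero (F := F) h hF j : hk F κ = 0)
    exact ⟨κ, κ, h, h, h1.symm, h1.symm, h5, h5, by omega, fun F hF => ⟨h6 F hF, h6 F hF⟩⟩
  have h5 := Nat.le_mul_of_pos_left w he
  obtain ⟨m, rfl⟩ : ∃ k, m = k + 1 := ⟨m - 1, by omega⟩
  obtain ⟨g, hg, h6, h7⟩ := exists_gap h
  have h8 : ∑ i : Fin (m + 1), ((i : ℕ) + if g ≤ i ∧ i < m + 1 then 1 else 0) ≤ ∑ i, κ i := sum_le_sum fun i _ => by
    have := h6 i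
    have := h7 i
    have := i.2
    split_ifs <;> omega
  rw [sum_add_distrib, sum_fin le_rfl fun _ => 1, sum_const, card_range, smul_eq_mul, mul_one] at h8
  obtain ⟨a, ha⟩ : ∃ a, a + e * w = g := ⟨g - e * w, by omega⟩
  have h9 := sum_cl (a := a) hg h6 (by omega)
  refine ⟨up κ (Fin.last m) (e * w), cl κ a g, mono_up h _, mono_cl h h6 h7, (sameCol_up (dvd_mul_right e w) _ _).trans h1.symm,
    SameCol.trans (fun r => ?_) h1.symm, ?_, ?_, fun k => (Eq.trans_lt ?_ (?_ : ar κ < _)).ne,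
    fun F hF => ⟨hk_up h he c hF, hk_cl h hg h6 h7 he c hF ha⟩⟩
  · have := h9 fun x => if x % e = r then 1 else 0
    rw [← ha, Nat.add_mul_mod_self_left, ha] at this
    rw [res, res, card_filter, card_filter]
    omega
  · rw [bsz, sum_up, h4]
    omega
  · have := h9 id
    simp only [id] at this
    rw [bsz]
    omega
  · exact sum_congr rfl fun j _ => sum_congr rfl fun i hi => up_ne _ _ (Fin.ne_last_of_lt (mem_Iio.1 hi))
  · refine sum_lt_sum (fun j _ => sum_le_sum fun i _ => Nat.le_add_right _ _) ⟨Fin.last m, mem_univ _,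
      sum_lt_sum (fun i _ => Nat.le_add_right _ _) ⟨⟨a, by omega⟩, mem_Iio.2 (Fin.mk_lt_mk.2 (by omega)), ?_⟩⟩
    rw [cl, if_pos (by simp only; omega)]
    omega

end Cfsg.Agent.BZ.AT
end

private theorem dce_5c54ee6d92bd : _root_.True := by
  try have : _root_.True := by simp only [_root_.Cfsg.Agent.BZ.AT.O2.cl.eq_1]
  try have : _root_.True := by simp only [_root_.Cfsg.Agent.BZ.AT.low.eq_1]
  try have : _root_.True := by simp only [_root_.Cfsg.Agent.H614.res.eq_1]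
  try have : _root_.True := by simp only [_root_.Cfsg.Agent.BZ.AT.low.congr_simp]
  try have : _root_.True := by simp only [_root_.Cfsg.Agent.BZ.AT.top.congr_simp]
  try have : _root_.True := by simp only [_root_.Cfsg.Agent.H577.GLB.Std.ewt.eq_1]
  exact _root_.True.intro
end
end
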